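import Cfsg.Agent.Lib.Recog.LFourThree.Model

/-!
The interface of the `3`-local recognition of `PSL(4,3)`: an embedded copy of the parabolic `Pm`
carrying the centraliser of the central `3`-element, with the two cases.
-/

set_option autoImplicit false

namespace CfsgLib.Recog.LFourThree

open Subgroup

universe u

variable (G : Type u) [Group G]

/-- A copy of `Pm` as the normaliser of the image of `Em`, containing the whole centraliser of
the central element and a Sylow `3`-subgroup. -/
structure Base where
  /-- the embedding -/
  ψ : Pm →* G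
  inj : Function.Injective ψ
  norm_E : normalizer ((Em.map ψ : Subgroup G) : Set G) = ψ.range
  cent_z : centralizer ({ψ zP} : Set G) = Cm.map ψ
  exists_sylow : ∃ S : Sylow 3 G, (S : Subgroup G) = Sm.map ψ

variable {G}

/-- Only one of the two elementary groups contains other conjugates of `zP`. -/
def Base.Only (B : Base G) : Prop :=
  ∀ g : G, g * B.ψ zP * g⁻¹ ∈ Qm.map B.ψ → g * B.ψ zP * g⁻¹ ∈ Em.map B.ψ

/-- A copy of the dual parabolic agreeing with a base on the common subgroup. -/
structure Base.Dual (B : Base G) where
  /-- the embedding of the dual parabolic -/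
  ψ' : Pd →* G
  inj' : Function.Injective ψ'
  agree : ∀ (x : SL4) (h₁ : x ∈ Pm) (h₂ : x ∈ Pd), ψ' ⟨x, h₂⟩ = B.ψ ⟨x, h₁⟩
  norm_F : normalizer
    ((((patGroup patF closed_patF).subgroupOf Pd).map ψ' : Subgroup G) : Set G) = ψ'.range

end CfsgLib.Recog.LFourThree
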