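import Cfsg.Agent.Lib.Recog.LFourThree.IdentGlue
import Cfsg.Agent.Lib.Recog.LFourThree.Base

/-!
The homomorphism of `SL(4,3)` obtained from a base and a dual parabolic: points are sent to cosets of the image of
the point parabolic.
-/

set_option autoImplicit false
set_option linter.unusedSectionVars false

namespace CfsgLib.Recog.LFourThree.Ident

open Matrix

variable {G : Type*} [Group G]

/-- a commuting pair, with the Weyl element outside the first parabolic -/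
structure Glue (ψ : Pm →* G) (ψ' : Pd →* G) : Prop extends Pair ψ ψ' where
  levi : ∀ p, Commute (ψ' ⟨w12, mem_gens.2.2.2.2.2.2.2.2.2.2⟩) (ψ ⟨s34 p, s34_mem p⟩)
  h12_eq : ψ' ⟨h12, mem_gens.2.2.2.2.2.2.2.2.2.1⟩ = Pair.H ψ
  out : ψ' ⟨w12, mem_gens.2.2.2.2.2.2.2.2.2.2⟩ ∉ ψ.range

namespace Glue

variable {ψ : Pm →* G} {ψ' : Pd →* G} (hG : Glue ψ ψ')
include hG

theorem w12_mem : w12 ∈ Pd := mem_gens.2.2.2.2.2.2.2.2.2.2

theorem h12_mem : h12 ∈ Pd := mem_gens.2.2.2.2.2.2.2.2.2.1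

omit hG

/-- the image of the Weyl element -/
def om (ψ' : Pd →* G) : G := ψ' ⟨w12, mem_gens.2.2.2.2.2.2.2.2.2.2⟩

/-- the base coset -/
def base (ψ : Pm →* G) : G ⧸ ψ.range := ((1 : G) : G ⧸ ψ.range)

/-- the coset of a vector -/
noncomputable def Phi (ψ : Pm →* G) (ψ' : Pd →* G) (v : V) : G ⧸ ψ.range :=
  if h : OnLine v then base ψ
  else (ψ ⟨(exists_move h).choose, (exists_move h).choose_spec.1⟩ * om ψ') • base ψ

theorem smul_base_eq {a b : G} : a • base ψ = b • base ψ ↔ b⁻¹ * a ∈ ψ.range := by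
  simp only [base, MulAction.Quotient.smul_coe, smul_eq_mul, mul_one]
  rw [eq_comm, QuotientGroup.eq]

theorem smul_base_self {a : G} : a • base ψ = base ψ ↔ a ∈ ψ.range := by
  conv_lhs => rw [← one_smul G (base ψ), ← mul_smul, mul_one, smul_base_eq, inv_one, one_mul]

include hG

/-- elements of the dual parabolic fixing the first line lie in the first image -/
theorem fix_line {u : SL4} (hu : u ∈ Pd) (h : vec u e0 = e0 ∨ vec u e0 = -e0) : ψ' ⟨u, hu⟩ ∈ ψ.range := by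
  rcases h with h | h
  · exact ⟨⟨u, mem_Pm_iff.2 h⟩, (hG.agree u _ hu).symm⟩
  · have h1 : u * h12 ∈ Pm := mem_Pm_iff.2 (by rw [vec_mul, w12_vec.2.1, vec_neg, h, neg_neg])
    have h2 : u * h12 ∈ Pd := Pd.mul_mem hu hG.h12_mem
    have e : ψ' ⟨u, hu⟩ = ψ ⟨u * h12, h1⟩ * (Pair.H ψ)⁻¹ := by
      rw [← hG.agree _ h1 h2, eq_mul_inv_iff_mul_eq, ← hG.h12_eq, ← map_mul]; rfl
    rw [e]
    exact mul_mem ⟨_, rfl⟩ (inv_mem ⟨_, rfl⟩)

/-- the stabiliser of the second line fixes its coset -/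
theorem fix_second {q : SL4} (hq : q ∈ Pm) (h : vec q e1 = e1 ∨ vec q e1 = -e1) :
    (ψ ⟨q, hq⟩ * om ψ') • base ψ = om ψ' • base ψ := by
  have h31 : q.1 3 1 = 0 := by
    rcases h with h | h
    all_goals
      have := congrFun h 3
      simpa [vec, e1, Matrix.mulVec_single_one] using this
  obtain ⟨p, hp⟩ := exists_s34 hq h31
  have hq' : q * s34 p ∈ Pm := Pm.mul_mem hq (s34_mem p)
  have hu : w12⁻¹ * (q * s34 p) * w12 ∈ Pd := Pd.mul_mem (Pd.mul_mem (Pd.inv_mem hG.w12_mem) hp) hG.w12_mem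
  have hfix := hG.fix_line hu (by
    rcases h with h | h
    · refine Or.inl ?_
      rw [vec_mul, vec_mul, vec_mul, w12_vec.1, vec_neg, s34_fix, vec_neg, h, w12_vec.2.2.2.2]
    · refine Or.inr ?_
      rw [vec_mul, vec_mul, vec_mul, w12_vec.1, vec_neg, s34_fix, vec_neg, h, neg_neg, w12_vec.2.2.2.1])
  have e1 : ψ' ⟨w12⁻¹ * (q * s34 p) * w12, hu⟩ = (om ψ')⁻¹ * ψ ⟨q * s34 p, hq'⟩ * om ψ' := by
    rw [om, ← hG.agree _ hq' hp, ← map_inv, ← map_mul, ← map_mul]; rfl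
  rw [e1] at hfix
  have hqq : ψ ⟨q, hq⟩ = ψ ⟨q * s34 p, hq'⟩ * (ψ ⟨s34 p, s34_mem p⟩)⁻¹ := by
    rw [← map_inv, ← map_mul]; exact congrArg ψ (Subtype.ext (mul_inv_cancel_right q (s34 p)).symm)
  rw [smul_base_eq, hqq]
  have hc : (ψ ⟨s34 p, s34_mem p⟩)⁻¹ * om ψ' = om ψ' * (ψ ⟨s34 p, s34_mem p⟩)⁻¹ := (hG.levi p).inv_right.eq.symm
  rw [mul_assoc (ψ ⟨q * s34 p, hq'⟩), hc, ← mul_assoc, ← mul_assoc]
  exact mul_mem hfix (inv_mem ⟨_, rfl⟩)

/-- the coset does not depend on the element chosen -/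
theorem phi_eq {k : SL4} (hk : k ∈ Pm) {v : V} (hv : ¬ OnLine v) (h : vec k e1 = v ∨ vec k e1 = -v) :
    Phi ψ ψ' v = (ψ ⟨k, hk⟩ * om ψ') • base ψ := by
  rw [Phi, dif_neg hv]
  obtain ⟨hc1, hc2, -⟩ := (exists_move hv).choose_spec
  obtain ⟨c, hc⟩ : ∃ c, c = (exists_move hv).choose := ⟨_, rfl⟩
  simp only [← hc] at hc1 hc2 ⊢
  have := hG.fix_second (Pm.mul_mem (Pm.inv_mem hk) hc1) (by
    rcases h with h | h
    · refine Or.inl (vec_inj (g := k) ?_)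
      rw [← vec_mul, mul_inv_cancel_left, h, hc2]
    · refine Or.inr (vec_inj (g := k) ?_)
      rw [← vec_mul, mul_inv_cancel_left, vec_neg, h, neg_neg, hc2])
  have e : ψ ⟨c, hc1⟩ = ψ ⟨k, hk⟩ * ψ ⟨k⁻¹ * c, Pm.mul_mem (Pm.inv_mem hk) hc1⟩ := by
    rw [← map_mul]; exact congrArg ψ (Subtype.ext (mul_inv_cancel_left k c).symm)
  rw [e, mul_assoc, mul_smul, this, ← mul_smul]

theorem phi_line {v : V} (hv : OnLine v) : Phi ψ ψ' v = base ψ := dif_pos hv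

theorem phi_neg {v : V} (hv0 : v ≠ 0) : Phi ψ ψ' (-v) = Phi ψ ψ' v := by
  have hn : OnLine (-v) ↔ OnLine v := by simp [OnLine]
  by_cases hv : OnLine v
  · rw [hG.phi_line hv, hG.phi_line (hn.2 hv)]
  · obtain ⟨k, hk, hkv, -⟩ := exists_move hv
    rw [hG.phi_eq hk hv (Or.inl hkv), hG.phi_eq hk (fun h => hv (hn.1 h)) (Or.inr (by rw [neg_neg]; exact hkv))]

/-- equivariance for the point parabolic -/
theorem equiv_Pm {k : SL4} (hk : k ∈ Pm) {v : V} (hv0 : v ≠ 0) :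
    ψ ⟨k, hk⟩ • Phi ψ ψ' v = Phi ψ ψ' (vec k v) := by
  by_cases hv : OnLine v
  · have e : vec k v = v := by
      rcases onLine_cases v hv0 hv with rfl | rfl
      · exact mem_Pm_iff.1 hk
      · rw [vec_neg, mem_Pm_iff.1 hk]
    rw [e, hG.phi_line hv, smul_base_self]
    exact ⟨_, rfl⟩
  · obtain ⟨c, hc, hcv, -⟩ := exists_move hv
    have hkv : ¬ OnLine (vec k v) := by
      intro hh
      have hfix := mem_Pm_iff.1 hk
      rcases onLine_cases _ (vec_ne hv0) hh with e | e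
      · exact hv (vec_inj (e.trans hfix.symm) ▸ ne_facts.2.2.2.2.1)
      · exact hv (vec_inj (e.trans (show -e0 = vec k (-e0) by rw [vec_neg, hfix])) ▸ ne_facts.2.2.2.2.2)
    rw [hG.phi_eq hc hv (Or.inl hcv), hG.phi_eq (Pm.mul_mem hk hc) hkv (Or.inl (by rw [vec_mul, hcv])),
      ← mul_smul, ← mul_assoc, ← map_mul]
    rfl

/-- equivariance for the dual parabolic at the base -/
theorem equiv_Pd {h : SL4} (hh : h ∈ Pd) : ψ' ⟨h, hh⟩ • base ψ = Phi ψ ψ' (vec h e0) := by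
  by_cases hv : OnLine (vec h e0)
  · rw [hG.phi_line hv, smul_base_self]
    exact hG.fix_line hh (onLine_cases _ (vec_ne ne_facts.1) hv)
  · obtain ⟨k, hk, hkv, hkd⟩ := exists_move hv
    have h3 : vec h e0 3 = 0 := by
      have := mem_Pd.1 hh 0
      simpa [vec, e0, Matrix.mulVec_single_one] using this
    have hkd := hkd h3
    have hu : w12⁻¹ * k⁻¹ * h ∈ Pd := Pd.mul_mem (Pd.mul_mem (Pd.inv_mem hG.w12_mem) (Pd.inv_mem hkd)) hh
    have hfix := hG.fix_line hu (Or.inr (by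
      rw [vec_mul, vec_mul, ← hkv, ← vec_mul k⁻¹, inv_mul_cancel, vec_one, w12_vec.2.2.2.1]))
    rw [hG.phi_eq hk hv (Or.inl hkv), smul_base_eq]
    have e : (ψ ⟨k, hk⟩ * om ψ')⁻¹ * ψ' ⟨h, hh⟩ = ψ' ⟨w12⁻¹ * k⁻¹ * h, hu⟩ := by
      rw [om, ← hG.agree k hk hkd, _root_.mul_inv_rev, ← map_inv, ← map_inv, ← map_mul, ← map_mul]; rfl
    rw [e]; exact hfix

/-- equivariance for the Weyl element, off the dual plane excepted -/
theorem equiv_plane {v : V} (hv0 : v ≠ 0) (hv : v 3 = 0) : om ψ' • Phi ψ ψ' v = Phi ψ ψ' (vec w12 v) := by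
  obtain ⟨h, hh, hhv⟩ : ∃ h ∈ Pd, vec h e0 = v := by
    by_cases hl : OnLine v
    · rcases onLine_cases v hv0 hl with rfl | rfl
      · exact ⟨1, Pd.one_mem, vec_one _⟩
      · exact ⟨h12, hG.h12_mem, w12_vec.2.1⟩
    · obtain ⟨k, hk, hkv, hkd⟩ := exists_move hl
      refine ⟨k * w12 * h12, Pd.mul_mem (Pd.mul_mem (hkd hv) hG.w12_mem) hG.h12_mem, ?_⟩
      rw [vec_mul, vec_mul, w12_vec.2.1, vec_neg, w12_vec.1, neg_neg, hkv]
  rw [← hhv, ← hG.equiv_Pd hh, ← mul_smul, ← vec_mul, ← hG.equiv_Pd (Pd.mul_mem hG.w12_mem hh), om, ← map_mul]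
  rfl

/-- equivariance for the Weyl element -/
theorem equiv_w {v : V} (hv0 : v ≠ 0) : om ψ' • Phi ψ ψ' v = Phi ψ ψ' (vec w12 v) := by
  by_cases hv : v 3 = 0
  · exact hG.equiv_plane hv0 hv
  obtain ⟨p, hp⟩ := exists_low v hv
  obtain ⟨p', hp'⟩ := exists_e2
  obtain ⟨a, ha⟩ : ∃ a, a = v 0 := ⟨_, rfl⟩
  obtain ⟨b, hb⟩ : ∃ b, b = v 1 := ⟨_, rfl⟩
  obtain ⟨hnm, -, hwn, hn3⟩ := upper_facts a b
  obtain ⟨hnm', hnd', -, -⟩ := upper_facts b (-a)
  have hnd : nTr a b ∈ Pd := (upper_facts a b).2.1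
  obtain ⟨k, hk⟩ : ∃ k, k = s34 p * nTr a b * s34 p' := ⟨_, rfl⟩
  obtain ⟨k', hk'⟩ : ∃ k', k' = s34 p * nTr b (-a) * s34 p' := ⟨_, rfl⟩
  have hkm : k ∈ Pm := hk ▸ Pm.mul_mem (Pm.mul_mem (s34_mem p) hnm) (s34_mem p')
  have hkm' : k' ∈ Pm := hk' ▸ Pm.mul_mem (Pm.mul_mem (s34_mem p) hnm') (s34_mem p')
  have hkv : vec k (Pi.single 2 1) = v := by rw [hk, vec_mul, vec_mul, hp', hn3, ha, hb, hp]
  have hwk : w12 * k = k' * w12 := by
    rw [hk, hk', ← mul_assoc, ← mul_assoc, s34_comm, mul_assoc (s34 p) w12, hwn, ← mul_assoc, mul_assoc _ w12,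
      s34_comm, ← mul_assoc]
  have hn : om ψ' * ψ ⟨nTr a b, hnm⟩ = ψ ⟨nTr b (-a), hnm'⟩ * om ψ' := by
    rw [om, ← hG.agree _ hnm hnd, ← hG.agree _ hnm' hnd', ← map_mul, ← map_mul]
    exact congrArg ψ' (Subtype.ext hwn)
  have hok : om ψ' * ψ ⟨k, hkm⟩ = ψ ⟨k', hkm'⟩ * om ψ' := by
    have e : (⟨k, hkm⟩ : Pm) = ⟨s34 p, s34_mem p⟩ * ⟨nTr a b, hnm⟩ * ⟨s34 p', s34_mem p'⟩ := Subtype.ext hk
    have e' : (⟨k', hkm'⟩ : Pm) = ⟨s34 p, s34_mem p⟩ * ⟨nTr b (-a), hnm'⟩ * ⟨s34 p', s34_mem p'⟩ := Subtype.ext hk'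
    rw [e, e', map_mul, map_mul, map_mul, map_mul, ← mul_assoc, ← mul_assoc,
      show om ψ' * ψ ⟨s34 p, s34_mem p⟩ = ψ ⟨s34 p, s34_mem p⟩ * om ψ' from hG.levi p,
      mul_assoc (ψ ⟨s34 p, s34_mem p⟩) (om ψ'), hn, ← mul_assoc, mul_assoc _ (om ψ'),
      show om ψ' * ψ ⟨s34 p', s34_mem p'⟩ = ψ ⟨s34 p', s34_mem p'⟩ * om ψ' from hG.levi p', ← mul_assoc]
  rw [← hkv, ← hG.equiv_Pm hkm e2_facts.1, ← mul_smul, hok, mul_smul, hG.equiv_plane e2_facts.1 e2_facts.2,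
    hG.equiv_Pm hkm' (vec_ne e2_facts.1), ← vec_mul, ← vec_mul, hwk]

/-- the pairs compatible with the coset map -/
def graph (_ : Glue ψ ψ') : Subgroup (SL4 × G) where
  carrier := {p | ∀ v : V, v ≠ 0 → p.2 • Phi ψ ψ' v = Phi ψ ψ' (vec p.1 v)}
  one_mem' := fun v _ => by simp [vec_one]
  mul_mem' := by
    intro p r hp hr v hv
    rw [Prod.fst_mul, Prod.snd_mul, mul_smul, hr v hv, hp _ (vec_ne hv), vec_mul]
  inv_mem' := by
    intro p hp v hv
    rw [Prod.fst_inv, Prod.snd_inv, inv_smul_eq_iff, hp _ (vec_ne hv), ← vec_mul, mul_inv_cancel, vec_one]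

theorem mem_graph_Pm {k : SL4} (hk : k ∈ Pm) : (k, ψ ⟨k, hk⟩) ∈ hG.graph := fun _ hv => hG.equiv_Pm hk hv

theorem mem_graph_w : (w12, om ψ') ∈ hG.graph := fun _ hv => hG.equiv_w hv

theorem mem_graph_h12 : (h12, Pair.H ψ) ∈ hG.graph := by
  have e : (h12, Pair.H ψ) = (w12, om ψ') * (w12, om ψ') := by
    rw [← hG.h12_eq, Prod.mk_mul_mk, om, ← map_mul]
    exact Prod.ext rel_h12 (congrArg ψ' (Subtype.ext rel_h12))
  rw [e]
  exact mul_mem hG.mem_graph_w hG.mem_graph_w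

/-- elements of the graph lying in the generated group, moving the base point -/
theorem move {v : V} (hv : v ≠ 0) :
    ∃ p ∈ hG.graph, p.2 ∈ ψ.range ⊔ ψ'.range ∧ vec p.1 e0 = v := by
  by_cases hl : OnLine v
  · rcases onLine_cases v hv hl with rfl | rfl
    · exact ⟨1, one_mem _, one_mem _, vec_one _⟩
    · exact ⟨_, hG.mem_graph_h12, Subgroup.mem_sup_left ⟨_, rfl⟩, w12_vec.2.1⟩
  · obtain ⟨k, hk, hkv, -⟩ := exists_move hl
    refine ⟨(k, ψ ⟨k, hk⟩) * (w12, om ψ') * (h12, Pair.H ψ),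
      mul_mem (mul_mem (hG.mem_graph_Pm hk) hG.mem_graph_w) hG.mem_graph_h12,
      mul_mem (mul_mem (Subgroup.mem_sup_left ⟨_, rfl⟩) (Subgroup.mem_sup_right ⟨_, rfl⟩))
        (Subgroup.mem_sup_left ⟨_, rfl⟩), ?_⟩
    simp only [Prod.fst_mul]
    rw [vec_mul, vec_mul, w12_vec.2.1, vec_neg, w12_vec.1, neg_neg, hkv]

theorem exists_image (a : SL4) : ∃ g, (a, g) ∈ hG.graph ∧ g ∈ ψ.range ⊔ ψ'.range := by
  obtain ⟨⟨b, g⟩, hb, hg, he⟩ := hG.move (vec_ne (g := a) ne_facts.1)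
  have hk : b⁻¹ * a ∈ Pm := mem_Pm_iff.2 (by rw [vec_mul, ← he, ← vec_mul, inv_mul_cancel, vec_one])
  refine ⟨g * ψ ⟨b⁻¹ * a, hk⟩, ?_, mul_mem hg (Subgroup.mem_sup_left ⟨_, rfl⟩)⟩
  have := mul_mem hb (hG.mem_graph_Pm hk)
  simpa using this

/-- the coset map separates the lines -/
theorem phi_inj {u v : V} (hu : u ≠ 0) (hv : v ≠ 0) (h : Phi ψ ψ' u = Phi ψ ψ' v) : u = v ∨ u = -v := by
  obtain ⟨⟨b, g⟩, hb, -, he⟩ := hG.move hu
  have hb' := hG.graph.inv_mem hb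
  have e : vec b⁻¹ u = e0 := by rw [← he, ← vec_mul, inv_mul_cancel, vec_one]
  have h1 := hb' u hu
  have h2 := hb' v hv
  simp only [Prod.fst_inv, Prod.snd_inv] at h1 h2
  rw [e, hG.phi_line ne_facts.2.2.2.2.1] at h1
  rw [← h, h1] at h2
  by_cases hl : OnLine (vec b⁻¹ v)
  · rcases onLine_cases _ (vec_ne hv) hl with e' | e'
    · exact Or.inl (vec_inj (e.trans e'.symm))
    · exact Or.inr (vec_inj (g := b⁻¹) (by rw [vec_neg, e', neg_neg, e]))
  · exfalso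
    obtain ⟨k, hk, hkv, -⟩ := exists_move hl
    rw [hG.phi_eq hk hl (Or.inl hkv), eq_comm, smul_base_self] at h2
    exact hG.out ((Subgroup.mul_mem_cancel_left ψ.range (x := ψ ⟨k, hk⟩) ⟨_, rfl⟩).1 h2)

theorem scalar_of_fix {a : SL4} (h : ∀ v : V, v ≠ 0 → vec a v = v ∨ vec a v = -v) :
    (∀ v, vec a v = v) ∨ ∀ v, vec a v = -v := by
  have hs : ∀ i : Fin 4, (Pi.single i 1 : V) ≠ 0 := fun i e => by simpa using congrFun e i
  have key : ∀ i j : Fin 4, i ≠ j → vec a (Pi.single i 1) = Pi.single i 1 → vec a (Pi.single j 1) = Pi.single j 1 := by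
    intro i j hij hi
    refine (h _ (hs j)).resolve_right fun hj => ?_
    have hne : (Pi.single i 1 + Pi.single j 1 : V) ≠ 0 := fun e => by
      have := congrFun e i
      simp [hij] at this
    have hadd : vec a (Pi.single i 1 + Pi.single j 1) = Pi.single i 1 - Pi.single j 1 := by
      rw [sub_eq_add_neg, ← hj]
      conv_rhs => rw [← hi]
      exact Matrix.mulVec_add _ _ _
    rcases h _ hne with e | e <;> rw [hadd] at e
    · have := congrFun e j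
      simp [Ne.symm hij] at this
      revert this; decide
    · have := congrFun e i
      simp [hij] at this
      revert this; decide
  have hlin : ∀ f : V → V, (∀ j, vec a (Pi.single j 1) = f (Pi.single j 1)) →
      ∀ c : ZMod 3, (∀ v, f v = c • v) → ∀ v, vec a v = f v := by
    intro f hf c hc v
    rw [hc]
    funext i
    show ∑ j, a.1 i j * v j = c * v i
    have hcol : ∀ j, a.1 i j = c * (Pi.single j 1 : V) i := fun j => by
      have := congrFun (hf j) i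
      rw [hc] at this
      simpa [vec, Matrix.mulVec_single_one] using this
    simp [hcol, Pi.single_apply]
  rcases h _ (hs 0) with h0 | h0
  · refine Or.inl (hlin id (fun j => ?_) 1 fun v => by simp)
    rcases eq_or_ne 0 j with rfl | hj
    · exact h0
    · exact key 0 j hj h0
  · refine Or.inr (hlin Neg.neg (fun j => ?_) (-1) fun v => by simp)
    refine (h _ (hs j)).resolve_left fun hj => ?_
    rcases eq_or_ne 0 j with rfl | hne
    · rw [hj] at h0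
      have := congrFun h0 0
      simp at this
      revert this; decide
    · have := key j 0 (Ne.symm hne) hj
      rw [this] at h0
      have := congrFun h0 0
      simp at this
      revert this; decide

theorem unique {a : SL4} {g g' : G} (h : (a, g) ∈ hG.graph) (h' : (a, g') ∈ hG.graph) : g = g' := by
  obtain ⟨d, hd⟩ : ∃ d, d = g⁻¹ * g' := ⟨_, rfl⟩
  have hm : ((1 : SL4), d) ∈ hG.graph := by
    have := mul_mem (inv_mem h) h'
    simpa [hd] using this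
  have h1 := hm e0 ne_facts.1
  simp only [vec_one, hG.phi_line ne_facts.2.2.2.2.1, smul_base_self] at h1
  obtain ⟨⟨k, hk⟩, hkd⟩ := h1
  have hfix : ∀ v : V, v ≠ 0 → vec k v = v ∨ vec k v = -v := fun v hv => by
    refine hG.phi_inj (vec_ne hv) hv ?_
    rw [← hG.equiv_Pm hk hv, hkd]
    simpa [vec_one] using hm v hv
  have hk1 : k = 1 := by
    rcases hG.scalar_of_fix hfix with e | e
    · exact vec_ext fun j => by rw [e, vec_one]
    · have := e e0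
      rw [mem_Pm_iff.1 hk] at this
      exact absurd this (by decide +kernel)
  subst hk1
  rw [show (⟨1, hk⟩ : Pm) = 1 from rfl, map_one] at hkd
  exact inv_mul_eq_one.1 (hd ▸ hkd.symm)

/-- the glued homomorphism -/
theorem exists_hom : ∃ Ψ : SL4 →* G, (∀ (x : SL4) (hx : x ∈ Pm), Ψ x = ψ ⟨x, hx⟩) ∧
    (∀ (x : SL4) (hx : x ∈ Pd), Ψ x = ψ' ⟨x, hx⟩) ∧ Ψ.range = ψ.range ⊔ ψ'.range ∧
    Ψ.ker = Subgroup.center SL4 := by
  choose f hf hf' using hG.exists_image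
  let Ψ : SL4 →* G :=
    { toFun := f
      map_one' := hG.unique (hf 1) (one_mem _)
      map_mul' := fun a b => hG.unique (hf (a * b)) (mul_mem (hf a) (hf b)) }
  have hPm : ∀ (x : SL4) (hx : x ∈ Pm), Ψ x = ψ ⟨x, hx⟩ := fun x hx => hG.unique (hf x) (hG.mem_graph_Pm hx)
  have hw : Ψ w12 = om ψ' := hG.unique (hf _) hG.mem_graph_w
  have hh : Ψ h12 = Pair.H ψ := hG.unique (hf _) hG.mem_graph_h12
  have hfix : ∀ (u : SL4) (hu : u ∈ Pd), vec u e0 = e0 ∨ vec u e0 = -e0 → Ψ u = ψ' ⟨u, hu⟩ := by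
    intro u hu h
    rcases h with h | h
    · rw [hPm u (mem_Pm_iff.2 h), hG.agree]
    · have h1 : u * h12 ∈ Pm := mem_Pm_iff.2 (by rw [vec_mul, w12_vec.2.1, vec_neg, h, neg_neg])
      have e := hPm _ h1
      rw [map_mul, hh, ← hG.agree _ h1 (Pd.mul_mem hu hG.h12_mem)] at e
      refine mul_right_cancel (e.trans ?_)
      rw [← hG.h12_eq, ← map_mul]; rfl
  have hPd : ∀ (x : SL4) (hx : x ∈ Pd), Ψ x = ψ' ⟨x, hx⟩ := by
    intro x hx
    by_cases hl : OnLine (vec x e0)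
    · exact hfix x hx (onLine_cases _ (vec_ne ne_facts.1) hl)
    · obtain ⟨k, hk, hkv, hkd⟩ := exists_move hl
      have h3 : vec x e0 3 = 0 := by
        simpa [vec, e0, Matrix.mulVec_single_one] using mem_Pd.1 hx 0
      have hkd := hkd h3
      have hu : w12⁻¹ * k⁻¹ * x ∈ Pd := Pd.mul_mem (Pd.mul_mem (Pd.inv_mem hG.w12_mem) (Pd.inv_mem hkd)) hx
      have e := hfix _ hu (Or.inr (by
        rw [vec_mul, vec_mul, ← hkv, ← vec_mul k⁻¹, inv_mul_cancel, vec_one, w12_vec.2.2.2.1]))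
      have hx' : x = k * w12 * (w12⁻¹ * k⁻¹ * x) := by group
      conv_lhs => rw [hx', map_mul, map_mul, hPm k hk, hw, e]
      rw [← hG.agree k hk hkd, om, ← map_mul, ← map_mul]
      exact congrArg ψ' (Subtype.ext hx'.symm)
  refine ⟨Ψ, hPm, hPd, le_antisymm ?_ (sup_le ?_ ?_), le_antisymm (fun a ha => ?_) fun a ha => ?_⟩
  · rintro _ ⟨a, rfl⟩; exact hf' a
  · rintro _ ⟨⟨x, hx⟩, rfl⟩; exact ⟨x, hPm x hx⟩
  · rintro _ ⟨⟨x, hx⟩, rfl⟩; exact ⟨x, hPd x hx⟩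
  · have h1 : (a, (1 : G)) ∈ hG.graph := by
      have := hf a
      rwa [show f a = 1 from MonoidHom.mem_ker.1 ha] at this
    have hs := hG.scalar_of_fix (a := a) fun v hv => by
      refine hG.phi_inj (vec_ne hv) hv ?_
      have := h1 v hv
      simpa using this.symm
    refine Subgroup.mem_center_iff.2 fun b => vec_ext fun j => ?_
    rcases hs with e | e
    · rw [vec_mul, vec_mul, e, e]
    · rw [vec_mul, vec_mul, e, e, vec_neg]
  · obtain ⟨c, hc, hce⟩ := Matrix.SpecialLinearGroup.mem_center_iff.1 ha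
    have hc' : c = 1 ∨ c = -1 := by
      have : ∀ c : ZMod 3, c ^ 4 = 1 → c = 1 ∨ c = -1 := by decide
      exact this c (by simpa using hc)
    rcases hc' with rfl | rfl
    · rw [show a = 1 from Subtype.ext (by rw [← hce]; simp)]
      exact map_one Ψ
    · have e : a = h12 * h34 := Subtype.ext (by
        rw [← hce, rel_neg]
        ext i j
        by_cases h : i = j <;> simp [h])
      rw [MonoidHom.mem_ker, e, map_mul, hh, hPm h34 mem_gens.2.2.2.2.2.2.2.2.1, Pair.H, ← map_mul, ← map_one ψ]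
      exact congrArg ψ (Subtype.ext rel_h34_sq)

end Glue

open Subgroup in
/-- a base with a dual parabolic gives a homomorphism of `SL(4,3)` -/
theorem exists_psi (B : Base G) (D : B.Dual) : ∃ Ψ : SL4 →* G, Ψ.ker = Subgroup.center SL4 ∧
    (∀ (x : SL4) (hx : x ∈ Pm), Ψ x = B.ψ ⟨x, hx⟩) ∧ Ψ.range = B.ψ.range ⊔ D.ψ'.range ∧
    ∃ c ∈ B.ψ.range, ∀ (x : SL4) (hx : x ∈ Pd), Ψ x = c * D.ψ' ⟨x, hx⟩ * c⁻¹ := by
  have hzE : (⟨mE (0, 1, 0, 0), (mE_mem _).1⟩ : Pm) = zP := by decide +kernel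
  have hP : Pair B.ψ D.ψ' := ⟨B.inj, D.agree, fun g hg => by
    have hgz : g ∈ centralizer ({B.ψ zP} : Set G) := mem_centralizer_singleton_iff.2 (hzE ▸ hg (0, 1, 0, 0))
    rw [B.cent_z] at hgz
    obtain ⟨⟨k, hk⟩, hkC, rfl⟩ := hgz
    obtain ⟨v, hv⟩ := eq_mE_of_comm hk (mem_subgroupOf.1 hkC) fun v => by
      have e := hg v
      rw [← map_mul, ← map_mul] at e
      exact congrArg Subtype.val (B.inj e)
    exact ⟨v, congrArg B.ψ (Subtype.ext hv)⟩⟩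
  obtain ⟨d, ψ'', hP', hXH, hψ⟩ := hP.twist
  obtain ⟨hlevi, hh12⟩ := hP'.levi_comm hXH
  have hout : ψ'' ⟨w12, mem_gens.2.2.2.2.2.2.2.2.2.2⟩ ∉ B.ψ.range := by
    rintro ⟨⟨k, hk⟩, hkw⟩
    have e : ψ'' ⟨w12, mem_gens.2.2.2.2.2.2.2.2.2.2⟩ * ψ'' ⟨mE (0, 1, 0, 0), (mE_mem _).2⟩ =
        ψ'' ⟨mE (0, 0, 0, -1), (mE_mem _).2⟩ * ψ'' ⟨w12, mem_gens.2.2.2.2.2.2.2.2.2.2⟩ := by
      rw [← map_mul, ← map_mul]; exact congrArg ψ'' (Subtype.ext w12_conj)
    rw [hP'.agree _ (mE_mem _).1, hP'.agree _ (mE_mem _).1, ← hkw, ← map_mul, ← map_mul] at e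
    exact zP_ne hk (congrArg Subtype.val (B.inj e))
  obtain ⟨Ψ, h1, h2, h3, h4⟩ := Glue.exists_hom (ψ := B.ψ) (ψ' := ψ'') ⟨hP', hlevi, hh12, hout⟩
  have hcm : hP.mu (0, d, 0, 0) ∈ B.ψ.range := ⟨_, rfl⟩
  refine ⟨Ψ, h4, h1, h3.trans (le_antisymm (sup_le le_sup_left ?_) (sup_le le_sup_left ?_)),
    _, hcm, fun x hx => (h2 x hx).trans (hψ _)⟩
  · rintro _ ⟨x, rfl⟩
    rw [hψ]
    exact mul_mem (mul_mem (mem_sup_left hcm) (mem_sup_right ⟨x, rfl⟩)) (inv_mem (mem_sup_left hcm))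
  · rintro _ ⟨x, rfl⟩
    have e : D.ψ' x = (hP.mu (0, d, 0, 0))⁻¹ * ψ'' x * hP.mu (0, d, 0, 0) := by rw [hψ]; group
    rw [e]
    exact mul_mem (mul_mem (inv_mem (mem_sup_left hcm)) (mem_sup_right ⟨x, rfl⟩)) (mem_sup_left hcm)

end CfsgLib.Recog.LFourThree.Ident

namespace CfsgLib.Recog.LFourThree.Ident

/-- the group generated by the two parabolics is `PSL(4,3)` -/
theorem nonempty_psl {G : Type*} [Group G] (B : Base G) (D : B.Dual) :
    Nonempty (↥(B.ψ.range ⊔ D.ψ'.range) ≃* Matrix.ProjectiveSpecialLinearGroup (Fin 4) (ZMod 3)) := by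
  obtain ⟨Ψ, hk, -, hr, -⟩ := exists_psi B D
  exact ⟨((MulEquiv.subgroupCongr hr).symm.trans (QuotientGroup.quotientKerEquivRange Ψ).symm).trans
    (QuotientGroup.quotientMulEquivOfEq hk)⟩

end CfsgLib.Recog.LFourThree.Ident
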