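import Cfsg.Agent.Lib.Recog.LFourThree.IdentModel
import Cfsg.Agent.Lib.Amalgam.PCore
import Cfsg.Prelude.Def_Solvable
import Cfsg.Prelude.Def_CaseTheorems

/-!
The image of the point stabiliser in `PSL(4,3)`: a maximal subgroup with `O₃` of order `27` and quotient
`SL(3,3)`.
-/

set_option autoImplicit false
set_option linter.unusedSimpArgs false

namespace CfsgLib.Recog.LFourThree.Ident

open Matrix

/-- `SL(3,3)`. -/
abbrev SL3 := Matrix.SpecialLinearGroup (Fin 3) (ZMod 3)

/-- the lower block -/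
def block (g : Matrix (Fin 4) (Fin 4) (ZMod 3)) : Matrix (Fin 3) (Fin 3) (ZMod 3) := g.submatrix Fin.succ Fin.succ

theorem det_block {g : Matrix (Fin 4) (Fin 4) (ZMod 3)} (h : ∀ i, g i 0 = if i = 0 then 1 else 0) :
    g.det = (block g).det := by
  rw [Matrix.det_succ_column_zero, Finset.sum_eq_single 0]
  · simp [h, block, Fin.succAbove_zero]
  · intro i _ hi; simp [h, hi]
  · simp

/-- the Levi quotient of the point stabiliser -/
def lin : Pm →* SL3 where
  toFun g := ⟨block (g : SL4).1, by rw [← det_block (mem_Pm.1 g.2)]; exact (g : SL4).2⟩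
  map_one' := Subtype.ext (by
    show block ((1 : SL4) : Matrix (Fin 4) (Fin 4) (ZMod 3)) = 1
    rw [Matrix.SpecialLinearGroup.coe_one, block, Matrix.submatrix_one _ (Fin.succ_injective 3)])
  map_mul' a b := Subtype.ext (by
    show block (((a * b : Pm) : SL4) : Matrix (Fin 4) (Fin 4) (ZMod 3)) = block (a : SL4).1 * block (b : SL4).1
    ext i j
    rw [Subgroup.coe_mul, Matrix.SpecialLinearGroup.coe_mul, block, Matrix.submatrix_apply, Matrix.mul_apply,
      Fin.sum_univ_succ, (mem_Pm.1 a.2) i.succ]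
    simp [Matrix.mul_apply, block, Fin.succ_ne_zero])

theorem lin_coe (g : Pm) : (lin g : Matrix (Fin 3) (Fin 3) (ZMod 3)) = block (g : SL4).1 := rfl

/-- a block matrix with prescribed top row -/
def blk (v : Fin 3 → ZMod 3) (B : Matrix (Fin 3) (Fin 3) (ZMod 3)) : Matrix (Fin 4) (Fin 4) (ZMod 3) :=
  Matrix.of fun i j => Fin.cases (Fin.cases 1 v j) (fun i' => Fin.cases 0 (B i') j) i

theorem blk_col (v : Fin 3 → ZMod 3) (B : Matrix (Fin 3) (Fin 3) (ZMod 3)) (i : Fin 4) :
    blk v B i 0 = if i = 0 then 1 else 0 := by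
  induction i using Fin.cases <;> simp [blk, Fin.succ_ne_zero]

theorem block_blk (v : Fin 3 → ZMod 3) (B : Matrix (Fin 3) (Fin 3) (ZMod 3)) : block (blk v B) = B := by
  ext i j; simp [block, blk]

/-- the element with prescribed top row and Levi part -/
def mkP (v : Fin 3 → ZMod 3) (B : SL3) : Pm :=
  ⟨⟨blk v B.1, by rw [det_block (blk_col v B.1), block_blk]; exact B.2⟩, mem_Pm.2 (blk_col v B.1)⟩

theorem lin_surjective : Function.Surjective lin := fun B =>
  ⟨mkP 0 B, Subtype.ext (by rw [lin_coe]; exact block_blk 0 B.1)⟩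

theorem mem_Em_iff {g : Pm} : g ∈ Em ↔ lin g = 1 := by
  rw [Em, Subgroup.mem_subgroupOf, mem_patGroup]
  constructor
  · intro h
    refine Subtype.ext ?_
    rw [lin_coe]
    ext i j
    rw [block, Matrix.submatrix_apply, h i.succ j.succ (by simp [patE, Fin.succ_ne_zero])]
    simp [Matrix.one_apply, Fin.succ_inj]
  · intro h i j hij
    have hb := congrArg Subtype.val h
    rw [lin_coe] at hb
    induction j using Fin.cases with
    | zero => exact mem_Pm.1 g.2 i
    | succ j' =>
      induction i using Fin.cases with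
      | zero => simp [patE, Fin.succ_ne_zero] at hij
      | succ i' =>
        have := congrFun (congrFun hb i') j'
        simpa [block, Matrix.one_apply, Fin.succ_inj] using this

theorem ker_lin : lin.ker = Em := Subgroup.ext fun g => by rw [MonoidHom.mem_ker, mem_Em_iff]

theorem card_Em : Nat.card Em = 27 := by
  have e : Em ≃ (Fin 3 → ZMod 3) :=
    { toFun := fun g j => ((g : Pm) : SL4).1 0 j.succ
      invFun := fun v => ⟨mkP v 1, mem_Em_iff.2 (Subtype.ext (by rw [lin_coe]; exact block_blk v _))⟩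
      left_inv := fun g => by
        refine Subtype.ext (Subtype.ext (Subtype.ext ?_))
        ext i j
        have hb := congrArg Subtype.val (mem_Em_iff.1 g.2)
        rw [lin_coe] at hb
        have hc := mem_Pm.1 (g : Pm).2 i
        induction j using Fin.cases with
        | zero => exact (blk_col _ _ i).trans hc.symm
        | succ j' =>
          induction i using Fin.cases with
          | zero => simp [mkP, blk]
          | succ i' =>
            have := congrFun (congrFun hb i') j'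
            simpa [mkP, blk, block] using this.symm
      right_inv := fun v => funext fun j => by simp [mkP, blk] }
  rw [Nat.card_congr e, Nat.card_eq_fintype_card]
  simp

theorem sq_one3 : ∀ x : ZMod 3, x ≠ 0 → x * x = 1 := by decide

/-- `SL(3,3)` has no non-trivial normal `3`-subgroup -/
theorem normal_pgroup_bot (N : Subgroup SL3) [N.Normal] (hN : IsPGroup 3 N) : N = ⊥ := by
  let act : MulAction N (Fin 3 → ZMod 3) :=
    { smul := fun n v => ((n : SL3) : Matrix (Fin 3) (Fin 3) (ZMod 3)) *ᵥ v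
      one_smul := fun v => Matrix.one_mulVec v
      mul_smul := fun a b v => (Matrix.mulVec_mulVec v _ _).symm }
  haveI : Fact (Nat.Prime 3) := ⟨Nat.prime_three⟩
  obtain ⟨v, hv, hv0⟩ := hN.exists_fixed_point_of_prime_dvd_card_of_fixed_point (α := Fin 3 → ZMod 3)
    (by rw [Nat.card_eq_fintype_card]; simp) (a := 0) (fun n => Matrix.mulVec_zero _)
  let Fx : Submodule (ZMod 3) (Fin 3 → ZMod 3) :=
    { carrier := {u | ∀ n ∈ N, (n : Matrix (Fin 3) (Fin 3) (ZMod 3)) *ᵥ u = u}
      add_mem' := fun hu hu' n hn => by rw [Matrix.mulVec_add, hu n hn, hu' n hn]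
      zero_mem' := fun n _ => Matrix.mulVec_zero _
      smul_mem' := fun c u hu n hn => by rw [Matrix.mulVec_smul, hu n hn] }
  have hconj : ∀ (g : SL3), ∀ u ∈ Fx, (g : Matrix (Fin 3) (Fin 3) (ZMod 3)) *ᵥ u ∈ Fx := by
    intro g u hu n hn
    have h1 := hu (g⁻¹ * n * g⁻¹⁻¹) (Subgroup.Normal.conj_mem inferInstance n hn g⁻¹)
    have h2 := congrArg ((g : Matrix (Fin 3) (Fin 3) (ZMod 3)) *ᵥ ·) h1
    simp only [Matrix.mulVec_mulVec, ← Matrix.SpecialLinearGroup.coe_mul, inv_inv] at h2
    rw [show g * (g⁻¹ * n * g) = n * g by group] at h2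
    rw [Matrix.mulVec_mulVec, ← Matrix.SpecialLinearGroup.coe_mul]
    exact h2
  have hvF : v ∈ Fx := fun n hn => hv ⟨n, hn⟩
  obtain ⟨j, hj⟩ : ∃ j, v j ≠ 0 := by
    by_contra hc
    simp only [not_exists, not_not] at hc
    exact hv0 (funext fun j => (hc j).symm)
  have htrans : ∀ (a b : Fin 3) (_ : a ≠ b) (u : Fin 3 → ZMod 3), u ∈ Fx → u b • Pi.single a 1 ∈ Fx := by
    intro a b hab u hu
    have h := Fx.sub_mem (hconj ⟨Matrix.transvection a b 1, Matrix.det_transvection_of_ne a b hab 1⟩ u hu) hu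
    have e : Matrix.transvection a b 1 *ᵥ u - u = u b • Pi.single a (1 : ZMod 3) := by
      funext i
      simp only [Matrix.transvection, Matrix.add_mulVec, Matrix.one_mulVec, Pi.sub_apply, Pi.add_apply,
        add_sub_cancel_left, Pi.smul_apply, Pi.single_apply, Matrix.mulVec, dotProduct, Matrix.single_apply]
      by_cases hi : i = a
      · subst hi; simp
      · simp [hi, Ne.symm hi]
    exact e ▸ h
  have hoff : ∀ i, i ≠ j → (Pi.single i 1 : Fin 3 → ZMod 3) ∈ Fx := fun i hi => by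
    have := Fx.smul_mem (v j) (htrans i j hi v hvF)
    rwa [smul_smul, sq_one3 _ hj, one_smul] at this
  have hall : ∀ i, (Pi.single i 1 : Fin 3 → ZMod 3) ∈ Fx := fun i => by
    by_cases hi : i = j
    · obtain ⟨k, hk⟩ := exists_ne j
      have := htrans j k hk.symm _ (hoff k hk)
      rwa [Pi.single_eq_same, one_smul, ← hi] at this
    · exact hoff i hi
  rw [Subgroup.eq_bot_iff_forall]
  intro n hn
  refine Subtype.ext ?_
  ext a b
  have := congrFun (hall b n hn) a
  simpa [Matrix.mulVec_single_one, Pi.single_apply, Matrix.one_apply] using this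

theorem pCore_Pm : Cfsg.pCore 3 Pm = Em := by
  haveI : Em.Normal := ker_lin ▸ lin.normal_ker
  refine le_antisymm ?_ (CfsgLib.Amalgam.le_pCore inferInstance (IsPGroup.of_card (n := 3) (by
    rw [card_Em]; norm_num)))
  haveI := (CfsgLib.Amalgam.normal_pCore (G := Pm) (p := 3)).map lin lin_surjective
  have h := normal_pgroup_bot _ ((CfsgLib.Amalgam.isPGroup_pCore (G := Pm) (p := 3)).map lin)
  rw [← ker_lin]
  intro x hx
  exact (Subgroup.eq_bot_iff_forall _).1 h _ (Subgroup.mem_map_of_mem lin hx)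

/-- `-1` -/
def negI : SL4 := h12 * h34

theorem negI_vec (v : V) : vec negI v = -v := by
  show (negI : Matrix (Fin 4) (Fin 4) (ZMod 3)) *ᵥ v = -v
  rw [negI, rel_neg, Matrix.neg_mulVec, Matrix.one_mulVec]

theorem negI_center : negI ∈ Subgroup.center SL4 :=
  Subgroup.mem_center_iff.2 fun b => vec_ext fun j => by rw [vec_mul, vec_mul, negI_vec, negI_vec, vec_neg]

theorem center_vec {c : SL4} (hc : c ∈ Subgroup.center SL4) : ∃ r : ZMod 3, ∀ v, vec c v = r • v := by
  obtain ⟨r, -, hr⟩ := Matrix.SpecialLinearGroup.mem_center_iff.1 hc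
  refine ⟨r, fun v => ?_⟩
  funext i
  simp [vec, ← hr, Matrix.mulVec_diagonal]

/-- the point stabiliser gives a maximal parabolic of `PSL(4,3)` -/
theorem exists_point_parabolic :
    ∃ P : Subgroup (Matrix.ProjectiveSpecialLinearGroup (Fin 4) (ZMod 3)),
      IsCoatom P ∧ Nat.card (Cfsg.pCore 3 P) = 27 ∧
      Nonempty (P ⧸ Cfsg.pCore 3 P ≃* Matrix.SpecialLinearGroup (Fin 3) (ZMod 3)) ∧ Nonempty (Pm ≃* P) := by
  obtain ⟨π, hπ⟩ : ∃ π : SL4 →* Matrix.ProjectiveSpecialLinearGroup (Fin 4) (ZMod 3),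
      π = QuotientGroup.mk' (Subgroup.center SL4) := ⟨_, rfl⟩
  have hker : ∀ g, π g = 1 ↔ g ∈ Subgroup.center SL4 := fun g => by rw [hπ]; exact QuotientGroup.eq_one_iff g
  have hsurj : Function.Surjective π := hπ ▸ QuotientGroup.mk'_surjective _
  obtain ⟨f, hf⟩ : ∃ f, f = π.comp Pm.subtype := ⟨_, rfl⟩
  have hfinj : Function.Injective f := by
    refine (injective_iff_map_eq_one f).2 fun k hk => ?_
    obtain ⟨r, hr⟩ := center_vec ((hker (k : SL4)).1 (by rw [hf] at hk; exact hk))
    have h1 : r • e0 = e0 := (hr e0).symm.trans (mem_Pm_iff.1 k.2)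
    have hr1 : r = 1 := by simpa [e0] using congrFun h1 0
    exact Subtype.ext (vec_ext fun j => by rw [hr, hr1, one_smul, Subgroup.coe_one, vec_one])
  let e : Pm ≃* f.range := MonoidHom.ofInjective hfinj
  have hcore : (Cfsg.pCore 3 Pm).map e.toMonoidHom = Cfsg.pCore 3 f.range := CfsgLib.Amalgam.map_pCore_eq e
  refine ⟨f.range, ⟨fun htop => ?_, fun M hM => ?_⟩, ?_, ?_, ⟨e⟩⟩
  · obtain ⟨k, hk⟩ : π w12 ∈ f.range := htop ▸ Subgroup.mem_top _
    rw [hf] at hk
    obtain ⟨r, hr⟩ := center_vec ((hker _).1 (show π ((k : SL4)⁻¹ * w12) = 1 by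
      rw [map_mul, map_inv]; exact inv_mul_eq_one.2 hk))
    have h1 := congrArg (vec (k : SL4)) (hr e0)
    rw [← vec_mul, mul_inv_cancel_left, w12_vec.1] at h1
    have h2 : vec (k : SL4) (r • e0) = r • e0 := by
      rw [show vec (k : SL4) (r • e0) = r • vec (k : SL4) e0 from Matrix.mulVec_smul _ _ _, mem_Pm_iff.1 k.2]
    rw [h2] at h1
    simpa [e0, e1] using congrFun h1 1
  · obtain ⟨N, hN⟩ : ∃ N, N = M.comap π := ⟨_, rfl⟩
    have hPN : Pm ≤ N := fun k hk => hN ▸ Subgroup.mem_comap.2 (hM.le ⟨⟨k, hk⟩, by rw [hf]; rfl⟩)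
    have hcN : negI ∈ N := hN ▸ Subgroup.mem_comap.2 (by rw [(hker _).2 negI_center]; exact M.one_mem)
    obtain ⟨g, hgN, hg⟩ : ∃ g ∈ N, ¬ OnLine (vec g e0) := by
      by_contra hc
      refine hM.not_ge fun x hx => ?_
      obtain ⟨g, rfl⟩ := hsurj x
      have hl : OnLine (vec g e0) := by
        by_contra hl
        exact hc ⟨g, hN ▸ Subgroup.mem_comap.2 hx, hl⟩
      rcases onLine_cases _ (vec_ne ne_facts.1) hl with h | h
      · exact ⟨⟨g, mem_Pm_iff.2 h⟩, by rw [hf]; rfl⟩
      · refine ⟨⟨negI * g, mem_Pm_iff.2 (by rw [vec_mul, h, negI_vec, neg_neg])⟩, ?_⟩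
        rw [hf]
        show π (negI * g) = π g
        rw [map_mul, (hker _).2 negI_center, one_mul]
    obtain ⟨c, hc, hcv, -⟩ := exists_move hg
    rw [eq_top_iff]
    intro x _
    obtain ⟨a, rfl⟩ := hsurj x
    suffices haN : a ∈ N by rw [hN] at haN; exact haN
    obtain ⟨b, hbN, hbv⟩ : ∃ b ∈ N, vec b e0 = vec a e0 := by
      by_cases hl : OnLine (vec a e0)
      · rcases onLine_cases _ (vec_ne ne_facts.1) hl with h | h
        · exact ⟨1, N.one_mem, by rw [vec_one, h]⟩
        · exact ⟨negI, hcN, by rw [negI_vec, h]⟩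
      · obtain ⟨k, hk, hkv, -⟩ := exists_move hl
        refine ⟨k * c⁻¹ * g, N.mul_mem (N.mul_mem (hPN hk) (N.inv_mem (hPN hc))) hgN, ?_⟩
        rw [vec_mul, vec_mul, ← hcv, ← vec_mul c⁻¹, inv_mul_cancel, vec_one, hkv]
    have hba : b⁻¹ * a ∈ Pm := mem_Pm_iff.2 (by rw [vec_mul, ← hbv, ← vec_mul, inv_mul_cancel, vec_one])
    simpa using N.mul_mem hbN (hPN hba)
  · rw [← hcore, Subgroup.card_map_of_injective (f := e.toMonoidHom) e.injective, pCore_Pm, card_Em]
  · haveI := CfsgLib.Amalgam.normal_pCore (G := Pm) (p := 3)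
    haveI := CfsgLib.Amalgam.normal_pCore (G := f.range) (p := 3)
    exact ⟨(QuotientGroup.congr _ _ e hcore).symm.trans ((QuotientGroup.quotientMulEquivOfEq
      (pCore_Pm.trans ker_lin.symm)).trans (QuotientGroup.quotientKerEquivOfSurjective lin lin_surjective))⟩

end CfsgLib.Recog.LFourThree.Ident
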