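import Mathlib

/-!
Facts on `SL(2,3)` and an irreducibility criterion for sections of order nine.
-/

set_option autoImplicit false

namespace CfsgLib.Recog.LFourThree

open Matrix

/-- `SL(2,3)`. -/
abbrev SL2 := Matrix.SpecialLinearGroup (Fin 2) (ZMod 3)

/-- the unipotent generator -/
def sU : SL2 := ⟨!![1, 1; 0, 1], by decide +kernel⟩
/-- the Weyl element -/
def sW : SL2 := ⟨!![0, 1; -1, 0], by decide +kernel⟩
/-- a second element of order four -/
def sJ : SL2 := ⟨!![1, 1; 1, -1], by decide +kernel⟩
/-- the central involution -/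
def sT : SL2 := ⟨!![-1, 0; 0, -1], by decide +kernel⟩

theorem sl_rel : sW * sW = sT ∧ sJ * sJ = sT ∧ sW * sJ = sT * (sJ * sW) ∧
    sU * sW * sU⁻¹ = sT * sJ ∧ (sU * sJ * sU⁻¹ = sW * sJ ∨ sU * sJ * sU⁻¹ = sT * (sW * sJ)) ∧
    sU * sU * sU = 1 ∧ sT * sT = 1 ∧ sT ≠ 1 ∧ sU ≠ 1 := by
  decide +kernel

theorem sl_words : ∀ g : SL2, ∃ p q r s : Fin 3, g =
    sU ^ (p : ℕ) * (sW * sU * sW⁻¹) ^ (q : ℕ) * sU ^ (r : ℕ) * (sW * sU * sW⁻¹) ^ (s : ℕ) := by
  decide +kernel

theorem sl_central : ∀ g : SL2, g * sT = sT * g := by decide +kernel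

theorem sl_one_invol : ∀ g : SL2, g * g = 1 → g = 1 ∨ g = sT := by decide +kernel

/-- A subgroup containing `sU` and `sW` is everything. -/
theorem sl_eq_top {H : Subgroup SL2} (hU : sU ∈ H) (hW : sW ∈ H) : H = ⊤ := by
  refine eq_top_iff.2 fun g _ => ?_
  obtain ⟨p, q, r, s, rfl⟩ := sl_words g
  have h : sW * sU * sW⁻¹ ∈ H := H.mul_mem (H.mul_mem hW hU) (H.inv_mem hW)
  exact H.mul_mem (H.mul_mem (H.mul_mem (H.pow_mem hU _) (H.pow_mem h _)) (H.pow_mem hU _))
    (H.pow_mem h _)

/-- A subgroup containing all elements of order three is everything. -/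
theorem sl_eq_top_of_three {H : Subgroup SL2} (h : ∀ g : SL2, g ^ 3 = 1 → g ∈ H) : H = ⊤ := by
  refine eq_top_iff.2 fun g _ => ?_
  obtain ⟨p, q, r, s, rfl⟩ := sl_words g
  have hU : sU ∈ H := h _ (by rw [pow_succ, pow_two]; exact sl_rel.2.2.2.2.2.1)
  have hL : sW * sU * sW⁻¹ ∈ H := h _ (by
    rw [conj_pow, show sU ^ 3 = 1 by rw [pow_succ, pow_two]; exact sl_rel.2.2.2.2.2.1, mul_one,
      mul_inv_cancel])
  exact H.mul_mem (H.mul_mem (H.mul_mem (H.pow_mem hU _) (H.pow_mem hL _)) (H.pow_mem hU _))
    (H.pow_mem hL _)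

section Nine

variable {X : Type*} [CommGroup X] [Finite X]

/-- fixed points of an automorphism -/
def fixSub (a : MulAut X) : Subgroup X where
  carrier := {x | a x = x}
  one_mem' := map_one a
  mul_mem' := fun {x y} hx hy => by
    simp only [Set.mem_setOf_eq, map_mul] at *
    rw [hx, hy]
  inv_mem' := fun {x} hx => by
    simp only [Set.mem_setOf_eq, map_inv] at *
    rw [hx]

omit [Finite X] in
theorem mem_fixSub {a : MulAut X} {x : X} : x ∈ fixSub a ↔ a x = x := Iff.rfl

theorem card_cases_nine (hX : Nat.card X = 9) (F : Subgroup X) :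
    Nat.card F = 1 ∨ Nat.card F = 3 ∨ Nat.card F = 9 := by
  have h : Nat.card F ∣ 3 ^ 2 := by
    have := F.card_subgroup_dvd_card
    rw [hX] at this; norm_num; exact this
  obtain ⟨k, hk, e⟩ := (Nat.dvd_prime_pow Nat.prime_three).1 h
  rw [e]
  interval_cases k <;> norm_num

theorem card_fix_conj (a u : MulAut X) :
    Nat.card (fixSub (u * a * u⁻¹)) = Nat.card (fixSub a) := by
  refine Nat.card_congr ⟨fun x => ⟨u⁻¹ x.1, ?_⟩, fun x => ⟨u x.1, ?_⟩, fun x => ?_, fun x => ?_⟩
  · have hx := x.2
    rw [mem_fixSub] at hx ⊢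
    conv_rhs => rw [← hx]
    simp [MulAut.mul_apply]
  · have hx := x.2
    rw [mem_fixSub] at hx ⊢
    simp [MulAut.mul_apply, hx]
  · exact Subtype.ext (by simp)
  · exact Subtype.ext (by simp)

/-- A four-group extended by an element of order three, acting irreducibly on a group of order
nine of exponent three, does not exist. -/
theorem nine_trivial (hX : Nat.card X = 9) (h3 : ∀ x : X, x ^ 3 = 1) (a b u : MulAut X)
    (ha : a * a = 1) (hb : b * b = 1) (hab : a * b = b * a) (hua : u * a * u⁻¹ = b)
    (hub : u * b * u⁻¹ = a * b) (hu : u * u * u = 1)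
    (hirr : ∀ F : Subgroup X, (∀ x ∈ F, a x ∈ F ∧ b x ∈ F ∧ u x ∈ F) → F = ⊥ ∨ F = ⊤) :
    a = 1 ∧ b = 1 ∧ u = 1 := by
  have hsq : ∀ {x : X}, x * x = 1 → x = 1 := fun {x} hx => by
    have := h3 x
    rw [pow_succ, pow_two, hx, one_mul] at this
    exact this
  have hinv : ∀ {c : MulAut X}, c * c = 1 → fixSub c = ⊥ → ∀ x, c x = x⁻¹ := by
    intro c hc hf x
    have h1 : x * c x ∈ fixSub c := by
      rw [mem_fixSub, map_mul, ← MulAut.mul_apply, hc, MulAut.one_apply, mul_comm]
    rw [hf, Subgroup.mem_bot] at h1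
    exact eq_inv_of_mul_eq_one_right h1
  have cb : Nat.card (fixSub b) = Nat.card (fixSub a) := by rw [← hua, card_fix_conj]
  have cab : Nat.card (fixSub (a * b)) = Nat.card (fixSub a) := by rw [← hub, card_fix_conj, cb]
  have htop : ∀ c : MulAut X, Nat.card (fixSub c) = 9 → c = 1 := fun c hc => by
    have hF : fixSub c = ⊤ := Subgroup.eq_top_of_card_eq _ (by rw [hc, hX])
    ext x
    exact mem_fixSub.1 (hF.symm ▸ Subgroup.mem_top x)
  have hbot : ∀ c : MulAut X, Nat.card (fixSub c) = 1 → fixSub c = ⊥ := fun c hc =>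
    Subgroup.card_eq_one.1 hc
  rcases card_cases_nine hX (fixSub a) with h1 | h1 | h1
  · -- all three invert: impossible
    exfalso
    have ia := hinv ha (hbot _ h1)
    have ib := hinv hb (hbot _ (cb.trans h1))
    have hf : fixSub (a * b) = ⊤ := eq_top_iff.2 fun x _ => by
      rw [mem_fixSub, MulAut.mul_apply, ib, map_inv, ia, inv_inv]
    rw [h1, hf, Subgroup.card_top, hX] at cab
    norm_num at cab
  · exfalso
    have hne : ∀ F : Subgroup X, Nat.card F = 3 → F ≠ ⊥ ∧ F ≠ ⊤ := fun F hF =>
      ⟨fun e => by rw [e, Subgroup.card_bot] at hF; norm_num at hF,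
        fun e => by rw [e, Subgroup.card_top, hX] at hF; norm_num at hF⟩
    have hpres : ∀ x ∈ fixSub a, b x ∈ fixSub a := fun x hx => by
      rw [mem_fixSub] at hx ⊢
      rw [← MulAut.mul_apply, hab, MulAut.mul_apply, hx]
    by_cases hfix : fixSub a ≤ fixSub b
    · have hab' : fixSub a = fixSub b := Subgroup.eq_of_le_of_card_ge hfix (by rw [cb])
      have hsub : fixSub a ≤ fixSub (a * b) := fun x hx => by
        rw [mem_fixSub, MulAut.mul_apply, mem_fixSub.1 (hfix hx), mem_fixSub.1 hx]
      have he : fixSub a = fixSub (a * b) := Subgroup.eq_of_le_of_card_ge hsub (by rw [cab])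
      rcases hirr (fixSub a) (fun x hx => ⟨by rw [mem_fixSub.1 hx]; exact hx,
        by rw [mem_fixSub.1 (hfix hx)]; exact hx, by
          rw [hab']
          rw [mem_fixSub, ← hua, MulAut.mul_apply, MulAut.mul_apply, MulAut.inv_apply_self,
            mem_fixSub.1 hx]⟩) with e | e
      · exact (hne _ h1).1 e
      · exact (hne _ h1).2 e
    · obtain ⟨x, hx, hxb⟩ := SetLike.not_le_iff_exists.1 hfix
      have hx' := mem_fixSub.1 hx
      have hbx : b x = x⁻¹ := by
        have hm : x * b x ∈ fixSub a ⊓ fixSub b :=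
          ⟨Subgroup.mul_mem _ hx (hpres x hx), by
            show b (x * b x) = x * b x
            rw [map_mul, show b (b x) = x from DFunLike.congr_fun hb x, mul_comm]⟩
        have hlt : fixSub a ⊓ fixSub b = ⊥ := by
          by_contra hne'
          haveI : Fact (Nat.Prime 3) := ⟨Nat.prime_three⟩
          have hd : Nat.card (fixSub a ⊓ fixSub b : Subgroup X) ∣ 3 := by
            rw [← h1]; exact Subgroup.card_dvd_of_le inf_le_left
          rcases (Nat.dvd_prime Nat.prime_three).1 hd with e | e
          · exact hne' (Subgroup.card_eq_one.1 e)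
          · exact hfix (le_trans (Subgroup.eq_of_le_of_card_ge inf_le_left (by rw [h1, e])).ge
              inf_le_right)
        rw [hlt, Subgroup.mem_bot] at hm
        exact eq_inv_of_mul_eq_one_right hm
      -- `a * b` inverts both lines, hence everything
      have hdisj : Disjoint (fixSub a) (fixSub b) := by
        rw [Subgroup.disjoint_def]
        intro y hy hy'
        have hd : Nat.card (fixSub a ⊓ fixSub b : Subgroup X) ∣ 3 := by
          rw [← h1]; exact Subgroup.card_dvd_of_le inf_le_left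
        rcases (Nat.dvd_prime Nat.prime_three).1 hd with e | e
        · have := Subgroup.card_eq_one.1 e
          exact Subgroup.mem_bot.1 (this ▸ (⟨hy, hy'⟩ : y ∈ fixSub a ⊓ fixSub b))
        · exact absurd (le_trans (Subgroup.eq_of_le_of_card_ge inf_le_left (by rw [h1, e])).ge
            inf_le_right) hfix
      have hsup : fixSub a ⊔ fixSub b = ⊤ := by
        refine Subgroup.eq_top_of_card_eq _ (le_antisymm (Subgroup.card_le_card_group _) ?_)
        rw [hX]
        have hinj : Function.Injective (fun p : fixSub a × fixSub b =>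
            (⟨(p.1 : X) * p.2, Subgroup.mul_mem_sup p.1.2 p.2.2⟩ : (fixSub a ⊔ fixSub b : Subgroup X))) := by
          intro p q e
          exact Subgroup.mul_injective_of_disjoint hdisj (congrArg Subtype.val e)
        have := Nat.card_le_card_of_injective _ hinj
        rw [Nat.card_prod, h1, cb, h1] at this
        exact this
      have key : ∀ y, (a * b) y = y⁻¹ := by
        have hF : ∀ y ∈ fixSub a ⊔ fixSub b, (a * b) y = y⁻¹ := by
          intro y hy
          obtain ⟨p, hp, q, hq, rfl⟩ := Subgroup.mem_sup.1 hy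
          have hp' : (a * b) p = p⁻¹ := by
            haveI : Fact (Nat.Prime 3) := ⟨Nat.prime_three⟩
            have hgen : p ∈ Subgroup.zpowers (⟨x, hx⟩ : fixSub a).1 := by
              have hord : Subgroup.zpowers x ≤ fixSub a := Subgroup.zpowers_le.2 hx
              have hxne : x ≠ 1 := fun e => hxb (e ▸ Subgroup.one_mem _)
              have : Subgroup.zpowers x = fixSub a := Subgroup.eq_of_le_of_card_ge hord (by
                rw [h1, Nat.card_zpowers, orderOf_eq_prime (h3 x) hxne])
              rw [this]; exact hp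
            obtain ⟨n, rfl⟩ := Subgroup.mem_zpowers_iff.1 hgen
            rw [map_zpow, MulAut.mul_apply, hbx, map_inv, hx', _root_.inv_zpow]
          have hq' : (a * b) q = q⁻¹ := by
            rw [mem_fixSub] at hq
            rw [MulAut.mul_apply, hq]
            -- `a` preserves the line of `b` and fixes only the identity there
            have hm : q * a q ∈ fixSub a ⊓ fixSub b :=
              ⟨by show a (q * a q) = q * a q; rw [map_mul, show a (a q) = q from DFunLike.congr_fun ha q, mul_comm],
                by show b (q * a q) = q * a q; rw [map_mul, hq, ← MulAut.mul_apply, ← hab, MulAut.mul_apply, hq]⟩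
            rw [hdisj.eq_bot, Subgroup.mem_bot] at hm
            exact eq_inv_of_mul_eq_one_right hm
          rw [map_mul, hp', hq', _root_.mul_inv_rev, mul_comm]
        exact fun y => hF y (hsup ▸ Subgroup.mem_top y)
      have hb0 : fixSub (a * b) = ⊥ := (Subgroup.eq_bot_iff_forall _).2 fun y hy => by
        rw [mem_fixSub, key] at hy
        exact hsq (by nth_rewrite 1 [← hy]; exact inv_mul_cancel y)
      rw [hb0, Subgroup.card_bot, h1] at cab
      norm_num at cab
  · obtain rfl := htop a h1
    obtain rfl := htop b (cb.trans h1)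
    refine ⟨rfl, rfl, ?_⟩
    by_contra hu1
    haveI : Fact (Nat.Prime 3) := ⟨Nat.prime_three⟩
    have hord : orderOf u = 3 := orderOf_eq_prime (by rw [pow_succ, pow_two]; exact hu) hu1
    rcases hirr (fixSub u) (fun x hx => ⟨by simpa using hx, by simpa using hx, by
      rw [mem_fixSub.1 hx]; exact hx⟩) with e | e
    · have hp : IsPGroup 3 (Subgroup.zpowers u) :=
        IsPGroup.of_card (n := 1) (by rw [Nat.card_zpowers, hord, pow_one])
      have h9 : 3 ∣ Nat.card X := by rw [hX]; norm_num
      obtain ⟨x, hx, hx1⟩ := hp.exists_fixed_point_of_prime_dvd_card_of_fixed_point X h9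
        (a := (1 : X)) (MulAction.mem_fixedPoints.2 fun g => map_one (g : MulAut X))
      have : x ∈ fixSub u := MulAction.mem_fixedPoints.1 hx ⟨u, Subgroup.mem_zpowers u⟩
      rw [e, Subgroup.mem_bot] at this
      exact hx1 this.symm
    · exact hu1 (MulEquiv.ext fun x => mem_fixSub.1 (e.symm ▸ Subgroup.mem_top x))

end Nine

end CfsgLib.Recog.LFourThree
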