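import Cfsg.Agent.Lib.Recog.LFourThree.LocalModel
import Cfsg.Agent.Lib.Recog.LFourThree.LocalSL

/-!
The common subgroup of the two parabolics of the model: generators and coordinates.
-/

set_option autoImplicit false

namespace CfsgLib.Recog.LFourThree

open Matrix

theorem vec_one3 : ∀ v : Col3, (1 : Lev3).1 *ᵥ v = v := Matrix.one_mulVec

theorem val_mul3 (A B : Lev3) : (A * B).1 = A.1 * B.1 := rfl

/-- the inclusion of the common subgroup in `Pd` -/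
def iD : Cm →* Pd where
  toFun c := ⟨c.1.1, mem_Cm.1 c.2⟩
  map_one' := rfl
  map_mul' _ _ := rfl

/-- the translation with given coordinates, in `Pm` -/
def fmP (w : Col3) : Pm :=
  ⟨(mkD w 1).1, mem_Pm.2 fun i => by fin_cases i <;> rfl⟩

theorem fmP_mem_Cm (w : Col3) : fmP w ∈ Cm := mem_Cm.2 (mkD w 1).2

/-- the translation as an element of the common subgroup -/
def fmC (w : Col3) : Cm := ⟨fmP w, fmP_mem_Cm w⟩

theorem iD_fmC (w : Col3) : iD (fmC w) = mkD w 1 := rfl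

theorem fmC_add (a b : Col3) : fmC (a + b) = fmC a * fmC b := by
  have h : iD (fmC (a + b)) = iD (fmC a * fmC b) := by
    rw [map_mul, iD_fmC, iD_fmC, iD_fmC]
    refine ext_Pd ?_ ?_
    · rw [map_mul, levD_mkD, levD_mkD, levD_mkD, mul_one]
    · rw [colD_mul, colD_mkD, colD_mkD, colD_mkD, levD_mkD, vec_one3]
  exact Subtype.ext (Subtype.ext (congrArg Subtype.val h :))

theorem iD_injective : Function.Injective iD := fun _ _ h =>
  Subtype.ext (Subtype.ext (congrArg Subtype.val h :))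

theorem fmC_injective : Function.Injective fmC := fun a b h => by
  rw [← colD_mkD a 1, ← colD_mkD b 1, ← iD_fmC, ← iD_fmC, h]

theorem levD_fmC (w : Col3) : levD (iD (fmC w)) = 1 := by rw [iD_fmC, levD_mkD]

theorem colD_fmC (w : Col3) : colD (iD (fmC w)) = w := by rw [iD_fmC, colD_mkD]

theorem fmC_conj (c : Cm) (w : Col3) :
    c * fmC w = fmC ((levD (iD c) : Matrix (Fin 3) (Fin 3) (ZMod 3)) *ᵥ w) * c := by
  refine iD_injective (ext_Pd ?_ ?_)
  · rw [map_mul, map_mul, map_mul, map_mul, levD_fmC, levD_fmC, one_mul, mul_one]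
  · rw [map_mul, map_mul, colD_mul, colD_mul, colD_fmC, colD_fmC, levD_fmC,
      vec_one3, add_comm]

theorem mem_Fm {g : Pm} : g ∈ Fm ↔ ∃ w, g = fmP w := by
  constructor
  · intro hg
    have h := mem_patGroup.1 (Subgroup.mem_subgroupOf.1 hg)
    refine ⟨fun i => g.1.1 i.castSucc 3, Subtype.ext (Subtype.ext ?_)⟩
    ext i j
    fin_cases i <;> fin_cases j <;>
      simp [fmP, mkD, Matrix.one_apply, h 0 0 rfl, h 0 1 rfl, h 0 2 rfl, h 1 0 rfl, h 1 1 rfl,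
        h 1 2 rfl, h 2 0 rfl, h 2 1 rfl, h 2 2 rfl, h 3 0 rfl, h 3 1 rfl, h 3 2 rfl, h 3 3 rfl]
  · rintro ⟨w, rfl⟩
    refine Subgroup.mem_subgroupOf.2 (mem_patGroup.2 fun i j h => ?_)
    fin_cases i <;> fin_cases j <;> simp_all [patF, fmP, mkD, Matrix.one_apply]

theorem fmP_mem_Qm (w : Col3) : fmP w ∈ Qm := by
  refine mem_Qm.2 ⟨fmP_mem_Cm w, ?_⟩
  ext i j
  fin_cases i <;> fin_cases j <;> rfl

/-- the root element `x₀₁` -/
def c01 : Cm := ⟨⟨xr 0 1 1, mem_Pm.2 (by decide +kernel)⟩, mem_Cm.2 (mem_Pd.2 (by decide +kernel))⟩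
/-- the root element `x₀₂` -/
def c02 : Cm := ⟨⟨xr 0 2 1, mem_Pm.2 (by decide +kernel)⟩, mem_Cm.2 (mem_Pd.2 (by decide +kernel))⟩
/-- the root element `x₁₂` -/
def c12 : Cm := ⟨⟨xr 1 2 1, mem_Pm.2 (by decide +kernel)⟩, mem_Cm.2 (mem_Pd.2 (by decide +kernel))⟩
/-- the root element `x₂₁` -/
def c21 : Cm := ⟨⟨xr 2 1 1, mem_Pm.2 (by decide +kernel)⟩, mem_Cm.2 (mem_Pd.2 (by decide +kernel))⟩
/-- the involution -/
def ct : Cm := ⟨tP, mem_Cm.2 (mem_Pd.2 (by decide +kernel))⟩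

theorem c_rels : ct * ct = 1 ∧ ct * c01 * ct = c01 * c01 ∧ ct * c02 * ct = c02 * c02 ∧
    ct * c12 = c12 * ct ∧ ct * c21 = c21 * ct := by decide +kernel

/-- the Levi factor of a block -/
def blk3 (B : SL2) : Lev3 :=
  ⟨!![B.1 0 0, B.1 0 1, 0; B.1 1 0, B.1 1 1, 0; 0, 0, 1], by
    rw [Matrix.det_fin_three]
    have h := B.2
    rw [Matrix.det_fin_two] at h
    simp
    linear_combination h⟩

/-- the block as an element of the common subgroup -/
def blk (B : SL2) : Cm :=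
  ⟨mkM 0 (blk3 B), mem_Cm.2 (mem_Pd.2 fun j => by fin_cases j <;> rfl)⟩

theorem blk_mul : ∀ A B : SL2, blk (A * B) = blk A * blk B := by decide +kernel

theorem blk_gens : blk sU = c12 ∧ blk (sW * sU * sW⁻¹) = c21 * c21 := by decide +kernel

theorem row_gens : ∀ a b : ZMod 3,
    mkM ![a, b, 0] 1 = (c01 ^ a.val * c02 ^ b.val : Cm).1 := by decide +kernel

theorem mem_gens {S : Subgroup Cm} (hf : ∀ w, fmC w ∈ S) (h01 : c01 ∈ S) (h02 : c02 ∈ S)
    (h12 : c12 ∈ S) (h21 : c21 ∈ S) (c : Cm) : c ∈ S := by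
  let bl : SL2 →* Cm := MonoidHom.mk' blk blk_mul
  have hbl : ∀ B, bl B ∈ S := by
    intro B
    obtain ⟨p, q, r, s, rfl⟩ := sl_words B
    have hU : bl sU ∈ S := by
      show blk sU ∈ S
      rw [blk_gens.1]; exact h12
    have hL : bl (sW * sU * sW⁻¹) ∈ S := by
      show blk _ ∈ S
      rw [blk_gens.2]; exact S.mul_mem h21 h21
    simp only [map_mul _ (_ * _) (_ ^ _), map_mul _ (_ ^ _) (_ ^ _), map_pow]
    exact S.mul_mem (S.mul_mem (S.mul_mem (S.pow_mem hU _) (S.pow_mem hL _)) (S.pow_mem hU _))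
      (S.pow_mem hL _)
  set c' := fmC (-colD (iD c)) * c with hc'
  have hcol : colD (iD c') = 0 := by
    rw [hc', map_mul, colD_mul, colD_fmC, levD_fmC, vec_one3,
      neg_add_cancel]
  suffices h : c' ∈ S by
    have := S.mul_mem (S.inv_mem (hf (-colD (iD c)))) h
    rwa [hc', inv_mul_cancel_left] at this
  -- the Levi part of `c'`
  clear hc'
  clear_value c'
  set g : Pm := c'.1 with hg
  have h3 := mem_Pd.1 (mem_Cm.1 c'.2)
  have h0 := mem_Pm.1 g.2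
  have hlast : ∀ j : Fin 3, (levM g).1 2 j = if j = 2 then 1 else 0 := fun j => by
    show g.1.1 3 j.succ = _
    rw [h3]
    fin_cases j <;> rfl
  have hcolz : ∀ i : Fin 3, g.1.1 i.castSucc 3 = 0 := fun i => congrFun hcol i
  have hdet : Matrix.det !![g.1.1 1 1, g.1.1 1 2; g.1.1 2 1, g.1.1 2 2] = 1 := by
    have h := (levM g).2
    have e02 : (levM g).1 0 2 = 0 := hcolz 1
    have e12 : (levM g).1 1 2 = 0 := hcolz 2
    rw [Matrix.det_fin_three, hlast 0, hlast 1, hlast 2, e02, e12,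
      show (levM g).1 0 0 = g.1.1 1 1 from rfl, show (levM g).1 0 1 = g.1.1 1 2 from rfl,
      show (levM g).1 1 0 = g.1.1 2 1 from rfl, show (levM g).1 1 1 = g.1.1 2 2 from rfl] at h
    rw [Matrix.det_fin_two]
    simp at h ⊢
    exact h
  set B : SL2 := ⟨_, hdet⟩ with hB
  have hlev : levM g = blk3 B := by
    refine Subtype.ext ?_
    ext i j
    fin_cases i <;> fin_cases j
    all_goals first
      | exact hlast _
      | rfl
      | exact hcolz 1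
      | exact hcolz 2
  have hdec : c' = blk B * (c01 ^ (g.1.1 0 1).val * c02 ^ (g.1.1 0 2).val) := by
    refine Subtype.ext ?_
    show g = mkM 0 (blk3 B) * (c01 ^ (g.1.1 0 1).val * c02 ^ (g.1.1 0 2).val : Cm).1
    rw [← row_gens]
    refine ext_Pm ?_ ?_
    · rw [map_mul, levM_mkM, levM_mkM, mul_one]; exact hlev
    · rw [rowM_mul, levM_mkM, rowM_mkM, rowM_mkM, Matrix.zero_vecMul, add_zero]
      ext j
      fin_cases j
      · rfl
      · rfl
      · exact hcolz 0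
  rw [hdec]
  exact S.mul_mem (hbl B) (S.mul_mem (S.pow_mem h01 _) (S.pow_mem h02 _))

/-- The properties of the Levi part of an element of `Qm`. -/
theorem levD_Qm (q : Cm) (hq : q.1 ∈ Qm) :
    (∀ v : Col3, v 1 = 0 → v 2 = 0 → (levD (iD q)).1 *ᵥ v = v) ∧
    (∀ v : Col3, ((levD (iD q)).1 *ᵥ v) 1 = v 1 ∧ ((levD (iD q)).1 *ᵥ v) 2 = v 2) ∧
    ∀ r : Cm, r.1 ∈ Qm → levD (iD q) * levD (iD r) = levD (iD r) * levD (iD q) := by
  have key : ∀ r : Cm, r.1 ∈ Qm → ∃ a b, (levD (iD r)).1 = !![1, a, b; 0, 1, 0; 0, 0, 1] := by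
    intro r hr
    refine ⟨r.1.1.1 0 1, r.1.1.1 0 2, ?_⟩
    have h := mem_patGroup.1 (Subgroup.mem_subgroupOf.1 hr)
    ext i j
    show r.1.1.1 i.castSucc j.castSucc = _
    fin_cases i <;> fin_cases j <;>
      simp [h 0 0 rfl, h 1 0 rfl, h 1 1 rfl, h 1 2 rfl, h 2 0 rfl, h 2 1 rfl, h 2 2 rfl]
  obtain ⟨a, b, h⟩ := key q hq
  refine ⟨fun v h1 h2 => ?_, fun v => ?_, fun r hr => ?_⟩
  · rw [h]; ext i; fin_cases i <;> simp [Matrix.mulVec, dotProduct, Fin.sum_univ_three, h1, h2]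
  · rw [h]; simp [Matrix.mulVec, dotProduct, Fin.sum_univ_three]
  · obtain ⟨a', b', h'⟩ := key r hr
    refine Subtype.ext ?_
    rw [val_mul3, val_mul3, h, h']
    ext i j
    fin_cases i <;> fin_cases j <;> simp [Matrix.mul_apply, Fin.sum_univ_three, add_comm]

theorem gens_Qm : c01.1 ∈ Qm ∧ c02.1 ∈ Qm ∧ c01.1 ∈ Em ∧ c02.1 ∈ Em := by decide +kernel

theorem gens_colD : colD (iD c01) = 0 ∧ colD (iD c02) = 0 ∧ colD (iD c12) = 0 ∧
    colD (iD c21) = 0 ∧ colD (iD ct) = 0 ∧ levD (iD c01) ≠ 1 ∧ levD (iD c02) ≠ 1 := by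
  decide +kernel

theorem inverted_fix : ∀ v : Col3, v 1 = 0 → v 2 = 0 →
    ((levD (iD ct)).1 *ᵥ v = v + (levD (iD c01)).1 *ᵥ v → v = 0) ∧
    ((levD (iD ct)).1 *ᵥ v = v + (levD (iD c02)).1 *ᵥ v → v = 0) := by decide +kernel

theorem central_fix : ∀ v : Col3, (levD (iD ct)).1 *ᵥ v = v → v 1 = 0 ∧ v 2 = 0 := by
  decide +kernel

/-- mover of the central element to `x₀₁` -/
def nC : Pm := mkM 0 ⟨!![0, 0, 1; 1, 0, 0; 0, 1, 0], by decide +kernel⟩
/-- exchanges the last two coordinates -/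
def n23 : Pm := mkM 0 ⟨!![1, 0, 0; 0, 0, 1; 0, -1, 0], by decide +kernel⟩
/-- exchanges the second and fourth coordinates -/
def n13 : Pm := mkM 0 ⟨!![0, 0, 1; 0, 1, 0; -1, 0, 0], by decide +kernel⟩

theorem nC_spec : nC * zP = c01.1 * nC := by decide +kernel

theorem lev_conj : (∃ P : Lev3, P * levD (iD c01) = levD (iD c12) * P) ∧
    ∃ P : Lev3, P * levD (iD c01) = levD (iD c21) * P := by
  refine ⟨⟨⟨!![0, 0, 1; 1, 0, 0; 0, 1, 0], by decide +kernel⟩, ?_⟩,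
    ⟨⟨!![0, 0, -1; 0, 1, 0; 1, 0, 0], by decide +kernel⟩, ?_⟩⟩ <;> decide +kernel

theorem class_table : ∀ i : ZMod 3,
    (n23 * n23 * n23 * (fmP ![i, 0, 0] * c12.1) * n23 ∈ Qm ∧
      (n23 * n23 * n23 * (fmP ![i, 0, 0] * c12.1) * n23 ∈ Em → i = 0) ∧
      (n23 * n23 * n23 * (fmP ![i, 0, 0] * c12.1) * n23 ∈ Fm → i = 0)) ∧
    (n13 * n13 * n13 * (fmP ![i, 0, 0] * c21.1) * n13 ∈ Qm ∧
      (n13 * n13 * n13 * (fmP ![i, 0, 0] * c21.1) * n13 ∈ Em → i = 0) ∧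
      (n13 * n13 * n13 * (fmP ![i, 0, 0] * c21.1) * n13 ∈ Fm → i = 0)) := by
  decide +kernel

theorem n_pow : n23 * n23 * n23 * n23 = 1 ∧ n13 * n13 * n13 * n13 = 1 := by decide +kernel

end CfsgLib.Recog.LFourThree
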