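import Cfsg.Agent.Lib.Recog.LFourThree.LocalSep
import Cfsg.Agent.Lib.Recog.LFourThree.LocalDualModel

/-!
The dual parabolic, and the dichotomy.
-/

set_option autoImplicit false

namespace CfsgLib.Recog.LFourThree

open Subgroup Matrix

universe u

variable {G : Type u} [Group G] [Finite G]

/-- Moving a complement by the coordinates of an element. -/
theorem shift_split {e : Col3 → G} {κ : Lev3 →* G} {N : Subgroup G}
    (hadd : ∀ a b, e (a + b) = e a * e b)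
    (hconj : ∀ (A : Lev3) (a : Col3), κ A * e a = e (A.1 *ᵥ a) * κ A)
    (hN : ∀ n, n ∈ N ↔ ∃ a A, n = e a * κ A)
    (hfree : ∀ a A, e a * κ A = 1 → a = 0 ∧ A = 1) (a : Col3) :
    ∃ κ' : Lev3 →* G, (∀ (A : Lev3) (w : Col3), κ' A * e w = e (A.1 *ᵥ w) * κ' A) ∧
      (∀ n, n ∈ N ↔ ∃ w A, n = e w * κ' A) ∧ (∀ w A, e w * κ' A = 1 → w = 0 ∧ A = 1) ∧
      ∀ A, κ' A = e (-a + A.1 *ᵥ a) * κ A := by
  have h0 : e 0 = 1 := by
    have h := hadd 0 0
    rwa [add_zero, left_eq_mul] at h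
  have hinv : (e (-a))⁻¹ = e a := inv_eq_of_mul_eq_one_right (by rw [← hadd, neg_add_cancel, h0])
  let κ' : Lev3 →* G := (MulAut.conj (e (-a))).toMonoidHom.comp κ
  have hval : ∀ A, κ' A = e (-a + A.1 *ᵥ a) * κ A := fun A => by
    show e (-a) * κ A * (e (-a))⁻¹ = _
    rw [hinv, mul_assoc, hconj, ← mul_assoc, ← hadd]
  refine ⟨κ', fun A w => ?_, fun n => ⟨fun hn => ?_, ?_⟩, fun w A h => ?_, hval⟩
  · rw [hval, mul_assoc, hconj, ← mul_assoc, ← mul_assoc, ← hadd, ← hadd, add_comm]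
  · obtain ⟨b, A, rfl⟩ := (hN n).1 hn
    refine ⟨b - (-a + A.1 *ᵥ a), A, ?_⟩
    rw [hval, ← mul_assoc, ← hadd, sub_add_cancel]
  · rintro ⟨w, A, rfl⟩
    refine (hN _).2 ⟨w + (-a + A.1 *ᵥ a), A, ?_⟩
    rw [hval, ← mul_assoc, ← hadd]
  · rw [hval, ← mul_assoc, ← hadd] at h
    obtain ⟨h1, rfl⟩ := hfree _ _ h
    refine ⟨?_, rfl⟩
    rwa [vec_one3, neg_add_cancel, add_zero] at h1

/-- the Levi part on the common subgroup -/
def levC : Cm →* Lev3 := levD.comp iD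

theorem levC_apply (c : Cm) : levC c = levD (iD c) := rfl

/-- the coordinates on the dual elementary group -/
def eF (B : Base G) (w : Col3) : G := B.ψ (fmP w)

omit [Finite G] in
theorem eF_fmC (B : Base G) (w : Col3) : B.ψ (fmC w).1 = eF B w := rfl

omit [Finite G] in
theorem eF_add (B : Base G) (a b : Col3) : eF B (a + b) = eF B a * eF B b := by
  rw [← eF_fmC, fmC_add, Subgroup.coe_mul, map_mul, eF_fmC, eF_fmC]

omit [Finite G] in
theorem eF_zero (B : Base G) : eF B 0 = 1 := by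
  have h := eF_add B 0 0
  rwa [add_zero, left_eq_mul] at h

omit [Finite G] in
theorem eF_inv (B : Base G) (a : Col3) : (eF B a)⁻¹ = eF B (-a) :=
  inv_eq_of_mul_eq_one_right (by rw [← eF_add, add_neg_cancel, eF_zero])

omit [Finite G] in
theorem eF_injective (B : Base G) : Function.Injective (eF B) := fun a b h =>
  fmC_injective (Subtype.ext (B.inj (show B.ψ (fmC a).1 = B.ψ (fmC b).1 by rwa [eF_fmC, eF_fmC])))

omit [Finite G] in
theorem eF_conj (B : Base G) (c : Cm) (w : Col3) :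
    B.ψ c.1 * eF B w = eF B ((levC c).1 *ᵥ w) * B.ψ c.1 := by
  rw [← eF_fmC, ← eF_fmC, ← map_mul, ← map_mul, ← Subgroup.coe_mul, ← Subgroup.coe_mul,
    levC_apply, fmC_conj]

/-- A complement in the normaliser of the dual elementary group with the coordinates of the
common subgroup. -/
structure Adapted (B : Base G) where
  /-- the complement -/
  κ : Lev3 →* G
  conj : ∀ (A : Lev3) (a : Col3), κ A * eF B a = eF B (A.1 *ᵥ a) * κ A
  free : ∀ a A, eF B a * κ A = 1 → a = 0 ∧ A = 1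
  /-- the translation part -/
  δ : Cm → Col3
  spec : ∀ c : Cm, B.ψ c.1 = eF B (δ c) * κ (levC c)
  δ_t : δ ct = 0

namespace Adapted

variable {B : Base G} (T : Adapted B)

omit [Finite G] in
theorem uniq {b b' : Col3} {A A' : Lev3} (h : eF B b * T.κ A = eF B b' * T.κ A') :
    b = b' ∧ A = A' := by
  have h1 : eF B (-b' + b) * T.κ (A * A'⁻¹) = 1 := by
    rw [eF_add, ← eF_inv, map_mul, map_inv]
    calc (eF B b')⁻¹ * eF B b * (T.κ A * (T.κ A')⁻¹)
        = (eF B b')⁻¹ * (eF B b * T.κ A) * (T.κ A')⁻¹ := by group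
      _ = (eF B b')⁻¹ * (eF B b' * T.κ A') * (T.κ A')⁻¹ := by rw [h]
      _ = 1 := by group
  obtain ⟨h2, h3⟩ := T.free _ _ h1
  exact ⟨(neg_add_eq_zero.1 h2).symm, mul_inv_eq_one.1 h3⟩

omit [Finite G] in
theorem δ_mul (c c' : Cm) : T.δ (c * c') = T.δ c + (levC c).1 *ᵥ T.δ c' := by
  refine (T.uniq (A := levC (c * c')) (A' := levC (c * c')) ?_).1
  rw [← T.spec, Subgroup.coe_mul, map_mul, map_mul, map_mul, eF_add, T.spec, T.spec]
  calc eF B (T.δ c) * T.κ (levC c) * (eF B (T.δ c') * T.κ (levC c'))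
      = eF B (T.δ c) * (T.κ (levC c) * eF B (T.δ c')) * T.κ (levC c') := by group
    _ = _ := by rw [T.conj]; group

omit [Finite G] in
theorem spec_neg (c : Cm) : B.ψ (fmC (-T.δ c) * c).1 = T.κ (levC c) := by
  rw [Subgroup.coe_mul, map_mul, eF_fmC, T.spec, ← mul_assoc, ← eF_add, neg_add_cancel, eF_zero,
    one_mul]

omit [Finite G] in
theorem levC_neg (c : Cm) : levC (fmC (-T.δ c) * c) = levC c := by
  rw [map_mul, levC_apply (fmC _), levD_fmC, one_mul]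

omit [Finite G] in
theorem spec_conj (c y : Cm) (hy : B.ψ y.1 = T.κ (levC y)) :
    B.ψ (c * y * c⁻¹).1 =
      eF B (T.δ c - (levC (c * y * c⁻¹)).1 *ᵥ T.δ c) * T.κ (levC (c * y * c⁻¹)) := by
  rw [Subgroup.coe_mul, Subgroup.coe_mul, Subgroup.coe_inv, map_mul, map_mul, map_inv, hy,
    T.spec c, _root_.mul_inv_rev, eF_inv]
  calc eF B (T.δ c) * T.κ (levC c) * T.κ (levC y) * ((T.κ (levC c))⁻¹ * eF B (-T.δ c))
      = eF B (T.δ c) * (T.κ (levC (c * y * c⁻¹)) * eF B (-T.δ c)) := by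
        rw [map_mul levC, map_mul levC, map_inv levC, map_mul T.κ, map_mul T.κ, map_inv T.κ]
        group
    _ = _ := by rw [T.conj, ← mul_assoc, ← eF_add, Matrix.mulVec_neg, ← sub_eq_add_neg]

omit [Finite G] in
theorem commute_conj {q r : Cm} (hq : q.1 ∈ Qm) (hr : r.1 ∈ Qm) {d : Col3}
    (hφq : B.ψ q.1 = T.κ (levC q))
    (hφr : B.ψ r.1 = eF B (d - (levC r).1 *ᵥ d) * T.κ (levC r)) :
    B.ψ q.1 * B.ψ r.1 = B.ψ r.1 * B.ψ q.1 := by
  obtain ⟨hq1, -, hq3⟩ := levD_Qm q hq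
  obtain ⟨-, hr2, -⟩ := levD_Qm r hr
  simp only [← levC_apply] at hq1 hq3 hr2
  have hv : (levC q).1 *ᵥ (d - (levC r).1 *ᵥ d) = d - (levC r).1 *ᵥ d :=
    hq1 _ (by rw [Pi.sub_apply, sub_eq_zero, (hr2 d).1]) (by rw [Pi.sub_apply, sub_eq_zero, (hr2 d).2])
  rw [hφq, hφr, ← mul_assoc, T.conj, hv, mul_assoc, mul_assoc, ← map_mul T.κ, ← map_mul T.κ, hq3 r hr]

omit [Finite G] in
theorem rad {q : Cm} (hq : q.1 ∈ Qm) (hcol : colD (iD q) = 0) (hne : levD (iD q) ≠ 1) :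
    T.δ q 1 = 0 ∧ T.δ q 2 = 0 := by
  set y : Cm := fmC (-T.δ q) * q with hy
  have hyQ : y.1 ∈ Qm := Qm.mul_mem (fmP_mem_Qm _) hq
  have hly : levC y = levC q := T.levC_neg q
  have hφy : B.ψ y.1 = T.κ (levC y) := by rw [hly]; exact T.spec_neg q
  have hcy : colD (iD y) = -T.δ q := by
    rw [hy, map_mul, colD_mul, colD_fmC, levD_fmC, vec_one3, hcol, add_zero]
  clear_value y
  have hsep : y.1 ∈ Em ∨ y.1 ∈ Fm := by
    refine sep_model hyQ fun c hc => B.inj ?_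
    have key : ∀ d : Cm, d.1 = c →
        B.ψ y.1 * B.ψ (d * y * d⁻¹).1 = B.ψ (d * y * d⁻¹).1 * B.ψ y.1 := by
      intro d hd
      have hr : (d * y * d⁻¹).1 ∈ Qm := by
        rw [Subgroup.coe_mul, Subgroup.coe_mul, Subgroup.coe_inv]
        exact Qm_normal d.2 hyQ
      exact T.commute_conj hyQ hr hφy (T.spec_conj d y hφy)
    have h := key ⟨c, hc⟩ rfl
    rw [Subgroup.coe_mul, Subgroup.coe_mul, Subgroup.coe_inv] at h
    rw [map_mul, map_mul B.ψ (c * y.1 * c⁻¹)]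
    exact h
  rcases hsep with h | h
  · have hent := mem_patGroup.1 (Subgroup.mem_subgroupOf.1 h)
    have h1 : colD (iD y) 1 = 0 := hent 1 3 rfl
    have h2 : colD (iD y) 2 = 0 := hent 2 3 rfl
    rw [hcy] at h1 h2
    exact ⟨neg_eq_zero.1 h1, neg_eq_zero.1 h2⟩
  · obtain ⟨w, hw⟩ := mem_Fm.1 h
    refine absurd ?_ hne
    rw [← levC_apply, ← hly, show y = fmC w from Subtype.ext hw, levC_apply]
    exact levD_fmC w

omit [Finite G] in
theorem inverted {q : Cm} (h : ct * q * ct = q * q) :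
    (levC ct).1 *ᵥ T.δ q = T.δ q + (levC q).1 *ᵥ T.δ q := by
  have h1 := congrArg T.δ h
  rwa [T.δ_mul, T.δ_mul, T.δ_mul, T.δ_t, Matrix.mulVec_zero, zero_add, add_zero] at h1

omit [Finite G] in
theorem δ_c01 : T.δ c01 = 0 := by
  obtain ⟨h1, h2⟩ := T.rad gens_Qm.1 gens_colD.1 gens_colD.2.2.2.2.2.1
  exact (inverted_fix _ h1 h2).1 (T.inverted c_rels.2.1)

omit [Finite G] in
theorem δ_c02 : T.δ c02 = 0 := by
  obtain ⟨h1, h2⟩ := T.rad gens_Qm.2.1 gens_colD.2.1 gens_colD.2.2.2.2.2.2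
  exact (inverted_fix _ h1 h2).2 (T.inverted c_rels.2.2.1)

theorem δ_block (D : Std G) (hz : B.ψ zP = D.z) (hQ : Qm.map B.ψ = D.Q) (c : Cm) (n : Pm)
    (hct : ct * c = c * ct) (hn : n * n * n * n = 1)
    (hP : ∃ P : Lev3, P * levD (iD c01) = levD (iD c) * P)
    (htab : ∀ i : ZMod 3, n * n * n * (fmP ![i, 0, 0] * c.1) * n ∈ Qm ∧
      (n * n * n * (fmP ![i, 0, 0] * c.1) * n ∈ Em → i = 0) ∧
      (n * n * n * (fmP ![i, 0, 0] * c.1) * n ∈ Fm → i = 0)) : T.δ c = 0 := by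
  have h1 := congrArg T.δ hct
  rw [T.δ_mul, T.δ_mul, T.δ_t, Matrix.mulVec_zero, add_zero, zero_add, levC_apply] at h1
  obtain ⟨e1, e2⟩ := central_fix _ h1
  have hvec : ![-T.δ c 0, 0, 0] = -T.δ c := by
    ext j
    fin_cases j <;> simp [e1, e2]
  obtain ⟨hQ', hE', hF'⟩ := htab (-T.δ c 0)
  rw [hvec] at hQ' hE' hF'
  obtain ⟨P, hP⟩ := hP
  rw [← levC_apply, ← levC_apply] at hP
  have hy : B.ψ (fmP (-T.δ c) * c.1) = T.κ (levC c) := T.spec_neg c
  have hz01 : IsConj (B.ψ zP) (T.κ (levC c)) := by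
    refine isConj_iff.2 ⟨T.κ P * B.ψ nC, ?_⟩
    have e01 : T.κ (levC c01) = B.ψ c01.1 := by rw [T.spec c01, T.δ_c01, eF_zero, one_mul]
    have en : B.ψ nC * B.ψ zP * (B.ψ nC)⁻¹ = B.ψ c01.1 := by
      rw [← map_mul, nC_spec, map_mul, mul_inv_cancel_right]
    calc T.κ P * B.ψ nC * B.ψ zP * (T.κ P * B.ψ nC)⁻¹
        = T.κ P * (B.ψ nC * B.ψ zP * (B.ψ nC)⁻¹) * (T.κ P)⁻¹ := by group
      _ = T.κ (P * levC c01) * (T.κ P)⁻¹ := by rw [en, ← e01, map_mul]
      _ = T.κ (levC c) := by rw [hP, map_mul, mul_inv_cancel_right]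
  generalize fmP (-T.δ c) = F at hQ' hE' hF' hy
  have hni : (n * n * n)⁻¹ = n := inv_eq_of_mul_eq_one_right hn
  have hx : IsConj (B.ψ zP) (B.ψ (n * n * n * (F * c.1) * n)) := by
    refine hz01.trans (isConj_iff.2 ⟨B.ψ (n * n * n), ?_⟩)
    rw [← hy, ← map_inv, hni, ← map_mul, ← map_mul]
  have hi0 : -T.δ c 0 = 0 := by
    rcases sep_of_local B D hz hQ _ hQ' hx with h | h
    · exact hE' h
    · exact hF' h
  ext j
  fin_cases j
  · exact neg_eq_zero.1 hi0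
  · exact e1
  · exact e2

theorem agree (D : Std G) (hz : B.ψ zP = D.z) (hQ : Qm.map B.ψ = D.Q) (c : Cm) :
    B.ψ c.1 = eF B (colD (iD c)) * T.κ (levC c) := by
  let S : Subgroup Cm := (B.ψ.comp Cm.subtype).eqLocus
    ((MonoidHom.mk' (fun g : Pd => eF B (colD g) * T.κ (levD g)) fun g h => by
      rw [colD_mul, eF_add, map_mul, map_mul]
      calc eF B (colD g) * eF B ((levD g).1 *ᵥ colD h) * (T.κ (levD g) * T.κ (levD h))
          = eF B (colD g) * (eF B ((levD g).1 *ᵥ colD h) * T.κ (levD g)) * T.κ (levD h) := by group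
        _ = eF B (colD g) * (T.κ (levD g) * eF B (colD h)) * T.κ (levD h) := by rw [T.conj]
        _ = _ := by group).comp iD)
  have hmem : ∀ c : Cm, c ∈ S ↔ B.ψ c.1 = eF B (colD (iD c)) * T.κ (levC c) := fun c => Iff.rfl
  refine (hmem c).1 (mem_gens (fun w => ?_) ?_ ?_ ?_ ?_ c) <;> rw [hmem]
  · rw [colD_fmC, levC_apply, levD_fmC, map_one, mul_one, eF_fmC]
  · rw [T.spec, T.δ_c01, gens_colD.1]
  · rw [T.spec, T.δ_c02, gens_colD.2.1]
  · rw [T.spec, T.δ_block D hz hQ c12 n23 c_rels.2.2.2.1 n_pow.1 lev_conj.1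
      fun i => (class_table i).1, gens_colD.2.2.1]
  · rw [T.spec, T.δ_block D hz hQ c21 n13 c_rels.2.2.2.2 n_pow.2 lev_conj.2
      fun i => (class_table i).2, gens_colD.2.2.2.1]

end Adapted

/-- Coordinates on the dual elementary group extend to an agreeing dual parabolic. -/
theorem dual_of_split (B : Base G) (D : Std G) (hz : B.ψ zP = D.z) (hQ : Qm.map B.ψ = D.Q)
    {N : Subgroup G} (hCN : D.C ≤ N) (κ₀ : Lev3 →* G)
    (hconj₀ : ∀ (A : Lev3) (a : Col3), κ₀ A * eF B a = eF B (A.1 *ᵥ a) * κ₀ A)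
    (hN₀ : ∀ n, n ∈ N ↔ ∃ a A, n = eF B a * κ₀ A)
    (hfree₀ : ∀ a A, eF B a * κ₀ A = 1 → a = 0 ∧ A = 1)
    (hnorm : normalizer ((Fm.map B.ψ : Subgroup G) : Set G) = N) :
    Nonempty B.Dual := by
  have hcomm : ∀ a b, eF B a * eF B b = eF B b * eF B a := fun a b => by
    rw [← eF_add, ← eF_add, add_comm]
  have hφC : ∀ c : Cm, B.ψ c.1 ∈ D.C := fun c => by
    rw [show D.C = Cm.map B.ψ by rw [← B.cent_z, hz]]
    exact ⟨c.1, c.2, rfl⟩
  have hext : ∀ A A' : Lev3, (∀ w, eF B (A.1 *ᵥ w) = eF B (A'.1 *ᵥ w)) → A = A' := fun A A' h =>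
    Subtype.ext (Matrix.toLin'.injective (LinearMap.ext fun w => by
      rw [Matrix.toLin'_apply, Matrix.toLin'_apply]; exact eF_injective B (h w)))
  have hdec : ∀ (κ : Lev3 →* G), (∀ A a, κ A * eF B a = eF B (A.1 *ᵥ a) * κ A) →
      (∀ n, n ∈ N ↔ ∃ a A, n = eF B a * κ A) →
      ∀ c : Cm, ∃ d, B.ψ c.1 = eF B d * κ (levC c) := by
    intro κ hconj hN c
    obtain ⟨d, A, h⟩ := (hN _).1 (hCN (hφC c))
    refine ⟨d, ?_⟩
    suffices levC c = A by rw [this]; exact h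
    refine hext _ _ fun w => ?_
    have h1 := eF_conj B c w
    rw [h, mul_assoc, hconj, ← mul_assoc, hcomm, mul_assoc] at h1
    exact (mul_right_cancel h1).symm
  -- the involution is moved into the complement
  obtain ⟨a, ha⟩ := hdec κ₀ hconj₀ hN₀ ct
  have haT : a + (levC ct).1 *ᵥ a = 0 := by
    refine (hfree₀ _ (levC ct * levC ct) ?_).1
    rw [eF_add, map_mul κ₀]
    calc eF B a * eF B ((levC ct).1 *ᵥ a) * (κ₀ (levC ct) * κ₀ (levC ct))
        = eF B a * (eF B ((levC ct).1 *ᵥ a) * κ₀ (levC ct)) * κ₀ (levC ct) := by group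
      _ = eF B a * (κ₀ (levC ct) * eF B a) * κ₀ (levC ct) := by rw [hconj₀ (levC ct) a]
      _ = B.ψ ct.1 * B.ψ ct.1 := by rw [ha]; group
      _ = 1 := by rw [← map_mul, ← Subgroup.coe_mul, c_rels.1, Subgroup.coe_one, map_one]
  obtain ⟨κ, hconj, hN, hfree, hκ⟩ := shift_split (eF_add B) hconj₀ hN₀ hfree₀ a
  have hκt : κ (levC ct) = B.ψ ct.1 := by
    rw [hκ, ha]
    congr 2
    have h : (levC ct).1 *ᵥ a = -a := eq_neg_of_add_eq_zero_right haT
    rw [h]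
    ext i
    show -(a i) + -(a i) = a i
    generalize a i = x
    revert x
    decide
  choose δ hδ using hdec κ hconj hN
  have hδt : δ ct = 0 := by
    have h := hδ ct
    rw [← hκt, eq_comm, mul_eq_right, ← eF_zero B] at h
    exact eF_injective B h
  let T : Adapted B := ⟨κ, hconj, hfree, δ, hδ, hδt⟩
  let ψ' : Pd →* G := MonoidHom.mk' (fun g => eF B (colD g) * κ (levD g)) fun g h => by
    rw [colD_mul, eF_add, map_mul, map_mul]
    calc eF B (colD g) * eF B ((levD g).1 *ᵥ colD h) * (κ (levD g) * κ (levD h))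
        = eF B (colD g) * (eF B ((levD g).1 *ᵥ colD h) * κ (levD g)) * κ (levD h) := by group
      _ = eF B (colD g) * (κ (levD g) * eF B (colD h)) * κ (levD h) := by rw [hconj]
      _ = _ := by group
  have hagree : ∀ c : Cm, ψ' (iD c) = B.ψ c.1 := fun c => (T.agree D hz hQ c).symm
  refine ⟨⟨ψ', (injective_iff_map_eq_one _).2 fun g hg => ?_, fun x h₁ h₂ => ?_, ?_⟩⟩
  · obtain ⟨h1, h2⟩ := hfree _ _ hg
    refine ext_Pd (h2.trans (map_one levD).symm) (h1.trans ?_)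
    ext j; fin_cases j <;> rfl
  · exact hagree ⟨⟨x, h₁⟩, mem_Cm.2 h₂⟩
  · have hmap : ((patGroup patF closed_patF).subgroupOf Pd).map ψ' = Fm.map B.ψ := by
      refine le_antisymm ?_ ?_
      · rintro _ ⟨g, hg, rfl⟩
        have h := mem_patGroup.1 (Subgroup.mem_subgroupOf.1 hg)
        have hgm : (g : SL4) ∈ Pm := mem_Pm.2 fun i => by
          have := h i 0 (by fin_cases i <;> rfl)
          rw [this]
        refine ⟨⟨g, hgm⟩, Subgroup.mem_subgroupOf.2 (Subgroup.mem_subgroupOf.1 hg :), ?_⟩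
        exact (hagree ⟨⟨g, hgm⟩, mem_Cm.2 g.2⟩).symm
      · rintro _ ⟨x, hx, rfl⟩
        obtain ⟨w, rfl⟩ := mem_Fm.1 hx
        exact ⟨iD (fmC w), Subgroup.mem_subgroupOf.2 (Subgroup.mem_subgroupOf.1 hx :),
          hagree (fmC w)⟩
    rw [hmap, hnorm]
    refine le_antisymm (fun n hn => ?_) ?_
    · obtain ⟨w, A, rfl⟩ := (hN n).1 hn
      exact ⟨mkD w A, by
        show eF B (colD (mkD w A)) * κ (levD (mkD w A)) = _
        rw [colD_mkD, levD_mkD]⟩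
    · rintro _ ⟨g, rfl⟩
      exact (hN _).2 ⟨_, _, rfl⟩

/-- The dual parabolic from a further conjugate of the central element. -/
theorem exists_dual_parabolic (B : Base G) (D : Std G) (hz : B.ψ zP = D.z)
    (hQ : Qm.map B.ψ = D.Q) {g : G} (hgQ : g * B.ψ zP * g⁻¹ ∈ Qm.map B.ψ)
    (hgE : g * B.ψ zP * g⁻¹ ∉ Em.map B.ψ) : Nonempty B.Dual := by
  obtain ⟨x, hx, ex⟩ := hgQ
  have hxF : x ∈ Fm := (sep_of_local B D hz hQ x hx (isConj_iff.2 ⟨g, ex.symm⟩)).resolve_left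
    fun h => hgE ⟨x, h, ex⟩
  have p : Pr D (D.conj g) := by
    refine ⟨?_, ?_⟩ <;> rw [D.conj_z, ← hz, ← ex]
    · rw [← hQ]; exact ⟨x, hx, rfl⟩
    · intro h
      obtain ⟨n, hn⟩ := mem_zpowers_iff.1 h
      rw [← map_zpow] at hn
      exact hgE ⟨x, (B.inj hn) ▸ zpow_zP_mem n, ex⟩
  have hzz : (D.conj g).z = B.ψ x := by rw [D.conj_z, ← hz]; exact ex.symm
  have hFE : D.Q ⊓ (D.conj g).Q = Fm.map B.ψ := by
    rw [← p.espan_eq]
    refine eq_of_le_of_card_ge ((closure_le _).2 ?_) ?_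
    · rintro y (rfl | ⟨c, hc, rfl⟩)
      · exact ⟨zP, mem_Fm.2 ⟨![1, 0, 0], by decide +kernel⟩, hz⟩
      · rw [show D.C = Cm.map B.ψ by rw [← B.cent_z, hz]] at hc
        obtain ⟨c, hc, rfl⟩ := hc
        obtain ⟨w, rfl⟩ := mem_Fm.1 hxF
        refine ⟨fmP ((levD (iD ⟨c, hc⟩)).1 *ᵥ w), mem_Fm.2 ⟨_, rfl⟩, ?_⟩
        rw [hzz, ← map_inv, ← map_mul, ← map_mul]
        refine congrArg B.ψ ?_
        rw [eq_mul_inv_iff_mul_eq]
        exact (congrArg Subtype.val (fmC_conj ⟨c, hc⟩ w)).symm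
    · rw [p.espan_facts.2.1, card_map_of_injective B.inj]
      have hsurj : Function.Surjective (fun w : Col3 => (⟨fmP w, mem_Fm.2 ⟨w, rfl⟩⟩ : Fm)) :=
        fun y => by
          obtain ⟨w, hw⟩ := mem_Fm.1 y.2
          exact ⟨w, Subtype.ext hw.symm⟩
      refine (Nat.card_le_card_of_surjective _ hsurj).trans ?_
      simp
  obtain ⟨κ, hconj, hN, hfree⟩ := p.exists_split (eF B) (eF_add B) (eF_injective B)
    fun a => hFE.ge ⟨fmP a, mem_Fm.2 ⟨a, rfl⟩, rfl⟩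
  exact dual_of_split B D hz hQ p.C_le_norm κ hconj hN hfree (by rw [hFE])

/-- The local analysis: a base, with the separation of conjugates and the dichotomy. -/
theorem Std.exists_base_dichotomy (D : Std G) {g : G} (hgQ : g * D.z * g⁻¹ ∈ D.Q)
    (hgz : g * D.z * g⁻¹ ∉ zpowers D.z) :
    ∃ B : Base G, (∀ x : Pm, x ∈ Qm → IsConj (B.ψ zP) (B.ψ x) → x ∈ Em ∨ x ∈ Fm) ∧
      (B.Only ∨ Nonempty B.Dual) := by
  obtain ⟨B, hz, -, hQ⟩ := Pr.exists_base (D := D) (D' := D.conj g) ⟨hgQ, hgz⟩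
  refine ⟨B, sep_of_local B D hz hQ, ?_⟩
  by_cases h : B.Only
  · exact Or.inl h
  · rw [Base.Only] at h
    push_neg at h
    obtain ⟨g', h1, h2⟩ := h
    exact Or.inr (exists_dual_parabolic B D hz hQ h1 h2)

end CfsgLib.Recog.LFourThree
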