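import Cfsg.Agent.Lib.Recog.LFourThree.Fusion
import Cfsg.Agent.Lib.Recog.LFourThree.LocalDual
import Cfsg.Agent.Lib.Recog.LFourThree.IdentHom
import Cfsg.Agent.Lib.Recog.LFourThree.IdentPoint

/-!
Assembly of the `3`-local recognition of `PSL(4,3)`: the local part, the identification, and the two
endgames, taken as hypotheses.
-/

set_option autoImplicit false

namespace CfsgLib.Recog.LFourThree

open Subgroup

universe u

/-- The hypothesis on conjugates of the centre gives an element for the local part. -/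
theorem Std.exists_moved_centre {G : Type u} [Group G] [Finite G] (D : Std G) {Z : Subgroup G}
    (hZ : zpowers D.z = Z)
    (h : ∃ x : G, Z.map (MulAut.conj x).toMonoidHom ≤ D.Q ∧
      Z.map (MulAut.conj x).toMonoidHom ≠ Z) :
    ∃ g : G, g * D.z * g⁻¹ ∈ D.Q ∧ g * D.z * g⁻¹ ∉ zpowers D.z := by
  obtain ⟨x, hle, hne⟩ := h
  subst hZ
  refine ⟨x, hle ⟨D.z, mem_zpowers _, rfl⟩, fun hm => hne ?_⟩
  refine eq_of_le_of_card_ge ?_ ?_
  · rw [MonoidHom.map_zpowers]
    exact zpowers_le.2 hm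
  · rw [card_map_of_injective (MulAut.conj x).injective]

/-- The conclusion, given the two endgames. -/
theorem conclusion_of_endgames {G : Type u} [Group G] [Finite G] (D : Std G) {g : G}
    (hgQ : g * D.z * g⁻¹ ∈ D.Q) (hgz : g * D.z * g⁻¹ ∉ zpowers D.z)
    (hone : ∀ B : Base G, B.Only → B.OnlyFacts → B.ψ.range = ⊤)
    (htwo : ∀ (B : Base G) (Ψ : SL4 →* G), Ψ.ker = Subgroup.center SL4 →
      (∀ x : Pm, Ψ x = B.ψ x) →
      (∀ x : Pm, x ∈ Qm → IsConj (B.ψ zP) (B.ψ x) → x ∈ Em ∨ x ∈ Fm) → Ψ.range = ⊤) :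
    Nonempty (G ≃* Matrix.ProjectiveSpecialLinearGroup (Fin 4) (ZMod 3)) ∨
    ∃ (P : Subgroup (Matrix.ProjectiveSpecialLinearGroup (Fin 4) (ZMod 3))),
      IsCoatom P ∧ Nat.card (Cfsg.pCore 3 P) = 27 ∧
      Nonempty (P ⧸ Cfsg.pCore 3 P ≃* Matrix.SpecialLinearGroup (Fin 3) (ZMod 3)) ∧
      Nonempty (G ≃* P) := by
  obtain ⟨B, hsep, hcase⟩ := D.exists_base_dichotomy hgQ hgz
  rcases hcase with hO | ⟨⟨D'⟩⟩
  · obtain ⟨P, hP, hcard, hquot, ⟨e⟩⟩ := Ident.exists_point_parabolic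
    have htop := hone B hO (B.onlyFacts hO)
    exact Or.inr ⟨P, hP, hcard, hquot,
      ⟨((Subgroup.topEquiv.symm.trans (MulEquiv.subgroupCongr htop.symm)).trans
        (MonoidHom.ofInjective B.inj).symm).trans e⟩⟩
  · obtain ⟨Ψ, hk, hext, hr, -⟩ := Ident.exists_psi B D'
    obtain ⟨e⟩ := Ident.nonempty_psl B D'
    have htop : B.ψ.range ⊔ D'.ψ'.range = ⊤ := by
      rw [← hr]; exact htwo B Ψ hk (fun x => hext x x.2) hsep
    exact Or.inl ⟨(Subgroup.topEquiv.symm.trans (MulEquiv.subgroupCongr htop.symm)).trans e⟩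

end CfsgLib.Recog.LFourThree
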