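import Cfsg.Agent.Lib.Recog.LFourThree.Base

/-!
The fusion facts used by the two endgames of the `3`-local recognition of `PSL(4,3)`.
-/

set_option autoImplicit false

namespace CfsgLib.Recog.LFourThree

open Subgroup

universe u

variable {G : Type u} [Group G]

/-- the matrix `g - 1` -/
def offOne (g : Pm) : Matrix (Fin 4) (Fin 4) (ZMod 3) :=
  ((g : SL4) : Matrix (Fin 4) (Fin 4) (ZMod 3)) - 1

/-- `g` is the identity or a transvection: `g - 1` has rank at most one. -/
def IsTrans (g : Pm) : Prop :=
  ∀ i j k l, offOne g i j * offOne g k l = offOne g i l * offOne g k j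

/-- `(g - 1)^2 = 0`. -/
def IsQuad (g : Pm) : Prop :=
  ∀ i j, ∑ k, offOne g i k * offOne g k j = 0

instance : DecidablePred IsTrans := fun g =>
  inferInstanceAs (Decidable (∀ i j k l : Fin 4,
    offOne g i j * offOne g k l = offOne g i l * offOne g k j))

instance : DecidablePred IsQuad := fun g =>
  inferInstanceAs (Decidable (∀ i j : Fin 4, ∑ k, offOne g i k * offOne g k j = 0))

/-- Fusion facts valid for every base. -/
structure Base.Facts (B : Base G) : Prop where
  /-- `Mm` is the only abelian subgroup of order 81 of the Sylow group. -/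
  abelian_81 : ∀ A : Subgroup G, A ≤ Sm.map B.ψ → (∀ a ∈ A, ∀ b ∈ A, a * b = b * a) →
    Nat.card A = 81 → A = Mm.map B.ψ
  /-- fusion in `Mm` is controlled by its normaliser -/
  fusion_M : ∀ x ∈ Mm, ∀ y ∈ Mm, ∀ g : G, g * B.ψ x * g⁻¹ = B.ψ y →
    ∃ n ∈ normalizer ((Mm.map B.ψ : Subgroup G) : Set G), n * B.ψ x * n⁻¹ = B.ψ y

/-- Fusion facts when only one elementary group carries the class of the centre. -/
structure Base.OnlyFacts (B : Base G) : Prop extends B.Facts where
  /-- the conjugates of `zP` centralising `zP` lie in the image of `Em` -/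
  conj_z : ∀ g : G, g * B.ψ zP * g⁻¹ ∈ Cm.map B.ψ → g * B.ψ zP * g⁻¹ ∈ Em.map B.ψ
  /-- the normaliser of `Mm` lies in the parabolic -/
  norm_M : normalizer ((Mm.map B.ψ : Subgroup G) : Set G) ≤ B.ψ.range

/-- Fusion facts in the presence of the dual parabolic. -/
structure Base.Dual.Facts {B : Base G} (D : B.Dual) : Prop extends B.Facts where
  /-- the conjugates of `zP` centralising `zP` are transvections -/
  conj_z : ∀ g : G, ∀ x ∈ Cm, g * B.ψ zP * g⁻¹ = B.ψ x → IsTrans x
  /-- the normaliser of `Mm` lies in the subgroup generated by the two parabolics -/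
  norm_M : normalizer ((Mm.map B.ψ : Subgroup G) : Set G) ≤ B.ψ.range ⊔ D.ψ'.range
  /-- its order -/
  card_norm_M : Nat.card (normalizer ((Mm.map B.ψ : Subgroup G) : Set G)) = 81 * 576
  /-- regular elements of `Qm` are not fused into `Mm` -/
  quad_of_conj : ∀ x ∈ Qm, ∀ m ∈ Mm, ∀ g : G, g * B.ψ x * g⁻¹ = B.ψ m → IsQuad x

end CfsgLib.Recog.LFourThree
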