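import Cfsg.Agent.Lib.Recog.LFourThree.ExcTriple
import Cfsg.Agent.Lib.Char.TI
import Cfsg.Agent.Lib.Char.Misc
import Cfsg.Agent.Lib.TISylow.Setting

/-!
# Exceptional characters on a trivial intersection set of exponent three

Three test functions in the span of the differences of an exceptional family, whose structure
constant is local, bound the index of the normaliser.
-/

set_option autoImplicit false

namespace CfsgLib.Recog.LFourThree

open Subgroup CfsgLib.TISylow
open scoped ComplexConjugate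

variable {G : Type*} [Group G] [Fintype G] {J : Subgroup G}

theorem TIThree.pairCount_local (h : TIThree J) (x y c : (normalizer (J : Set G))) (hx : (x : G) ∈ J) (hx1 : x ≠ 1)
    (hy : (y : G) ∈ J) (hy1 : y ≠ 1) (hc : (c : G) ∈ J) (hc1 : c ≠ 1)
    (hcent : IsPGroup 3 (centralizer ({(c : G)} : Set G)))
    (hne : ¬ ((∃ n : (normalizer (J : Set G)), n * x * n⁻¹ = c⁻¹) ∧ ∃ n : (normalizer (J : Set G)), n * y * n⁻¹ = c⁻¹)) :
    pairCount G (x : G) y c = pairCount (normalizer (J : Set G)) x y c := by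
  refine (Nat.card_congr (Equiv.ofBijective
    (fun p => ⟨((p.1.1 : G), (p.1.2 : G)), congrArg Subtype.val p.2⟩) ⟨?_, ?_⟩)).symm
  · rintro ⟨⟨p1, p2⟩, hp⟩ ⟨⟨q1, q2⟩, hq⟩ e
    simp only [Subtype.mk.injEq, Prod.mk.injEq] at e
    exact Subtype.ext (Prod.ext (Subtype.ext e.1) (Subtype.ext e.2))
  · rintro ⟨⟨g, k⟩, hp⟩
    simp only at hp
    obtain ⟨hg, hk⟩ := h.triple_mem hx (fun e => hx1 (Subtype.ext e)) hy
      (fun e => hy1 (Subtype.ext e)) (g := g) (k := k) (hp ▸ hc)
      (fun e => hc1 (Subtype.ext (hp ▸ e))) (hp.symm ▸ hcent) (fun ⟨⟨a, ha, ea⟩, b, hb, eb⟩ =>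
        hne ⟨⟨⟨a, ha⟩, Subtype.ext (ea.trans (by rw [hp]; rfl))⟩,
          ⟨b, hb⟩, Subtype.ext (eb.trans (by rw [hp]; rfl))⟩)
    exact ⟨⟨(⟨g, hg⟩, ⟨k, hk⟩), Subtype.ext hp⟩, rfl⟩

theorem sum_mul_pairCount {M : Type*} [Group M] [Fintype M] (f : M → ℂ) (x y : M) :
    ∑ c, f c * (pairCount M x y c : ℂ) =
      ∑ p : M × M, f (p.1 * x * p.1⁻¹ * (p.2 * y * p.2⁻¹)) := by
  classical
  rw [← Finset.sum_fiberwise Finset.univ (fun p : M × M => p.1 * x * p.1⁻¹ * (p.2 * y * p.2⁻¹))]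
  refine Finset.sum_congr rfl fun c _ => ?_
  rw [Finset.sum_congr rfl (g := fun _ => f c) (fun p hp => by rw [(Finset.mem_filter.mp hp).2]),
    Finset.sum_const, nsmul_eq_mul, mul_comm]
  congr 1
  simp only [pairCount, Nat.card_eq_fintype_card, Fintype.card_subtype]

variable [Fintype (normalizer (J : Set G))]

/-- The index bound from a nondegenerate triple of test functions. -/
theorem TIThree.index_bound (h : TIThree J) {m : ℕ} (i₀ : Fin m) (θ : Fin m → (normalizer (J : Set G)) → ℂ)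
    (hgen : ∀ i, Cfsg.IsGeneralizedCharacter (normalizer (J : Set G)) (θ i))
    (hsupp : ∀ i, ∀ x : (normalizer (J : Set G)), (x : G) ∉ J → θ i x = 0)
    (hgram : ∀ i j, Cfsg.classInner (θ i) (θ j) = if i = j then 1 else 0)
    (hdeg : ∀ i, θ i 1 = θ i₀ 1)
    (α β γ : Fin m → ℤ) (hα : ∑ i, α i = 0) (hβ : ∑ i, β i = 0) (hγ : ∑ i, γ i = 0)
    (f₁ f₂ f₃ : (normalizer (J : Set G)) → ℤ) (h₁ : ∀ x, (f₁ x : ℂ) = ∑ i, (α i : ℂ) * θ i x)
    (h₂ : ∀ x, (f₂ x : ℂ) = ∑ i, (β i : ℂ) * θ i x)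
    (h₃ : ∀ x, (f₃ x : ℂ) = ∑ i, (γ i : ℂ) * θ i x)
    (hnd : ∀ x : (normalizer (J : Set G)), (x : G) ∈ J → x ≠ 1 → f₁ x = 0 ∨ f₂ x = 0 ∨ f₃ x⁻¹ = 0)
    (hcent : ∀ x : (normalizer (J : Set G)), (x : G) ∈ J → x ≠ 1 → f₃ x ≠ 0 →
      IsPGroup 3 (centralizer ({(x : G)} : Set G)))
    (hR : ∑ x, ∑ y, f₁ x * f₂ y * f₃ (x * y) =
      (Nat.card (normalizer (J : Set G)) : ℤ) * (Nat.card J : ℤ) * ∑ i, α i * β i * γ i)
    (hne : ∑ i, α i * β i * γ i ≠ 0) :
    m * Nat.card G ≤ Nat.card J ^ 2 := by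
  classical
  haveI := Fintype.ofFinite (Cfsg.IrrCharacter G)
  have hTI : ∀ g : G, g ∉ (normalizer (J : Set G)) → ∀ t ∈ (J : Set G), g * t * g⁻¹ ∈ (J : Set G) → t = 1 :=
    fun g hg t ht hgt => by
      by_contra ht1
      exact hg (h.mem_norm t ht ht1 g (le_normalizer hgt))
  have hθcl : ∀ i, Cfsg.IsClassFunction (normalizer (J : Set G)) (θ i) := fun i =>
    CfsgLib.Char.isGeneralized_isClassFunction (hgen i)
  have hdgen : ∀ i, Cfsg.IsGeneralizedCharacter (normalizer (J : Set G)) (θ i - θ i₀) := fun i =>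
    CfsgLib.Char.isGeneralized_sub (hgen i) (hgen i₀)
  have hdsupp : ∀ i, ∀ x : (normalizer (J : Set G)), (x : G) ∉ J → (θ i - θ i₀) x = 0 := fun i x hx => by
    simp [hsupp i x hx, hsupp i₀ x hx]
  have hd1 : ∀ i, (θ i - θ i₀) 1 = 0 := fun i => by simp [hdeg i]
  obtain ⟨ε, hε, μ, hμ, hμinj, he⟩ := CfsgLib.Char.coherent_family m i₀
    (fun i => Cfsg.indFun (normalizer (J : Set G)) (θ i - θ i₀))
    (by simp [CfsgLib.Char.indFun_zero]) (fun i => CfsgLib.Char.isGeneralized_indFun _ (hdgen i))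
    (fun i => by simp [CfsgLib.Char.indFun_apply_one, hdeg i])
    (fun i j hi hj => by
      rw [CfsgLib.Char.classInner_indFun_ti (J : Set G) hTI _ _
        (CfsgLib.Char.isGeneralized_isClassFunction (hdgen j)) (hdsupp i) (hdsupp j) (hd1 i)]
      simp only [CfsgLib.Char.classInner_sub_left, CfsgLib.Char.classInner_sub_right, hgram,
        hi, Ne.symm hj, if_true, if_false]
      split_ifs <;> norm_num)
  choose F hFpos hF using fun i => CfsgLib.Char.irr_apply_one_pos (hμ i)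
  have hFeq : ∀ i, F i = F i₀ := fun i => by
    have h1 := congrFun (he i) 1
    simp only [CfsgLib.Char.indFun_apply_one, hd1, mul_zero, Pi.smul_apply, Pi.sub_apply,
      smul_eq_mul, hF] at h1
    have hε0 : ε ≠ 0 := by rcases hε with e | e <;> rw [e] <;> norm_num
    have h2 := (mul_eq_zero.1 h1.symm).resolve_left hε0
    exact_mod_cast sub_eq_zero.1 h2
  -- coefficients of the induced test functions
  have key : ∀ (a : Fin m → ℤ) (f : (normalizer (J : Set G)) → ℤ), ∑ i, a i = 0 →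
      (∀ x, (f x : ℂ) = ∑ i, (a i : ℂ) * θ i x) → ∀ χ : Cfsg.IrrCharacter G,
      (Nat.card (normalizer (J : Set G)) : ℂ)⁻¹ * ∑ x : (normalizer (J : Set G)), (f x : ℂ) * conj ((χ : G → ℂ) (x : G)) =
        ε * ∑ i, (a i : ℂ) * (if μ i = (χ : G → ℂ) then 1 else 0) := by
    intro a f ha hf χ
    have hfe : (fun x : (normalizer (J : Set G)) => (f x : ℂ)) = ∑ i, (a i : ℂ) • (θ i - θ i₀) := by
      funext x
      simp only [Finset.sum_apply, Pi.smul_apply, Pi.sub_apply, smul_eq_mul, mul_sub,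
        Finset.sum_sub_distrib, ← Finset.sum_mul, ← hf]
      rw [← Int.cast_sum, ha, Int.cast_zero, zero_mul, sub_zero]
    have h1 := CfsgLib.Char.frobenius_reciprocity (normalizer (J : Set G)) (fun x : (normalizer (J : Set G)) => (f x : ℂ)) _
      (CfsgLib.Char.irr_isClassFunction χ.2)
    rw [CfsgLib.Char.classInner_def (G := (normalizer (J : Set G)))] at h1
    rw [← h1, hfe, CfsgLib.Char.indFun_sum, CfsgLib.Char.classInner_sum_left]
    simp only [CfsgLib.Char.indFun_smul, CfsgLib.Char.classInner_smul_left, he,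
      CfsgLib.Char.classInner_sub_left, CfsgLib.Char.irr_classInner (hμ _) χ.2, mul_sub,
      Finset.sum_sub_distrib, ← Finset.sum_mul, Finset.mul_sum]
    rw [← Int.cast_sum, ha, Int.cast_zero, zero_mul, sub_zero]
    exact Finset.sum_congr rfl fun i _ => by ring
  -- the local count
  set R : ℂ := ∑ x : (normalizer (J : Set G)), ∑ y : (normalizer (J : Set G)), (f₁ x : ℂ) * (f₂ y : ℂ) * (f₃ (x * y) : ℂ) with hRdef
  have hone : ∀ (a : Fin m → ℤ) (f : (normalizer (J : Set G)) → ℤ), ∑ i, a i = 0 →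
      (∀ x, (f x : ℂ) = ∑ i, (a i : ℂ) * θ i x) →
      ∀ x : (normalizer (J : Set G)), f x ≠ 0 → (x : G) ∈ J ∧ x ≠ 1 := by
    intro a f ha hf x hx
    refine ⟨?_, ?_⟩
    · by_contra hJ
      exact hx (Int.cast_injective (α := ℂ) (by
        rw [hf x, Int.cast_zero]; exact Finset.sum_eq_zero fun i _ => by rw [hsupp i x hJ, mul_zero]))
    · rintro rfl
      refine hx (Int.cast_injective (α := ℂ) ?_)
      simp only [hf, hdeg, ← Finset.sum_mul]
      rw [← Int.cast_sum, ha, Int.cast_zero, zero_mul]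
  have hfcl : ∀ (a : Fin m → ℤ) (f : (normalizer (J : Set G)) → ℤ), (∀ x, (f x : ℂ) = ∑ i, (a i : ℂ) * θ i x) →
      ∀ n x : (normalizer (J : Set G)), f (n * x * n⁻¹) = f x := by
    intro a f hf n x
    refine Int.cast_injective (α := ℂ) ?_
    simp only [hf]
    exact Finset.sum_congr rfl fun i _ => by rw [hθcl i x n]
  have hcl1 := hfcl α f₁ h₁
  have hcl2 := hfcl β f₂ h₂
  have hcount : ∑ x : (normalizer (J : Set G)), ∑ y : (normalizer (J : Set G)), ∑ c : (normalizer (J : Set G)),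
      (f₁ x : ℂ) * (f₂ y : ℂ) * (f₃ c : ℂ) * (pairCount G (x : G) y c : ℂ) =
      (Nat.card (normalizer (J : Set G)) : ℂ) ^ 2 * R := by
    calc _ = ∑ x : (normalizer (J : Set G)), ∑ y : (normalizer (J : Set G)), (f₁ x : ℂ) * (f₂ y : ℂ) *
          ∑ c : (normalizer (J : Set G)), (f₃ c : ℂ) * (pairCount (normalizer (J : Set G)) x y c : ℂ) := by
          refine Finset.sum_congr rfl fun x _ => Finset.sum_congr rfl fun y _ => ?_
          rw [Finset.mul_sum]
          refine Finset.sum_congr rfl fun c _ => ?_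
          by_cases h0 : f₁ x = 0 ∨ f₂ y = 0 ∨ f₃ c = 0
          · rcases h0 with e | e | e <;> simp [e]
          push Not at h0
          obtain ⟨a0, b0, c0⟩ := h0
          obtain ⟨hxJ, hx1⟩ := hone α f₁ hα h₁ x a0
          obtain ⟨hyJ, hy1⟩ := hone β f₂ hβ h₂ y b0
          obtain ⟨hcJ, hc1⟩ := hone γ f₃ hγ h₃ c c0
          rw [h.pairCount_local x y c hxJ hx1 hyJ hy1 hcJ hc1 (hcent c hcJ hc1 c0) ?_]
          · ring
          rintro ⟨⟨n, hn⟩, n', hn'⟩
          have h4 := hnd c⁻¹ (J.inv_mem hcJ) (inv_ne_one.2 hc1)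
          rw [inv_inv, ← hn, hcl1 n x, hn, ← hn', hcl2 n' y] at h4
          rcases h4 with e | e | e
          exacts [a0 e, b0 e, c0 e]
      _ = ∑ x : (normalizer (J : Set G)), ∑ y : (normalizer (J : Set G)), ∑ p : (normalizer (J : Set G)) × (normalizer (J : Set G)), (f₁ x : ℂ) * (f₂ y : ℂ) *
          (f₃ (p.1 * x * p.1⁻¹ * (p.2 * y * p.2⁻¹)) : ℂ) := by
          refine Finset.sum_congr rfl fun x _ => Finset.sum_congr rfl fun y _ => ?_
          rw [sum_mul_pairCount, Finset.mul_sum]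
      _ = ∑ p : (normalizer (J : Set G)) × (normalizer (J : Set G)), ∑ x : (normalizer (J : Set G)), ∑ y : (normalizer (J : Set G)), (f₁ x : ℂ) * (f₂ y : ℂ) *
          (f₃ (p.1 * x * p.1⁻¹ * (p.2 * y * p.2⁻¹)) : ℂ) := by
          rw [Finset.sum_comm (s := Finset.univ (α := (normalizer (J : Set G)) × (normalizer (J : Set G))))]
          exact Finset.sum_congr rfl fun x _ => Finset.sum_comm
      _ = ∑ _p : (normalizer (J : Set G)) × (normalizer (J : Set G)), R := by
          refine Finset.sum_congr rfl fun p _ => ?_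
          rw [hRdef]
          refine Fintype.sum_equiv (MulAut.conj p.1).toEquiv _ _ fun x =>
            Fintype.sum_equiv (MulAut.conj p.2).toEquiv _ _ fun y => ?_
          simp [MulAut.conj_apply, hcl1, hcl2]
      _ = _ := by
          simp only [Finset.sum_const, Finset.card_univ, Fintype.card_prod, nsmul_eq_mul,
            Nat.card_eq_fintype_card]
          push_cast
          ring
  -- the global count
  have hglob : ∑ x : (normalizer (J : Set G)), ∑ y : (normalizer (J : Set G)), ∑ c : (normalizer (J : Set G)),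
      (f₁ x : ℂ) * (f₂ y : ℂ) * (f₃ c : ℂ) * (pairCount G (x : G) y c : ℂ) =
      (Nat.card G : ℂ) * (Nat.card (normalizer (J : Set G)) : ℂ) ^ 3 *
        (ε * ε * ε * (∑ i, (α i : ℂ) * β i * γ i) / (F i₀ : ℂ)) := by
    let S₁ : Cfsg.IrrCharacter G → ℂ := fun χ => ∑ x : (normalizer (J : Set G)), (f₁ x : ℂ) * conj ((χ : G → ℂ) (x : G))
    let S₂ : Cfsg.IrrCharacter G → ℂ := fun χ => ∑ x : (normalizer (J : Set G)), (f₂ x : ℂ) * conj ((χ : G → ℂ) (x : G))
    let S₃ : Cfsg.IrrCharacter G → ℂ := fun χ => ∑ x : (normalizer (J : Set G)), (f₃ x : ℂ) * (χ : G → ℂ) (x : G)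
    have e1 : ∑ x : (normalizer (J : Set G)), ∑ y : (normalizer (J : Set G)), ∑ c : (normalizer (J : Set G)),
        (f₁ x : ℂ) * (f₂ y : ℂ) * (f₃ c : ℂ) * (pairCount G (x : G) y c : ℂ) =
        (Nat.card G : ℂ) * ∑ χ, S₁ χ * S₂ χ * S₃ χ / conj ((χ : G → ℂ) 1) := by
      simp only [pairCount_eq_sum, Finset.mul_sum]
      rw [Finset.sum_congr rfl fun x _ => Finset.sum_congr rfl fun y _ => Finset.sum_comm,
        Finset.sum_congr rfl fun x _ => Finset.sum_comm, Finset.sum_comm]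
      refine Finset.sum_congr rfl fun χ _ => ?_
      have e2 : S₁ χ * S₂ χ * S₃ χ = ∑ x : normalizer (J : Set G), ∑ y : normalizer (J : Set G),
          ∑ c : normalizer (J : Set G), ((f₁ x : ℂ) * conj ((χ : G → ℂ) (x : G))) *
            ((f₂ y : ℂ) * conj ((χ : G → ℂ) (y : G))) * ((f₃ c : ℂ) * (χ : G → ℂ) (c : G)) := by
        simp only [S₁, S₂, S₃]
        rw [Finset.sum_mul_sum, Finset.sum_mul]
        refine Finset.sum_congr rfl fun x _ => ?_
        rw [Finset.sum_mul]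
        exact Finset.sum_congr rfl fun y _ => by rw [Finset.mul_sum]
      rw [e2, Finset.sum_div, Finset.mul_sum]
      refine Finset.sum_congr rfl fun x _ => ?_
      rw [Finset.sum_div, Finset.mul_sum]
      refine Finset.sum_congr rfl fun y _ => ?_
      rw [Finset.sum_div, Finset.mul_sum]
      refine Finset.sum_congr rfl fun c _ => ?_
      simp only [map_div₀, map_mul]
      ring
    rw [e1, mul_assoc]
    congr 1
    have hN0 : (Nat.card (normalizer (J : Set G)) : ℂ) ≠ 0 := by exact_mod_cast Nat.card_pos.ne'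
    have hS : ∀ (a : Fin m → ℤ) (f : (normalizer (J : Set G)) → ℤ), ∑ i, a i = 0 →
        (∀ x, (f x : ℂ) = ∑ i, (a i : ℂ) * θ i x) → ∀ χ : Cfsg.IrrCharacter G,
        (∑ x : (normalizer (J : Set G)), (f x : ℂ) * conj ((χ : G → ℂ) (x : G))) = (Nat.card (normalizer (J : Set G)) : ℂ) *
          (ε * ∑ i, (a i : ℂ) * (if μ i = (χ : G → ℂ) then 1 else 0)) := fun a f ha hf χ => by
      rw [← key a f ha hf χ, mul_inv_cancel_left₀ hN0]
    have hεreal : conj ε = ε := by rcases hε with e | e <;> simp [e]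
    have hS3 : ∀ χ, S₃ χ = (Nat.card (normalizer (J : Set G)) : ℂ) *
        (ε * ∑ i, (γ i : ℂ) * (if μ i = (χ : G → ℂ) then 1 else 0)) := fun χ => by
      have h1 := congrArg (starRingEnd ℂ) (hS γ f₃ hγ h₃ χ)
      simp only [map_sum, map_mul, map_intCast, map_natCast, Complex.conj_conj, hεreal] at h1
      rw [show S₃ χ = _ from h1]
      congr 2
      exact Finset.sum_congr rfl fun i _ => by split_ifs <;> simp
    simp only [S₁, S₂, hS α f₁ hα h₁, hS β f₂ hβ h₂, hS3]
    let ι : Fin m → Cfsg.IrrCharacter G := fun i => ⟨μ i, hμ i⟩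
    have hιinj : Function.Injective ι := fun i j e => hμinj (congrArg Subtype.val e)
    rw [← Finset.sum_subset (Finset.subset_univ (Finset.univ.image ι)) ?_,
      Finset.sum_image fun i _ j _ e => hιinj e, Finset.mul_sum Finset.univ, Finset.sum_div, Finset.mul_sum]
    · refine Finset.sum_congr rfl fun i _ => ?_
      have hsel : ∀ a : Fin m → ℤ,
          (∑ j, (a j : ℂ) * (if μ j = (ι i : G → ℂ) then 1 else 0)) = a i := fun a => by
        simp [ι, hμinj.eq_iff]
      simp only [hsel]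
      rw [show (ι i : G → ℂ) 1 = (F i₀ : ℂ) by rw [← hFeq i]; exact hF i, map_natCast]
      ring
    · intro χ _ hχ
      have hz : ∀ a : Fin m → ℤ, (∑ j, (a j : ℂ) * (if μ j = (χ : G → ℂ) then 1 else 0)) = 0 :=
        fun a => Finset.sum_eq_zero fun j _ => by
          rw [if_neg fun e => hχ (Finset.mem_image.2 ⟨j, Finset.mem_univ _, Subtype.ext e⟩),
            mul_zero]
      simp only [hz, mul_zero, zero_mul, zero_div]
  have hRval : R = (Nat.card (normalizer (J : Set G)) : ℂ) * (Nat.card J : ℂ) * ∑ i, (α i : ℂ) * β i * γ i := by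
    have h1 := congrArg (fun z : ℤ => (z : ℂ)) hR
    push_cast at h1
    exact h1
  rw [hglob, hRval] at hcount
  have hA0 : (∑ i, (α i : ℂ) * β i * γ i) ≠ 0 := by exact_mod_cast hne
  have hN0 : (Nat.card (normalizer (J : Set G)) : ℂ) ≠ 0 := by exact_mod_cast Nat.card_pos.ne'
  have hF0 : (F i₀ : ℂ) ≠ 0 := by exact_mod_cast (hFpos i₀).ne'
  have hGJ : ε * ε * ε * (Nat.card G : ℂ) = (Nat.card J : ℂ) * F i₀ := by
    field_simp at hcount
    linear_combination hcount
  have hG : Nat.card G = Nat.card J * F i₀ := by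
    rcases hε with e | e <;> rw [e] at hGJ <;> simp only [one_mul, mul_one, neg_mul, mul_neg, neg_neg] at hGJ
    · exact_mod_cast hGJ
    · exfalso
      have h1 : -((Nat.card G : ℤ)) = (Nat.card J : ℤ) * F i₀ := by exact_mod_cast hGJ
      have : (0 : ℤ) < Nat.card G := by exact_mod_cast Nat.card_pos
      nlinarith [Int.natCast_nonneg (Nat.card J), Int.natCast_nonneg (F i₀)]
  choose d hdpos hd using fun χ : Cfsg.IrrCharacter G => CfsgLib.Char.irr_apply_one_pos χ.2
  have hsum : ∑ χ, d χ ^ 2 = Nat.card G := by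
    have h1 := CfsgLib.Char.sum_irr_sq (G := G)
    simp only [hd] at h1
    exact_mod_cast h1
  have hle : m * F i₀ ^ 2 ≤ Nat.card G := by
    rw [← hsum]
    let ι : Fin m → Cfsg.IrrCharacter G := fun i => ⟨μ i, hμ i⟩
    have hd' : ∀ i, d (ι i) = F i₀ := fun i => by
      rw [← hFeq i]
      exact Nat.cast_injective (R := ℂ) ((hd (ι i)).symm.trans (hF i))
    calc m * F i₀ ^ 2 = ∑ i, d (ι i) ^ 2 := by simp [hd']
      _ = ∑ χ ∈ Finset.univ.image ι, d χ ^ 2 :=
        (Finset.sum_image (f := fun χ => d χ ^ 2) (g := ι) fun i _ j _ e =>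
          hμinj (congrArg Subtype.val e)).symm
      _ ≤ _ := Finset.sum_le_sum_of_subset (Finset.subset_univ _)
  have hF1 := hFpos i₀
  rw [hG] at hle ⊢
  have h5 : m * F i₀ ≤ Nat.card J := by
    refine Nat.le_of_mul_le_mul_right ?_ hF1
    calc m * F i₀ * F i₀ = m * F i₀ ^ 2 := by ring
      _ ≤ _ := hle
  calc m * (Nat.card J * F i₀) = Nat.card J * (m * F i₀) := by ring
    _ ≤ Nat.card J * Nat.card J := Nat.mul_le_mul_left _ h5
    _ = _ := by ring

end CfsgLib.Recog.LFourThree
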