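import Cfsg.Agent.Lib.Recog.LFourThree.Exc

/-!
# The exceptional bound from integer tables

The subgroup `J` has coordinates in `(ZMod 3)^3`, its normaliser acts by a list `W` of maps, and
the exceptional family is induced from linear characters given by linear forms `L`.
-/

set_option autoImplicit false

namespace CfsgLib.Recog.LFourThree

open Subgroup
open scoped ComplexConjugate

/-- Vectors over `ZMod 3` of length three. -/
abbrev V3 := Fin 3 → ZMod 3

/-- The standard pairing. -/
def dot3 (a v : V3) : ZMod 3 := a 0 * v 0 + a 1 * v 1 + a 2 * v 2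

theorem dot3_add (a u v : V3) : dot3 a (u + v) = dot3 a u + dot3 a v := by
  simp only [dot3, Pi.add_apply]; ring

/-- The number of maps in `W` carrying `v` to the level `r` of the form `l`. -/
def levelCount {w : ℕ} (W : Fin w → V3 → V3) (l v : V3) (r : ZMod 3) : ℕ :=
  ((Finset.univ : Finset (Fin w)).filter fun s => dot3 l (W s v) = r).card

/-- The value of the induced character. -/
def tableVal {w : ℕ} (W : Fin w → V3 → V3) (l v : V3) : ℤ :=
  (levelCount W l v 0 : ℤ) - levelCount W l v 1

/-- An integer combination of the induced characters. -/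
def testVal {w m : ℕ} (W : Fin w → V3 → V3) (L : Fin m → V3) (a : Fin m → ℤ) (v : V3) : ℤ :=
  ∑ i, a i * tableVal W (L i) v

variable {G : Type*} [Group G] {J : Subgroup G}

/-- Coordinates on `J` with the action of its normaliser. -/
structure ExcCoord (J : Subgroup G) (w : ℕ) where
  /-- the coordinates -/
  φ : Multiplicative V3 ≃* J
  /-- the maps induced by the normaliser -/
  W : Fin w → V3 → V3
  injW : Function.Injective W
  act : ∀ n ∈ normalizer (J : Set G), ∃ s, ∀ v : V3,
    n * (φ (Multiplicative.ofAdd v) : G) * n⁻¹ = (φ (Multiplicative.ofAdd (W s v)) : G)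
  sur : ∀ s, ∃ n ∈ normalizer (J : Set G), ∀ v : V3,
    n * (φ (Multiplicative.ofAdd v) : G) * n⁻¹ = (φ (Multiplicative.ofAdd (W s v)) : G)
  faithful : ∀ n ∈ normalizer (J : Set G), (∀ x ∈ J, n * x * n⁻¹ = x) → n ∈ J

variable {w : ℕ}

/-- The element with given coordinates. -/
noncomputable def ExcCoord.el (D : ExcCoord J w) (v : V3) : normalizer (J : Set G) :=
  ⟨(D.φ (Multiplicative.ofAdd v) : G), le_normalizer (D.φ _).2⟩

theorem ExcCoord.el_mem (D : ExcCoord J w) (v : V3) : (D.el v : G) ∈ J := (D.φ _).2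

theorem ExcCoord.el_inj (D : ExcCoord J w) : Function.Injective D.el := fun u v e => by
  have h := congrArg Subtype.val e
  exact Multiplicative.ofAdd.injective (D.φ.injective (Subtype.ext h))

theorem ExcCoord.el_add (D : ExcCoord J w) (u v : V3) : D.el (u + v) = D.el u * D.el v :=
  Subtype.ext (by simp [ExcCoord.el, ofAdd_add])

theorem ExcCoord.el_zero (D : ExcCoord J w) : D.el 0 = 1 := Subtype.ext (by simp [ExcCoord.el])

theorem ExcCoord.el_neg (D : ExcCoord J w) (v : V3) : D.el (-v) = (D.el v)⁻¹ :=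
  Subtype.ext (by simp [ExcCoord.el, ofAdd_neg])

theorem ExcCoord.exists_el (D : ExcCoord J w) {x : normalizer (J : Set G)} (hx : (x : G) ∈ J) :
    ∃ v, D.el v = x :=
  ⟨Multiplicative.toAdd (D.φ.symm ⟨x, hx⟩), Subtype.ext (by simp [ExcCoord.el])⟩

variable [Fintype G]

theorem ExcCoord.exists_quot (D : ExcCoord J w) [Fintype (normalizer (J : Set G))] :
    ∃ π : normalizer (J : Set G) → Fin w,
      (∀ n v, n * D.el v * n⁻¹ = D.el (D.W (π n) v)) ∧
      ∀ s, ((Finset.univ : Finset (normalizer (J : Set G))).filter fun n => π n = s).card = 27 := by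
  classical
  choose π hπ using fun n : normalizer (J : Set G) => D.act n n.2
  have hπ' : ∀ n v, n * D.el v * n⁻¹ = D.el (D.W (π n) v) := fun n v => Subtype.ext (hπ n v)
  refine ⟨π, hπ', fun s => ?_⟩
  obtain ⟨n₀, hn₀, hs⟩ := D.sur s
  set m₀ : normalizer (J : Set G) := ⟨n₀, hn₀⟩ with hm₀
  have hs' : ∀ v, m₀ * D.el v * m₀⁻¹ = D.el (D.W s v) := fun v => Subtype.ext (hs v)
  have h27 : Fintype.card V3 = 27 := by decide +kernel
  rw [← h27, ← Finset.card_univ]
  refine (Finset.card_bij (fun v _ => m₀ * D.el v) (fun v _ => ?_) (fun u _ v _ e => ?_)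
    (fun n hn => ?_)).symm
  · refine Finset.mem_filter.2 ⟨Finset.mem_univ _, D.injW (funext fun u => D.el_inj ?_)⟩
    rw [← hπ', ← hs']
    have hc : D.el v * D.el u * (D.el v)⁻¹ = D.el u := by
      rw [← D.el_neg, ← D.el_add, ← D.el_add]; congr 1; abel
    calc m₀ * D.el v * D.el u * (m₀ * D.el v)⁻¹ = m₀ * (D.el v * D.el u * (D.el v)⁻¹) * m₀⁻¹ := by group
      _ = _ := by rw [hc]
  · exact D.el_inj (mul_left_cancel e)
  · have hns : π n = s := (Finset.mem_filter.1 hn).2
    have hJ : ((m₀⁻¹ * n : normalizer (J : Set G)) : G) ∈ J := by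
      refine D.faithful _ (m₀⁻¹ * n).2 fun x hx => ?_
      obtain ⟨v, hv⟩ := D.exists_el (x := ⟨x, le_normalizer hx⟩) hx
      have e : m₀⁻¹ * n * D.el v * (m₀⁻¹ * n)⁻¹ = D.el v := by
        rw [show m₀⁻¹ * n * D.el v * (m₀⁻¹ * n)⁻¹ = m₀⁻¹ * (n * D.el v * n⁻¹) * m₀ by group,
          hπ', hns, ← hs']
        group
      rw [hv] at e
      exact congrArg Subtype.val e
    obtain ⟨v, hv⟩ := D.exists_el hJ
    exact ⟨v, Finset.mem_univ _, by rw [hv, mul_inv_cancel_left]⟩

theorem ExcCoord.card_normalizer (D : ExcCoord J w) [Fintype (normalizer (J : Set G))] :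
    Nat.card (normalizer (J : Set G)) = w * 27 := by
  classical
  obtain ⟨π, -, hπ⟩ := D.exists_quot
  rw [Nat.card_eq_fintype_card, ← Finset.card_univ,
    Finset.card_eq_sum_card_fiberwise (f := π) (t := Finset.univ) (fun n _ => Finset.mem_univ _)]
  simp [hπ]

theorem ExcCoord.card_J (D : ExcCoord J w) : Nat.card J = 27 := by
  rw [← Nat.card_congr D.φ.toEquiv, Nat.card_eq_fintype_card]
  decide +kernel

/-- The induced character with integer values. -/
theorem ExcCoord.exists_theta (D : ExcCoord J w) [Fintype (normalizer (J : Set G))] (l : V3)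
    (hsym : ∀ v, levelCount D.W l v 1 = levelCount D.W l v 2) :
    ∃ θ : normalizer (J : Set G) → ℂ,
      Cfsg.IsGeneralizedCharacter (normalizer (J : Set G)) θ ∧
      (∀ x : normalizer (J : Set G), (x : G) ∉ J → θ x = 0) ∧
      ∀ v, θ (D.el v) = (tableVal D.W l v : ℂ) := by
  classical
  obtain ⟨ζ, hζ⟩ : ∃ ζ : ℂ, IsPrimitiveRoot ζ 3 :=
    ⟨_, Complex.isPrimitiveRoot_exp 3 (by norm_num)⟩
  let χ : AddChar (ZMod 3) ℂ := AddChar.zmodChar 3 hζ.pow_eq_one
  set J' := J.subgroupOf (normalizer (J : Set G)) with hJ'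
  let co : J' →* Multiplicative V3 :=
    D.φ.symm.toMonoidHom.comp (Subgroup.subgroupOfEquivOfLe le_normalizer).toMonoidHom
  let lam : J' →* ℂ :=
    { toFun := fun x => χ (dot3 l (Multiplicative.toAdd (co x)))
      map_one' := by simp [dot3]
      map_mul' := fun x y => by
        rw [map_mul, toAdd_mul, dot3_add, AddChar.map_add_eq_mul] }
  let lamU : J' →* ℂˣ := lam.toHomUnits
  refine ⟨Cfsg.indFun J' (fun x => (lamU x : ℂ)), ?_, ?_, ?_⟩
  · exact CfsgLib.Char.isGeneralized_of_isCharacter (CfsgLib.Char.isCharacter_indFun _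
      (CfsgLib.Char.irr_isCharacter (CfsgLib.Char.isIrrCharacter_linear lamU)))
  · intro x hx
    rw [CfsgLib.Char.indFun_def, Finset.sum_eq_zero, mul_zero]
    intro y _
    refine CfsgLib.Char.extendByZero_of_not_mem _ fun hy => hx ?_
    have h1 := (mem_normalizer_iff.1 y.2 _).1 (mem_subgroupOf.1 hy)
    simpa [mul_assoc] using h1
  · intro v
    obtain ⟨π, hπ, hπc⟩ := D.exists_quot
    have hterm : ∀ n : normalizer (J : Set G), Cfsg.extendByZero J' (fun x => (lamU x : ℂ))
        (n * D.el v * n⁻¹) = χ (dot3 l (D.W (π n) v)) := by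
      intro n
      have hm : n * D.el v * n⁻¹ ∈ J' := mem_subgroupOf.2 (by rw [hπ]; exact D.el_mem _)
      rw [CfsgLib.Char.extendByZero_of_mem _ hm]
      show χ (dot3 l (Multiplicative.toAdd (co ⟨_, hm⟩))) = _
      congr 2
      have e : co ⟨_, hm⟩ = Multiplicative.ofAdd (D.W (π n) v) := by
        show D.φ.symm _ = _
        rw [MulEquiv.symm_apply_eq]
        exact Subtype.ext (congrArg Subtype.val (hπ n v) : _)
      rw [e, toAdd_ofAdd]
    have hJ'c : Nat.card J' = 27 := by
      rw [Nat.card_congr (Subgroup.subgroupOfEquivOfLe le_normalizer).toEquiv, D.card_J]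
    rw [CfsgLib.Char.indFun_def, hJ'c,
      Fintype.sum_equiv (Equiv.inv (normalizer (J : Set G)))
        (fun n => Cfsg.extendByZero J' (fun x => (lamU x : ℂ)) (n⁻¹ * D.el v * n))
        (fun n => χ (dot3 l (D.W (π n) v))) (fun n => by
          rw [← hterm (Equiv.inv _ n)]; simp),
      ← Finset.sum_fiberwise Finset.univ π]
    have hfib : ∀ s, ∑ n with π n = s, χ (dot3 l (D.W (π n) v)) =
        (27 : ℂ) * χ (dot3 l (D.W s v)) := fun s => by
      rw [Finset.sum_congr rfl (g := fun _ => χ (dot3 l (D.W s v)))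
        (fun n hn => by rw [(Finset.mem_filter.1 hn).2]), Finset.sum_const, hπc, nsmul_eq_mul]
      norm_num
    rw [Finset.sum_congr rfl fun s _ => hfib s, ← Finset.mul_sum]
    push_cast
    rw [inv_mul_cancel_left₀ (by norm_num : (27 : ℂ) ≠ 0),
      ← Finset.sum_fiberwise Finset.univ (fun s => dot3 l (D.W s v))]
    have hlev : ∀ r : ZMod 3, ∑ s with dot3 l (D.W s v) = r, χ (dot3 l (D.W s v)) =
        (levelCount D.W l v r : ℂ) * χ r := fun r => by
      rw [Finset.sum_congr rfl (g := fun _ => χ r)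
        (fun n hn => by rw [(Finset.mem_filter.1 hn).2]), Finset.sum_const, nsmul_eq_mul]
      rfl
    rw [Finset.sum_congr rfl fun r _ => hlev r]
    show ∑ r : Fin 3, _ = _
    rw [Fin.sum_univ_three]
    show (levelCount D.W l v 0 : ℂ) * χ 0 + (levelCount D.W l v 1 : ℂ) * χ 1 +
      (levelCount D.W l v 2 : ℂ) * χ 2 = _
    have hsum : (1 : ℂ) + ζ + ζ ^ 2 = 0 := by
      have h1 := hζ.geom_sum_eq_zero (by norm_num : 1 < 3)
      simpa [Finset.sum_range_succ] using h1
    have e1 : χ 1 = ζ := by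
      show ζ ^ (1 : ZMod 3).val = ζ
      rw [show (1 : ZMod 3).val = 1 from rfl, pow_one]
    have e2 : χ 2 = ζ ^ 2 := by
      show ζ ^ (2 : ZMod 3).val = ζ ^ 2
      rfl
    rw [AddChar.map_zero_eq_one, e1, e2, ← hsym v, tableVal]
    push_cast
    linear_combination (levelCount D.W l v 1 : ℂ) * hsum

/-- The tables bound `|G|`, and the normaliser is everything. -/
theorem TIThree.eq_top_of_table (h : TIThree J) (D : ExcCoord J w) {m : ℕ} (i₀ : Fin m)
    (L : Fin m → V3) (α β γ : Fin m → ℤ) (hα : ∑ i, α i = 0) (hβ : ∑ i, β i = 0)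
    (hγ : ∑ i, γ i = 0) (hsym : ∀ i v, levelCount D.W (L i) v 1 = levelCount D.W (L i) v 2)
    (hgram : ∀ i j, ∑ v, tableVal D.W (L i) v * tableVal D.W (L j) v =
      if i = j then 27 * (w : ℤ) else 0)
    (hdeg : ∀ i, tableVal D.W (L i) 0 = tableVal D.W (L i₀) 0)
    (hnd : ∀ v : V3, v ≠ 0 → testVal D.W L α v = 0 ∨ testVal D.W L β v = 0 ∨
      testVal D.W L γ (-v) = 0)
    (hcent : ∀ v : V3, v ≠ 0 → testVal D.W L γ v ≠ 0 →
      IsPGroup 3 (centralizer ({(D.φ (Multiplicative.ofAdd v) : G)} : Set G)))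
    (hR : ∑ u, testVal D.W L α u * ∑ v, testVal D.W L β v * testVal D.W L γ (u + v) =
      27 * 27 * (w : ℤ) * ∑ i, α i * β i * γ i)
    (hne : ∑ i, α i * β i * γ i ≠ 0) (hbig : 729 < 2 * (m * (27 * w))) :
    normalizer (J : Set G) = ⊤ := by
  classical
  haveI := Fintype.ofFinite (normalizer (J : Set G))
  choose θ hgen hsupp hval using fun i => D.exists_theta (L i) (hsym i)
  let tf : (Fin m → ℤ) → normalizer (J : Set G) → ℤ := fun a x =>
    if hx : (x : G) ∈ J then testVal D.W L a (Classical.choose (D.exists_el hx)) else 0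
  have htf : ∀ a x, (tf a x : ℂ) = ∑ i, (a i : ℂ) * θ i x := by
    intro a x
    by_cases hx : (x : G) ∈ J
    · simp only [tf, dif_pos hx, testVal]
      push_cast
      refine Finset.sum_congr rfl fun i _ => ?_
      rw [← hval i, Classical.choose_spec (D.exists_el hx)]
    · simp only [tf, dif_neg hx, Int.cast_zero]
      exact (Finset.sum_eq_zero fun i _ => by rw [hsupp i x hx, mul_zero]).symm
  have htfel : ∀ a v, tf a (D.el v) = testVal D.W L a v := fun a v => by
    simp only [tf, dif_pos (D.el_mem v)]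
    rw [D.el_inj (Classical.choose_spec (D.exists_el (D.el_mem v)))]
  have hNc := D.card_normalizer
  have hout : ∀ x : normalizer (J : Set G), x ∉ Set.range D.el → (x : G) ∉ J := fun x hx hJ =>
    hx (D.exists_el hJ)
  have hbound := h.index_bound i₀ θ hgen hsupp (fun i j => by
      rw [CfsgLib.Char.classInner_def, ← Fintype.sum_of_injective D.el D.el_inj
        (fun v => ((tableVal D.W (L i) v * tableVal D.W (L j) v : ℤ) : ℂ)) _
        (fun x hx => by rw [hsupp i x (hout x hx), zero_mul])
        (fun v => by rw [hval, hval, map_intCast]; push_cast; rfl), hNc, ← Int.cast_sum, hgram i j]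
      split_ifs with hij
      · push_cast
        have : (w : ℂ) ≠ 0 := by
          intro e
          rw [Nat.cast_eq_zero] at e
          simp [e] at hbig
        field_simp
      · simp)
    (fun i => by rw [← D.el_zero, hval, hval, hdeg i])
    α β γ hα hβ hγ (tf α) (tf β) (tf γ) (htf α) (htf β) (htf γ)
    (fun x hx hx1 => by
      obtain ⟨v, rfl⟩ := D.exists_el hx
      rw [htfel, htfel, ← D.el_neg, htfel]
      exact hnd v fun e => hx1 (by rw [e, D.el_zero]))
    (fun x hx hx1 hne0 => by
      obtain ⟨v, rfl⟩ := D.exists_el hx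
      rw [htfel] at hne0
      exact hcent v (fun e => hx1 (by rw [e, D.el_zero])) hne0)
    (by
      have hout0 : ∀ a x, x ∉ Set.range D.el → tf a x = 0 := fun a x hx => by
        simp only [tf, dif_neg (hout x hx)]
      rw [← Fintype.sum_of_injective D.el D.el_inj
        (fun u => testVal D.W L α u * ∑ v, testVal D.W L β v * testVal D.W L γ (u + v)) _
        (fun x hx => Finset.sum_eq_zero fun y _ => by rw [hout0 α x hx, zero_mul, zero_mul])
        (fun u => by
          rw [Finset.mul_sum]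
          refine Fintype.sum_of_injective D.el D.el_inj _ _
            (fun y hy => by rw [hout0 β y hy, mul_zero, zero_mul]) (fun v => ?_)
          rw [htfel, htfel, ← D.el_add, htfel]
          ring), hR, hNc, D.card_J]
      push_cast
      ring)
    hne
  rw [D.card_J] at hbound
  refine eq_top_of_card_eq _ ?_
  obtain ⟨k, hk⟩ := card_subgroup_dvd_card (normalizer (J : Set G))
  rw [hk, hNc] at hbound ⊢
  have hk0 : 0 < Nat.card G := Nat.card_pos
  rw [hk, hNc] at hk0
  rcases Nat.lt_or_ge k 2 with hk2 | hk2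
  · interval_cases k <;> simp_all
  · exfalso
    have : m * (w * 27 * 2) ≤ m * (w * 27 * k) := by gcongr
    linarith

end CfsgLib.Recog.LFourThree
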