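import Cfsg.Agent.Lib.Coprime.Generation
import Mathlib

/-!
# A trivial intersection set of exponent three: triangle triples

`J` is an abelian subgroup of exponent `3` such that an element taking a nontrivial element of `J`
into the normaliser of `J` lies in that normaliser. Two elements conjugate into `J` whose product
lies in `J` and has a `3`-group as centraliser are local, unless all three are equally fused.
-/

set_option autoImplicit false

namespace CfsgLib.Recog.LFourThree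

open Subgroup

variable {G : Type*} [Group G]

/-- An abelian subgroup of exponent three with trivial intersection in the strong sense. -/
structure TIThree (J : Subgroup G) : Prop where
  cube : ∀ x ∈ J, x ^ 3 = 1
  comm : ∀ x ∈ J, ∀ y ∈ J, x * y = y * x
  mem_norm : ∀ x ∈ J, x ≠ 1 → ∀ g : G, g * x * g⁻¹ ∈ normalizer (J : Set G) →
    g ∈ normalizer (J : Set G)

variable {J : Subgroup G}

theorem TIThree.conj_mem (h : TIThree J) {x g : G} (hx : x ∈ J) (hx1 : x ≠ 1)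
    (hg : g * x * g⁻¹ ∈ normalizer (J : Set G)) : g * x * g⁻¹ ∈ J :=
  (mem_normalizer_iff.1 (h.mem_norm x hx hx1 g hg) x).1 hx

/-- A `3`-group meeting `J` nontrivially lies in the normaliser. -/
theorem TIThree.le_norm [Finite G] (h : TIThree J) {P : Subgroup G} (hP : IsPGroup 3 P) {c : G}
    (hcP : c ∈ P) (hcJ : c ∈ J) (hc1 : c ≠ 1) : P ≤ normalizer (J : Set G) := by
  haveI : Fact (Nat.Prime 3) := ⟨Nat.prime_three⟩
  haveI := hP.isNilpotent
  by_contra hle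
  set K : Subgroup P := (normalizer (J : Set G)).subgroupOf P with hK
  have hlt : K < ⊤ := lt_top_iff_ne_top.2 fun e => hle (subgroupOf_eq_top.1 e)
  have hgr : K < normalizer (K : Set P) := Group.normalizerCondition_of_isNilpotent K hlt
  obtain ⟨p, hp, hpK⟩ := SetLike.exists_of_lt hgr
  have hcK : (⟨c, hcP⟩ : P) ∈ K := mem_subgroupOf.2 (le_normalizer hcJ)
  have h1 := mem_subgroupOf.1 ((mem_normalizer_iff.1 hp _).1 hcK)
  exact hpK (mem_subgroupOf.2 (h.mem_norm c hcJ hc1 p h1))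

theorem eq_or_of_mem_zpowers [Finite G] {c v : G} (hc : c ^ 3 = 1) (hv : v ∈ zpowers c) :
    v = 1 ∨ v = c ∨ v = c⁻¹ := by
  obtain ⟨n, hn⟩ := mem_powers_iff_mem_zpowers.2 hv
  have hn' : c ^ n = v := hn
  have hr : c ^ (n % 3) = v := by
    rw [← hn', ← Nat.mod_add_div n 3, pow_add, pow_mul, hc, one_pow, mul_one, Nat.mod_add_div]
  have : n % 3 < 3 := Nat.mod_lt _ (by norm_num)
  interval_cases h : n % 3
  · exact Or.inl (by rw [← hr, pow_zero])
  · exact Or.inr (Or.inl (by rw [← hr, pow_one]))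
  · exact Or.inr (Or.inr (by
      rw [← hr]; exact eq_inv_of_mul_eq_one_left (by rw [← pow_succ, hc])))

/-- An element of order prime to `3` in an abelian normalised subgroup conjugates an element of
order three to its translate. -/
theorem exists_conj_translate [Finite G] {B : Subgroup G} (hB : ∀ x ∈ B, ∀ y ∈ B, x * y = y * x)
    {π β : G} (hπ : ∀ x ∈ B, π * x * π⁻¹ ∈ B) (hπ3 : π ^ 3 = 1) (hβ : β ∈ B)
    (hcop : Nat.Coprime 3 (orderOf β)) (hβπ : (β * π) ^ 3 = 1) :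
    ∃ h ∈ B, h * (β * π) * h⁻¹ = π := by
  obtain ⟨k, hk⟩ : ∃ k : ℕ, (β ^ 3) ^ k = β := exists_pow_eq_self_of_coprime hcop
  set γ := π * β * π⁻¹ with hγdef
  have hγ : γ ∈ B := hπ β hβ
  set δ := π * γ * π⁻¹ with hδdef
  have hδ : δ ∈ B := hπ γ hγ
  have hcube : π * π * π = 1 := by simpa [pow_succ] using hπ3
  have hnorm : β * γ * δ = 1 := by
    have e : (β * π) ^ 3 = β * γ * δ * (π * π * π) := by
      rw [pow_succ, pow_two, hδdef, hγdef]; group
    rw [hβπ, hcube, mul_one] at e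
    exact e.symm
  refine ⟨((β ^ 2 * γ) ^ k)⁻¹, B.inv_mem (B.pow_mem (B.mul_mem (B.pow_mem hβ 2) hγ) k), ?_⟩
  have e1 : π * (β ^ 2 * γ) * π⁻¹ = γ ^ 2 * δ := by
    rw [show π * (β ^ 2 * γ) * π⁻¹ = (π * β ^ 2 * π⁻¹) * (π * γ * π⁻¹) by group, ← conj_pow]
  have e2 : β ^ 3 * (γ ^ 2 * δ) = β ^ 2 * γ := by
    have c1 : β * γ = γ * β := hB β hβ γ hγ
    calc β ^ 3 * (γ ^ 2 * δ) = β * β * (β * γ) * γ * δ := by simp only [pow_succ, pow_zero, one_mul]; group
      _ = β * β * (γ * β) * γ * δ := by rw [c1]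
      _ = β * β * γ * (β * γ * δ) := by group
      _ = β ^ 2 * γ := by rw [hnorm, mul_one, pow_two]
  have hc2 : Commute (β ^ 3) (γ ^ 2 * δ) := by
    refine hB _ (B.pow_mem hβ 3) _ (B.mul_mem (B.pow_mem hγ 2) hδ)
  have e3 : β * (π * (β ^ 2 * γ) ^ k * π⁻¹) = (β ^ 2 * γ) ^ k := by
    rw [← conj_pow, e1]
    conv_lhs => arg 1; rw [← hk]
    rw [← hc2.mul_pow, e2]
  calc ((β ^ 2 * γ) ^ k)⁻¹ * (β * π) * (((β ^ 2 * γ) ^ k)⁻¹)⁻¹
      = ((β ^ 2 * γ) ^ k)⁻¹ * (β * (π * (β ^ 2 * γ) ^ k * π⁻¹)) * π := by group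
    _ = π := by rw [e3, inv_mul_cancel, one_mul]

/-- The triangle triples are local. -/
theorem TIThree.triple_mem [Finite G] (h : TIThree J) {x y g k : G} (hx : x ∈ J) (hx1 : x ≠ 1)
    (hy : y ∈ J) (hy1 : y ≠ 1) (hc : g * x * g⁻¹ * (k * y * k⁻¹) ∈ J)
    (hc1 : g * x * g⁻¹ * (k * y * k⁻¹) ≠ 1)
    (hcent : IsPGroup 3 (centralizer ({g * x * g⁻¹ * (k * y * k⁻¹)} : Set G)))
    (hne : ¬ ((∃ n ∈ normalizer (J : Set G), n * x * n⁻¹ = (g * x * g⁻¹ * (k * y * k⁻¹))⁻¹) ∧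
      ∃ n ∈ normalizer (J : Set G), n * y * n⁻¹ = (g * x * g⁻¹ * (k * y * k⁻¹))⁻¹)) :
    g ∈ normalizer (J : Set G) ∧ k ∈ normalizer (J : Set G) := by
  classical
  haveI : Fact (Nat.Prime 3) := ⟨Nat.prime_three⟩
  set a := g * x * g⁻¹ with ha
  set b := k * y * k⁻¹ with hb
  set c := a * b with hcdef
  have ha3 : a ^ 3 = 1 := by rw [ha, conj_pow, h.cube x hx, mul_one, mul_inv_cancel]
  have hb3 : b ^ 3 = 1 := by rw [hb, conj_pow, h.cube y hy, mul_one, mul_inv_cancel]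
  have hc3 : c ^ 3 = 1 := h.cube c hc
  set d0 := a⁻¹ * b with hd0
  set d1 := b * a⁻¹ with hd1
  set d2 := a * b * a with hd2
  have ha' : a * a * a = 1 := by simpa [pow_succ] using ha3
  have hb' : b * b * b = 1 := by simpa [pow_succ] using hb3
  have hz : a * b * (a * b) * (a * b) = 1 := by simpa [pow_succ, hcdef] using hc3
  have hainv : a⁻¹ = a * a := inv_eq_of_mul_eq_one_right (by rw [← mul_assoc, ha'])
  have hbab : b * a * b = a⁻¹ * b⁻¹ * a⁻¹ := by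
    have e : (a * b * a) * (b * a * b) = 1 := by rw [← hz]; group
    rw [eq_inv_of_mul_eq_one_right e]
    group
  have hbinv : b⁻¹ = b * b := inv_eq_of_mul_eq_one_right (by rw [← mul_assoc, hb'])
  have hii : a⁻¹ * a⁻¹ = a := by
    rw [hainv, show a * a * (a * a) = a * a * a * a by group, ha', one_mul]
  have s0 : a * d0 * a⁻¹ = d1 := by rw [hd0, hd1]; group
  have s1 : a * d1 * a⁻¹ = d2 := by
    rw [hd1, hd2, show a * (b * a⁻¹) * a⁻¹ = a * b * (a⁻¹ * a⁻¹) by group, hii]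
  have hprod : d0 * d1 * d2 = 1 := by
    rw [hd0, hd1, hd2, show a⁻¹ * b * (b * a⁻¹) * (a * b * a) = a⁻¹ * (b * b * b) * a by group,
      hb']
    group
  have c01 : d0 * d1 = d1 * d0 := by
    rw [hd0, hd1, show a⁻¹ * b * (b * a⁻¹) = a⁻¹ * (b * b) * a⁻¹ by group, ← hbinv, ← hbab,
      show b * a⁻¹ * (a⁻¹ * b) = b * (a⁻¹ * a⁻¹) * b by group, hii]
  -- the abelian normal subgroup
  set A := closure ({d0, d1} : Set G) with hA
  have hAc : IsMulCommutative A := by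
    refine isMulCommutative_closure ?_
    intro u hu v hv
    simp only [Set.mem_insert_iff, Set.mem_singleton_iff] at hu hv
    rcases hu with rfl | rfl <;> rcases hv with rfl | rfl
    exacts [rfl, c01, c01.symm, rfl]
  have hcomm : ∀ u ∈ A, ∀ v ∈ A, u * v = v * u := fun u hu v hv =>
    congrArg Subtype.val (hAc.is_comm.comm ⟨u, hu⟩ ⟨v, hv⟩)
  have hd0A : d0 ∈ A := subset_closure (by simp)
  have hd1A : d1 ∈ A := subset_closure (by simp)
  have hd2A : d2 ∈ A := by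
    rw [eq_inv_of_mul_eq_one_right hprod]
    exact A.inv_mem (A.mul_mem hd0A hd1A)
  have hAa : ∀ u ∈ A, a * u * a⁻¹ ∈ A := by
    intro u hu
    have hle : A.map (MulAut.conj a).toMonoidHom ≤ A := by
      rw [hA, MonoidHom.map_closure, closure_le]
      rintro _ ⟨v, hv, rfl⟩
      simp only [Set.mem_insert_iff, Set.mem_singleton_iff] at hv
      rcases hv with rfl | rfl
      · show a * d0 * a⁻¹ ∈ A
        rw [s0]; exact hd1A
      · show a * d1 * a⁻¹ ∈ A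
        rw [s1]; exact hd2A
    exact hle ⟨u, hu, rfl⟩
  have hAb : ∀ u ∈ A, b * u * b⁻¹ ∈ A := by
    intro u hu
    have e : b = a * d0 := by rw [hd0]; group
    rw [e, show a * d0 * u * (a * d0)⁻¹ = a * (d0 * u * d0⁻¹) * a⁻¹ by group]
    exact hAa _ (A.mul_mem (A.mul_mem hd0A hu) (A.inv_mem hd0A))
  have hAc' : ∀ u ∈ A, c * u * c⁻¹ ∈ A := fun u hu => by
    rw [hcdef, show a * b * u * (a * b)⁻¹ = a * (b * u * b⁻¹) * a⁻¹ by group]
    exact hAa _ (hAb u hu)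
  have hAcinv : ∀ u ∈ A, c⁻¹ * u * c ∈ A := fun u hu => by
    have e : c⁻¹ = c * c := inv_eq_of_mul_eq_one_right (by rw [← mul_assoc]; simpa [pow_succ] using hc3)
    rw [show c⁻¹ * u * c = c⁻¹ * u * (c⁻¹)⁻¹ by group, e,
      show c * c * u * (c * c)⁻¹ = c * (c * u * c⁻¹) * c⁻¹ by group]
    exact hAc' _ (hAc' u hu)
  -- its two primary parts
  let A3 : Subgroup G :=
    { carrier := {u | u ∈ A ∧ ∃ n : ℕ, u ^ (3 ^ n) = 1}
      one_mem' := ⟨A.one_mem, 0, one_pow _⟩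
      mul_mem' := fun {u v} ⟨hu, n, hn⟩ ⟨hv, m, hm⟩ => ⟨A.mul_mem hu hv, n + m, by
        rw [Commute.mul_pow (hcomm u hu v hv), pow_add, pow_mul, hn, one_pow, one_mul, mul_comm,
          pow_mul, hm, one_pow]⟩
      inv_mem' := fun {u} ⟨hu, n, hn⟩ => ⟨A.inv_mem hu, n, by rw [inv_pow, hn, inv_one]⟩ }
  let B : Subgroup G :=
    { carrier := {u | u ∈ A ∧ Nat.Coprime 3 (orderOf u)}
      one_mem' := ⟨A.one_mem, by rw [orderOf_one]; exact Nat.coprime_one_right 3⟩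
      mul_mem' := fun {u v} ⟨hu, hu'⟩ ⟨hv, hv'⟩ => ⟨A.mul_mem hu hv,
        (Nat.Coprime.mul_right hu' hv').coprime_dvd_right
          ((Commute.orderOf_mul_dvd_lcm (hcomm u hu v hv)).trans (Nat.lcm_dvd_mul _ _))⟩
      inv_mem' := fun {u} ⟨hu, hu'⟩ => ⟨A.inv_mem hu, by rwa [orderOf_inv]⟩ }
  have hA3 : IsPGroup 3 A3 := fun u => by
    obtain ⟨-, n, hn⟩ := u.2
    exact ⟨n, Subtype.ext hn⟩
  have hord : ∀ t u : G, orderOf (t * u * t⁻¹) = orderOf u := fun t u =>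
    orderOf_injective (MulAut.conj t).toMonoidHom (MulAut.conj t).injective u
  have hBconj : ∀ t : G, (∀ u ∈ A, t * u * t⁻¹ ∈ A) → ∀ u ∈ B, t * u * t⁻¹ ∈ B :=
    fun t ht u ⟨hu, hu'⟩ => ⟨ht u hu, by rwa [hord]⟩
  have hA3conj : ∀ t : G, (∀ u ∈ A, t * u * t⁻¹ ∈ A) → ∀ u ∈ A3, t * u * t⁻¹ ∈ A3 :=
    fun t ht u ⟨hu, n, hn⟩ => ⟨ht u hu, n, by rw [conj_pow, hn, mul_one, mul_inv_cancel]⟩
  have hBA : ∀ u ∈ A, ∀ v ∈ B, u * v * u⁻¹ ∈ B := fun u hu => hBconj u fun v hv =>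
    A.mul_mem (A.mul_mem hu hv) (A.inv_mem hu)
  have hBcomm : ∀ u ∈ B, ∀ v ∈ B, u * v = v * u := fun u hu v hv => hcomm u hu.1 v hv.1
  have hsplit : ∀ u ∈ A, ∃ p ∈ A3, ∃ q ∈ B, u = q * p := by
    intro u hu
    obtain ⟨n, r, hr, hnr⟩ := Nat.exists_eq_pow_mul_and_not_dvd (orderOf_pos u).ne' 3 (by norm_num)
    have hco : IsCoprime ((3 ^ n : ℕ) : ℤ) (r : ℤ) := Nat.isCoprime_iff_coprime.2
      (Nat.Coprime.pow_left n (Nat.prime_three.coprime_iff_not_dvd.2 hr))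
    obtain ⟨s, t, hst⟩ := hco
    refine ⟨u ^ (t * (r : ℤ)), ⟨A.zpow_mem hu _, n, ?_⟩, u ^ (s * ((3 ^ n : ℕ) : ℤ)),
      ⟨A.zpow_mem hu _, ?_⟩, ?_⟩
    · rw [← zpow_natCast (u ^ (t * (r : ℤ))), ← zpow_mul,
        show t * (r : ℤ) * ((3 ^ n : ℕ) : ℤ) = (orderOf u : ℤ) * t by rw [hnr]; push_cast; ring,
        zpow_mul, zpow_natCast, pow_orderOf_eq_one, one_zpow]
    · refine (Nat.prime_three.coprime_iff_not_dvd.2 hr).coprime_dvd_right ?_
      refine orderOf_dvd_of_pow_eq_one ?_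
      rw [← zpow_natCast (u ^ (s * ((3 ^ n : ℕ) : ℤ))), ← zpow_mul,
        show s * ((3 ^ n : ℕ) : ℤ) * (r : ℤ) = (orderOf u : ℤ) * s by rw [hnr]; push_cast; ring,
        zpow_mul, zpow_natCast, pow_orderOf_eq_one, one_zpow]
    · rw [← zpow_add, hst, zpow_one]
  have hBinf : ∀ u ∈ B, u ^ 3 = 1 → u = 1 := fun u hu h3 => orderOf_eq_one_iff.1
    (Nat.eq_one_of_dvd_coprimes hu.2 (orderOf_dvd_of_pow_eq_one h3) dvd_rfl)
  -- the `3`-group
  set P := A3 ⊔ zpowers c with hP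
  have hzc : IsPGroup 3 (zpowers c) := by
    intro v
    obtain ⟨i, hi⟩ := mem_zpowers_iff.1 v.2
    refine ⟨1, Subtype.ext ?_⟩
    show (v : G) ^ 3 ^ 1 = 1
    rw [pow_one, ← hi, ← zpow_natCast, ← zpow_mul, mul_comm, zpow_mul, zpow_natCast, hc3, one_zpow]
  have hcA3 : zpowers c ≤ normalizer (A3 : Set G) := zpowers_le.2 (mem_normalizer_iff.2 fun u =>
    ⟨hA3conj c hAc' u, fun hu => by
      have := hA3conj c⁻¹ (fun v hv => by rw [inv_inv]; exact hAcinv v hv) _ hu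
      simpa [mul_assoc] using this⟩)
  have hPp : IsPGroup 3 P := hA3.to_sup_of_normal_left' hzc hcA3
  have hcP : c ∈ P := mem_sup_right (mem_zpowers c)
  have hPN : P ≤ normalizer (J : Set G) := h.le_norm hPp hcP hc hc1
  have hPB : ∀ u ∈ P, u ∈ B → u = 1 := fun u hu hu' => by
    obtain ⟨n, hn⟩ := hPp ⟨u, hu⟩
    exact orderOf_eq_one_iff.1 (Nat.eq_one_of_dvd_coprimes (Nat.Coprime.pow_left n hu'.2)
      (orderOf_dvd_of_pow_eq_one (congrArg Subtype.val hn)) dvd_rfl)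
  have hPconj : ∀ t ∈ P, ∀ u ∈ B, t * u * t⁻¹ ∈ B := by
    intro t ht
    have hle : P ≤ normalizer (B : Set G) := by
      refine sup_le (fun v hv => mem_normalizer_iff.2 fun u => ⟨fun hu => hBA v hv.1 u hu,
        fun hu => ?_⟩) (zpowers_le.2 (mem_normalizer_iff.2 fun u => ⟨hBconj c hAc' u, fun hu => ?_⟩))
      · have := hBA v⁻¹ (A.inv_mem hv.1) _ hu
        simpa [mul_assoc] using this
      · have := hBconj c⁻¹ (fun v hv => by rw [inv_inv]; exact hAcinv v hv) _ hu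
        simpa [mul_assoc] using this
    exact fun u hu => (mem_normalizer_iff.1 (hle ht) u).1 hu
  -- the representatives
  obtain ⟨p, hp, β, hβ, hβp⟩ := hsplit d0 hd0A
  set π := p * c⁻¹ with hπ
  have hπP : π ∈ P := P.mul_mem (mem_sup_left hp) (P.inv_mem hcP)
  have haπ : a = β * π := by
    rw [hπ, ← mul_assoc, ← hβp, hd0, hcdef,
      show a⁻¹ * b * (a * b)⁻¹ = a⁻¹ * a⁻¹ by group, hii]
  have hπB := hPconj π hπP
  have hπ3 : π ^ 3 = 1 := by
    refine hPB _ (P.pow_mem hπP 3) ?_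
    have e' : β * (π * β * π⁻¹) * (π ^ 2 * β * (π ^ 2)⁻¹) * π ^ 3 = 1 := by
      rw [← ha3, haπ]; simp only [pow_succ, pow_zero, one_mul]; group
    rw [eq_inv_of_mul_eq_one_right e']
    exact B.inv_mem (B.mul_mem (B.mul_mem hβ (hπB β hβ)) (hPconj _ (P.pow_mem hπP 2) β hβ))
  obtain ⟨u, hu, hconj⟩ := exists_conj_translate hBcomm hπB hπ3 hβ hβ.2 (haπ ▸ ha3)
  rw [← haπ] at hconj
  set π' := π⁻¹ * c with hπ'
  have hπ'P : π' ∈ P := P.mul_mem (P.inv_mem hπP) hcP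
  set β' := π⁻¹ * β⁻¹ * π with hβ'def
  have hβ' : β' ∈ B := by
    have := hPconj π⁻¹ (P.inv_mem hπP) β⁻¹ (B.inv_mem hβ)
    rwa [inv_inv] at this
  have hbπ : b = β' * π' := by
    rw [hβ'def, hπ', show π⁻¹ * β⁻¹ * π * (π⁻¹ * c) = (β * π)⁻¹ * c by group, ← haπ, hcdef]
    group
  have hπ'3 : π' ^ 3 = 1 := by
    refine hPB _ (P.pow_mem hπ'P 3) ?_
    have e' : β' * (π' * β' * π'⁻¹) * (π' ^ 2 * β' * (π' ^ 2)⁻¹) * π' ^ 3 = 1 := by
      rw [← hb3, hbπ]; simp only [pow_succ, pow_zero, one_mul]; group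
    rw [eq_inv_of_mul_eq_one_right e']
    exact B.inv_mem (B.mul_mem (B.mul_mem hβ' (hPconj _ hπ'P β' hβ'))
      (hPconj _ (P.pow_mem hπ'P 2) β' hβ'))
  obtain ⟨v, hv, hconj'⟩ :=
    exists_conj_translate hBcomm (hPconj π' hπ'P) hπ'3 hβ' hβ'.2 (hbπ ▸ hb3)
  rw [← hbπ] at hconj'
  have hug : u * g * x * (u * g)⁻¹ = π := by rw [← hconj, ha]; group
  have hvk : v * k * y * (v * k)⁻¹ = π' := by rw [← hconj', hb]; group
  have hugN : u * g ∈ normalizer (J : Set G) := h.mem_norm x hx hx1 _ (hug ▸ hPN hπP)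
  have hvkN : v * k ∈ normalizer (J : Set G) := h.mem_norm y hy hy1 _ (hvk ▸ hPN hπ'P)
  have hπJ : π ∈ J := hug ▸ (mem_normalizer_iff.1 hugN x).1 hx
  have hπ'J : π' ∈ J := hvk ▸ (mem_normalizer_iff.1 hvkN y).1 hy
  have hπ1 : π ≠ 1 := by rw [← hug]; exact fun e => hx1 (conj_eq_one_iff.1 e)
  have hπ'1 : π' ≠ 1 := by rw [← hvk]; exact fun e => hy1 (conj_eq_one_iff.1 e)
  by_cases hcyc : π ∈ zpowers c
  · rcases eq_or_of_mem_zpowers hc3 hcyc with e | e | e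
    · exact absurd e hπ1
    · exact absurd (by rw [hπ', e, inv_mul_cancel]) hπ'1
    · refine absurd ⟨⟨u * g, hugN, hug.trans e⟩, ⟨v * k, hvkN, hvk.trans ?_⟩⟩ hne
      rw [hπ', e, inv_inv, eq_inv_iff_mul_eq_one]
      simpa [pow_succ] using hc3
  -- the noncyclic case
  set V := closure ({π, c} : Set G) with hV
  have hVJ : V ≤ J := by
    rw [hV, closure_le]
    intro w hw
    rcases hw with rfl | rfl
    exacts [hπJ, hc]
  have hVc : IsMulCommutative V :=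
    ⟨⟨fun s t => Subtype.ext (h.comm _ (hVJ s.2) _ (hVJ t.2))⟩⟩
  have hVP : V ≤ P := by
    rw [hV, closure_le]
    intro w hw
    rcases hw with rfl | rfl
    exacts [hπP, hcP]
  have hnc : ¬ IsCyclic V := by
    intro hcy
    obtain ⟨⟨w, hw⟩, hgen⟩ := hcy.exists_generator
    have hw3 : w ^ 3 = 1 := h.cube w (hVJ hw)
    obtain ⟨i, hi⟩ := mem_zpowers_iff.1 (hgen ⟨c, subset_closure (by simp)⟩)
    obtain ⟨j, hj⟩ := mem_zpowers_iff.1 (hgen ⟨π, subset_closure (by simp)⟩)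
    replace hi : w ^ i = c := congrArg Subtype.val hi
    replace hj : w ^ j = π := congrArg Subtype.val hj
    have hwc : w ∈ zpowers c := by
      rcases eq_or_of_mem_zpowers hw3 (mem_zpowers_iff.2 ⟨i, hi⟩) with e | e | e
      · exact absurd e hc1
      · exact e ▸ mem_zpowers _
      · rw [e, zpowers_inv]; exact mem_zpowers _
    exact hcyc (hj ▸ zpow_mem hwc j)
  have hVB : V ≤ normalizer (B : Set G) := fun w hw => mem_normalizer_iff.2 fun s =>
    ⟨hPconj w (hVP hw) s, fun hs => by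
      have := hPconj w⁻¹ (P.inv_mem (hVP hw)) _ hs
      simpa [mul_assoc] using this⟩
  have hcopV : (Nat.card V).Coprime (Nat.card B) := by
    obtain ⟨n, hn⟩ := (hPp.to_le hVP).exists_card_eq
    rw [hn]
    refine Nat.Coprime.pow_left n ((Nat.prime_three.coprime_iff_not_dvd).2 fun hd => ?_)
    obtain ⟨s, hs⟩ := exists_prime_orderOf_dvd_card' 3 hd
    exact (Nat.prime_three.coprime_iff_not_dvd.1 s.2.2) (by rw [orderOf_coe, hs])
  have hB1 : B = ⊥ := by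
    rw [eq_bot_iff, ← CfsgLib.Coprime.iSup_centralizer_eq hVc hnc hVB hcopV]
    refine iSup_le fun w => ?_
    intro s hs
    obtain ⟨hsB, hsw⟩ := mem_inf.1 hs
    have hsN : s ∈ normalizer (J : Set G) := h.mem_norm w (hVJ w.2.1) w.2.2 s (by
      rw [← mem_centralizer_singleton_iff.1 hsw |>.symm]
      simpa using le_normalizer (hVJ w.2.1))
    have hcs : c * s * c⁻¹ * s⁻¹ ∈ B := B.mul_mem (hBconj c hAc' s hsB) (B.inv_mem hsB)
    have hcsJ : c * s * c⁻¹ * s⁻¹ ∈ J := by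
      rw [show c * s * c⁻¹ * s⁻¹ = c * (s * c⁻¹ * s⁻¹) by group]
      exact J.mul_mem hc ((mem_normalizer_iff.1 hsN _).1 (J.inv_mem hc))
    have he := hBinf _ hcs (h.cube _ hcsJ)
    have hsC : s ∈ centralizer ({c} : Set G) := by
      rw [mem_centralizer_singleton_iff]
      calc s * c = (c * s * c⁻¹ * s⁻¹)⁻¹ * (c * s) := by group
        _ = c * s := by rw [he, inv_one, one_mul]
    obtain ⟨n, hn⟩ := hcent ⟨s, hsC⟩
    exact mem_bot.2 (orderOf_eq_one_iff.1 (Nat.eq_one_of_dvd_coprimes (Nat.Coprime.pow_left n hsB.2)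
      (orderOf_dvd_of_pow_eq_one (congrArg Subtype.val hn)) dvd_rfl))
  have hu1 : u = 1 := by rw [hB1] at hu; exact mem_bot.1 hu
  have hv1 : v = 1 := by rw [hB1] at hv; exact mem_bot.1 hv
  rw [hu1, one_mul] at hugN
  rw [hv1, one_mul] at hvkN
  exact ⟨hugN, hvkN⟩

end CfsgLib.Recog.LFourThree
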