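import Cfsg.Agent.Lib.Recog.LFourThree.LocalDualModel

/-!
Model facts for the fusion in the Sylow group of the common subgroup.
-/

set_option autoImplicit false

namespace CfsgLib.Recog.LFourThree

open Matrix

/-- an element of the Sylow group from coordinates -/
def sP (p : ZMod 3 × ZMod 3 × ZMod 3 × ZMod 3 × ZMod 3 × ZMod 3) : Pm := ⟨mkS p, mkS_mem p⟩

theorem sP_eq (p) : sP p = (equivS p).1 := rfl

theorem sP_injective : Function.Injective sP := fun _ _ h =>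
  equivS.injective (Subtype.ext h)

theorem exists_sP {x : Pm} (hx : x ∈ Sm) : ∃ p, x = sP p := by
  obtain ⟨p, hp⟩ := equivS.surjective ⟨x, hx⟩
  exact ⟨p, (congrArg Subtype.val hp).symm⟩

theorem sP_coe (p : ZMod 3 × ZMod 3 × ZMod 3 × ZMod 3 × ZMod 3 × ZMod 3) :
    (sP p).1.1 = !![1, p.1, p.2.1, p.2.2.1; 0, 1, p.2.2.2.1, p.2.2.2.2.1;
      0, 0, 1, p.2.2.2.2.2; 0, 0, 0, 1] := rfl

theorem sP_mul (a b c d e f a' b' c' d' e' f' : ZMod 3) :
    sP (a, b, c, d, e, f) * sP (a', b', c', d', e', f') =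
      sP (a + a', b + b' + a * d', c + c' + a * e' + b * f', d + d', e + e' + d * f', f + f') := by
  refine Subtype.ext (Subtype.ext ?_)
  show (sP (a, b, c, d, e, f)).1.1 * (sP (a', b', c', d', e', f')).1.1 = _
  rw [sP_coe, sP_coe, sP_coe]
  ext i j
  fin_cases i <;> fin_cases j <;>
    simp [Matrix.mul_apply, Fin.sum_univ_four] <;> ring

theorem sP_mem_Sm (p) : sP p ∈ Sm := (equivS p).2

theorem sP_mem_Cm (p) : sP p ∈ Cm := mem_Cm.2 (mem_Pd.2 fun j => by fin_cases j <;> rfl)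

theorem sP_Qm {a b c e f : ZMod 3} : sP (a, b, c, 0, e, f) ∈ Qm := by
  refine mem_Qm.2 ⟨sP_mem_Cm _, ?_⟩
  ext i j
  fin_cases i <;> fin_cases j <;> rfl

theorem mem_Mm_sP {a b c d e f : ZMod 3} : sP (a, b, c, d, e, f) ∈ Mm ↔ a = 0 ∧ f = 0 := by
  rw [Mm, Subgroup.mem_subgroupOf, mem_patGroup]
  constructor
  · intro h
    exact ⟨h 0 1 rfl, h 2 3 rfl⟩
  · rintro ⟨rfl, rfl⟩ i j h
    show (sP (0, b, c, d, e, 0)).1.1 i j = _
    rw [sP_coe]
    fin_cases i <;> fin_cases j <;> simp_all [patM]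

theorem Mm_le_Sm : Mm ≤ Sm := fun g hg => by
  have h := mem_patGroup.1 (Subgroup.mem_subgroupOf.1 hg)
  refine Subgroup.mem_subgroupOf.2 (mem_patGroup.2 fun i j hij => h i j ?_)
  revert hij
  revert i j
  decide

theorem exists_Mm {x : Pm} (hx : x ∈ Mm) : ∃ b c d e, x = sP (0, b, c, d, e, 0) := by
  obtain ⟨⟨a, b, c, d, e, f⟩, rfl⟩ := exists_sP (Mm_le_Sm hx)
  obtain ⟨rfl, rfl⟩ := mem_Mm_sP.1 hx
  exact ⟨b, c, d, e, rfl⟩

theorem Mm_commute {x y : Pm} (hx : x ∈ Mm) (hy : y ∈ Mm) : x * y = y * x := by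
  obtain ⟨b, c, d, e, rfl⟩ := exists_Mm hx
  obtain ⟨b', c', d', e', rfl⟩ := exists_Mm hy
  rw [sP_mul, sP_mul]
  simp [add_comm]

theorem card_Mm : Nat.card Mm = 81 := by
  let g : ZMod 3 × ZMod 3 × ZMod 3 × ZMod 3 → Mm := fun q =>
    ⟨sP (0, q.1, q.2.1, q.2.2.1, q.2.2.2, 0), mem_Mm_sP.2 ⟨rfl, rfl⟩⟩
  have hg : Function.Bijective g := by
    refine ⟨fun a b h => ?_, fun x => ?_⟩
    · have := sP_injective (congrArg Subtype.val h)
      simp only [Prod.mk.injEq] at this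
      obtain ⟨a1, a2, a3, a4⟩ := a
      obtain ⟨b1, b2, b3, b4⟩ := b
      simpa using this
    · obtain ⟨b, c, d, e, hx⟩ := exists_Mm x.2
      exact ⟨(b, c, d, e), Subtype.ext hx.symm⟩
  rw [← Nat.card_eq_of_bijective g hg]
  simp

/-- What centralises an element outside `Mm`. -/
theorem comm_M {a b c d e f b' c' d' e' : ZMod 3} (h : ¬(a = 0 ∧ f = 0))
    (hc : sP (a, b, c, d, e, f) * sP (0, b', c', d', e', 0) =
      sP (0, b', c', d', e', 0) * sP (a, b, c, d, e, f)) :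
    d' = 0 ∧ a * e' = b' * f := by
  rw [sP_mul, sP_mul] at hc
  have h1 := sP_injective hc
  simp only [Prod.mk.injEq] at h1
  obtain ⟨-, h2, h3, -, h5, -⟩ := h1
  have e2 : a * d' = 0 := by linear_combination h2
  have e5 : d' * f = 0 := by linear_combination -h5
  refine ⟨?_, by linear_combination h3⟩
  by_contra hd
  exact h ⟨(mul_eq_zero.1 e2).resolve_right hd, (mul_eq_zero.1 e5).resolve_left hd⟩

/-- The first coordinate and the last. -/
def outM : Sm →* Multiplicative (ZMod 3 × ZMod 3) :=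
  MonoidHom.mk' (fun x => Multiplicative.ofAdd (x.1.1.1 0 1, x.1.1.1 2 3)) fun x y => by
    obtain ⟨⟨a, b, c, d, e, f⟩, hx⟩ := exists_sP x.2
    obtain ⟨⟨a', b', c', d', e', f'⟩, hy⟩ := exists_sP y.2
    rw [Subgroup.coe_mul, hx, hy, sP_mul]
    rfl

/-- The abelian subgroups of order `81` of the Sylow group. -/
theorem abelian_unique (A : Subgroup Pm) (hAS : A ≤ Sm) (hab : ∀ a ∈ A, ∀ b ∈ A, a * b = b * a)
    (hcard : Nat.card A = 81) : A = Mm := by
  suffices hle : A ≤ Mm from Subgroup.eq_of_le_of_card_ge hle (by rw [hcard, card_Mm])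
  intro x hxA
  obtain ⟨⟨a, b, c, d, e, f⟩, rfl⟩ := exists_sP (hAS hxA)
  rw [mem_Mm_sP]
  by_contra hne
  let φ : A →* Multiplicative (ZMod 3 × ZMod 3) := outM.comp (Subgroup.inclusion hAS)
  have hker : ∀ y : φ.ker, ∃ b' c' d' e', y.1.1 = sP (0, b', c', d', e', 0) := by
    intro y
    obtain ⟨⟨a', b', c', d', e', f'⟩, hy⟩ := exists_sP (hAS y.1.2)
    have h : (y.1.1.1.1 0 1, y.1.1.1.1 2 3) = ((0 : ZMod 3), (0 : ZMod 3)) :=
      Multiplicative.ofAdd.injective (MonoidHom.mem_ker.1 y.2)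
    rw [hy] at h
    simp only [Prod.mk.injEq] at h
    obtain ⟨rfl, rfl⟩ : a' = 0 ∧ f' = 0 := h
    exact ⟨b', c', d', e', hy⟩
  choose B C Dd E hy using hker
  have hfix : ∀ y : φ.ker, Dd y = 0 ∧ a * E y = B y * f := fun y =>
    comm_M hne (by rw [← hy]; exact hab _ hxA _ y.1.2)
  have hrel : ∀ u v w z : ZMod 3, ¬(u = 0 ∧ v = 0) → u * w = z * v →
      w = (if u = 0 then w else z * v * u) ∧ z = (if u = 0 then 0 else z) := by decide
  have h9 : Nat.card φ.ker ≤ 9 := by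
    let g : φ.ker → ZMod 3 × ZMod 3 := fun y => (C y, if a = 0 then E y else B y)
    have hg : Function.Injective g := by
      intro y y' h
      simp only [g, Prod.mk.injEq] at h
      obtain ⟨e1, e2⟩ := hfix y
      obtain ⟨e1', e2'⟩ := hfix y'
      obtain ⟨r1, r2⟩ := hrel a f _ _ hne e2
      obtain ⟨r1', r2'⟩ := hrel a f _ _ hne e2'
      refine Subtype.ext (Subtype.ext ?_)
      rw [hy, hy, h.1, e1, e1', r1, r2, r1', r2']
      by_cases ha : a = 0
      · simp only [ha, if_true] at h ⊢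
        rw [h.2]
      · simp only [ha, if_false] at h ⊢
        rw [h.2]
    have := Nat.card_le_card_of_injective g hg
    simpa using this
  have hM := Subgroup.card_mul_index φ.ker
  rw [Subgroup.index_ker, hcard] at hM
  have hrange : Nat.card φ.range ≤ 9 := by
    refine (Subgroup.card_le_card_group _).trans ?_
    simp
  have htop : φ.range = ⊤ := by
    refine Subgroup.eq_top_of_card_eq _ ?_
    rw [show Nat.card (Multiplicative (ZMod 3 × ZMod 3)) = 9 by simp]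
    revert hM h9 hrange
    generalize Nat.card φ.ker = u
    generalize Nat.card φ.range = v
    intro hM h9 hv
    interval_cases u <;> omega
  have h3 : Nat.card φ.ker ≤ 3 := by
    obtain ⟨y₁, hy₁⟩ : Multiplicative.ofAdd ((1 : ZMod 3), (0 : ZMod 3)) ∈ φ.range := by
      rw [htop]; trivial
    obtain ⟨y₂, hy₂⟩ : Multiplicative.ofAdd ((0 : ZMod 3), (1 : ZMod 3)) ∈ φ.range := by
      rw [htop]; trivial
    obtain ⟨⟨a₁, b₁, c₁, d₁, e₁, f₁⟩, hp₁⟩ := exists_sP (hAS y₁.2)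
    obtain ⟨⟨a₂, b₂, c₂, d₂, e₂, f₂⟩, hp₂⟩ := exists_sP (hAS y₂.2)
    have h₁ : (y₁.1.1.1 0 1, y₁.1.1.1 2 3) = ((1 : ZMod 3), (0 : ZMod 3)) :=
      Multiplicative.ofAdd.injective hy₁
    have h₂ : (y₂.1.1.1 0 1, y₂.1.1.1 2 3) = ((0 : ZMod 3), (1 : ZMod 3)) :=
      Multiplicative.ofAdd.injective hy₂
    rw [hp₁] at h₁
    rw [hp₂] at h₂
    simp only [Prod.mk.injEq] at h₁ h₂
    obtain ⟨rfl, rfl⟩ : a₁ = 1 ∧ f₁ = 0 := h₁
    obtain ⟨rfl, rfl⟩ : a₂ = 0 ∧ f₂ = 1 := h₂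
    let g : φ.ker → ZMod 3 := C
    have hg : Function.Injective g := by
      intro y y' h
      have q₁ : ∀ y : φ.ker, Dd y = 0 ∧ (1 : ZMod 3) * E y = B y * 0 := fun y =>
        comm_M (by simp) (by rw [← hy, ← hp₁]; exact hab _ y₁.2 _ y.1.2)
      have q₂ : ∀ y : φ.ker, Dd y = 0 ∧ (0 : ZMod 3) * E y = B y * 1 := fun y =>
        comm_M (by simp) (by rw [← hy, ← hp₂]; exact hab _ y₂.2 _ y.1.2)
      obtain ⟨d0, e0⟩ := q₁ y
      obtain ⟨d0', e0'⟩ := q₁ y'
      obtain ⟨-, b0⟩ := q₂ y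
      obtain ⟨-, b0'⟩ := q₂ y'
      simp only [one_mul, mul_zero, zero_mul, mul_one] at e0 e0' b0 b0'
      refine Subtype.ext (Subtype.ext ?_)
      rw [hy, hy, show C y = C y' from h, d0, d0', e0, e0', ← b0, ← b0']
    have := Nat.card_le_card_of_injective g hg
    simpa using this
  nlinarith

theorem sq_one : ∀ d : ZMod 3, d ≠ 0 → d * d = 1 := by decide

/-- Conjugation into the Sylow group. -/
theorem sl_three_conj : ∀ B : SL2, B * B * B = 1 →
    ∃ P : SL2, (P * B * P⁻¹).1 1 0 = 0 ∧ (P * B * P⁻¹).1 0 0 = 1 ∧ (P * B * P⁻¹).1 1 1 = 1 := by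
  decide +kernel

/-- A `3`-element of the common subgroup is conjugate into the Sylow group. -/
theorem exists_conj_Sm {x : Pm} (hx : x ∈ Cm) (h3 : x ^ 3 = 1) :
    ∃ c ∈ Cm, c * x * c⁻¹ ∈ Sm := by
  have h1 : midM x * midM x * midM x = 1 := by
    rw [← midM_mul _ _ hx, ← midM_mul _ _ hx]
    rw [pow_succ, pow_two] at h3
    rw [h3]
    ext i j
    fin_cases i <;> fin_cases j <;> rfl
  have hdet : (midM x).det = 1 := by
    have h := congrArg Matrix.det h1
    rw [Matrix.det_mul, Matrix.det_mul, Matrix.det_one] at h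
    revert h
    generalize (midM x).det = t
    revert t
    decide
  obtain ⟨P, hP10, hP00, hP11⟩ := sl_three_conj ⟨midM x, hdet⟩
    (Subtype.ext h1)
  have hmid : ∀ B : SL2, midM (blk B).1 = B.1 := fun B => by
    ext i j
    fin_cases i <;> fin_cases j <;> rfl
  let bl : SL2 →* Cm := MonoidHom.mk' blk blk_mul
  have hinv : ((blk P).1)⁻¹ = (blk P⁻¹).1 := (congrArg Subtype.val (map_inv bl P)).symm
  refine ⟨(blk P).1, (blk P).2, ?_⟩
  set r := (blk P).1 * x * ((blk P).1)⁻¹ with hr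
  have hrC : r ∈ Cm := Cm.mul_mem (Cm.mul_mem (blk P).2 hx) (Cm.inv_mem (blk P).2)
  have hm : midM r = (P * ⟨midM x, hdet⟩ * P⁻¹).1 := by
    rw [hr, hinv, midM_mul _ _ (blk P⁻¹).2, midM_mul _ _ hx, hmid, hmid]
    rfl
  clear_value r
  rw [← hm] at hP10 hP00 hP11
  have h0 := mem_Pm.1 r.2
  have h3' := mem_Pd.1 (mem_Cm.1 hrC)
  refine Subgroup.mem_subgroupOf.2 (mem_patGroup.2 fun i j h => ?_)
  fin_cases i <;> fin_cases j <;> simp_all [patS, midM]

theorem cube_coords {a b c d e f : ZMod 3} (h : sP (a, b, c, d, e, f) ^ 3 = 1) :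
    a * d * f = 0 := by
  rw [pow_succ, pow_two, sP_mul, sP_mul,
    show (1 : Pm) = sP (0, 0, 0, 0, 0, 0) by decide +kernel] at h
  have h1 := sP_injective h
  simp only [Prod.mk.injEq] at h1
  obtain ⟨-, -, h3, -, -, -⟩ := h1
  have e3 : (3 : ZMod 3) = 0 := by decide
  linear_combination h3 - (c + a * e + b * f) * e3

/-- Normal forms of the elements outside `Qm`. -/
theorem normal_form {a b c d e f : ZMod 3} (hd : d ≠ 0) (h : a * d * f = 0) :
    ∃ q ∈ Cm, ∃ c', (∃ b', q * sP (a, b, c, d, e, f) * q⁻¹ = sP (a, b', c', d, 0, 0)) ∨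
      (f ≠ 0 ∧ q * sP (a, b, c, d, e, f) * q⁻¹ = sP (0, 0, c', d, 0, f)) := by
  have hd2 : d * d = 1 := sq_one d hd
  have hmove : ∀ s t : ZMod 3, sP (s, 0, 0, 0, 0, t) * sP (a, b, c, d, e, f) =
      sP (a, b + s * d, c + s * e - (b + s * d) * t, d, e - t * d, f) * sP (s, 0, 0, 0, 0, t) := by
    intro s t
    rw [sP_mul, sP_mul]
    congr 1
    simp only [Prod.mk.injEq]
    refine ⟨?_, ?_, ?_, ?_, ?_, ?_⟩ <;> ring
  have h1 : e - (e * d) * d = 0 := by linear_combination (-e) * hd2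
  rcases mul_eq_zero.1 h with hh | hf
  · have ha : a = 0 := (mul_eq_zero.1 hh).resolve_right hd
    subst ha
    by_cases hf : f = 0
    · subst hf
      refine ⟨sP (0, 0, 0, 0, 0, e * d), sP_mem_Cm _, c - b * (e * d), Or.inl ⟨b, ?_⟩⟩
      rw [hmove, mul_inv_cancel_right, h1]
      refine congrArg sP ?_
      simp only [Prod.mk.injEq]
      and_intros <;> (first | trivial | ring1)
    · refine ⟨sP (-(b * d), 0, 0, 0, 0, e * d), sP_mem_Cm _, c + -(b * d) * e, Or.inr ⟨hf, ?_⟩⟩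
      rw [hmove, mul_inv_cancel_right, h1]
      have h2 : b + -(b * d) * d = 0 := by linear_combination (-b) * hd2
      refine congrArg sP ?_
      simp only [h2, Prod.mk.injEq]
      and_intros <;> (first | trivial | ring1)
  · subst hf
    refine ⟨sP (0, 0, 0, 0, 0, e * d), sP_mem_Cm _, c - b * (e * d), Or.inl ⟨b, ?_⟩⟩
    rw [hmove, mul_inv_cancel_right, h1]
    refine congrArg sP ?_
    simp only [Prod.mk.injEq]
    and_intros <;> (first | trivial | ring1)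

theorem near_y : ∀ a b c d : ZMod 3, n23 * n23 * n23 * sP (a, b, c, d, 0, 0) * n23 ∈ Qm := by
  decide +kernel

theorem Em_coords {a b c d e f : ZMod 3} (h : sP (a, b, c, d, e, f) ∈ Em) :
    d = 0 ∧ e = 0 ∧ f = 0 := by
  have h' := mem_patGroup.1 (Subgroup.mem_subgroupOf.1 h)
  exact ⟨h' 1 2 rfl, h' 1 3 rfl, h' 2 3 rfl⟩

/-- The centraliser in the common subgroup of a regular element has order at most `27`. -/
theorem centralizer_regular {i j k : ZMod 3} (hi : i ≠ 0) (hj : j ≠ 0) {g : Pm} (hg : g ∈ Cm)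
    (hc : g * sP (0, 0, k, i, 0, j) = sP (0, 0, k, i, 0, j) * g) :
    ∃ p q r : ZMod 3, g = sP (0, 0, p, q, r, q * (j * i)) := by
  have h0 := mem_Pm.1 g.2
  have h3 := mem_Pd.1 (mem_Cm.1 hg)
  have hm : g.1.1 * (sP (0, 0, k, i, 0, j)).1.1 = (sP (0, 0, k, i, 0, j)).1.1 * g.1.1 := by
    have h := congrArg (fun y : SL4 => y.1) (congrArg Subtype.val hc)
    simp only [Subgroup.coe_mul, Matrix.SpecialLinearGroup.coe_mul] at h
    exact h
  rw [sP_coe, ← Matrix.ext_iff] at hm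
  have c02 := hm 0 2
  have c03 := hm 0 3
  have c11 := hm 1 2
  have c13 := hm 1 3
  have c23 := hm 2 3
  have c21 := hm 1 1
  simp [Matrix.mul_apply, Fin.sum_univ_four, h0, h3] at c02 c03 c11 c13 c23 c21
  refine ⟨g.1.1 0 3, g.1.1 1 2, g.1.1 1 3, Subtype.ext (Subtype.ext ?_)⟩
  rw [sP_coe]
  have hii : i * i = 1 := sq_one i hi
  have hjj : j * j = 1 := sq_one j hj
  have e21 : g.1.1 2 1 = 0 := c21.resolve_left hi
  have e01 : g.1.1 0 1 = 0 := c02.resolve_right hi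
  have e02 : g.1.1 0 2 = 0 := by linear_combination j * c03 - g.1.1 0 2 * hjj
  have e22 : g.1.1 2 2 = 1 := by linear_combination j * c23 + (1 - g.1.1 2 2) * hjj
  have e11 : g.1.1 1 1 = 1 := by
    linear_combination i * c11 + (g.1.1 2 2 - g.1.1 1 1) * hii + e22
  have e23 : g.1.1 2 3 = g.1.1 1 2 * (j * i) := by
    linear_combination (-i) * c13 - g.1.1 2 3 * hii
  ext a b
  fin_cases a <;> fin_cases b <;> simp [h0, h3, e21, e01, e02, e22, e11, e23]

theorem translations (i j k a b : ZMod 3) :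
    ∀ (_ : i * i = 1) (_ : j * j = 1), ∃ q ∈ Qm, q * sP (0, 0, k, i, 0, j) =
      (sP (0, 0, k, i, 0, j) * sP (0, 0, a, 0, b, 0)) * q := by
  intro hii hjj
  refine ⟨sP (0, a * j, 0, 0, 0, -(b * i)), sP_Qm, ?_⟩
  rw [sP_mul, sP_mul, sP_mul]
  congr 1
  simp only [Prod.mk.injEq]
  refine ⟨?_, ?_, ?_, ?_, ?_, ?_⟩
  · ring
  · ring
  · linear_combination a * hjj
  · ring
  · linear_combination b * hii
  · ring

/-- A matrix of `SL(3,3)` with a given last row. -/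
def lastRow (v : Col3) : Matrix (Fin 3) (Fin 3) (ZMod 3) :=
  if v 2 ≠ 0 then !![v 2, 0, 0; 0, 1, 0; v 0, v 1, v 2]
  else if v 1 ≠ 0 then !![0, 0, v 1; 1, 0, 0; v 0, v 1, 0]
  else !![0, v 0, 0; 0, 0, 1; v 0, 0, 0]

theorem lastRow_det : ∀ v : Col3, v ≠ 0 → (lastRow v).det = 1 ∧ (lastRow v) 2 = v := by
  decide +kernel

/-- `Pm` is transitive on the nontrivial elements of `Em`. -/
theorem Em_trans {x : Pm} (hx : x ∈ Em) (hx1 : x ≠ 1) : ∃ m : Pm, m * x = zP * m := by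
  have hl := mem_Em.1 hx
  have hv : rowM x ≠ 0 := fun h => hx1 (ext_Pm (hl.trans (map_one levM).symm) (by
    rw [h]; ext j; fin_cases j <;> rfl))
  obtain ⟨hd, hr⟩ := lastRow_det _ hv
  refine ⟨mkM 0 ⟨lastRow (rowM x), hd⟩, ext_Pm ?_ ?_⟩
  · rw [map_mul, map_mul, hl, show levM zP = 1 by decide +kernel, mul_one, one_mul]
  · have hM : rowM (mkM 0 (⟨lastRow (rowM x), hd⟩ : Lev3)) = 0 := rowM_mkM _ _
    have hL : (levM (mkM 0 (⟨lastRow (rowM x), hd⟩ : Lev3))).1 = lastRow (rowM x) :=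
      congrArg Subtype.val (levM_mkM _ _)
    rw [rowM_mul, rowM_mul, hM, hL, Matrix.zero_vecMul, add_zero, zero_add,
      show rowM zP = Pi.single 2 1 by decide +kernel, Matrix.single_one_vecMul]
    exact hr.symm

end CfsgLib.Recog.LFourThree
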