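import Cfsg.Agent.Lib.Recog.LFourThree.ClassSpec
import Cfsg.Agent.Lib.Recog.LFourThree.FusionModel

/-!
Fusion when only one elementary group carries conjugates of the central element.
-/

set_option autoImplicit false

namespace CfsgLib.Recog.LFourThree

open Subgroup

universe u

variable {G : Type u} [Group G]

theorem Em_normal {x : Pm} (hx : x ∈ Em) (g : Pm) : g * x * g⁻¹ ∈ Em := by
  rw [mem_Em] at hx ⊢
  rw [map_mul, map_mul, hx, mul_one, map_inv, mul_inv_cancel]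

namespace Base

theorem psi_mem_Em {B : Base G} (hO : B.Only) {x : Pm} (hx : x ∈ Qm) {g : G}
    (h : g * B.ψ zP * g⁻¹ = B.ψ x) : x ∈ Em := by
  obtain ⟨e, he, ee⟩ := hO g (by rw [h]; exact ⟨x, hx, rfl⟩)
  rw [h] at ee
  rwa [← B.inj ee]

theorem mem_C_of_comm (B : Base G) {g : G} (h : g * B.ψ zP = B.ψ zP * g) :
    ∃ c ∈ Cm, B.ψ c = g := by
  have hg : g ∈ centralizer ({B.ψ zP} : Set G) := mem_centralizer_singleton_iff.2 h
  rw [B.cent_z] at hg
  exact hg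

theorem psi_comm_z (B : Base G) {c : Pm} (hc : c ∈ Cm) : B.ψ c * B.ψ zP = B.ψ zP * B.ψ c := by
  rw [← map_mul, ← map_mul, comm_zP.2 hc]

theorem psi_conj_z (B : Base G) {c : Pm} (hc : c ∈ Cm) :
    B.ψ c * B.ψ zP * (B.ψ c)⁻¹ = B.ψ zP := by
  rw [B.psi_comm_z hc, mul_inv_cancel_right]

/-- An element of `Em` is moved back to the central element by the parabolic. -/
theorem range_of_conj_Em (B : Base G) {g : G} {e : Pm} (he : e ∈ Em)
    (h : g * B.ψ zP * g⁻¹ = B.ψ e) : g ∈ B.ψ.range := by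
  have he1 : e ≠ 1 := by
    rintro rfl
    rw [map_one, conj_eq_one_iff] at h
    exact zP_pow.2 (B.inj (h.trans (map_one B.ψ).symm))
  obtain ⟨m, hm⟩ := Em_trans he he1
  have hc : B.ψ m * g * B.ψ zP = B.ψ zP * (B.ψ m * g) := by
    calc B.ψ m * g * B.ψ zP = B.ψ m * (g * B.ψ zP * g⁻¹) * g := by group
      _ = B.ψ (m * e) * g := by rw [h, map_mul]
      _ = _ := by rw [hm, map_mul, mul_assoc]
  obtain ⟨c, -, ec⟩ := B.mem_C_of_comm hc
  exact ⟨m⁻¹ * c, by rw [map_mul, map_inv, ec, inv_mul_cancel_left]⟩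

/-- The possible conjugates of the central element commuting with it. -/
theorem classify (B : Base G) (hO : B.Only) {x : Pm} (hx : x ∈ Cm) {g : G}
    (hg : g * B.ψ zP * g⁻¹ = B.ψ x) :
    x ∈ Em ∨ ∃ c ∈ Cm, ∃ i j k : ZMod 3, i ≠ 0 ∧ j ≠ 0 ∧
      c * x * c⁻¹ = sP (0, 0, k, i, 0, j) := by
  have h3 : x ^ 3 = 1 := B.inj (by
    rw [map_pow, ← hg, conj_pow, ← map_pow, zP_pow.1, map_one, mul_one, mul_inv_cancel])
  obtain ⟨c, hc, hcS⟩ := exists_conj_Sm hx h3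
  obtain ⟨⟨a, b, e₀, d, e, f⟩, hp⟩ := exists_sP hcS
  have hconj : ∀ q : Pm, q ∈ Cm → ∀ y, q * x * q⁻¹ = y → y ∈ Qm → x ∈ Em := by
    intro q _ y hy hyQ
    have hyE : y ∈ Em := psi_mem_Em hO hyQ (g := B.ψ q * g) (by
      calc B.ψ q * g * B.ψ zP * (B.ψ q * g)⁻¹ = B.ψ q * (g * B.ψ zP * g⁻¹) * (B.ψ q)⁻¹ := by group
        _ = _ := by rw [hg, ← hy, map_mul, map_mul, map_inv])
    have := Em_normal hyE q⁻¹
    rwa [← hy, show q⁻¹ * (q * x * q⁻¹) * q⁻¹⁻¹ = x by group] at this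
  by_cases hd : d = 0
  · subst hd
    exact Or.inl (hconj c hc _ hp sP_Qm)
  have hcube : a * d * f = 0 := cube_coords (b := b) (c := e₀) (e := e) (by
    rw [← hp, conj_pow, h3, mul_one, mul_inv_cancel])
  obtain ⟨q, hq, c', ⟨b', hA⟩ | ⟨hf, hB⟩⟩ := normal_form (b := b) (c := e₀) (e := e) hd hcube
  · -- inside the core of a conjugate centre
    obtain ⟨n, hn4, hnear⟩ : ∃ n : Pm, n * n * n * n = 1 ∧
        ∀ a b c d : ZMod 3, n * n * n * sP (a, b, c, d, 0, 0) * n ∈ Qm := ⟨n23, n_pow.1, near_y⟩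
    have hw := hnear a b' c' d
    have hwd : sP (a, b', c', d, 0, 0) ∈ Em → False := fun h => hd (Em_coords h).1
    generalize sP (a, b', c', d, 0, 0) = w at hA hw hwd
    generalize sP (a, b, e₀, d, e, f) = w₀ at hA hp
    have hinv : (n * n * n)⁻¹ = n := inv_eq_of_mul_eq_one_right hn4
    have e1 : n * n * n * (q * c) * x * (n * n * n * (q * c))⁻¹ = n * n * n * w * n := by
      rw [_root_.mul_inv_rev (n * n * n), hinv, ← hA, ← hp]; group
    have hyE : n * n * n * w * n ∈ Em := psi_mem_Em hO hw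
      (g := B.ψ (n * n * n * (q * c)) * g) (by
        calc B.ψ (n * n * n * (q * c)) * g * B.ψ zP * (B.ψ (n * n * n * (q * c)) * g)⁻¹
            = B.ψ (n * n * n * (q * c)) * (g * B.ψ zP * g⁻¹) *
                (B.ψ (n * n * n * (q * c)))⁻¹ := by group
          _ = _ := by rw [hg, ← map_inv, ← map_mul, ← map_mul, e1])
    have h := Em_normal hyE n
    rw [show n * (n * n * n * w * n) * n⁻¹ = w by
      calc n * (n * n * n * w * n) * n⁻¹ = (n * n * n * n) * w := by group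
        _ = _ := by rw [hn4, one_mul]] at h
    exact (hwd h).elim
  · refine Or.inr ⟨q * c, Cm.mul_mem hq hc, d, f, c', hd, hf, ?_⟩
    rw [← hB, ← hp]; group

/-- The conjugates of the central element commuting with it lie in `Em`. -/
theorem only_conj_z [Finite G] (B : Base G) (hO : B.Only) {x : Pm} (hx : x ∈ Cm) {g : G}
    (hg : g * B.ψ zP * g⁻¹ = B.ψ x) : x ∈ Em := by
  rcases B.classify hO hx hg with h | ⟨c, hc, i, j, k, hi, hj, hy⟩
  · exact h
  exfalso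
  set y : Pm := sP (0, 0, k, i, 0, j) with hy'
  have hyC : y ∈ Cm := sP_mem_Cm _
  set g₁ := B.ψ c * g with hg₁
  have e₁ : g₁ * B.ψ zP * g₁⁻¹ = B.ψ y := by
    calc g₁ * B.ψ zP * g₁⁻¹ = B.ψ c * (g * B.ψ zP * g⁻¹) * (B.ψ c)⁻¹ := by rw [hg₁]; group
      _ = _ := by rw [hg, ← hy, map_mul, map_mul, map_inv]
  -- the element moved to the centre
  have hback : g₁⁻¹ * B.ψ zP * g₁ * B.ψ zP = B.ψ zP * (g₁⁻¹ * B.ψ zP * g₁) := by
    have h := B.psi_comm_z hyC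
    rw [← e₁] at h
    calc g₁⁻¹ * B.ψ zP * g₁ * B.ψ zP
        = g₁⁻¹ * (B.ψ zP * (g₁ * B.ψ zP * g₁⁻¹)) * g₁ := by group
      _ = g₁⁻¹ * (g₁ * B.ψ zP * g₁⁻¹ * B.ψ zP) * g₁ := by rw [h]
      _ = _ := by group
  obtain ⟨x', hx', ex'⟩ := B.mem_C_of_comm hback
  rcases B.classify hO hx' (g := g₁⁻¹) (by rw [ex', inv_inv]) with hE | ⟨c', hc', i', j', k', hi', hj', hy₂⟩
  · obtain ⟨h, eh⟩ := B.range_of_conj_Em hE (g := g₁⁻¹) (by rw [ex', inv_inv])
    have h2 : y = h⁻¹ * zP * h := B.inj (by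
      rw [map_mul, map_mul, map_inv, eh, inv_inv, e₁])
    have h3 := Em_normal (show zP ∈ Em by decide +kernel) h⁻¹
    rw [inv_inv, ← h2, hy'] at h3
    exact hi (Em_coords h3).1
  set y₂ : Pm := sP (0, 0, k', i', 0, j') with hy₂'
  set g₂ := g₁ * (B.ψ c')⁻¹ with hg₂
  have e₂ : g₂ * B.ψ zP * g₂⁻¹ = B.ψ y := by
    have h := B.psi_conj_z hc'
    calc g₂ * B.ψ zP * g₂⁻¹
        = g₂ * (B.ψ c' * B.ψ zP * (B.ψ c')⁻¹) * g₂⁻¹ := by rw [h]
      _ = g₁ * B.ψ zP * g₁⁻¹ := by rw [hg₂]; group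
      _ = _ := e₁
  have e₃ : g₂ * B.ψ y₂ * g₂⁻¹ = B.ψ zP := by
    rw [hg₂, ← hy₂, map_mul, map_mul, map_inv, ex']; group
  -- the two subgroups of order nine
  let u : ZMod 3 × ZMod 3 → G := fun p => B.ψ (sP (0, 0, p.1, 0, p.2, 0))
  let v : ZMod 3 × ZMod 3 → G := fun p => g₂ * u p * g₂⁻¹
  have huadd : ∀ p q, u (p + q) = u p * u q := fun p q => by
    simp only [u, ← map_mul, sP_mul, Prod.fst_add, Prod.snd_add]
    simp
  have hvadd : ∀ p q, v (p + q) = v p * v q := fun p q => by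
    simp only [v, huadd]; group
  have hucomm : ∀ p, ∀ a b d : ZMod 3,
      u p * B.ψ (sP (0, 0, a, b, 0, d)) = B.ψ (sP (0, 0, a, b, 0, d)) * u p := fun p a b d => by
    simp only [u, ← map_mul, sP_mul]
    simp [add_comm]
  have hui : Function.Injective u := fun p q h => by
    have := sP_injective (B.inj h)
    simp only [Prod.mk.injEq, true_and, and_true] at this
    exact Prod.ext this.1 this.2
  have hvi : Function.Injective v := fun p q h => hui (by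
    simpa [v] using h)
  have hK : ∀ w : G, w * B.ψ zP = B.ψ zP * w → w * B.ψ y = B.ψ y * w →
      ∃ p q r : ZMod 3, w = B.ψ (sP (0, 0, p, q, r, q * (j * i))) := by
    intro w h1 h2
    obtain ⟨cw, hcw, rfl⟩ := B.mem_C_of_comm h1
    rw [← map_mul, ← map_mul] at h2
    obtain ⟨p, q, r, e⟩ := centralizer_regular hi hj hcw (B.inj h2)
    exact ⟨p, q, r, by rw [e]⟩
  have hzu : ∀ p, u p * B.ψ zP = B.ψ zP * u p := fun p => B.psi_comm_z (sP_mem_Cm _)
  have hcom : ∀ p q : ZMod 3 × ZMod 3,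
      ∃ a b r : ZMod 3, u p * v q = B.ψ (sP (0, 0, a, b, r, b * (j * i))) := by
    intro p q
    refine hK _ ?_ ?_
    · have h2 : v q * B.ψ zP = B.ψ zP * v q := by
        have h := hucomm q k' i' j'
        calc v q * B.ψ zP = g₂ * u q * g₂⁻¹ * (g₂ * B.ψ y₂ * g₂⁻¹) := by rw [e₃]
          _ = g₂ * (u q * B.ψ y₂) * g₂⁻¹ := by group
          _ = g₂ * (B.ψ y₂ * u q) * g₂⁻¹ := by rw [h]
          _ = (g₂ * B.ψ y₂ * g₂⁻¹) * (g₂ * u q * g₂⁻¹) := by group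
          _ = _ := by rw [e₃]
      exact ((show Commute (u p) (B.ψ zP) from hzu p).mul_left h2).eq
    · have h2 : v q * B.ψ y = B.ψ y * v q := by
        calc v q * B.ψ y = g₂ * u q * g₂⁻¹ * (g₂ * B.ψ zP * g₂⁻¹) := by rw [e₂]
          _ = g₂ * (u q * B.ψ zP) * g₂⁻¹ := by group
          _ = g₂ * (B.ψ zP * u q) * g₂⁻¹ := by rw [hzu]
          _ = (g₂ * B.ψ zP * g₂⁻¹) * (g₂ * u q * g₂⁻¹) := by group
          _ = _ := by rw [e₂]
      exact ((show Commute (u p) (B.ψ y) from hucomm p k i j).mul_left h2).eq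
  choose a b r hab using hcom
  obtain ⟨δ, δ', hne, hδ⟩ : ∃ δ δ', δ ≠ 0 ∧ u δ = v δ' := by
    let F : (ZMod 3 × ZMod 3) × (ZMod 3 × ZMod 3) → ZMod 3 × ZMod 3 × ZMod 3 :=
      fun pq => (a pq.1 pq.2, b pq.1 pq.2, r pq.1 pq.2)
    obtain ⟨⟨p, p'⟩, ⟨q, q'⟩, hne, hF⟩ := Fintype.exists_ne_map_eq_of_card_lt F (by simp)
    simp only [F, Prod.mk.injEq] at hF
    have h : u p * v p' = u q * v q' := by rw [hab, hab, hF.1, hF.2.1, hF.2.2]
    have h' : u (p - q) = v (q' - p') := by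
      have hu : u p = u q * u (p - q) := by rw [← huadd, add_sub_cancel]
      have hv : v q' = v (q' - p') * v p' := by rw [← hvadd, sub_add_cancel]
      rw [hu, hv, mul_assoc] at h
      exact mul_right_cancel (mul_left_cancel h)
    refine ⟨p - q, q' - p', fun h0 => hne ?_, h'⟩
    rw [h0] at h'
    have hz' : u 0 = v 0 := by
      have hu0 : u 0 = 1 := by simpa using huadd 0 0
      have hv0 : v 0 = 1 := by simpa using hvadd 0 0
      rw [hu0, hv0]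
    rw [hz'] at h'
    exact Prod.ext (sub_eq_zero.1 h0) (sub_eq_zero.1 (hvi h').symm).symm
  -- translations
  obtain ⟨q, -, hq⟩ := translations i' j' k' δ'.1 δ'.2 (sq_one i' hi') (sq_one j' hj')
  have hzh : B.ψ zP * u δ = (g₂ * B.ψ q * g₂⁻¹) * B.ψ zP * (g₂ * B.ψ q * g₂⁻¹)⁻¹ := by
    have h1 : B.ψ q * B.ψ y₂ * (B.ψ q)⁻¹ = B.ψ y₂ * u δ' := by
      rw [← map_mul, hy₂', hq, map_mul, map_mul, mul_inv_cancel_right]
    calc B.ψ zP * u δ = (g₂ * B.ψ y₂ * g₂⁻¹) * v δ' := by rw [e₃, hδ]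
      _ = g₂ * (B.ψ q * B.ψ y₂ * (B.ψ q)⁻¹) * g₂⁻¹ := by rw [h1]; simp only [v]; group
      _ = (g₂ * B.ψ q * g₂⁻¹) * (g₂ * B.ψ y₂ * g₂⁻¹) * (g₂ * B.ψ q * g₂⁻¹)⁻¹ := by group
      _ = _ := by rw [e₃]
  have hprod : zP * sP (0, 0, δ.1, 0, δ.2, 0) = sP (0, 0, 1 + δ.1, 0, δ.2, 0) := by
    rw [show zP = sP (0, 0, 1, 0, 0, 0) by decide +kernel, sP_mul]
    simp
  have hE : sP (0, 0, 1 + δ.1, 0, δ.2, 0) ∈ Em :=
    psi_mem_Em hO sP_Qm (g := g₂ * B.ψ q * g₂⁻¹) (by rw [← hprod, map_mul]; exact hzh.symm)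
  have hδ2 : δ.2 = 0 := (Em_coords hE).2.1
  obtain ⟨δ₀, h₀⟩ : ∃ δ₀, B.ψ zP = v δ₀ := by
    have hδ1 : δ.1 ≠ 0 := fun h => hne (Prod.ext h hδ2)
    have hz1 : B.ψ zP = u (1, 0) := by
      show _ = B.ψ (sP (0, 0, 1, 0, 0, 0))
      exact congrArg B.ψ (by decide +kernel)
    have key : ∀ a : ZMod 3, a ≠ 0 → a = 1 ∨ a + a = 1 := by decide
    rcases key δ.1 hδ1 with h | h
    · exact ⟨δ', by rw [hz1, ← hδ]; exact congrArg u (Prod.ext h.symm hδ2.symm)⟩
    · refine ⟨δ' + δ', ?_⟩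
      rw [hz1, hvadd, ← hδ, ← huadd]
      exact congrArg u (Prod.ext h.symm (by simp [hδ2]))
  have h4 : B.ψ y₂ = u δ₀ := by
    have h := e₃.trans h₀
    simpa [v] using h
  have h5 := sP_injective (B.inj h4)
  simp only [Prod.mk.injEq] at h5
  exact hi' h5.2.2.2.1

/-- `Mm` is the only abelian subgroup of order `81` of the Sylow group. -/
theorem abelian_81' (B : Base G) (A : Subgroup G) (hA : A ≤ Sm.map B.ψ)
    (hab : ∀ a ∈ A, ∀ b ∈ A, a * b = b * a) (hcard : Nat.card A = 81) : A = Mm.map B.ψ := by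
  have hr : A ≤ B.ψ.range := hA.trans (map_le_range _ _)
  have h : (A.comap B.ψ).map B.ψ = A := map_comap_eq_self hr
  rw [← h]
  congr 1
  refine abelian_unique _ (fun x hx => ?_) (fun a ha b hb => B.inj ?_) ?_
  · obtain ⟨y, hy, e⟩ := hA hx
    rwa [← B.inj e]
  · rw [map_mul, map_mul]
    exact hab _ ha _ hb
  · rw [← h, card_map_of_injective B.inj] at hcard
    exact hcard

/-- Fusion in `Mm` is controlled by its normaliser. -/
theorem fusion_M' [Finite G] (B : Base G) {x y : Pm} (hx : x ∈ Mm) (hy : y ∈ Mm) {g : G}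
    (h : g * B.ψ x * g⁻¹ = B.ψ y) :
    ∃ n ∈ normalizer ((Mm.map B.ψ : Subgroup G) : Set G), n * B.ψ x * n⁻¹ = B.ψ y := by
  haveI : Fact (Nat.Prime 3) := ⟨Nat.prime_three⟩
  set M := Mm.map B.ψ with hM
  set K := centralizer ({B.ψ y} : Set G) with hKdef
  set M₁ := M.map (MulAut.conj g).toMonoidHom with hM₁
  have hMab : ∀ a ∈ M, ∀ b ∈ M, a * b = b * a := by
    rintro _ ⟨a, ha, rfl⟩ _ ⟨b, hb, rfl⟩
    rw [← map_mul, ← map_mul, Mm_commute ha hb]
  have hM1ab : ∀ a ∈ M₁, ∀ b ∈ M₁, a * b = b * a := by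
    rintro _ ⟨a, ha, rfl⟩ _ ⟨b, hb, rfl⟩
    rw [← map_mul, ← map_mul, hMab a ha b hb]
  have hMK : M ≤ K := fun a ha =>
    mem_centralizer_singleton_iff.2 (hMab a ha _ ⟨y, hy, rfl⟩)
  have hM1K : M₁ ≤ K := fun a ha =>
    mem_centralizer_singleton_iff.2 (hM1ab a ha _ ⟨B.ψ x, ⟨x, hx, rfl⟩, h⟩)
  have hM3 : IsPGroup 3 M := (IsPGroup.of_card (n := 4) (by rw [card_Mm]; norm_num)).map B.ψ
  have hM13 : IsPGroup 3 M₁ := hM3.map _
  obtain ⟨P₁, hP₁⟩ := (hM3.comap_of_injective K.subtype K.subtype_injective :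
    IsPGroup 3 (M.subgroupOf K)).exists_le_sylow
  obtain ⟨P₂, hP₂⟩ := (hM13.comap_of_injective K.subtype K.subtype_injective :
    IsPGroup 3 (M₁.subgroupOf K)).exists_le_sylow
  obtain ⟨k, hk⟩ := MulAction.exists_smul_eq K P₂ P₁
  set R := (P₁ : Subgroup K).map K.subtype with hR
  have hMR : M ≤ R := fun a ha => ⟨⟨a, hMK ha⟩, hP₁ (mem_subgroupOf.2 ha), rfl⟩
  have hM1R : ∀ a ∈ M₁, (k : G) * a * (k : G)⁻¹ ∈ R := by
    intro a ha
    have h2 : (⟨a, hM1K ha⟩ : K) ∈ (P₂ : Subgroup K) := hP₂ (mem_subgroupOf.2 ha)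
    refine ⟨k * ⟨a, hM1K ha⟩ * k⁻¹, ?_, rfl⟩
    rw [← hk, Sylow.coe_subgroup_smul, Subgroup.pointwise_smul_def]
    exact ⟨_, h2, rfl⟩
  obtain ⟨S, hS⟩ := B.exists_sylow
  obtain ⟨T, hT⟩ := (P₁.isPGroup'.map K.subtype).exists_le_sylow
  obtain ⟨t, ht⟩ := MulAction.exists_smul_eq G T S
  have hmove : ∀ a ∈ R, t * a * t⁻¹ ∈ Sm.map B.ψ := by
    intro a ha
    rw [← hS, ← ht, Sylow.coe_subgroup_smul, Subgroup.pointwise_smul_def]
    exact ⟨a, hT ha, rfl⟩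
  have hsub : ∀ W : Subgroup G, (∀ a ∈ W, t * a * t⁻¹ ∈ Sm.map B.ψ) →
      (∀ a ∈ W, ∀ b ∈ W, a * b = b * a) → Nat.card W = 81 →
      W.map (MulAut.conj t).toMonoidHom = M := by
    intro W hW hab hc
    refine B.abelian_81' _ ?_ ?_ ?_
    · rintro _ ⟨a, ha, rfl⟩; exact hW a ha
    · rintro _ ⟨a, ha, rfl⟩ _ ⟨b, hb, rfl⟩
      rw [← map_mul, ← map_mul, hab a ha b hb]
    · rw [card_map_of_injective (MulAut.conj t).injective, hc]
  have hcM : Nat.card M = 81 := by rw [hM, card_map_of_injective B.inj, card_Mm]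
  have hN₂ : M.map (MulAut.conj ((k : G) * g)).toMonoidHom =
      M₁.map (MulAut.conj (k : G)).toMonoidHom := by
    have hf : (MulAut.conj ((k : G) * g)).toMonoidHom =
        (MulAut.conj (k : G)).toMonoidHom.comp (MulAut.conj g).toMonoidHom := by
      ext a
      simp [mul_assoc]
    rw [hM₁, hf]
    exact (Subgroup.map_map M _ _).symm
  have e1 := hsub M (fun a ha => hmove a (hMR ha)) hMab hcM
  have e2 := hsub (M₁.map (MulAut.conj (k : G)).toMonoidHom)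
    (by rintro _ ⟨a, ha, rfl⟩; exact hmove _ (hM1R a ha))
    (by
      rintro _ ⟨a, ha, rfl⟩ _ ⟨b, hb, rfl⟩
      rw [← map_mul, ← map_mul, hM1ab a ha b hb])
    (by
      rw [card_map_of_injective (MulAut.conj (k : G)).injective, hM₁,
        card_map_of_injective (MulAut.conj g).injective, hcM])
  have heq : M.map (MulAut.conj ((k : G) * g)).toMonoidHom = M := by
    rw [hN₂]
    exact map_injective (MulAut.conj t).injective (e2.trans e1.symm)
  refine ⟨(k : G) * g, mem_normalizer_iff.2 fun a => ⟨fun ha => ?_, fun ha => ?_⟩, ?_⟩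
  · rw [← heq]; exact ⟨a, ha, rfl⟩
  · have ha' : (MulAut.conj ((k : G) * g)).toMonoidHom a ∈
        M.map (MulAut.conj ((k : G) * g)).toMonoidHom := by rw [heq]; exact ha
    obtain ⟨b, hb, e⟩ := ha'
    rwa [← (MulAut.conj ((k : G) * g)).injective e]
  · calc (k : G) * g * B.ψ x * ((k : G) * g)⁻¹ = (k : G) * (g * B.ψ x * g⁻¹) * (k : G)⁻¹ := by
          group
      _ = _ := by rw [h, mem_centralizer_singleton_iff.1 k.2, mul_inv_cancel_right]

/-- The fusion facts when only one elementary group carries conjugates of the central element. -/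
theorem onlyFacts [Finite G] (B : Base G) (hO : B.Only) : B.OnlyFacts where
  abelian_81 := B.abelian_81'
  fusion_M := fun _ hx _ hy _ h => B.fusion_M' hx hy h
  conj_z := by
    rintro g ⟨x, hx, ex⟩
    exact ⟨x, B.only_conj_z hO hx ex.symm, ex⟩
  norm_M := by
    intro n hn
    have hzM : zP ∈ Mm := by decide +kernel
    obtain ⟨m, hm, em⟩ := (mem_normalizer_iff.1 hn (B.ψ zP)).1 ⟨zP, hzM, rfl⟩
    obtain ⟨b, c, d, e, rfl⟩ := exists_Mm hm
    exact B.range_of_conj_Em (B.only_conj_z hO (sP_mem_Cm _) em.symm) em.symm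

end Base

end CfsgLib.Recog.LFourThree
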