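import Cfsg.Agent.Lib.Recog.LFourThree.IdentModel

/-!
Two parabolics agreeing on the common subgroup glue to a homomorphism of `SL(4,3)`, once the two Levi factors
commute; a twist by the central element makes them commute.
-/

set_option autoImplicit false
set_option linter.unusedSectionVars false

namespace CfsgLib.Recog.LFourThree.Ident

open Matrix

variable {G : Type*} [Group G]

/-- two copies of the parabolics agreeing on the common subgroup, in which the abelian group of order `81` is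
self-centralising -/
structure Pair (ψ : Pm →* G) (ψ' : Pd →* G) : Prop where
  inj : Function.Injective ψ
  agree : ∀ (x : SL4) (h₁ : x ∈ Pm) (h₂ : x ∈ Pd), ψ' ⟨x, h₂⟩ = ψ ⟨x, h₁⟩
  cm : ∀ g : G, (∀ v, g * ψ ⟨mE v, (mE_mem v).1⟩ = ψ ⟨mE v, (mE_mem v).1⟩ * g) →
    ∃ v, g = ψ ⟨mE v, (mE_mem v).1⟩

namespace Pair

variable {ψ : Pm →* G} {ψ' : Pd →* G} (hP : Pair ψ ψ')
include hP

/-- the image of the abelian group -/
def mu (_ : Pair ψ ψ') (v : T4) : G := ψ ⟨mE v, (mE_mem v).1⟩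

theorem eq_mu' (v : T4) : hP.mu v = ψ' ⟨mE v, (mE_mem v).2⟩ := (hP.agree _ _ _).symm

theorem mu_add (u v : T4) : hP.mu (u + v) = hP.mu u * hP.mu v := by
  show ψ _ = ψ _ * ψ _
  rw [← map_mul]
  exact congrArg ψ (Subtype.ext (mE_add u v))

theorem mu_zero : hP.mu 0 = 1 := by
  show ψ _ = 1
  rw [← map_one ψ]
  exact congrArg ψ (Subtype.ext mE_zero)

theorem mu_inj {u v : T4} (h : hP.mu u = hP.mu v) : u = v := mE_inj (congrArg Subtype.val (hP.inj h))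

theorem mu_neg (v : T4) : hP.mu (-v) = (hP.mu v)⁻¹ :=
  eq_inv_of_mul_eq_one_left (by rw [← mu_add hP, neg_add_cancel, mu_zero hP])

theorem act {x : SL4} (hx : x ∈ Pm) {f : T4 → T4} (e : ∀ v, x * mE v = mE (f v) * x) (v : T4) :
    ψ ⟨x, hx⟩ * hP.mu v = hP.mu (f v) * ψ ⟨x, hx⟩ := by
  show ψ _ * ψ _ = ψ _ * ψ _
  rw [← map_mul, ← map_mul]
  exact congrArg ψ (Subtype.ext (e v))

theorem act' {x : SL4} (hx : x ∈ Pd) {f : T4 → T4} (e : ∀ v, x * mE v = mE (f v) * x) (v : T4) :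
    ψ' ⟨x, hx⟩ * hP.mu v = hP.mu (f v) * ψ' ⟨x, hx⟩ := by
  rw [eq_mu' hP, eq_mu' hP, ← map_mul, ← map_mul]
  exact congrArg ψ' (Subtype.ext (e v))

/-- commutators of commuting actions lie in the abelian group -/
theorem comm_mem {A B : G} {f g : T4 → T4} (hA : ∀ v, A * hP.mu v = hP.mu (f v) * A)
    (hB : ∀ v, B * hP.mu v = hP.mu (g v) * B) (hf : ∀ v, ∃ u, f u = v) (hg : ∀ v, ∃ u, g u = v)
    (hfg : ∀ v, f (g v) = g (f v)) : ∃ v, A * B * A⁻¹ * B⁻¹ = hP.mu v := by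
  refine hP.cm _ fun v => ?_
  change _ * hP.mu v = hP.mu v * _
  obtain ⟨u, rfl⟩ := hf v
  obtain ⟨z, rfl⟩ := hg u
  have e1 : A * B * hP.mu z = hP.mu (f (g z)) * (A * B) := by rw [mul_assoc, hB, ← mul_assoc, hA, mul_assoc]
  have e2 : B * A * hP.mu z = hP.mu (f (g z)) * (B * A) := by rw [mul_assoc, hA, ← mul_assoc, hB, mul_assoc, hfg]
  calc A * B * A⁻¹ * B⁻¹ * hP.mu (f (g z))
      = A * B * (A⁻¹ * B⁻¹ * (hP.mu (f (g z)) * (B * A))) * (A⁻¹ * B⁻¹) := by group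
    _ = A * B * (A⁻¹ * B⁻¹ * (B * A * hP.mu z)) * (A⁻¹ * B⁻¹) := by rw [e2]
    _ = A * B * hP.mu z * (A⁻¹ * B⁻¹) := by group
    _ = hP.mu (f (g z)) * (A * B) * (A⁻¹ * B⁻¹) := by rw [e1]
    _ = hP.mu (f (g z)) * (A * B * A⁻¹ * B⁻¹) := by group

theorem psi_rel {x y : SL4} (hx : x ∈ Pm) (hy : y ∈ Pm) (e : x * y = y * x) :
    Commute (ψ ⟨x, hx⟩) (ψ ⟨y, hy⟩) := by
  show ψ _ * ψ _ = ψ _ * ψ _
  rw [← map_mul, ← map_mul]
  exact congrArg ψ (Subtype.ext e)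

omit hP

/-- the image of `diag(1,1,-1,-1)` -/
def H (ψ : Pm →* G) : G := ψ ⟨h34, mem_gens.2.2.2.2.2.2.2.2.1⟩

/-- the image of `x₁₀` -/
def X (ψ' : Pd →* G) : G := ψ' ⟨xr 1 0 1, mem_gens.1⟩

include hP

theorem H_act (v : T4) : H ψ * hP.mu v = hP.mu (-v) * H ψ := hP.act _ act_h34 v

theorem eq_zero_of_comm {v : T4} (h : Commute (hP.mu v) (H ψ)) : v = 0 :=
  neg_self v (hP.mu_inj (mul_right_cancel (h.eq.trans (hP.H_act v))))

/-- after the twist the two Levi factors commute -/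
theorem exists_twist : ∃ d : ZMod 3, Commute (hP.mu (0, 0, 0, d) * X ψ') (H ψ) := by
  obtain ⟨hx10, -, -, -, h23m, h23d, htm, htd, hh, -, -⟩ := mem_gens
  have hXact : ∀ v, X ψ' * hP.mu v = hP.mu (f10 v) * X ψ' := hP.act' hx10 act_x10
  obtain ⟨v₀, hv₀⟩ := hP.comm_mem (A := X ψ') (B := H ψ) (f := f10) (g := Neg.neg) hXact hP.H_act f10_surj
    (fun v => ⟨-v, neg_neg v⟩) f10_neg
  have eXH : X ψ' * H ψ = hP.mu v₀ * (H ψ * X ψ') := by rw [← hv₀]; group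
  have hc : Commute (hP.mu v₀ * X ψ') (H ψ) := by
    show hP.mu v₀ * X ψ' * H ψ = H ψ * (hP.mu v₀ * X ψ')
    rw [mul_assoc, eXH, ← mul_assoc, ← mul_assoc, ← mul_assoc, hP.H_act, ← hP.mu_add]
    have : ∀ v : T4, v + v = -v := by decide +kernel
    rw [this]
  have hkey : ∀ u, Commute (hP.mu u * X ψ') (H ψ) → u = v₀ := fun u hu => by
    have e : Commute (hP.mu (u - v₀)) (H ψ) := by
      have := hu.mul_left hc.inv_left
      rwa [_root_.mul_inv_rev, mul_assoc, mul_inv_cancel_left, ← hP.mu_neg, ← hP.mu_add, ← sub_eq_add_neg] at this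
    exact sub_eq_zero.1 (hP.eq_zero_of_comm e)
  -- fixed by `x₂₃`
  have e23 : f23 v₀ = v₀ := by
    refine hkey _ ?_
    have hS : Commute (ψ ⟨xr 2 3 1, h23m⟩) (H ψ) := hP.psi_rel h23m hh rel_x23_h34
    have hXS : ψ ⟨xr 2 3 1, h23m⟩ * X ψ' = X ψ' * ψ ⟨xr 2 3 1, h23m⟩ := by
      rw [X, ← hP.agree _ h23m h23d, ← map_mul, ← map_mul]
      exact congrArg ψ' (Subtype.ext rel_x10_x23.symm)
    have := (hS.mul_left hc).mul_left hS.inv_left
    rwa [← mul_assoc, hP.act h23m act_x23, mul_assoc (hP.mu (f23 v₀)), hXS, ← mul_assoc, mul_inv_cancel_right]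
      at this
  -- inverted by `tD`
  have et : f10 (fT v₀) = -v₀ := by
    have hT : Commute (ψ ⟨tD, htm⟩) (H ψ) := hP.psi_rel htm hh rel_t_h34
    have hTX : ψ ⟨tD, htm⟩ * X ψ' * ψ ⟨tD, htm⟩ * X ψ' = 1 := by
      rw [X, ← hP.agree _ htm htd, ← map_mul, ← map_mul, ← map_mul, ← map_one ψ']
      exact congrArg ψ' (Subtype.ext rel_t_x10)
    have h1 : Commute (hP.mu (fT v₀) * (X ψ')⁻¹) (H ψ) := by
      have := (hT.mul_left hc).mul_left hT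
      rwa [← mul_assoc, hP.act htm act_t, mul_assoc, mul_assoc, ← mul_assoc (ψ ⟨tD, htm⟩),
        eq_inv_of_mul_eq_one_left hTX] at this
    have h2 : Commute (hP.mu (f10 (fT v₀))) (H ψ) → f10 (fT v₀) = 0 := hP.eq_zero_of_comm
    have h3 : Commute (hP.mu v₀ * hP.mu (f10 (fT v₀))) (H ψ) := by
      have := hc.mul_left h1
      rwa [mul_assoc, ← mul_assoc (X ψ'), hXact, mul_inv_cancel_right] at this
    rw [← hP.mu_add] at h3
    exact eq_neg_of_add_eq_zero_right (hP.eq_zero_of_comm h3)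
  exact ⟨v₀.2.2.2, f_fixed v₀ e23 et ▸ hc⟩

/-- the twisted pair -/
theorem twist : ∃ (d : ZMod 3) (ψ'' : Pd →* G), Pair ψ ψ'' ∧ Commute (X ψ'') (H ψ) ∧
    (∀ h, ψ'' h = hP.mu (0, d, 0, 0) * ψ' h * (hP.mu (0, d, 0, 0))⁻¹) := by
  obtain ⟨d, hd⟩ := hP.exists_twist
  obtain ⟨c, hc⟩ : ∃ c, c = hP.mu (0, -d, 0, 0) := ⟨_, rfl⟩
  refine ⟨-d, (MulAut.conj c).toMonoidHom.comp ψ', ⟨hP.inj, fun x h₁ h₂ => ?_, hP.cm⟩, ?_, fun h => ?_⟩
  · show c * ψ' ⟨x, h₂⟩ * c⁻¹ = _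
    rw [hP.agree x h₁ h₂, hc, mul_inv_eq_iff_eq_mul]
    show ψ _ * ψ _ = ψ _ * ψ _
    rw [← map_mul, ← map_mul]
    exact congrArg ψ (Subtype.ext (z_central h₁ h₂ _).symm)
  · have e : X ((MulAut.conj c).toMonoidHom.comp ψ') = hP.mu (0, 0, 0, d) * X ψ' := by
      show c * ψ' _ * c⁻¹ = _
      rw [hc, ← hP.mu_neg, show (-(0, -d, 0, 0) : T4) = (0, d, 0, 0) by simp, hP.eq_mu', hP.eq_mu', hP.eq_mu', X,
        ← map_mul, ← map_mul, ← map_mul]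
      exact congrArg ψ' (Subtype.ext (x10_twist d))
    rw [e]; exact hd
  · rw [← hc]; rfl

/-- in a commuting pair the first Levi factors commute with the second -/
theorem levi_comm (hXH : Commute (X ψ') (H ψ)) :
    (∀ p, Commute (ψ' ⟨w12, mem_gens.2.2.2.2.2.2.2.2.2.2⟩) (ψ ⟨s34 p, s34_mem p⟩)) ∧
      ψ' ⟨h12, mem_gens.2.2.2.2.2.2.2.2.2.1⟩ = H ψ := by
  obtain ⟨hx10, h01m, h01d, h32m, h23m, h23d, -, -, hh, h12d, hwd⟩ := mem_gens
  have hXact : ∀ v, X ψ' * hP.mu v = hP.mu (f10 v) * X ψ' := hP.act' hx10 act_x10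
  have hX32 : Commute (X ψ') (ψ ⟨xr 3 2 1, h32m⟩) := by
    obtain ⟨v, hv⟩ := hP.comm_mem (A := X ψ') (B := ψ ⟨xr 3 2 1, h32m⟩) (f := f10) (g := f32) hXact
      (hP.act h32m act_x32) f10_surj f32_surj f10_f32
    have hY : Commute (ψ ⟨xr 3 2 1, h32m⟩) (H ψ) := hP.psi_rel h32m hh rel_x32_h34
    have hv0 : v = 0 := hP.eq_zero_of_comm (hv ▸ ((hXH.mul_left hY).mul_left hXH.inv_left).mul_left hY.inv_left)
    rw [hv0, hP.mu_zero] at hv
    exact commutatorElement_eq_one_iff_commute.1 (by rw [commutatorElement_def]; exact hv)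
  have hX23 : Commute (X ψ') (ψ ⟨xr 2 3 1, h23m⟩) := by
    show _ * _ = _ * _
    rw [X, ← hP.agree _ h23m h23d, ← map_mul, ← map_mul]
    exact congrArg ψ' (Subtype.ext rel_x10_x23)
  have hw : ψ' ⟨w12, hwd⟩ = ψ ⟨xr 0 1 1, h01m⟩ * (X ψ')⁻¹ * ψ ⟨xr 0 1 1, h01m⟩ := by
    rw [X, ← hP.agree _ h01m h01d, ← map_inv, ← map_mul, ← map_mul]
    exact congrArg ψ' (Subtype.ext rel_w12)
  have hwc : ∀ y, Commute (ψ ⟨xr 0 1 1, h01m⟩) y → Commute (X ψ') y → Commute (ψ' ⟨w12, hwd⟩) y := fun y a b => by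
    rw [hw]; exact (a.mul_left b.inv_left).mul_left a
  have hw32 := hwc _ (hP.psi_rel h01m h32m rel_x01_x32) hX32
  have hw23 := hwc _ (hP.psi_rel h01m h23m rel_x01_x23) hX23
  have hwH := hwc _ (hP.psi_rel h01m hh rel_x01_h34) hXH
  refine ⟨fun p => ?_, ?_⟩
  · obtain ⟨a, b, c, d⟩ := p
    have e : (⟨s34 (a, b, c, d), s34_mem _⟩ : Pm) = (⟨xr 2 3 1, h23m⟩ : Pm) ^ a.val *
        (⟨xr 3 2 1, h32m⟩ : Pm) ^ b.val * (⟨xr 2 3 1, h23m⟩ : Pm) ^ c.val * (⟨xr 3 2 1, h32m⟩ : Pm) ^ d.val :=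
      Subtype.ext (by simp [s34, xr23_pow a, xr32_pow b, xr23_pow c, xr32_pow d])
    rw [e]
    simp only [map_mul, map_pow]
    exact (((hw23.pow_right _).mul_right (hw32.pow_right _)).mul_right (hw23.pow_right _)).mul_right
      (hw32.pow_right _)
  · obtain ⟨D, hD⟩ : ∃ D, D = ψ' ⟨h12, h12d⟩ := ⟨_, rfl⟩
    have hDw : D = ψ' ⟨w12, hwd⟩ * ψ' ⟨w12, hwd⟩ := by
      rw [hD, ← map_mul]; exact congrArg ψ' (Subtype.ext rel_h12)
    have hHH : H ψ * H ψ = 1 := by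
      rw [H, ← map_mul, ← map_one ψ]; exact congrArg ψ (Subtype.ext rel_h34_sq)
    have hDc : Commute D (H ψ) := hDw ▸ hwH.mul_left hwH
    have hDact : ∀ v, D * hP.mu v = hP.mu (-v) * D := hD ▸ hP.act' h12d act_h12
    obtain ⟨v, hv⟩ := hP.cm (D * H ψ) fun v => by
      change _ * hP.mu v = hP.mu v * _
      rw [mul_assoc, hP.H_act, ← mul_assoc, hDact, neg_neg, mul_assoc]
    change D * H ψ = hP.mu v at hv
    have h0 : v = 0 := hP.eq_zero_of_comm (hv ▸ hDc.mul_left (Commute.refl _))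
    rw [h0, hP.mu_zero] at hv
    rw [show ψ' ⟨h12, h12d⟩ = D from hD.symm, mul_eq_one_iff_eq_inv.1 hv, inv_eq_of_mul_eq_one_right hHH]

end Pair

end CfsgLib.Recog.LFourThree.Ident
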