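import Cfsg.Agent.Lib.Recog.LFourThree.Model

/-!
Model facts for identifying `SL(4,3)` from the two parabolics: the abelian group of order `81` in coordinates,
the two commuting Levi factors, and the action on vectors.
-/

set_option autoImplicit false
set_option linter.unusedSimpArgs false

namespace CfsgLib.Recog.LFourThree.Ident

open Matrix

/-- coordinates of the abelian group -/
abbrev T4 := ZMod 3 × ZMod 3 × ZMod 3 × ZMod 3
/-- the vectors -/
abbrev V := Fin 4 → ZMod 3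

/-- the abelian group of order `81` in coordinates -/
def mE (v : T4) : SL4 := xr 0 2 v.1 * xr 0 3 v.2.1 * xr 1 2 v.2.2.1 * xr 1 3 v.2.2.2

theorem mE_coe (v : T4) : (mE v : Matrix (Fin 4) (Fin 4) (ZMod 3)) =
    !![1, 0, v.1, v.2.1; 0, 1, v.2.2.1, v.2.2.2; 0, 0, 1, 0; 0, 0, 0, 1] := by
  revert v; decide +kernel

theorem mE_mem (v : T4) : mE v ∈ Pm ∧ mE v ∈ Pd := by revert v; decide +kernel

theorem mE_add (u v : T4) : mE (u + v) = mE u * mE v := by
  apply Subtype.ext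
  rw [Matrix.SpecialLinearGroup.coe_mul, mE_coe, mE_coe, mE_coe]
  ext i j
  fin_cases i <;> fin_cases j <;> simp [Matrix.mul_apply, Fin.sum_univ_four, add_comm]

theorem mE_zero : mE 0 = 1 := by decide +kernel

theorem mE_inj {u v : T4} (h : mE u = mE v) : u = v := by
  have h' := congrArg (fun g : SL4 => (g : Matrix (Fin 4) (Fin 4) (ZMod 3))) h
  rw [mE_coe, mE_coe] at h'
  exact Prod.ext (congrFun (congrFun h' 0) 2) (Prod.ext (congrFun (congrFun h' 0) 3)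
    (Prod.ext (congrFun (congrFun h' 1) 2) (congrFun (congrFun h' 1) 3)))

theorem xr_coe (i j : Fin 4) (a : ZMod 3) (h : i ≠ j) :
    (xr i j a h : Matrix (Fin 4) (Fin 4) (ZMod 3)) = Matrix.transvection i j a := rfl

/-- the abelian group is self-centralising in the common subgroup -/
theorem eq_mE_of_comm {k : SL4} (h₁ : k ∈ Pm) (h₂ : k ∈ Pd) (hc : ∀ v, k * mE v = mE v * k) : ∃ v, k = mE v := by
  have e : ∀ v, (k : Matrix (Fin 4) (Fin 4) (ZMod 3)) * (mE v : Matrix (Fin 4) (Fin 4) (ZMod 3)) =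
      (mE v : Matrix (Fin 4) (Fin 4) (ZMod 3)) * k := fun v => by
    rw [← Matrix.SpecialLinearGroup.coe_mul, ← Matrix.SpecialLinearGroup.coe_mul, hc v]
  have c0 := mem_Pm.1 h₁
  have r3 := mem_Pd.1 h₂
  have ea := e (1, 0, 0, 0)
  have ed := e (0, 0, 0, 1)
  rw [mE_coe] at ea ed
  have a21 := congrFun (congrFun ea 0) 1
  have a23 := congrFun (congrFun ea 0) 3
  have a22 := congrFun (congrFun ea 0) 2
  have d01 := congrFun (congrFun ed 0) 3
  have d11 := congrFun (congrFun ed 1) 3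
  have d21 := congrFun (congrFun ed 2) 3
  simp [Matrix.mul_apply, Fin.sum_univ_four, c0, r3] at a21 a23 a22 d01 d11 d21
  have h22 : k.1 2 2 = 1 := by linear_combination -a22
  have h11 : k.1 1 1 = 1 := by linear_combination d11
  refine ⟨(k.1 0 2, k.1 0 3, k.1 1 2, k.1 1 3), Subtype.ext ?_⟩
  rw [mE_coe]
  ext i j
  fin_cases i <;> fin_cases j <;> simp [c0, r3, a21, a23, h22, d01, h11, d21]

/-- the centre of the common subgroup -/
theorem z_central {k : SL4} (h₁ : k ∈ Pm) (h₂ : k ∈ Pd) (b : ZMod 3) :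
    k * mE (0, b, 0, 0) = mE (0, b, 0, 0) * k := by
  apply Subtype.ext
  rw [Matrix.SpecialLinearGroup.coe_mul, Matrix.SpecialLinearGroup.coe_mul, mE_coe]
  have c0 := mem_Pm.1 h₁
  have r3 := mem_Pd.1 h₂
  ext i j
  fin_cases i <;> fin_cases j <;> simp [Matrix.mul_apply, Fin.sum_univ_four, c0, r3, add_comm]

theorem det_h34 : (Matrix.diagonal ![1, 1, -1, -1] : Matrix (Fin 4) (Fin 4) (ZMod 3)).det = 1 := by decide +kernel

theorem det_h12 : (Matrix.diagonal ![-1, -1, 1, 1] : Matrix (Fin 4) (Fin 4) (ZMod 3)).det = 1 := by decide +kernel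

/-- `diag(1,1,-1,-1)` -/
def h34 : SL4 := ⟨Matrix.diagonal ![1, 1, -1, -1], det_h34⟩
/-- `diag(-1,-1,1,1)` -/
def h12 : SL4 := ⟨Matrix.diagonal ![-1, -1, 1, 1], det_h12⟩
/-- the Weyl element of the first Levi factor -/
def w12 : SL4 := xr 0 1 1 * xr 1 0 (-1) * xr 0 1 1
/-- the second Levi factor -/
def s34 (p : T4) : SL4 := xr 2 3 p.1 * xr 3 2 p.2.1 * xr 2 3 p.2.2.1 * xr 3 2 p.2.2.2

/-- action of `x₁₀` -/
def f10 (v : T4) : T4 := (v.1, v.2.1, v.2.2.1 + v.1, v.2.2.2 + v.2.1)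
/-- action of `x₃₂` -/
def f32 (v : T4) : T4 := (v.1 - v.2.1, v.2.1, v.2.2.1 - v.2.2.2, v.2.2.2)
/-- action of `x₂₃` -/
def f23 (v : T4) : T4 := (v.1, v.2.1 - v.1, v.2.2.1, v.2.2.2 - v.2.2.1)
/-- action of `tD` -/
def fT (v : T4) : T4 := (-v.1, v.2.1, v.2.2.1, -v.2.2.2)

theorem act_x10 : ∀ v, xr 1 0 1 * mE v = mE (f10 v) * xr 1 0 1 := by decide +kernel
theorem act_x32 : ∀ v, xr 3 2 1 * mE v = mE (f32 v) * xr 3 2 1 := by decide +kernel
theorem act_x23 : ∀ v, xr 2 3 1 * mE v = mE (f23 v) * xr 2 3 1 := by decide +kernel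
theorem act_t : ∀ v, tD * mE v = mE (fT v) * tD := by decide +kernel
theorem act_h34 : ∀ v, h34 * mE v = mE (-v) * h34 := by decide +kernel
theorem act_h12 : ∀ v, h12 * mE v = mE (-v) * h12 := by decide +kernel

theorem f10_surj : ∀ v, ∃ u, f10 u = v := by decide +kernel
theorem f32_surj : ∀ v, ∃ u, f32 u = v := by decide +kernel
theorem f10_f32 : ∀ v, f10 (f32 v) = f32 (f10 v) := by decide +kernel
theorem f10_neg : ∀ v, f10 (-v) = -f10 v := by decide +kernel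
theorem f_fixed : ∀ v : T4, f23 v = v → f10 (fT v) = -v → v = (0, 0, 0, v.2.2.2) := by decide +kernel

theorem neg_self : ∀ v : T4, v = -v → v = 0 := by decide +kernel

theorem x10_twist : ∀ d : ZMod 3, mE (0, -d, 0, 0) * xr 1 0 1 * mE (0, d, 0, 0) = mE (0, 0, 0, d) * xr 1 0 1 := by
  decide +kernel

theorem mem_gens : xr 1 0 1 ∈ Pd ∧ xr 0 1 1 ∈ Pm ∧ xr 0 1 1 ∈ Pd ∧ xr 3 2 1 ∈ Pm ∧ xr 2 3 1 ∈ Pm ∧ xr 2 3 1 ∈ Pd ∧
    tD ∈ Pm ∧ tD ∈ Pd ∧ h34 ∈ Pm ∧ h12 ∈ Pd ∧ w12 ∈ Pd := by decide +kernel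

theorem s34_mem : ∀ p, s34 p ∈ Pm := by decide +kernel

theorem rel_x10_x23 : xr 1 0 1 * xr 2 3 1 = xr 2 3 1 * xr 1 0 1 := by decide +kernel
theorem rel_x23_h34 : xr 2 3 1 * h34 = h34 * xr 2 3 1 := by decide +kernel
theorem rel_x01_h34 : xr 0 1 1 * h34 = h34 * xr 0 1 1 := by decide +kernel
theorem rel_x32_h34 : xr 3 2 1 * h34 = h34 * xr 3 2 1 := by decide +kernel
theorem rel_t_h34 : tD * h34 = h34 * tD := by decide +kernel
theorem rel_t_x10 : tD * xr 1 0 1 * tD * xr 1 0 1 = 1 := by decide +kernel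
theorem rel_x01_x32 : xr 0 1 1 * xr 3 2 1 = xr 3 2 1 * xr 0 1 1 := by decide +kernel
theorem rel_x01_x23 : xr 0 1 1 * xr 2 3 1 = xr 2 3 1 * xr 0 1 1 := by decide +kernel
theorem rel_h34_sq : h34 * h34 = 1 := by decide +kernel
theorem rel_h12 : h12 = w12 * w12 := by decide +kernel
theorem rel_neg : ((h12 * h34 : SL4) : Matrix (Fin 4) (Fin 4) (ZMod 3)) = -1 := by decide +kernel
theorem rel_w12 : w12 = xr 0 1 1 * (xr 1 0 1)⁻¹ * xr 0 1 1 := by decide +kernel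

theorem xr32_pow : ∀ a : ZMod 3, xr 3 2 a = xr 3 2 1 ^ a.val := by decide +kernel
theorem xr23_pow : ∀ a : ZMod 3, xr 2 3 a = xr 2 3 1 ^ a.val := by decide +kernel

/-- the action on vectors -/
def vec (g : SL4) (v : V) : V := (g : Matrix (Fin 4) (Fin 4) (ZMod 3)) *ᵥ v

theorem vec_one (v : V) : vec 1 v = v := by simp [vec]

theorem vec_mul (g h : SL4) (v : V) : vec (g * h) v = vec g (vec h v) := by simp [vec, Matrix.mulVec_mulVec]

theorem vec_neg (g : SL4) (v : V) : vec g (-v) = -vec g v := by simp [vec, Matrix.mulVec_neg]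

theorem vec_zero (g : SL4) : vec g 0 = 0 := by simp [vec]

theorem vec_inj {g : SL4} {u v : V} (h : vec g u = vec g v) : u = v := by
  rw [← vec_one u, ← vec_one v, ← inv_mul_cancel g, vec_mul, vec_mul, h]

theorem vec_ne {g : SL4} {v : V} (h : v ≠ 0) : vec g v ≠ 0 := fun e => h (vec_inj (e.trans (vec_zero g).symm))

theorem vec_ext {g h : SL4} (e : ∀ j, vec g (Pi.single j 1) = vec h (Pi.single j 1)) : g = h := by
  apply Subtype.ext
  ext i j
  have := congrFun (e j) i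
  simpa [vec, Matrix.mulVec_single_one] using this

/-- the first basis vector -/
def e0 : V := Pi.single 0 1
/-- the second basis vector -/
def e1 : V := Pi.single 1 1

theorem mem_Pm_iff {g : SL4} : g ∈ Pm ↔ vec g e0 = e0 := Iff.rfl

/-- lying on the first line -/
def OnLine (v : V) : Prop := v 1 = 0 ∧ v 2 = 0 ∧ v 3 = 0

instance : DecidablePred OnLine := fun v => by unfold OnLine; infer_instance

theorem onLine_cases : ∀ v : V, v ≠ 0 → OnLine v → v = e0 ∨ v = -e0 := by decide +kernel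

theorem ne_facts : e0 ≠ 0 ∧ e1 ≠ 0 ∧ ¬ OnLine e1 ∧ ¬ OnLine (-e1) ∧ OnLine e0 ∧ OnLine (-e0) := by decide +kernel

theorem w12_vec : vec w12 e0 = -e1 ∧ vec h12 e0 = -e0 ∧ vec h12 (-e0) = e0 ∧ vec w12⁻¹ e1 = -e0 ∧ vec w12⁻¹ (-e1) = e0 := by
  decide +kernel

theorem s34_fix : ∀ p, vec (s34 p) e1 = e1 := by decide +kernel

/-- a matrix with prescribed second column -/
def kMat (v : V) : Matrix (Fin 4) (Fin 4) (ZMod 3) :=
  if v 1 ≠ 0 then !![1, v 0, 0, 0; 0, v 1, 0, 0; 0, v 2, v 1, 0; 0, v 3, 0, 1]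
  else if v 2 ≠ 0 then !![1, v 0, 0, 0; 0, v 1, -v 2, 0; 0, v 2, 0, 0; 0, v 3, 0, 1]
  else !![1, v 0, 0, 0; 0, v 1, v 3, 0; 0, v 2, 0, 1; 0, v 3, 0, 0]

theorem kMat_facts : ∀ v : V, ¬ OnLine v → (kMat v).det = 1 ∧ (∀ i, kMat v i 0 = if i = 0 then 1 else 0) ∧
    (∀ i, kMat v i 1 = v i) ∧ (v 3 = 0 → ∀ j, kMat v 3 j = if j = 3 then 1 else 0) := by decide +kernel

/-- an element of the point parabolic carrying the second basis vector to `v` -/
theorem exists_move {v : V} (hv : ¬ OnLine v) :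
    ∃ k : SL4, k ∈ Pm ∧ vec k e1 = v ∧ (v 3 = 0 → k ∈ Pd) := by
  obtain ⟨h₁, h₂, h₃, h₄⟩ := kMat_facts v hv
  refine ⟨⟨kMat v, h₁⟩, mem_Pm.2 h₂, ?_, fun h => mem_Pd.2 (h₄ h)⟩
  funext i
  simpa [vec, e1, Matrix.mulVec_single_one] using h₃ i

theorem row_fix : ∀ c d : ZMod 3, c ≠ 0 ∨ d ≠ 0 → ∃ p, c * (s34 p).1 2 2 + d * (s34 p).1 3 2 = 0 ∧
    c * (s34 p).1 2 3 + d * (s34 p).1 3 3 = 1 := by decide +kernel

theorem s34_shape : ∀ p, (s34 p).1 2 0 = 0 ∧ (s34 p).1 2 1 = 0 ∧ (s34 p).1 3 0 = 0 ∧ (s34 p).1 3 1 = 0 := by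
  decide +kernel

/-- clearing the last row -/
theorem exists_s34 {q : SL4} (h₁ : q ∈ Pm) (h₂ : q.1 3 1 = 0) : ∃ p, q * s34 p ∈ Pd := by
  have h0 : q.1 3 0 = 0 := by simpa using mem_Pm.1 h₁ 3
  have hne : q.1 3 2 ≠ 0 ∨ q.1 3 3 ≠ 0 := by
    by_contra hc
    simp only [not_or, not_not] at hc
    have hdet := q.2
    rw [Matrix.det_eq_zero_of_row_eq_zero 3 (fun j => by fin_cases j <;> simp [h0, h₂, hc.1, hc.2])] at hdet
    exact zero_ne_one hdet
  obtain ⟨p, hp2, hp3⟩ := row_fix _ _ hne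
  obtain ⟨a, b, c, d⟩ := s34_shape p
  refine ⟨p, mem_Pd.2 fun j => ?_⟩
  rw [Matrix.SpecialLinearGroup.coe_mul, Matrix.mul_apply, Fin.sum_univ_four, h0, h₂]
  fin_cases j
  · simp [a, c]
  · simp [b, d]
  · simpa using hp2
  · simpa using hp3

/-- a translation carrying the last basis vector -/
def nTr (a b : ZMod 3) : SL4 := xr 0 3 a * xr 1 3 b

theorem upper_facts : ∀ a b : ZMod 3, nTr a b ∈ Pm ∧ nTr a b ∈ Pd ∧
    w12 * nTr a b = nTr b (-a) * w12 ∧ vec (nTr a b) (Pi.single 3 1) = ![a, b, 0, 1] := by decide +kernel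

theorem s34_comm : ∀ p, w12 * s34 p = s34 p * w12 := by decide +kernel

theorem exists_low : ∀ v : V, v 3 ≠ 0 → ∃ p, vec (s34 p) ![v 0, v 1, 0, 1] = v := by decide +kernel

theorem exists_e2 : ∃ p, vec (s34 p) (Pi.single 2 1) = Pi.single 3 1 := by decide +kernel

theorem e2_facts : (Pi.single 2 1 : V) ≠ 0 ∧ (Pi.single 2 1 : V) 3 = 0 := by decide +kernel

/-- the central element is not moved to the second position -/
theorem zP_ne {k : SL4} (hk : k ∈ Pm) : k * mE (0, 1, 0, 0) ≠ mE (0, 0, 0, -1) * k := by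
  intro h
  have h' := congrArg (fun g : SL4 => (g : Matrix (Fin 4) (Fin 4) (ZMod 3))) h
  simp only [Matrix.SpecialLinearGroup.coe_mul, mE_coe] at h'
  have c0 := mem_Pm.1 hk
  have r0 := congrFun (congrFun h' 1) 0
  have r1 := congrFun (congrFun h' 1) 1
  have r2 := congrFun (congrFun h' 1) 2
  have r3 := congrFun (congrFun h' 1) 3
  simp [Matrix.mul_apply, Fin.sum_univ_four, c0] at r0 r1 r2 r3
  have hdet := k.2
  rw [Matrix.det_eq_zero_of_row_eq_zero 3 (fun j => by fin_cases j <;> simp_all)] at hdet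
  exact zero_ne_one hdet

theorem w12_conj : w12 * mE (0, 1, 0, 0) = mE (0, 0, 0, -1) * w12 := by decide +kernel

end CfsgLib.Recog.LFourThree.Ident
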