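import Cfsg.Agent.Lib.Recog.LFourThree.Model

/-!
Coordinates on the two parabolics of the model.
-/

set_option autoImplicit false

namespace CfsgLib.Recog.LFourThree

open Matrix

/-- The natural module of `SL(3,3)`. -/
abbrev Col3 := Fin 3 → ZMod 3

/-- `SL(3,3)` as the Levi factor. -/
abbrev Lev3 := Matrix.SpecialLinearGroup (Fin 3) (ZMod 3)

theorem det_col0 (M : Matrix (Fin 4) (Fin 4) (ZMod 3))
    (h : ∀ i, M i 0 = if i = 0 then 1 else 0) : M.det = (M.submatrix Fin.succ Fin.succ).det := by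
  rw [Matrix.det_succ_column_zero, Fin.sum_univ_succ]
  simp [h, Fin.succ_ne_zero]

theorem det_row3 (M : Matrix (Fin 4) (Fin 4) (ZMod 3))
    (h : ∀ j, M 3 j = if j = 3 then 1 else 0) :
    M.det = (M.submatrix Fin.castSucc Fin.castSucc).det := by
  rw [Matrix.det_succ_row M 3, Fin.sum_univ_castSucc]
  simp [h, show Fin.last 3 = (3 : Fin 4) from rfl, Fin.castSucc_ne_last,
    show (Fin.succAbove (3 : Fin 4)) = Fin.castSucc from Fin.succAbove_last,
    show ∀ j : Fin 3, (Fin.castSucc j = (3 : Fin 4)) = False from fun j => by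
      simpa using Fin.castSucc_ne_last j,
    show (-1 : ZMod 3) ^ (((3 : Fin 4) : ℕ) + ((3 : Fin 4) : ℕ)) = 1 by decide]
  rw [show ((-1 : ZMod 3) ^ 6) = 1 by decide, one_mul]

/-- the Levi part of an element of `Pm` -/
def levM : Pm →* Lev3 where
  toFun g := ⟨((g : SL4) : Matrix (Fin 4) (Fin 4) (ZMod 3)).submatrix Fin.succ Fin.succ, by
    rw [← det_col0 _ (mem_Pm.1 g.2), (g : SL4).det_coe]⟩
  map_one' := Subtype.ext (by
    simp only [Subgroup.coe_one, Matrix.SpecialLinearGroup.coe_one]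
    exact Matrix.submatrix_one _ (Fin.succ_injective 3))
  map_mul' g h := Subtype.ext (by
    ext i j
    simp only [Subgroup.coe_mul, Matrix.SpecialLinearGroup.coe_mul, Matrix.submatrix_apply,
      Matrix.mul_apply, Fin.sum_univ_succ (n := 3)]
    rw [mem_Pm.1 g.2 i.succ, if_neg (Fin.succ_ne_zero i), zero_mul, zero_add]
    rfl)

/-- the unipotent coordinates of an element of `Pm` -/
def rowM (g : Pm) : Col3 := fun j => ((g : SL4) : Matrix (Fin 4) (Fin 4) (ZMod 3)) 0 j.succ

theorem rowM_mul (g h : Pm) :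
    rowM (g * h) = rowM h + rowM g ᵥ* (levM h : Matrix (Fin 3) (Fin 3) (ZMod 3)) := by
  ext j
  simp only [rowM, Subgroup.coe_mul, Matrix.SpecialLinearGroup.coe_mul, Pi.add_apply,
    Matrix.mul_apply, Fin.sum_univ_succ (n := 3), Matrix.vecMul, dotProduct]
  rw [mem_Pm.1 g.2 0, if_pos rfl, one_mul]
  rfl

/-- an element of `Pm` from its parts -/
def mkM (v : Col3) (A : Lev3) : Pm :=
  ⟨⟨Matrix.of fun i j => Fin.cases (Fin.cases 1 v j) (fun i' => Fin.cases 0 (A.1 i') j) i, by
    rw [det_col0 _ fun i => by cases i using Fin.cases <;> simp [Fin.succ_ne_zero]]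
    exact A.2⟩, mem_Pm.2 fun i => by cases i using Fin.cases <;> simp [Fin.succ_ne_zero]⟩

theorem levM_mkM (v : Col3) (A : Lev3) : levM (mkM v A) = A := Subtype.ext (by ext i j; rfl)

theorem rowM_mkM (v : Col3) (A : Lev3) : rowM (mkM v A) = v := rfl

theorem ext_Pm {g h : Pm} (h1 : levM g = levM h) (h2 : rowM g = rowM h) : g = h := by
  refine Subtype.ext (Subtype.ext ?_)
  ext i j
  cases j using Fin.cases with
  | zero => exact (mem_Pm.1 g.2 i).trans (mem_Pm.1 h.2 i).symm
  | succ j =>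
    cases i using Fin.cases with
    | zero => exact congrFun h2 j
    | succ i => exact congrFun (congrFun (congrArg Subtype.val h1) i) j

theorem mem_Em {g : Pm} : g ∈ Em ↔ levM g = 1 := by
  rw [Em, Subgroup.mem_subgroupOf, mem_patGroup]
  constructor
  · intro h
    refine Subtype.ext ?_
    ext i j
    show ((g : SL4) : Matrix (Fin 4) (Fin 4) (ZMod 3)) i.succ j.succ = _
    rw [h i.succ j.succ (by simp [patE, Fin.succ_ne_zero])]
    simp [Matrix.one_apply]
  · intro h i j hij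
    cases j using Fin.cases with
    | zero => exact mem_Pm.1 g.2 i
    | succ j =>
      cases i using Fin.cases with
      | zero => simp [patE, Fin.succ_ne_zero] at hij
      | succ i =>
        have := congrFun (congrFun (congrArg Subtype.val h) i) j
        simp only [Matrix.SpecialLinearGroup.coe_one, Matrix.one_apply] at this
        rw [show ((g : SL4) : Matrix (Fin 4) (Fin 4) (ZMod 3)) i.succ j.succ = _ from this]
        simp

/-- the Levi part of an element of `Pd` -/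
def levD : Pd →* Lev3 where
  toFun g := ⟨((g : SL4) : Matrix (Fin 4) (Fin 4) (ZMod 3)).submatrix Fin.castSucc Fin.castSucc, by
    rw [← det_row3 _ (mem_Pd.1 g.2), (g : SL4).det_coe]⟩
  map_one' := Subtype.ext (by
    simp only [Subgroup.coe_one, Matrix.SpecialLinearGroup.coe_one]
    exact Matrix.submatrix_one _ (Fin.castSucc_injective 3))
  map_mul' g h := Subtype.ext (by
    ext i j
    simp only [Subgroup.coe_mul, Matrix.SpecialLinearGroup.coe_mul, Matrix.submatrix_apply,
      Matrix.mul_apply, Fin.sum_univ_castSucc (n := 3)]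
    rw [show Fin.last 3 = (3 : Fin 4) from rfl, mem_Pd.1 h.2 j.castSucc,
      if_neg (show j.castSucc ≠ (3 : Fin 4) from Fin.castSucc_ne_last j), mul_zero, add_zero]
    rfl)

/-- the translation part of an element of `Pd` -/
def colD (g : Pd) : Col3 := fun i => ((g : SL4) : Matrix (Fin 4) (Fin 4) (ZMod 3)) i.castSucc 3

theorem colD_mul (g h : Pd) :
    colD (g * h) = colD g + (levD g : Matrix (Fin 3) (Fin 3) (ZMod 3)) *ᵥ colD h := by
  ext i
  simp only [colD, Subgroup.coe_mul, Matrix.SpecialLinearGroup.coe_mul, Pi.add_apply,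
    Matrix.mul_apply, Fin.sum_univ_castSucc (n := 3), Matrix.mulVec, dotProduct]
  rw [show Fin.last 3 = (3 : Fin 4) from rfl, mem_Pd.1 h.2 3, if_pos rfl, mul_one, add_comm]
  rfl

/-- an element of `Pd` from its parts -/
def mkD (w : Col3) (A : Lev3) : Pd :=
  ⟨⟨!![A.1 0 0, A.1 0 1, A.1 0 2, w 0; A.1 1 0, A.1 1 1, A.1 1 2, w 1;
      A.1 2 0, A.1 2 1, A.1 2 2, w 2; 0, 0, 0, 1], by
    rw [det_row3 _ fun j => by fin_cases j <;> simp]
    convert A.2 using 2
    ext i j
    fin_cases i <;> fin_cases j <;> rfl⟩,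
    mem_Pd.2 fun j => by fin_cases j <;> simp⟩

theorem levD_mkD (w : Col3) (A : Lev3) : levD (mkD w A) = A :=
  Subtype.ext (by ext i j; fin_cases i <;> fin_cases j <;> rfl)

theorem colD_mkD (w : Col3) (A : Lev3) : colD (mkD w A) = w := by
  ext i; fin_cases i <;> rfl

theorem ext_Pd {g h : Pd} (h1 : levD g = levD h) (h2 : colD g = colD h) : g = h := by
  refine Subtype.ext (Subtype.ext ?_)
  ext i j
  cases i using Fin.lastCases with
  | last => exact (mem_Pd.1 g.2 j).trans (mem_Pd.1 h.2 j).symm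
  | cast i =>
    cases j using Fin.lastCases with
    | last => exact congrFun h2 i
    | cast j => exact congrFun (congrFun (congrArg Subtype.val h1) i) j

theorem mem_Cm {g : Pm} : g ∈ Cm ↔ (g : SL4) ∈ Pd := Subgroup.mem_subgroupOf

/-- The centraliser of the central element in `Pm`. -/
theorem comm_zP {g : Pm} : g * zP = zP * g ↔ g ∈ Cm := by
  rw [mem_Cm, mem_Pd]
  refine Subtype.ext_iff.trans (Subtype.ext_iff.trans ?_)
  have h0 := mem_Pm.1 g.2
  show (g : SL4).1 * Matrix.transvection 0 3 1 = Matrix.transvection 0 3 1 * (g : SL4).1 ↔ _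
  simp only [Matrix.transvection,
    Matrix.mul_add, Matrix.add_mul, Matrix.mul_one, Matrix.one_mul, add_right_inj]
  rw [← Matrix.ext_iff]
  constructor
  · intro h j
    have := h 0 j
    by_cases hj : j = 3
    · subst hj; simpa [h0] using this.symm
    · simpa [h0, hj] using this.symm
  · intro h i j
    by_cases hi : i = 0
    · subst hi
      by_cases hj : j = 3
      · subst hj; simp [h0, h]
      · simp [h, hj]
    · by_cases hj : j = 3
      · subst hj; simp [h0, hi]
      · simp [hi, hj]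

theorem Qm_le_Cm : Qm ≤ Cm := by
  intro g hg
  rw [mem_Cm, mem_Pd]
  intro j
  rw [(mem_patGroup.1 (Subgroup.mem_subgroupOf.1 hg)) 3 j (by revert j; decide)]
  simp [eq_comm]

/-- the middle block -/
def midM (g : Pm) : Matrix (Fin 2) (Fin 2) (ZMod 3) :=
  ((g : SL4) : Matrix (Fin 4) (Fin 4) (ZMod 3)).submatrix ![1, 2] ![1, 2]

theorem midM_mul (g h : Pm) (hh : h ∈ Cm) : midM (g * h) = midM g * midM h := by
  ext i j
  have hg := mem_Pm.1 g.2
  have hh' := mem_Pd.1 (mem_Cm.1 hh)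
  simp only [midM, Subgroup.coe_mul, Matrix.SpecialLinearGroup.coe_mul, Matrix.submatrix_apply,
    Matrix.mul_apply, Fin.sum_univ_four, Fin.sum_univ_two]
  fin_cases i <;> fin_cases j <;> simp [hg, hh']

theorem mem_Qm {g : Pm} : g ∈ Qm ↔ g ∈ Cm ∧ midM g = 1 := by
  constructor
  · intro hg
    refine ⟨Qm_le_Cm hg, ?_⟩
    have h := mem_patGroup.1 (Subgroup.mem_subgroupOf.1 hg)
    ext i j
    fin_cases i <;> fin_cases j <;>
      simp [midM, Matrix.one_apply, h 1 1 rfl, h 1 2 rfl, h 2 1 rfl, h 2 2 rfl]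
  · rintro ⟨hC, hm⟩
    have hg := mem_Pm.1 g.2
    have hg' := mem_Pd.1 (mem_Cm.1 hC)
    refine Subgroup.mem_subgroupOf.2 (mem_patGroup.2 fun i j hij => ?_)
    have h11 := congrFun (congrFun hm 0) 0
    have h12 := congrFun (congrFun hm 0) 1
    have h21 := congrFun (congrFun hm 1) 0
    have h22 := congrFun (congrFun hm 1) 1
    simp [midM] at h11 h12 h21 h22
    fin_cases i <;> fin_cases j <;> simp_all [patQ, patE, patF]

theorem Qm_normal {c q : Pm} (hc : c ∈ Cm) (hq : q ∈ Qm) : c * q * c⁻¹ ∈ Qm := by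
  rw [mem_Qm] at hq ⊢
  refine ⟨Cm.mul_mem (Cm.mul_mem hc hq.1) (Cm.inv_mem hc), ?_⟩
  rw [midM_mul _ _ (Cm.inv_mem hc), midM_mul _ _ hq.1, hq.2, mul_one,
    ← midM_mul _ _ (Cm.inv_mem hc), mul_inv_cancel]
  ext i j
  fin_cases i <;> fin_cases j <;> rfl

/-- the Sylow group in coordinates -/
def mkS (p : ZMod 3 × ZMod 3 × ZMod 3 × ZMod 3 × ZMod 3 × ZMod 3) : SL4 :=
  ⟨!![1, p.1, p.2.1, p.2.2.1; 0, 1, p.2.2.2.1, p.2.2.2.2.1; 0, 0, 1, p.2.2.2.2.2; 0, 0, 0, 1], by
    revert p; decide +kernel⟩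

theorem mkS_mem (p) : mkS p ∈ Pm := mem_Pm.2 fun i => by fin_cases i <;> simp [mkS]

/-- coordinates of the Sylow group -/
def equivS : ZMod 3 × ZMod 3 × ZMod 3 × ZMod 3 × ZMod 3 × ZMod 3 ≃ Sm where
  toFun p := ⟨⟨mkS p, mkS_mem p⟩, Subgroup.mem_subgroupOf.2 (mem_patGroup.2 fun i j h => by
    fin_cases i <;> fin_cases j <;> simp_all [patS, mkS])⟩
  invFun g := ((g.1 : SL4).1 0 1, (g.1 : SL4).1 0 2, (g.1 : SL4).1 0 3, (g.1 : SL4).1 1 2,
    (g.1 : SL4).1 1 3, (g.1 : SL4).1 2 3)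
  left_inv p := by simp [mkS]
  right_inv g := by
    refine Subtype.ext (Subtype.ext (Subtype.ext ?_))
    have h := mem_patGroup.1 (Subgroup.mem_subgroupOf.1 g.2)
    ext i j
    fin_cases i <;> fin_cases j <;>
      simp [mkS, h 0 0 rfl, h 1 0 rfl, h 1 1 rfl, h 2 0 rfl, h 2 1 rfl, h 2 2 rfl, h 3 0 rfl,
        h 3 1 rfl, h 3 2 rfl, h 3 3 rfl]

theorem card_Sm : Nat.card Sm = 729 := by
  rw [← Nat.card_congr equivS]
  simp

theorem Qm_le_Sm : Qm ≤ Sm := fun g hg => by
  have h := mem_patGroup.1 (Subgroup.mem_subgroupOf.1 hg)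
  refine Subgroup.mem_subgroupOf.2 (mem_patGroup.2 fun i j hij => h i j ?_)
  revert hij
  revert i j
  decide

theorem card_Qm_ge : 243 ≤ Nat.card Qm := by
  let g : ZMod 3 × ZMod 3 × ZMod 3 × ZMod 3 × ZMod 3 → Qm := fun q =>
    ⟨(equivS (q.1, q.2.1, q.2.2.1, 0, q.2.2.2.1, q.2.2.2.2)).1, mem_Qm.2 ⟨mem_Cm.2 (mem_Pd.2
      fun j => by fin_cases j <;> rfl), by ext i j; fin_cases i <;> fin_cases j <;> rfl⟩⟩
  have hg : Function.Injective g := fun a b h => by
    have h' := equivS.injective (Subtype.ext (congrArg (fun x : Qm => x.1) h))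
    obtain ⟨a1, a2, a3, a4, a5⟩ := a
    obtain ⟨b1, b2, b3, b4, b5⟩ := b
    simpa using h'
  refine le_trans ?_ (Nat.card_le_card_of_injective g hg)
  simp

end CfsgLib.Recog.LFourThree
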