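import Cfsg.Agent.Lib.Recog.LFourThree.LocalSplit
import Cfsg.Agent.Lib.Recog.LFourThree.LocalModel
import Cfsg.Agent.Lib.Recog.LFourThree.Base

/-!
The parabolic attached to a pair of centres is a base.
-/

set_option autoImplicit false

namespace CfsgLib.Recog.LFourThree

open Subgroup Matrix

universe u

variable {G : Type u} [Group G]

theorem pow_val_add {g : G} (h : g ^ 3 = 1) (a b : ZMod 3) :
    g ^ (a + b).val = g ^ a.val * g ^ b.val := by
  rw [← pow_add, ZMod.val_add, ← pow_eq_pow_mod _ h]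

theorem affine_aux (A B : Lev3) (v w : Col3) :
    (w + v ᵥ* B.1) ᵥ* ((A * B)⁻¹ : Lev3).1 =
      v ᵥ* (A⁻¹ : Lev3).1 + (A⁻¹ : Lev3).1ᵀ *ᵥ (w ᵥ* (B⁻¹ : Lev3).1) := by
  have h1 : B * (A * B)⁻¹ = A⁻¹ := by group
  have h2 : (A * B)⁻¹ = B⁻¹ * A⁻¹ := _root_.mul_inv_rev A B
  have key : ∀ C A' B' : Lev3, B * C = A' → C = B' * A' →
      (w + v ᵥ* B.1) ᵥ* C.1 = v ᵥ* A'.1 + A'.1ᵀ *ᵥ (w ᵥ* B'.1) := by
    intro C A' B' e1 e2
    rw [Matrix.add_vecMul, Matrix.vecMul_vecMul, ← Matrix.SpecialLinearGroup.coe_mul, e1,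
      Matrix.mulVec_transpose, Matrix.vecMul_vecMul, ← Matrix.SpecialLinearGroup.coe_mul, ← e2,
      add_comm]
  exact key _ _ _ h1 h2

/-- The affine map attached to coordinates and a complement, on row vectors. -/
theorem affine_row {e : Col3 → G} {κ : Lev3 →* G} (hadd : ∀ a b, e (a + b) = e a * e b)
    (hconj : ∀ (A : Lev3) (a : Col3), κ A * e a = e ((A : Matrix (Fin 3) (Fin 3) (ZMod 3)) *ᵥ a) * κ A)
    (hfree : ∀ a A, e a * κ A = 1 → a = 0 ∧ A = 1) :
    ∃ ψ : Pm →* G, Function.Injective ψ ∧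
      (∀ g, ψ g = e (rowM g ᵥ* ((levM g)⁻¹ : Lev3).1) * κ (levM g)⁻¹.transpose) ∧
      (∀ a A, ∃ g, ψ g = e a * κ A) := by
  have h0 : e 0 = 1 := by
    have h := hadd 0 0
    rwa [add_zero, left_eq_mul] at h
  let T : Lev3 → Lev3 := fun A => A⁻¹.transpose
  have hT : ∀ A B, T (A * B) = T A * T B := fun A B => by
    refine Subtype.ext ?_
    simp only [T, _root_.mul_inv_rev]
    exact Matrix.transpose_mul _ _
  have hTT : ∀ A, T (T A) = A := fun A => by
    have h : ∀ B : Lev3, B⁻¹.transpose = (B.transpose)⁻¹ := fun B => by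
      refine eq_inv_of_mul_eq_one_right (Subtype.ext ?_)
      show B.1ᵀ * (B⁻¹ : Lev3).1ᵀ = 1
      rw [← Matrix.transpose_mul, ← Matrix.SpecialLinearGroup.coe_mul, inv_mul_cancel,
        Matrix.SpecialLinearGroup.coe_one, Matrix.transpose_one]
    show (A⁻¹.transpose)⁻¹.transpose = A
    rw [← h A⁻¹, inv_inv]
    exact Subtype.ext (Matrix.transpose_transpose _)
  let c : Pm → Col3 := fun g => rowM g ᵥ* ((levM g)⁻¹ : Lev3).1
  have hT1 : T 1 = 1 := by
    have h := hT 1 1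
    rwa [mul_one, left_eq_mul] at h
  have hc : ∀ g h, c (g * h) = c g + (T (levM g)).1 *ᵥ c h := by
    intro g h
    show rowM (g * h) ᵥ* ((levM (g * h))⁻¹ : Lev3).1 = _
    rw [rowM_mul, map_mul]
    exact affine_aux (levM g) (levM h) (rowM g) (rowM h)
  let ψ : Pm →* G :=
    { toFun := fun g => e (c g) * κ (T (levM g))
      map_one' := by
        rw [map_one, hT1, map_one, mul_one,
          show c 1 = 0 from ?_, h0]
        have hr : rowM 1 = 0 := by
          ext j; fin_cases j <;> rfl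
        show rowM 1 ᵥ* _ = 0
        rw [hr, Matrix.zero_vecMul]
      map_mul' := fun g h => by
        rw [hc, hadd, map_mul, hT, map_mul]
        calc e (c g) * e ((T (levM g)).1 *ᵥ c h) * (κ (T (levM g)) * κ (T (levM h)))
            = e (c g) * (e ((T (levM g)).1 *ᵥ c h) * κ (T (levM g))) * κ (T (levM h)) := by group
          _ = e (c g) * (κ (T (levM g)) * e (c h)) * κ (T (levM h)) := by rw [hconj]
          _ = _ := by group }
  refine ⟨ψ, (injective_iff_map_eq_one _).2 fun g hg => ?_, fun g => rfl, fun a A => ?_⟩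
  · obtain ⟨h1, h2⟩ := hfree _ _ hg
    have hl : levM g = 1 := by rw [← hTT (levM g), h2, hT1]
    refine ext_Pm (hl.trans (map_one levM).symm) ?_
    have hv : rowM g = c g ᵥ* (levM g).1 := by
      show _ = rowM g ᵥ* _ ᵥ* _
      rw [Matrix.vecMul_vecMul, ← Matrix.SpecialLinearGroup.coe_mul, inv_mul_cancel,
        Matrix.SpecialLinearGroup.coe_one, Matrix.vecMul_one]
    rw [hv, h1, Matrix.zero_vecMul]
    ext j; fin_cases j <;> rfl
  · refine ⟨mkM (a ᵥ* (T A).1) (T A), ?_⟩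
    show e (c _) * κ (T (levM _)) = _
    rw [levM_mkM, hTT]
    congr 2
    show rowM _ ᵥ* _ = a
    rw [rowM_mkM, levM_mkM, Matrix.vecMul_vecMul, ← Matrix.SpecialLinearGroup.coe_mul,
      mul_inv_cancel, Matrix.SpecialLinearGroup.coe_one, Matrix.vecMul_one]

variable [Finite G]

namespace Pr

variable {D D' : Std G} (p : Pr D D')
include p

/-- Coordinates on the common elementary group. -/
theorem exists_coord : ∃ e : Col3 → G, (∀ a b, e (a + b) = e a * e b) ∧ Function.Injective e ∧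
    (∀ a, e a ∈ D.Q ⊓ D'.Q) ∧ e ![0, 0, 1] = D.z := by
  obtain ⟨f⟩ := p.exists_frame
  set E := D.Q ⊓ D'.Q with hE
  have hspan : E = zpowers D.z ⊔ zpowers D'.z ⊔ zpowers (p.yy f) := by
    rw [hE, ← p.espan_eq, p.span_eq f]
  have hzE : D.z ∈ E := ⟨D.z_mem, p.symm.mem⟩
  have hyE : D'.z ∈ E := ⟨p.mem, D'.z_mem⟩
  have hwE : p.yy f ∈ E := hspan.ge (mem_sup_right (mem_zpowers _))
  let e : Col3 → G := fun a => D'.z ^ (a 0).val * p.yy f ^ (a 1).val * D.z ^ (a 2).val
  have hadd : ∀ a b, e (a + b) = e a * e b := by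
    intro a b
    simp only [e, Pi.add_apply]
    rw [pow_val_add D'.z_cube, pow_val_add (D.Q_exp _ (p.yy_mem f)), pow_val_add D.z_cube]
    have c1 : Commute (D'.z ^ (b 0).val) (p.yy f ^ (a 1).val) :=
      p.A_comm (pow_mem hyE _) (pow_mem hwE _)
    have c2 : Commute (D'.z ^ (b 0).val * p.yy f ^ (b 1).val) (D.z ^ (a 2).val) :=
      p.A_comm (mul_mem (pow_mem hyE _) (pow_mem hwE _)) (pow_mem hzE _)
    calc D'.z ^ (a 0).val * D'.z ^ (b 0).val * (p.yy f ^ (a 1).val * p.yy f ^ (b 1).val) *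
          (D.z ^ (a 2).val * D.z ^ (b 2).val)
        = D'.z ^ (a 0).val * (D'.z ^ (b 0).val * p.yy f ^ (a 1).val) * p.yy f ^ (b 1).val *
            D.z ^ (a 2).val * D.z ^ (b 2).val := by group
      _ = D'.z ^ (a 0).val * p.yy f ^ (a 1).val *
            ((D'.z ^ (b 0).val * p.yy f ^ (b 1).val) * D.z ^ (a 2).val) * D.z ^ (b 2).val := by
          rw [c1.eq]; group
      _ = _ := by rw [c2.eq]; group
  have hmem : ∀ a, e a ∈ E := fun a =>
    mul_mem (mul_mem (pow_mem hyE _) (pow_mem hwE _)) (pow_mem hzE _)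
  let K : Subgroup G :=
    (MonoidHom.mk' (fun a : Multiplicative Col3 => e a.toAdd) fun a b => hadd _ _).range
  have hK : ∀ x ∈ E, x ∈ K := by
    have h1 : zpowers D.z ⊔ zpowers D'.z ⊔ zpowers (p.yy f) ≤ K := by
      refine sup_le (sup_le (zpowers_le.2 ⟨Multiplicative.ofAdd ![0, 0, 1], ?_⟩)
        (zpowers_le.2 ⟨Multiplicative.ofAdd ![1, 0, 0], ?_⟩))
        (zpowers_le.2 ⟨Multiplicative.ofAdd ![0, 1, 0], ?_⟩) <;>
        simp [e, ZMod.val_one]
    exact fun x hx => h1 (hspan.le hx)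
  have hb : Function.Bijective (fun a => (⟨e a, hmem a⟩ : E)) :=
    (Nat.bijective_iff_surjective_and_card _).2 ⟨fun x => by
      obtain ⟨a, ha⟩ := hK x x.2
      exact ⟨a.toAdd, Subtype.ext ha⟩, by
      rw [show Nat.card E = 27 from p.card_A, Nat.card_eq_fintype_card, Fintype.card_fun,
        ZMod.card, Fintype.card_fin]; norm_num⟩
  exact ⟨e, hadd, fun a b h => hb.1 (Subtype.ext h), hmem, by simp [e, ZMod.val_one]⟩

/-- The base attached to a pair. -/
theorem exists_base : ∃ B : Base G, B.ψ zP = D.z ∧ Em.map B.ψ = D.Q ⊓ D'.Q ∧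
    Qm.map B.ψ = D.Q := by
  obtain ⟨e, hadd, hinj, hmem, hz⟩ := p.exists_coord
  obtain ⟨κ, hconj, hN, hfree⟩ := p.exists_split e hadd hinj hmem
  obtain ⟨ψ, hψ, hψdef, hψsurj⟩ := affine_row hadd hconj hfree
  have hE : Em.map ψ = D.Q ⊓ D'.Q := by
    refine eq_of_le_of_card_ge ?_ ?_
    · rintro _ ⟨g, hg, rfl⟩
      rw [hψdef, mem_Em.1 hg, inv_one]
      rw [show (1 : Lev3).transpose = 1 from Subtype.ext Matrix.transpose_one, map_one, mul_one]
      exact hmem _
    · rw [p.card_A, card_map_of_injective hψ]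
      have hinj' : Function.Injective (fun v : Col3 => (⟨mkM v 1, mem_Em.2 (levM_mkM v 1)⟩ : Em)) :=
        fun a b h => by
          have := congrArg (fun g : Em => rowM g.1) h
          exact this
      refine le_trans ?_ (Nat.card_le_card_of_injective _ hinj')
      simp
  have hrange : normalizer ((Em.map ψ : Subgroup G) : Set G) = ψ.range := by
    rw [hE]
    refine le_antisymm (fun n hn => ?_) ?_
    · obtain ⟨a, A, rfl⟩ := (hN n).1 hn
      exact hψsurj a A
    · rintro _ ⟨g, rfl⟩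
      exact (hN _).2 ⟨_, _, hψdef g⟩
  have hz' : ψ zP = D.z := by
    rw [hψdef, show levM zP = 1 by decide +kernel, inv_one,
      show (1 : Lev3).transpose = 1 from Subtype.ext Matrix.transpose_one, map_one, mul_one]
    rw [Matrix.SpecialLinearGroup.coe_one, Matrix.vecMul_one,
      show rowM zP = ![0, 0, 1] by decide +kernel, hz]
  have hcent : centralizer ({ψ zP} : Set G) = Cm.map ψ := by
    refine le_antisymm (fun x hx => ?_) ?_
    · rw [hz'] at hx
      obtain ⟨g, rfl⟩ : x ∈ ψ.range := by rw [← hrange, hE]; exact p.C_le_norm hx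
      refine ⟨g, comm_zP.1 (hψ ?_), rfl⟩
      rw [map_mul, map_mul, hz']
      exact D.mem_C.1 hx
    · rintro _ ⟨g, hg, rfl⟩
      refine mem_centralizer_singleton_iff.2 ?_
      rw [← map_mul, ← map_mul, comm_zP.2 hg]
  haveI : Fact (Nat.Prime 3) := ⟨Nat.prime_three⟩
  have hS3 : IsPGroup 3 (Sm.map ψ) :=
    (IsPGroup.of_card (n := 6) (by rw [card_Sm]; norm_num)).map ψ
  have hcardS : Nat.card (D.S : Subgroup G) ≤ 729 := by
    obtain ⟨k, hk⟩ := IsPGroup.iff_card.1 D.S.isPGroup'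
    have hd := card_dvd_of_le D.S_le
    rw [D.card_C, hk] at hd
    rw [hk]
    by_contra hcon
    have h7 : 7 ≤ k := by
      by_contra h
      push_neg at h
      exact hcon ((Nat.pow_le_pow_right (by norm_num) (by omega : k ≤ 6)).trans (by norm_num))
    have := (pow_dvd_pow 3 h7).trans hd
    norm_num at this
  have hsyl : ∃ S : Sylow 3 G, (S : Subgroup G) = Sm.map ψ := by
    obtain ⟨S, hS⟩ := hS3.exists_le_sylow
    refine ⟨S, (eq_of_le_of_card_ge hS ?_).symm⟩
    rw [card_map_of_injective hψ, card_Sm, S.card_eq_multiplicity]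
    rwa [D.S.card_eq_multiplicity] at hcardS
  have hQ : Qm.map ψ = D.Q := by
    have hle : Qm.map ψ ≤ D.Q := by
      refine D.normal_le ?_ (hS3.to_le (map_mono Qm_le_Sm)) ?_
      · exact (map_mono Qm_le_Cm).trans (by rw [← hcent, hz'])
      · rintro c hc _ ⟨q, hq, rfl⟩
        have hc1 : c ∈ Cm.map ψ := by rw [← hcent, hz']; exact hc
        obtain ⟨c, hc', rfl⟩ := hc1
        exact ⟨c * q * c⁻¹, Qm_normal hc' hq, by rw [map_mul, map_mul, map_inv]⟩
    refine eq_of_le_of_card_ge hle ?_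
    rw [D.Q_card, card_map_of_injective hψ]
    exact card_Qm_ge
  exact ⟨⟨ψ, hψ, hrange, hcent, hsyl⟩, hz', hE, hQ⟩

end Pr

end CfsgLib.Recog.LFourThree
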