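import Cfsg.Agent.Lib.Recog.LFourThree.LocalStd

/-!
Elementary consequences of the standard data and their conjugates.
-/

set_option autoImplicit false

namespace CfsgLib.Recog.LFourThree

open Subgroup

universe u

variable {G : Type u} [Group G]

theorem orderOf_conj_elem (g x : G) : orderOf (g * x * g⁻¹) = orderOf x :=
  MulEquiv.orderOf_eq (MulAut.conj g) x

theorem sl_three_not_normal : ∀ g : SL2, g ^ 3 = 1 → g ≠ 1 →
    ∃ w : SL2, (g * (w * g * w⁻¹)) ^ 3 ≠ 1 := by decide +kernel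

namespace Std

variable (D : Std G)

/-- the centraliser of the central element -/
abbrev C : Subgroup G := centralizer ({D.z} : Set G)

theorem mem_C {g : G} : g ∈ D.C ↔ g * D.z = D.z * g := mem_centralizer_singleton_iff

theorem comm_zpow {g x : G} (hg : g ∈ D.C) (hx : x ∈ zpowers D.z) : g * x = x * g := by
  obtain ⟨n, rfl⟩ := mem_zpowers_iff.1 hx
  exact ((show Commute g D.z from D.mem_C.1 hg).zpow_right n).eq

theorem z_cube : D.z ^ 3 = 1 := by rw [← D.z_order]; exact pow_orderOf_eq_one D.z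

theorem z_ne : D.z ≠ 1 := fun h => by
  have := D.z_order
  rw [h, orderOf_one] at this
  norm_num at this

theorem Z_le_Q : zpowers D.z ≤ D.Q := zpowers_le.2 D.z_mem

theorem mem_ker {c : D.C} : D.π c = 1 ↔ (c : G) ∈ D.Q := by
  rw [← MonoidHom.mem_ker, D.π_ker, mem_subgroupOf]

theorem conj_Q {c q : G} (hc : c ∈ D.C) (hq : q ∈ D.Q) : c * q * c⁻¹ ∈ D.Q := by
  have h : (⟨q, D.Q_le hq⟩ : D.C) ∈ D.π.ker := by rw [D.π_ker]; exact mem_subgroupOf.2 hq
  have h2 := D.π.normal_ker.conj_mem _ h ⟨c, hc⟩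
  rw [D.π_ker, mem_subgroupOf] at h2
  exact h2

theorem exists_pow_eq {x : G} (hx : x ∈ zpowers D.z) : ∃ k : ℕ, k < 3 ∧ x = D.z ^ k := by
  haveI : Fact (Nat.Prime 3) := ⟨Nat.prime_three⟩
  obtain ⟨n, rfl⟩ := mem_zpowers_iff.1 hx
  refine ⟨(n % 3).toNat, by omega, ?_⟩
  have h : D.z ^ (3 : ℤ) = 1 := by
    rw [show (3 : ℤ) = ((3 : ℕ) : ℤ) from rfl, zpow_natCast, D.z_cube]
  rw [← zpow_natCast, Int.toNat_of_nonneg (by omega)]
  conv_lhs => rw [← Int.mul_ediv_add_emod n 3, zpow_add, zpow_mul, h, one_zpow, one_mul]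

/-- A normal `3`-subgroup of the centraliser lies in `Q`. -/
theorem normal_le [Finite G] {R : Subgroup G} (hRC : R ≤ D.C) (hR : IsPGroup 3 R)
    (hn : ∀ c ∈ D.C, ∀ r ∈ R, c * r * c⁻¹ ∈ R) : R ≤ D.Q := by
  haveI : Fact (Nat.Prime 3) := ⟨Nat.prime_three⟩
  intro r hr
  have key : ∀ x : G, ∀ (hx : x ∈ R), D.π ⟨x, hRC hx⟩ ^ 3 = 1 := by
    intro x hx
    obtain ⟨k, hk⟩ := hR ⟨x, hx⟩
    have h1 : x ^ 3 ^ k = 1 := congrArg Subtype.val hk
    have h2 : D.π ⟨x, hRC hx⟩ ^ 3 ^ k = 1 := by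
      rw [← map_pow, show (⟨x, hRC hx⟩ : D.C) ^ 3 ^ k = 1 from Subtype.ext h1, map_one]
    have h3 : ∀ g : SL2, g ^ 24 = 1 := by decide +kernel
    have hd : orderOf (D.π ⟨x, hRC hx⟩) ∣ Nat.gcd (3 ^ k) 24 :=
      Nat.dvd_gcd (orderOf_dvd_of_pow_eq_one h2) (orderOf_dvd_of_pow_eq_one (h3 _))
    obtain ⟨m, hm, e⟩ := (Nat.dvd_prime_pow Nat.prime_three).1 (hd.trans (Nat.gcd_dvd_left _ _))
    have h24 : 3 ^ m ∣ 24 := e ▸ hd.trans (Nat.gcd_dvd_right _ _)
    have hm2 : m < 2 := by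
      by_contra hcon
      push_neg at hcon
      have : 9 ∣ 24 := (pow_dvd_pow 3 hcon).trans h24
      norm_num at this
    refine orderOf_dvd_iff_pow_eq_one.1 ?_
    rw [e]
    exact pow_dvd_pow 3 (by omega : m ≤ 1)
  rw [← D.mem_ker (c := ⟨r, hRC hr⟩)]
  by_contra hne
  obtain ⟨w, hw⟩ := sl_three_not_normal _ (key r hr) hne
  obtain ⟨c, rfl⟩ := D.π_surj w
  refine hw ?_
  have h := key (r * ((c : G) * r * (c : G)⁻¹)) (R.mul_mem hr (hn c c.2 r hr))
  rw [show (⟨r * ((c : G) * r * (c : G)⁻¹), hRC (R.mul_mem hr (hn c c.2 r hr))⟩ : D.C) =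
    ⟨r, hRC hr⟩ * (c * ⟨r, hRC hr⟩ * c⁻¹) from rfl, map_mul, map_mul, map_mul, map_inv] at h
  exact h

/-- The normaliser of the centre normalises `Q`. -/
theorem norm_Q [Finite G] {g : G} (hg : g * D.z * g⁻¹ ∈ zpowers D.z) {q : G} (hq : q ∈ D.Q) :
    g * q * g⁻¹ ∈ D.Q := by
  haveI : Fact (Nat.Prime 3) := ⟨Nat.prime_three⟩
  have hzz : zpowers (g * D.z * g⁻¹) = zpowers D.z := eq_of_le_of_card_ge (zpowers_le.2 hg) (by
    rw [Nat.card_zpowers, Nat.card_zpowers, orderOf_conj_elem])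
  have hC : ∀ c ∈ D.C, g⁻¹ * c * g ∈ D.C := by
    intro c hc
    rw [D.mem_C]
    have h := D.comm_zpow hc hg
    calc g⁻¹ * c * g * D.z = g⁻¹ * (c * (g * D.z * g⁻¹)) * g := by group
      _ = g⁻¹ * ((g * D.z * g⁻¹) * c) * g := by rw [h]
      _ = D.z * (g⁻¹ * c * g) := by group
  have hgC : ∀ c ∈ D.C, g * c * g⁻¹ ∈ D.C := by
    intro c hc
    rw [D.mem_C]
    have hz : D.z ∈ zpowers (g * D.z * g⁻¹) := hzz.ge (mem_zpowers _)
    obtain ⟨n, hn⟩ := mem_zpowers_iff.1 hz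
    have h : c * D.z ^ n = D.z ^ n * c := D.comm_zpow hc (zpow_mem (mem_zpowers _) n)
    rw [← hn, conj_zpow]
    calc g * c * g⁻¹ * (g * D.z ^ n * g⁻¹) = g * (c * D.z ^ n) * g⁻¹ := by group
      _ = g * (D.z ^ n * c) * g⁻¹ := by rw [h]
      _ = g * D.z ^ n * g⁻¹ * (g * c * g⁻¹) := by group
  have hQ : IsPGroup 3 D.Q := IsPGroup.of_card (n := 5) (by rw [D.Q_card]; norm_num)
  have hle := D.normal_le (R := D.Q.map (MulAut.conj g).toMonoidHom)
    (by rintro _ ⟨x, hx, rfl⟩; exact hgC x (D.Q_le hx)) (hQ.map _)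
    (by
      rintro c hc _ ⟨x, hx, rfl⟩
      refine ⟨g⁻¹ * c * g * x * (g⁻¹ * c * g)⁻¹, D.conj_Q (hC c hc) hx, ?_⟩
      simp only [MulEquiv.coe_toMonoidHom, MulAut.conj_apply]
      group)
  exact hle ⟨q, hq, rfl⟩

/-- conjugation of centralisers -/
def conjC (g : G) : centralizer ({g * D.z * g⁻¹} : Set G) →* D.C where
  toFun c := ⟨g⁻¹ * c * g, D.mem_C.2 (by
    have h : (c : G) * (g * D.z * g⁻¹) = g * D.z * g⁻¹ * c := mem_centralizer_singleton_iff.1 c.2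
    calc g⁻¹ * c * g * D.z = g⁻¹ * ((c : G) * (g * D.z * g⁻¹)) * g := by group
      _ = g⁻¹ * (g * D.z * g⁻¹ * c) * g := by rw [h]
      _ = D.z * (g⁻¹ * c * g) := by group)⟩
  map_one' := Subtype.ext (by simp)
  map_mul' a b := Subtype.ext (by simp [mul_assoc])

theorem conjC_apply (g : G) (c : centralizer ({g * D.z * g⁻¹} : Set G)) :
    (D.conjC g c : G) = g⁻¹ * c * g := rfl

theorem mem_conj {g x : G} {H : Subgroup G} :
    x ∈ H.map (MulAut.conj g).toMonoidHom ↔ g⁻¹ * x * g ∈ H := by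
  constructor
  · rintro ⟨y, hy, rfl⟩
    simp only [MulEquiv.coe_toMonoidHom, MulAut.conj_apply]
    group
    exact hy
  · intro h
    exact ⟨_, h, by simp only [MulEquiv.coe_toMonoidHom, MulAut.conj_apply]; group⟩

theorem conj_zpowers {g x : G} :
    x ∈ zpowers (g * D.z * g⁻¹) ↔ g⁻¹ * x * g ∈ zpowers D.z := by
  constructor
  · intro h
    obtain ⟨n, rfl⟩ := mem_zpowers_iff.1 h
    rw [conj_zpow]
    exact mem_zpowers_iff.2 ⟨n, by group⟩
  · intro h
    obtain ⟨n, hn⟩ := mem_zpowers_iff.1 h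
    exact mem_zpowers_iff.2 ⟨n, by rw [conj_zpow, hn]; group⟩

/-- The conjugate standard data. -/
noncomputable def conj [Finite G] (g : G) : Std G where
  z := g * D.z * g⁻¹
  Q := D.Q.map (MulAut.conj g).toMonoidHom
  S := g • D.S
  π := D.π.comp (D.conjC g)
  π_surj := by
    intro w
    obtain ⟨c, rfl⟩ := D.π_surj w
    refine ⟨⟨g * c * g⁻¹, mem_centralizer_singleton_iff.2 ?_⟩, congrArg D.π (Subtype.ext ?_)⟩
    · have h := D.mem_C.1 c.2
      calc g * c * g⁻¹ * (g * D.z * g⁻¹) = g * ((c : G) * D.z) * g⁻¹ := by group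
        _ = g * (D.z * c) * g⁻¹ := by rw [h]
        _ = g * D.z * g⁻¹ * (g * c * g⁻¹) := by group
    · rw [conjC_apply]; group
  π_ker := by
    ext c
    rw [MonoidHom.mem_ker, MonoidHom.comp_apply, D.mem_ker, conjC_apply, mem_subgroupOf, mem_conj]
  z_order := by rw [orderOf_conj_elem, D.z_order]
  z_mem := ⟨D.z, D.z_mem, rfl⟩
  Q_le := by
    intro x hx
    rw [mem_conj] at hx
    have h := D.mem_C.1 (D.Q_le hx)
    refine mem_centralizer_singleton_iff.2 ?_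
    calc x * (g * D.z * g⁻¹) = g * (g⁻¹ * x * g * D.z) * g⁻¹ := by group
      _ = g * (D.z * (g⁻¹ * x * g)) * g⁻¹ := by rw [h]
      _ = g * D.z * g⁻¹ * x := by group
  S_le := by
    intro x hx
    rw [Sylow.coe_subgroup_smul, Subgroup.pointwise_smul_def] at hx
    obtain ⟨y, hy, rfl⟩ := hx
    have h := D.mem_C.1 (D.S_le hy)
    refine mem_centralizer_singleton_iff.2 ?_
    show g * y * g⁻¹ * (g * D.z * g⁻¹) = g * D.z * g⁻¹ * (g * y * g⁻¹)
    calc g * y * g⁻¹ * (g * D.z * g⁻¹) = g * (y * D.z) * g⁻¹ := by group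
      _ = g * (D.z * y) * g⁻¹ := by rw [h]
      _ = g * D.z * g⁻¹ * (g * y * g⁻¹) := by group
  Q_card := by
    rw [card_map_of_injective (MulAut.conj g).injective]; exact D.Q_card
  Q_exp := fun a ha => by
    rw [mem_conj] at ha
    have h := D.Q_exp _ ha
    have e : a = g * (g⁻¹ * a * g) * g⁻¹ := by group
    rw [e, conj_pow, h, mul_one, mul_inv_cancel]
  Q_comm := fun a ha b hb => by
    rw [mem_conj] at ha hb
    rw [D.conj_zpowers]
    have h := D.Q_comm _ ha _ hb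
    convert h using 1
    group
  Q_center := fun a ha hc => by
    rw [D.conj_zpowers]
    rw [mem_conj] at ha
    refine D.Q_center _ ha fun b hb => ?_
    have h := hc (g * b * g⁻¹) ⟨b, hb, rfl⟩
    calc g⁻¹ * a * g * b = g⁻¹ * (a * (g * b * g⁻¹)) * g := by group
      _ = g⁻¹ * (g * b * g⁻¹ * a) * g := by rw [h]
      _ = b * (g⁻¹ * a * g) := by group
  cent_Q := fun a ha => by
    rw [mem_conj]
    refine D.cent_Q (mem_centralizer_iff.2 fun b hb => ?_)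
    have h := mem_centralizer_iff.1 ha (g * b * g⁻¹) ⟨b, hb, rfl⟩
    calc b * (g⁻¹ * a * g) = g⁻¹ * (g * b * g⁻¹ * a) * g := by group
      _ = g⁻¹ * (a * (g * b * g⁻¹)) * g := by rw [h]
      _ = g⁻¹ * a * g * b := by group
  inv_Q := fun c hc q hq => by
    rw [mem_conj] at hq
    rw [D.conj_zpowers]
    have h := D.inv_Q (D.conjC g c) hc _ hq
    rw [conjC_apply] at h
    convert h using 1
    group

theorem conj_z [Finite G] (g : G) : (D.conj g).z = g * D.z * g⁻¹ := rfl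

theorem conj_Q_eq [Finite G] (g : G) :
    (D.conj g).Q = D.Q.map (MulAut.conj g).toMonoidHom := rfl

end Std

end CfsgLib.Recog.LFourThree
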