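import Cfsg.Agent.Lib.Recog.LFourThree.LocalFrame

/-!
The natural submodule through the second centre equals the intersection of the two cores.
-/

set_option autoImplicit false

namespace CfsgLib.Recog.LFourThree

open Subgroup

universe u

variable {G : Type u} [Group G] [Finite G]

namespace Pr

variable {D D' : Std G} (p : Pr D D')
include p

/-- The second generator. -/
def yy (_p : Pr D D') (f : Fr D D') : G := f.w * D'.z * f.w⁻¹

theorem yy_mem (f : Fr D D') : p.yy f ∈ D.Q := D.conj_Q f.wC p.mem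

omit [Finite G] in
theorem comm_t {t c : G} (ht : t * t = 1) (h : t * c * t = c) : t * c = c * t := by
  calc t * c = t * c * (t * t) := by rw [ht, mul_one]
    _ = t * c * t * t := by group
    _ = c * t := by rw [h]

theorem t_yy (f : Fr D D') : f.t * p.yy f * f.t = (p.yy f)⁻¹ := by
  have h1 := comm_t p f.t_sq f.w_t
  have h2 : f.t * f.w⁻¹ = f.w⁻¹ * f.t := ((show Commute f.t f.w from h1).inv_right).eq
  show f.t * (f.w * D'.z * f.w⁻¹) * f.t = (f.w * D'.z * f.w⁻¹)⁻¹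
  calc f.t * (f.w * D'.z * f.w⁻¹) * f.t = f.t * f.w * D'.z * (f.w⁻¹ * f.t) := by group
    _ = f.w * (f.t * D'.z * f.t) * f.w⁻¹ := by rw [h1, ← h2]; group
    _ = _ := by rw [f.t_inv]; group

/-- `yy` is moved by `u` by the inverse of the second centre, modulo the centre. -/
theorem u_yy_mod (f : Fr D D') :
    f.u * p.yy f * f.u⁻¹ * (p.yy f * D'.z⁻¹)⁻¹ ∈ zpowers D.z := by
  classical
  haveI hN : ((zpowers D.z).subgroupOf D.Q).Normal := ⟨fun a ha b => mem_subgroupOf.2 (by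
    rw [coe_mul, coe_mul, coe_inv, D.z_central (D.Q_le b.2) (mem_subgroupOf.1 ha)]
    exact mem_subgroupOf.1 ha)⟩
  let V := D.Q ⧸ (zpowers D.z).subgroupOf D.Q
  letI : CommGroup V :=
    { (inferInstance : Group (D.Q ⧸ (zpowers D.z).subgroupOf D.Q)) with
      mul_comm := fun a b => by
        induction a using QuotientGroup.induction_on with
        | _ a =>
          induction b using QuotientGroup.induction_on with
          | _ b =>
            rw [← QuotientGroup.mk_mul, ← QuotientGroup.mk_mul, QuotientGroup.eq_iff_div_mem,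
              mem_subgroupOf]
            simpa [div_eq_mul_inv, mul_assoc] using D.Q_comm a a.2 b b.2 }
  have hAn : ∀ c ∈ D.C, ∀ a ∈ zpowers D.z, c * a * c⁻¹ ∈ zpowers D.z := fun c hc a ha => by
    rw [D.z_central hc ha]; exact ha
  have hBn : ∀ c ∈ D.C, ∀ b ∈ D.Q, c * b * c⁻¹ ∈ D.Q := fun c hc b hb => D.conj_Q hc hb
  let φ : D.C →* MulAut V := sectionAct D.C (zpowers D.z) D.Q hAn hBn
  have hφ : ∀ (c : D.C) (b : D.Q), φ c (b : V) = ((conjEquiv D.C D.Q hBn c b : D.Q) : V) :=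
    fun c b => sectionAct_mk D.C (zpowers D.z) D.Q hAn hBn c b
  have hmk : ∀ a b : D.Q, ((a : V) = (b : V)) ↔ (a : G) * (b : G)⁻¹ ∈ zpowers D.z := by
    intro a b
    rw [QuotientGroup.eq_iff_div_mem, mem_subgroupOf, coe_div, div_eq_mul_inv]
  have hQfix : ∀ (c : D.C), (c : G) ∈ D.Q → φ c = 1 := by
    intro c hc
    refine MulEquiv.ext fun x => ?_
    induction x using QuotientGroup.induction_on with
    | _ b =>
      rw [hφ, MulAut.one_apply, hmk, conjEquiv_apply]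
      exact D.Q_comm _ hc b b.2
  set uu : D.C := ⟨f.u, f.uC⟩
  set ww : D.C := ⟨f.w, f.wC⟩
  have hV3 : ∀ x : V, x ^ 3 = 1 := fun x => by
    induction x using QuotientGroup.induction_on with
    | _ a =>
      rw [← QuotientGroup.mk_pow, QuotientGroup.eq_one_iff, mem_subgroupOf, coe_pow, D.Q_exp a a.2]
      exact one_mem _
  have hX : ∀ x, φ uu (φ uu x / x) = φ uu x / x := by
    intro x
    induction x using QuotientGroup.induction_on with
    | _ b =>
      rw [hφ, ← QuotientGroup.mk_div, hφ, hmk, conjEquiv_apply, coe_div, conjEquiv_apply]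
      have := p.cm_cm_u f b.2
      simpa [cm, uu, div_eq_mul_inv, mul_assoc] using this
  have hw : ∀ x, φ ww (φ ww x) = x⁻¹ := by
    intro x
    rw [← MulAut.mul_apply, ← map_mul]
    induction x using QuotientGroup.induction_on with
    | _ b =>
      rw [hφ, ← QuotientGroup.mk_inv, hmk, conjEquiv_apply, coe_inv, inv_inv]
      exact D.inv_Q (ww * ww) (by rw [map_mul]; exact f.w_sq) b b.2
  have hrel : φ uu * (φ ww * φ uu * (φ ww)⁻¹) * φ uu = φ ww := by
    rw [← map_inv, ← map_mul, ← map_mul, ← map_mul, ← map_mul, ← mul_inv_eq_one, ← map_inv, ← map_mul]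
    refine hQfix _ (D.mem_ker.1 ?_)
    rw [map_mul, map_inv, map_mul, map_mul, map_mul, map_mul, map_inv, f.rel, mul_inv_cancel]
  have hv : φ uu ((⟨D'.z, p.mem⟩ : D.Q) : V) = ((⟨D'.z, p.mem⟩ : D.Q) : V) := by
    rw [hφ]
    refine congrArg _ (Subtype.ext ?_)
    rw [conjEquiv_apply]
    show f.u * D'.z * f.u⁻¹ = D'.z
    rw [D'.mem_C.1 (D'.Q_le f.uQ'), mul_inv_cancel_right]
  have key := weyl_calc (φ uu) (φ ww) hX hw hrel _ hv hV3
  rw [hφ ww, hφ uu, ← QuotientGroup.mk_div, hmk, conjEquiv_apply, coe_div, conjEquiv_apply,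
    div_eq_mul_inv] at key
  exact key

/-- An element of `Q ⊓ Q'` moved by `u`. -/
theorem exists_moved (f : Fr D D') : ∃ a ∈ D.Q ⊓ D'.Q, ∃ n : ℕ, n % 3 ≠ 0 ∧
    f.u * a * f.u⁻¹ = D'.z ^ n * a := by
  by_contra hcon
  push_neg at hcon
  have hall : ∀ a ∈ D.Q ⊓ D'.Q, f.u * a = a * f.u := by
    intro a ha
    obtain ⟨n, hn, e⟩ := D'.exists_pow_eq (D'.cm_mem f.uQ' ha.2)
    by_contra hne
    refine hcon a ha n (fun h => hne ?_) ?_
    · rw [← cm_eq_one, e]
      exact orderOf_dvd_iff_pow_eq_one.1 (by rw [D'.z_order]; omega)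
    · rw [conj_eq_cm, e]
  have hle : D.Q ⊓ D'.Q ≤ zpowers D.z ⊔ zpowers D'.z := fun a ha => p.fixed_in_A f ha (hall a ha)
  have h1 : Nat.card (D.Q ⊓ D'.Q : Subgroup G) ≤ 9 := by
    have hcomm : Commute D.z D'.z := (D.mem_C.1 (D.Q_le p.mem)).symm
    let g : Fin 3 × Fin 3 → G := fun q => D.z ^ (q.1 : ℕ) * D'.z ^ (q.2 : ℕ)
    have hsub : ((D.Q ⊓ D'.Q : Subgroup G) : Set G) ⊆ Set.range g := by
      intro a ha
      obtain ⟨i, j, rfl⟩ := mem_pair hcomm (hle ha)
      obtain ⟨i', hi, ei⟩ := D.exists_pow_eq (zpow_mem (mem_zpowers D.z) i)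
      obtain ⟨j', hj, ej⟩ := D'.exists_pow_eq (zpow_mem (mem_zpowers D'.z) j)
      exact ⟨(⟨i', hi⟩, ⟨j', hj⟩), by simp [g, ei, ej]⟩
    calc Nat.card (D.Q ⊓ D'.Q : Subgroup G) ≤ Nat.card (Set.range g) :=
          Nat.card_mono (Set.finite_range g) hsub
      _ ≤ Nat.card (Fin 3 × Fin 3) := Finite.card_range_le g
      _ = 9 := by simp
  rw [p.card_A] at h1
  omega

/-- The second generator commutes with the second centre. -/
theorem cm_yy (f : Fr D D') : cm (p.yy f) D'.z = 1 := by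
  obtain ⟨a, ha, n, hn, e⟩ := p.exists_moved f
  have hy' := p.yy_mem f
  set y := D'.z with hy
  set y' := p.yy f with hy''
  obtain ⟨m, hm, em⟩ := D.exists_pow_eq (p.u_yy_mod f)
  have e2 : f.u * y' * f.u⁻¹ = D.z ^ m * (y' * y⁻¹) := mul_inv_eq_iff_eq_mul.1 em
  have hk : a * y' ^ n ∈ D.Q := mul_mem ha.1 (pow_mem hy' n)
  -- the element `a * y' ^ n` is fixed modulo the centre
  have hfix : ∃ x ∈ zpowers D.z, f.u * (a * y' ^ n) * f.u⁻¹ = x * (a * y' ^ n) := by
    have hpow : ∀ i : ℕ, ∃ x ∈ zpowers D.z, f.u * y' ^ i * f.u⁻¹ = x * (y⁻¹) ^ i * y' ^ i := by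
      intro i
      induction i with
      | zero => exact ⟨1, one_mem _, by simp⟩
      | succ i ih =>
        obtain ⟨x, hx, ex⟩ := ih
        have hyi : (y⁻¹) ^ i ∈ D.Q := pow_mem (inv_mem p.mem) i
        have hy1 : y⁻¹ ∈ D.Q := inv_mem p.mem
        have c1 : cm (y' ^ i) (D.z ^ m) = 1 :=
          cm_eq_one.2 (D.comm_zpow (D.Q_le (pow_mem hy' i)) (npow_mem_zpowers _ m))
        refine ⟨x * D.z ^ m * (cm (y' ^ i) y' * (cm (y' ^ (i + 1)) y⁻¹)),
          mul_mem (mul_mem hx (npow_mem_zpowers _ m))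
            (mul_mem (D.cm_mem (pow_mem hy' i) hy') (D.cm_mem (pow_mem hy' _) hy1)), ?_⟩
        have hci : cm (y' ^ i) y' = 1 := cm_eq_one.2 (pow_mul_comm' y' i)
        have hcz := D.comm_zpow (D.Q_le hyi) (npow_mem_zpowers D.z m)
        have hcy := D.comm_zpow (D.Q_le hyi) (D.cm_mem (pow_mem hy' (i + 1)) hy1)
        calc f.u * y' ^ (i + 1) * f.u⁻¹ = f.u * y' ^ i * f.u⁻¹ * (f.u * y' * f.u⁻¹) := by
              rw [pow_succ]; group
          _ = x * (y⁻¹) ^ i * (y' ^ i * D.z ^ m) * (y' * y⁻¹) := by rw [ex, e2]; group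
          _ = x * ((y⁻¹) ^ i * D.z ^ m) * (y' ^ (i + 1) * y⁻¹) := by
              rw [cm_eq_one.1 c1, pow_succ]; group
          _ = x * D.z ^ m * ((y⁻¹) ^ i * cm (y' ^ (i + 1)) y⁻¹) * (y⁻¹ * y' ^ (i + 1)) := by
              rw [hcz]; simp [cm, mul_assoc]
          _ = x * D.z ^ m * cm (y' ^ (i + 1)) y⁻¹ * (y⁻¹) ^ (i + 1) * y' ^ (i + 1) := by
              rw [hcy, pow_succ (y⁻¹)]; group
          _ = _ := by rw [hci, one_mul]
    obtain ⟨x, hx, ex⟩ := hpow n
    refine ⟨x, hx, ?_⟩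
    have hay : a * y = y * a := p.A_comm ha ⟨p.mem, D'.z_mem⟩
    have hxa := D.comm_zpow (D.Q_le ha.1) hx
    have hxy : y ^ n * x = x * y ^ n := D.comm_zpow (D.Q_le (pow_mem p.mem n)) hx
    calc f.u * (a * y' ^ n) * f.u⁻¹ = f.u * a * f.u⁻¹ * (f.u * y' ^ n * f.u⁻¹) := by group
      _ = y ^ n * (a * x) * (y⁻¹) ^ n * y' ^ n := by rw [e, ex]; group
      _ = y ^ n * x * (a * (y ^ n)⁻¹) * y' ^ n := by rw [hxa, inv_pow]; group
      _ = x * (y ^ n * (a * (y ^ n)⁻¹)) * y' ^ n := by rw [hxy]; group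
      _ = x * a * y' ^ n := by
          rw [← mul_assoc (y ^ n), ← (show Commute a y from hay).pow_right n |>.eq,
            mul_inv_cancel_right]
      _ = _ := mul_assoc _ _ _
  obtain ⟨x, hx, ex⟩ := hfix
  have h1 : cm (f.u * y' * f.u⁻¹) (a * y' ^ n) = cm y' (a * y' ^ n) := by
    conv_rhs => rw [← D.cm_conj f.uC hy' hk, ex]
    rw [← cm_inv, ← cm_inv (x * (a * y' ^ n)), D.cm_Z_left hx hk (D.conj_Q f.uC hy')]
  have hyi : y⁻¹ ∈ D.Q := inv_mem p.mem
  rw [e2, D.cm_Z_left (npow_mem_zpowers _ _) (mul_mem hy' hyi) hk, D.cm_mul_left hy' hyi hk,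
    mul_eq_left, D.cm_mul_right ha.1 (pow_mem hy' n) hyi] at h1
  have h2 : cm y⁻¹ a = 1 := cm_eq_one.2
    ((show Commute a y from p.A_comm ha ⟨p.mem, D'.z_mem⟩).inv_right).eq.symm
  rw [h2, one_mul, ← cm_inv, inv_eq_one, D.cm_pow_left hy' hyi] at h1
  have h3 : cm y' y⁻¹ * cm y' y = 1 := by
    rw [← D.cm_mul_right hyi p.mem hy', inv_mul_cancel]; simp [cm]
  obtain ⟨j, hj, ej⟩ := D.exists_pow_eq (D.cm_mem hy' hyi)
  have hj0 : j = 0 := by
    rw [ej, ← pow_mul] at h1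
    have h4 := orderOf_dvd_of_pow_eq_one h1
    rw [D.z_order] at h4
    rcases (Nat.Prime.dvd_mul Nat.prime_three).1 h4 with h | h <;> omega
  rw [ej, hj0, pow_zero, one_mul] at h3
  exact h3

theorem yy_comm (f : Fr D D') : p.yy f * D'.z = D'.z * p.yy f := cm_eq_one.1 (p.cm_yy f)

/-- An element of `Q` inverted by the involution is determined by its class. -/
theorem inverted_unique (f : Fr D D') {a x : G} (ha : f.t * a * f.t = a⁻¹)
    (hxa : f.t * (x * a) * f.t = (x * a)⁻¹) (hx : x ∈ zpowers D.z) (haC : a ∈ D.C) : x = 1 := by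
  have htt : f.t⁻¹ = f.t := inv_eq_of_mul_eq_one_right f.t_sq
  have h1 : f.t * x = x * f.t := D.comm_zpow f.tC hx
  have h : x * a⁻¹ = (x * a)⁻¹ := by
    rw [← hxa, ← mul_assoc, h1, mul_assoc x, mul_assoc x, ha]
  have h2 : x * x = 1 := by
    rw [_root_.mul_inv_rev, eq_inv_mul_iff_mul_eq.symm] at h
    have h3 := D.comm_zpow haC hx
    calc x * x = x * (x * a * a⁻¹) := by group
      _ = x * (a * (x * a⁻¹)) := by rw [← h3]; group
      _ = x * (a * (a⁻¹ * x⁻¹)) := by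
          have h' : x * a⁻¹ = a⁻¹ * x⁻¹ := by rw [← _root_.mul_inv_rev, ← hxa, ← mul_assoc, h1, mul_assoc x, mul_assoc x, ha]
          rw [h']
      _ = 1 := by group
  have h3 := D.cube_Z hx
  rw [pow_succ, pow_two, h2, one_mul] at h3
  exact h3

/-- `u` moves the second generator by the inverse of the second centre. -/
theorem u_yy (f : Fr D D') : f.u * p.yy f * f.u⁻¹ = p.yy f * D'.z⁻¹ := by
  have h1 := p.u_yy_mod f
  have hc := comm_t p f.t_sq f.u_t
  have hci : f.t * f.u⁻¹ = f.u⁻¹ * f.t := ((show Commute f.t f.u from hc).inv_right).eq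
  have e : f.u * p.yy f * f.u⁻¹ * (p.yy f * D'.z⁻¹)⁻¹ = 1 := by
    refine p.inverted_unique f (a := p.yy f * D'.z⁻¹) ?_ ?_ h1
      (D.Q_le (mul_mem (p.yy_mem f) (inv_mem p.mem)))
    · calc f.t * (p.yy f * D'.z⁻¹) * f.t = f.t * p.yy f * (f.t * f.t) * D'.z⁻¹ * f.t := by
            rw [f.t_sq]; group
        _ = (f.t * p.yy f * f.t) * (f.t * D'.z * f.t)⁻¹ := by
            rw [show (f.t * D'.z * f.t)⁻¹ = f.t⁻¹ * D'.z⁻¹ * f.t⁻¹ by group,
              inv_eq_of_mul_eq_one_right f.t_sq]; group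
        _ = (p.yy f)⁻¹ * (D'.z⁻¹)⁻¹ := by rw [p.t_yy f, f.t_inv]
        _ = _ := by
            rw [_root_.mul_inv_rev, inv_inv]
            exact ((show Commute (p.yy f) D'.z from p.yy_comm f).inv_left).eq
    · rw [inv_mul_cancel_right]
      calc f.t * (f.u * p.yy f * f.u⁻¹) * f.t = f.t * f.u * p.yy f * (f.u⁻¹ * f.t) := by group
        _ = f.u * (f.t * p.yy f * f.t) * f.u⁻¹ := by rw [hc, ← hci]; group
        _ = _ := by rw [p.t_yy f]; group
  exact mul_inv_eq_one.1 e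

end Pr

end CfsgLib.Recog.LFourThree
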