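import Cfsg.Agent.Lib.Recog.LFourThree.LocalPair

/-!
The natural submodule through the second centre, and its identification with the intersection of
the two cores.
-/

set_option autoImplicit false

namespace CfsgLib.Recog.LFourThree

open Subgroup

universe u

variable {G : Type u} [Group G]

/-- Adjusting a representative to commute with an involution. -/
theorem fix_of_cube {t c x : G} (ht : t * t = 1) (hx : x = c⁻¹ * (t * c * t)) (h3 : x ^ 3 = 1) :
    t * (c * (x * x)) * t = c * (x * x) := by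
  have htt : t⁻¹ = t := inv_eq_of_mul_eq_one_right ht
  have hxx : t * x * t = x⁻¹ := by
    rw [hx]
    calc t * (c⁻¹ * (t * c * t)) * t = t * c⁻¹ * t * c * (t * t) := by group
      _ = t * c⁻¹ * t * c := by rw [ht, mul_one]
      _ = (c⁻¹ * (t⁻¹ * c * t⁻¹))⁻¹ := by group
      _ = _ := by rw [htt]
  have hsq : x * x = x⁻¹ := eq_inv_of_mul_eq_one_left (by rw [← pow_two, ← pow_succ, h3])
  have hxc : c * x = t * c * t := by rw [hx, mul_inv_cancel_left]
  have h4 : x⁻¹ * x⁻¹ = x := by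
    rw [← _root_.mul_inv_rev, hsq, inv_inv]
  calc t * (c * (x * x)) * t = t * (c * ((t * t) * (x * ((t * t) * x)))) * t := by
        rw [ht, one_mul, one_mul]
    _ = (t * c * t) * ((t * x * t) * (t * x * t)) := by group
    _ = c * x * x := by rw [hxx, h4, ← hxc]
    _ = _ := mul_assoc _ _ _

/-- The products of powers of two commuting elements. -/
def pairSub {a b : G} (hab : Commute a b) : Subgroup G where
  carrier := {x | ∃ i j : ℤ, x = a ^ i * b ^ j}
  one_mem' := ⟨0, 0, by simp⟩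
  mul_mem' := by
    rintro _ _ ⟨i, j, rfl⟩ ⟨k, l, rfl⟩
    refine ⟨i + k, j + l, ?_⟩
    rw [zpow_add, zpow_add, mul_assoc, ← mul_assoc (b ^ j), (hab.zpow_zpow k j).eq.symm]
    group
  inv_mem' := by
    rintro _ ⟨i, j, rfl⟩
    refine ⟨-i, -j, ?_⟩
    rw [_root_.mul_inv_rev, zpow_neg, zpow_neg]
    exact ((hab.zpow_zpow i j).inv_inv).eq.symm

theorem mem_pair {a b x : G} (hab : Commute a b) (hx : x ∈ zpowers a ⊔ zpowers b) :
    ∃ i j : ℤ, x = a ^ i * b ^ j :=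
  (sup_le (zpowers_le.2 ⟨1, 0, by simp⟩) (zpowers_le.2 ⟨0, 1, by simp⟩) :
    zpowers a ⊔ zpowers b ≤ pairSub hab) hx

/-- The calculation with a quadratic element and a Weyl element. -/
theorem weyl_calc {V : Type*} [CommGroup V] (α ω : MulAut V)
    (hX : ∀ x, α (α x / x) = α x / x) (hω : ∀ x, ω (ω x) = x⁻¹)
    (hrel : α * (ω * α * ω⁻¹) * α = ω) (v : V) (hv : α v = v) (h3 : ∀ x : V, x ^ 3 = 1) :
    α (ω v) = ω v / v := by
  set β : MulAut V := ω * α * ω⁻¹ with hβ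
  have hrel' : ∀ x, α (β (α x)) = ω x := fun x => by
    conv_rhs => rw [← hrel]
    rfl
  have hX' : ∀ x, β (β x / x) = β x / x := by
    intro x
    have h := congrArg ω (hX (ω⁻¹ x))
    simpa [hβ, MulAut.mul_apply, map_div] using h
  have hβv : β (ω v) = ω v := by simp [hβ, MulAut.mul_apply, hv]
  set p := β v / v with hp
  have hβp : β p = p := hX' v
  set r := α p / p with hr
  have hαr : α r = r := hX p
  have hαp : α p = r * p := by rw [hr, div_mul_cancel]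
  have hβv' : β v = p * v := by rw [hp, div_mul_cancel]
  have h1 : ω v = r * p * v := by rw [← hrel' v, hv, hβv', map_mul, hv, hαp]
  have hβr : β r = r / p := by
    have h := hβv
    rw [h1, map_mul, map_mul, hβp, hβv'] at h
    rw [eq_div_iff_mul_eq']
    have h' : β r * p * (p * v) = r * (p * v) := by rw [h, mul_assoc]
    exact mul_right_cancel h'
  have h2 : r * r * v = v⁻¹ := by
    have h := hω v
    rw [← hrel' (ω v), h1] at h
    rw [← h]
    simp only [map_mul, map_div, hαr, hαp, hv, hβr, hβp, hβv']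
    apply Additive.ofMul.injective
    simp only [ofMul_mul, ofMul_inv, ofMul_div]
    abel
  have hvv : v⁻¹ = v * v := inv_eq_of_mul_eq_one_right (by rw [← mul_assoc, ← pow_two, ← pow_succ, h3])
  have hr4 : r * r = v := by
    have : r * r * v = v * v := h2.trans hvv
    exact mul_right_cancel this
  have hr3 : r = v⁻¹ := by
    rw [hvv, ← hr4]
    calc r = r ^ 3 * r := by rw [h3, one_mul]
      _ = r * r * (r * r) := by
          rw [pow_succ, pow_two]; simp only [mul_assoc]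
  rw [h1, map_mul, map_mul, hαr, hαp, hv, hr3]
  apply Additive.ofMul.injective
  simp only [ofMul_mul, ofMul_inv, ofMul_div]
  abel

/-- The coordinates attached to a pair of centres. -/
structure Fr (D D' : Std G) where
  /-- the involution -/
  t : G
  /-- the unipotent element -/
  u : G
  /-- the Weyl element -/
  w : G
  tC : t ∈ D.C
  tπ : D.π ⟨t, tC⟩ = sT
  t_sq : t * t = 1
  t_inv : t * D'.z * t = D'.z⁻¹
  uC : u ∈ D.C
  uQ' : u ∈ D'.Q
  u_not : u ∉ D.Q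
  u_t : t * u * t = u
  wC : w ∈ D.C
  w_t : t * w * t = w
  w_sq : D.π ⟨w, wC⟩ * D.π ⟨w, wC⟩ = sT
  rel : D.π ⟨u, uC⟩ * (D.π ⟨w, wC⟩ * D.π ⟨u, uC⟩ * (D.π ⟨w, wC⟩)⁻¹) * D.π ⟨u, uC⟩ =
    D.π ⟨w, wC⟩

variable [Finite G]

theorem Pr.t_conj_Q' {D D' : Std G} (p : Pr D D') {t : G} (ht : t * t = 1)
    (hy : t * D'.z * t = D'.z⁻¹) {x : G} (hx : x ∈ D'.Q) : t * x * t = t * x * t⁻¹ ∧ t * x * t ∈ D'.Q := by
  have _ := p
  have htt : t⁻¹ = t := inv_eq_of_mul_eq_one_right ht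
  refine ⟨by rw [htt], ?_⟩
  have h := D'.norm_Q (g := t) (by rw [htt, hy]; exact inv_mem (mem_zpowers _)) hx
  rwa [htt] at h

/-- Every class of the quotient has a representative commuting with the involution. -/
theorem Std.exists_fixed_lift (D : Std G) {t : G} (tC : t ∈ D.C) (tπ : D.π ⟨t, tC⟩ = sT)
    (ht : t * t = 1) (g : SL2) : ∃ (c : G) (hc : c ∈ D.C), t * c * t = c ∧ D.π ⟨c, hc⟩ = g := by
  obtain ⟨⟨c, hc⟩, rfl⟩ := D.π_surj g
  set x := c⁻¹ * (t * c * t) with hx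
  have hxQ : x ∈ D.Q := by
    have hxC : x ∈ D.C := mul_mem (inv_mem hc) (mul_mem (mul_mem tC hc) tC)
    rw [← D.mem_ker (c := ⟨x, hxC⟩),
      show (⟨x, hxC⟩ : D.C) = ⟨c, hc⟩⁻¹ * (⟨t, tC⟩ * ⟨c, hc⟩ * ⟨t, tC⟩) from Subtype.ext hx,
      map_mul, map_mul, map_mul, map_inv, tπ, mul_assoc, sl_central, ← mul_assoc sT,
      sl_rel.2.2.2.2.2.2.1, one_mul, inv_mul_cancel]
  have hxx : x * x ∈ D.Q := mul_mem hxQ hxQ
  refine ⟨c * (x * x), mul_mem hc (D.Q_le hxx), fix_of_cube ht hx (D.Q_exp x hxQ), ?_⟩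
  rw [show (⟨c * (x * x), mul_mem hc (D.Q_le hxx)⟩ : D.C) = ⟨c, hc⟩ * ⟨x * x, D.Q_le hxx⟩ from rfl,
    map_mul, (D.mem_ker (c := ⟨x * x, D.Q_le hxx⟩)).2 hxx, mul_one]

namespace Pr

variable {D D' : Std G} (p : Pr D D')
include p

theorem exists_frame : Nonempty (Fr D D') := by
  obtain ⟨⟨t, tC⟩, tπ, ht, hy⟩ := p.exists_invol
  obtain ⟨c, hc, hcQ⟩ := p.not_le_Q
  set x := c⁻¹ * (t * c * t) with hx
  have hxQ' : x ∈ D'.Q := mul_mem (inv_mem hc.1) (p.t_conj_Q' ht hy hc.1).2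
  have hu := fix_of_cube ht hx (D'.Q_exp x hxQ')
  have hxC : x ∈ D.C := mul_mem (inv_mem hc.2) (mul_mem (mul_mem tC hc.2) tC)
  have hxQ : x ∈ D.Q := by
    rw [← D.mem_ker (c := ⟨x, hxC⟩),
      show (⟨x, hxC⟩ : D.C) = ⟨c, hc.2⟩⁻¹ * (⟨t, tC⟩ * ⟨c, hc.2⟩ * ⟨t, tC⟩) from Subtype.ext hx,
      map_mul, map_mul, map_mul, map_inv, tπ, mul_assoc, sl_central, ← mul_assoc sT,
      sl_rel.2.2.2.2.2.2.1, one_mul, inv_mul_cancel]
  set u := c * (x * x) with hu'
  have uC : u ∈ D.C := mul_mem hc.2 (mul_mem hxC hxC)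
  have uQ' : u ∈ D'.Q := mul_mem hc.1 (mul_mem hxQ' hxQ')
  have uQ : u ∉ D.Q := fun h => hcQ (by
    rw [show c = u * (x * x)⁻¹ by rw [hu', mul_inv_cancel_right]]
    exact mul_mem h (inv_mem (mul_mem hxQ hxQ)))
  have h3 : D.π ⟨u, uC⟩ ^ 3 = 1 := p.pow_three_of_mem_T (D'.Q_le uQ')
  obtain ⟨g, hg2, hrel⟩ := sl_weyl _ h3 fun h => uQ (D.mem_ker.1 h)
  obtain ⟨w, wC, hw, hπ⟩ := D.exists_fixed_lift tC tπ ht g
  exact ⟨⟨t, u, w, tC, tπ, ht, hy, uC, uQ', uQ, hu, wC, hw, by rw [hπ]; exact hg2,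
    by rw [hπ]; exact hrel⟩⟩

/-- An element of `Q ⊓ Q'` centralised by `u` lies in `⟨z, z'⟩`. -/
theorem fixed_in_A (f : Fr D D') {a : G} (ha : a ∈ D.Q ⊓ D'.Q) (hau : f.u * a = a * f.u) :
    a ∈ zpowers D.z ⊔ zpowers D'.z := by
  by_contra hnot
  have hzA : D.z ∈ D.Q ⊓ D'.Q := ⟨D.z_mem, p.symm.mem⟩
  have hyA : D'.z ∈ D.Q ⊓ D'.Q := ⟨p.mem, D'.z_mem⟩
  set Y := zpowers D.z ⊔ zpowers D'.z with hY
  have hYA : Y ≤ D.Q ⊓ D'.Q := sup_le (zpowers_le.2 hzA) (zpowers_le.2 hyA)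
  have hge : 27 ≤ Nat.card (Y ⊔ zpowers a : Subgroup G) := by
    have h1 : 3 < Nat.card Y := by
      rw [← D.z_order, ← Nat.card_zpowers]
      refine lt_of_le_of_ne (card_le_of_le le_sup_left) fun h => p.ne ?_
      rw [eq_of_le_of_card_ge le_sup_left h.ge]
      exact mem_sup_right (mem_zpowers _)
    have h2 : Nat.card Y < Nat.card (Y ⊔ zpowers a : Subgroup G) :=
      lt_of_le_of_ne (card_le_of_le le_sup_left) fun h => hnot (by
        show a ∈ Y
        rw [eq_of_le_of_card_ge le_sup_left h.ge]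
        exact mem_sup_right (mem_zpowers _))
    have hdiv : ∀ {K : Subgroup G}, K ≤ D.Q ⊓ D'.Q → ∃ k, k ≤ 3 ∧ Nat.card K = 3 ^ k := by
      intro K hK
      have := card_dvd_of_le hK
      rw [p.card_A, show (27 : ℕ) = 3 ^ 3 from rfl] at this
      exact (Nat.dvd_prime_pow Nat.prime_three).1 this
    obtain ⟨i, hi, ei⟩ := hdiv hYA
    obtain ⟨j, hj, ej⟩ := hdiv (sup_le hYA (zpowers_le.2 ha))
    rw [ei] at h1 h2; rw [ej] at h2 ⊢
    interval_cases i <;> interval_cases j <;> omega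
  have hA : Y ⊔ zpowers a = D.Q ⊓ D'.Q :=
    eq_of_le_of_card_ge (sup_le hYA (zpowers_le.2 ha)) (by rw [p.card_A]; exact hge)
  have hAu : D.Q ⊓ D'.Q ≤ centralizer ({f.u} : Set G) := by
    rw [← hA]
    refine sup_le (sup_le (zpowers_le.2 ?_) (zpowers_le.2 ?_)) (zpowers_le.2 ?_)
    · exact mem_centralizer_singleton_iff.2 (D.mem_C.1 f.uC).symm
    · exact mem_centralizer_singleton_iff.2 (D'.mem_C.1 (D'.Q_le f.uQ')).symm
    · exact mem_centralizer_singleton_iff.2 hau.symm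
  obtain ⟨b, hb, c, hc, hne⟩ := p.symm.exists_noncomm_P
  have hgen : (D.Q ⊓ D'.Q) ⊔ zpowers f.u = D'.Q ⊓ D.C := by
    refine eq_of_le_of_card_ge (sup_le (le_inf inf_le_right (inf_le_left.trans D.Q_le))
      (zpowers_le.2 ⟨f.uQ', f.uC⟩)) ?_
    have h1 : 27 < Nat.card ((D.Q ⊓ D'.Q) ⊔ zpowers f.u : Subgroup G) := by
      rw [← p.card_A]
      refine lt_of_le_of_ne (card_le_of_le le_sup_left) fun h => f.u_not ?_
      have hm : f.u ∈ (D.Q ⊓ D'.Q) ⊔ zpowers f.u := mem_sup_right (mem_zpowers _)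
      rw [← eq_of_le_of_card_ge le_sup_left h.ge] at hm
      exact hm.1
    have h2 := card_dvd_of_le (sup_le (le_inf inf_le_right (inf_le_left.trans D.Q_le))
      (zpowers_le.2 ⟨f.uQ', f.uC⟩) : (D.Q ⊓ D'.Q) ⊔ zpowers f.u ≤ D'.Q ⊓ D.C)
    rw [p.symm.card_P, show (81 : ℕ) = 3 ^ 4 from rfl] at h2
    obtain ⟨k, hk, e⟩ := (Nat.dvd_prime_pow Nat.prime_three).1 h2
    rw [p.symm.card_P]; rw [e] at h1 ⊢
    interval_cases k <;> omega
  refine hne (cm_eq_one.2 ?_)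
  have hab : ∀ x ∈ D'.Q ⊓ D.C, ∀ g ∈ D.Q ⊓ D'.Q, x * g = g * x := by
    intro x hx g hg
    have : D'.Q ⊓ D.C ≤ centralizer ({g} : Set G) := by
      rw [← hgen]
      exact sup_le (fun y hy => mem_centralizer_singleton_iff.2 (p.A_comm hy hg))
        (zpowers_le.2 (mem_centralizer_singleton_iff.2
          (mem_centralizer_singleton_iff.1 (hAu hg)).symm))
    exact mem_centralizer_singleton_iff.1 (this hx)
  have hu : D'.Q ⊓ D.C ≤ centralizer ({f.u} : Set G) := by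
    rw [← hgen]
    exact sup_le hAu (zpowers_le.2 (mem_centralizer_singleton_iff.2 rfl))
  have hcb : D'.Q ⊓ D.C ≤ centralizer ({c} : Set G) := by
    rw [← hgen]
    exact sup_le (fun y hy => mem_centralizer_singleton_iff.2 (hab c hc y hy).symm)
      (zpowers_le.2 (mem_centralizer_singleton_iff.2 (mem_centralizer_singleton_iff.1 (hu hc)).symm))
  exact mem_centralizer_singleton_iff.1 (hcb hb)

theorem conj_T_Q {q : G} (hq : q ∈ D.Q) {x : G} (hx : x ∈ D.C ⊓ D'.C) :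
    q * x * q⁻¹ ∈ D.C ⊓ D'.C := by
  refine ⟨D.C.mul_mem (D.C.mul_mem (D.Q_le hq) hx.1) (D.C.inv_mem (D.Q_le hq)), D'.mem_C.2 ?_⟩
  have hk := D.cm_mem (inv_mem hq) p.mem
  have e1 : q⁻¹ * D'.z * q = cm q⁻¹ D'.z * D'.z := by simp [cm, mul_assoc]
  have e2 : x * (cm q⁻¹ D'.z * D'.z) = cm q⁻¹ D'.z * D'.z * x := by
    rw [← mul_assoc, D.comm_zpow hx.1 hk, mul_assoc, D'.mem_C.1 hx.2, ← mul_assoc]
  calc q * x * q⁻¹ * D'.z = q * (x * (q⁻¹ * D'.z * q)) * q⁻¹ := by group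
    _ = q * (q⁻¹ * D'.z * q * x) * q⁻¹ := by rw [e1, e2]
    _ = D'.z * (q * x * q⁻¹) := by group

/-- Conjugation by `u` is quadratic on `Q` modulo the centre. -/
theorem cm_cm_u (f : Fr D D') {q : G} (hq : q ∈ D.Q) : cm f.u (cm f.u q) ∈ zpowers D.z := by
  have uT : f.u ∈ D.C ⊓ D'.C := ⟨f.uC, D'.Q_le f.uQ'⟩
  have hd : ∀ x ∈ D.Q, cm f.u x ∈ D.Q := fun x hx => by
    rw [show cm f.u x = f.u * x * f.u⁻¹ * x⁻¹ from rfl]
    exact mul_mem (D.conj_Q f.uC hx) (inv_mem hx)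
  have hdP : ∀ x ∈ D.Q, cm f.u x ∈ D.Q ⊓ D'.C := fun x hx => ⟨hd x hx, by
    rw [show cm f.u x = f.u * (x * f.u⁻¹ * x⁻¹) by simp [cm, mul_assoc]]
    exact D'.C.mul_mem uT.2 (p.conj_T_Q hx (x := f.u⁻¹) ((D.C ⊓ D'.C).inv_mem uT)).2⟩
  have hdA : ∀ x ∈ D.Q ⊓ D'.C, cm f.u x ∈ D.Q ⊓ D'.Q := fun x hx => ⟨hd x hx.1, by
    rw [show cm f.u x = f.u * (x * f.u⁻¹ * x⁻¹) by simp [cm, mul_assoc]]
    exact mul_mem f.uQ' (D'.conj_Q hx.2 (inv_mem f.uQ'))⟩
  have step : ∀ x ∈ D.Q, f.u * x * f.u⁻¹ = cm f.u x * x := fun x _ => conj_eq_cm _ _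
  -- the cube of the difference vanishes
  have hcube : ∀ x ∈ D.Q, cm f.u (cm f.u (cm f.u x)) = 1 := by
    intro x hx
    set d1 := cm f.u x with h1
    set d2 := cm f.u d1 with h2
    set d3 := cm f.u d2 with h3
    have hA2 := hdA d1 (hdP x hx)
    have hy : d3 ∈ zpowers D'.z := D'.cm_mem f.uQ' hA2.2
    have hd1 : d1 ∈ D.Q := hd x hx
    have hd3 : d3 ∈ D.Q := hd d2 hA2.1
    have hu3 : f.u ^ 3 = 1 := D'.Q_exp _ f.uQ'
    have e1 : f.u * x * f.u⁻¹ = d1 * x := step x hx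
    have e2 : f.u * d1 * f.u⁻¹ = d2 * d1 := step _ hd1
    have e3 : f.u * d2 * f.u⁻¹ = d3 * d2 := step _ hA2.1
    have key : x = d3 * d2 * (d2 * d1) * (d2 * d1 * (d1 * x)) := by
      calc x = f.u ^ 3 * x * (f.u ^ 3)⁻¹ := by rw [hu3]; simp
        _ = f.u * (f.u * (f.u * x * f.u⁻¹) * f.u⁻¹) * f.u⁻¹ := by rw [pow_succ, pow_two]; group
        _ = f.u * (f.u * (d1 * x) * f.u⁻¹) * f.u⁻¹ := by rw [e1]
        _ = f.u * (f.u * d1 * f.u⁻¹ * (f.u * x * f.u⁻¹)) * f.u⁻¹ := by group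
        _ = f.u * (d2 * d1 * (d1 * x)) * f.u⁻¹ := by rw [e1, e2]
        _ = f.u * d2 * f.u⁻¹ * (f.u * d1 * f.u⁻¹) * (f.u * d1 * f.u⁻¹ * (f.u * x * f.u⁻¹)) := by
            group
        _ = _ := by rw [e1, e2, e3]
    have hz : d3 ∈ zpowers D.z := by
      let V := D.Q ⧸ (zpowers D.z).subgroupOf D.Q
      haveI : ((zpowers D.z).subgroupOf D.Q).Normal := ⟨fun a ha b => mem_subgroupOf.2 (by
        rw [coe_mul, coe_mul, coe_inv, D.z_central (D.Q_le b.2) (mem_subgroupOf.1 ha)]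
        exact mem_subgroupOf.1 ha)⟩
      letI : CommGroup V :=
        { (inferInstance : Group (D.Q ⧸ (zpowers D.z).subgroupOf D.Q)) with
          mul_comm := fun a b => by
            induction a using QuotientGroup.induction_on with
            | _ a =>
              induction b using QuotientGroup.induction_on with
              | _ b =>
                rw [← QuotientGroup.mk_mul, ← QuotientGroup.mk_mul, QuotientGroup.eq_iff_div_mem,
                  mem_subgroupOf]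
                simpa [div_eq_mul_inv, mul_assoc] using D.Q_comm a a.2 b b.2 }
      have h3V : ∀ v : V, v * v * v = 1 := fun v => by
        induction v using QuotientGroup.induction_on with
        | _ a =>
          rw [← QuotientGroup.mk_mul, ← QuotientGroup.mk_mul, QuotientGroup.eq_one_iff]
          have h := D.Q_exp a a.2
          rw [pow_succ, pow_two] at h
          rw [show a * a * a = 1 from Subtype.ext h]
          exact one_mem _
      have hk := congrArg (fun g : D.Q => (g : V)) (Subtype.ext key :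
        (⟨x, hx⟩ : D.Q) = ⟨d3, hd3⟩ * ⟨d2, hA2.1⟩ * (⟨d2, hA2.1⟩ * ⟨d1, hd1⟩) *
          (⟨d2, hA2.1⟩ * ⟨d1, hd1⟩ * (⟨d1, hd1⟩ * ⟨x, hx⟩)))
      simp only [QuotientGroup.mk_mul] at hk
      generalize hA : ((⟨d3, hd3⟩ : D.Q) : V) = A at hk
      generalize ((⟨d2, hA2.1⟩ : D.Q) : V) = B at hk
      generalize ((⟨d1, hd1⟩ : D.Q) : V) = C' at hk
      generalize ((⟨x, hx⟩ : D.Q) : V) = X at hk
      have hA1 : A = 1 := by
        have : A * ((B * B * B) * (C' * C' * C')) * X = X := by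
          conv_rhs => rw [hk]
          simp only [mul_comm, mul_left_comm, mul_assoc]
        rw [h3V, h3V, mul_one, mul_one] at this
        exact mul_eq_right.1 this
      rw [← hA, QuotientGroup.eq_one_iff, mem_subgroupOf] at hA1
      exact hA1
    obtain ⟨k, -, e⟩ := D'.exists_pow_eq hy
    by_contra hne
    refine p.ne ?_
    have hk3 : k % 3 ≠ 0 := fun h => hne (by
      rw [e]; exact orderOf_dvd_iff_pow_eq_one.1 (by rw [D'.z_order]; omega))
    have h4 : D'.z = d3 ^ k := by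
      rw [e, ← pow_mul]
      conv_lhs => rw [← pow_one D'.z]
      rw [pow_eq_pow_iff_modEq, D'.z_order]
      show 1 % 3 = k * k % 3
      rw [Nat.mul_mod]
      have : k % 3 = 1 ∨ k % 3 = 2 := by omega
      rcases this with h | h <;> rw [h]
    rw [h4]
    exact pow_mem hz k
  have main : ∀ x ∈ D.Q, x ∉ D'.C → cm f.u (cm f.u x) ∈ zpowers D.z := by
    intro x hx hxC
    set d1 := cm f.u x with h1
    set d2 := cm f.u d1 with h2
    have hd1 : d1 ∈ D.Q := hd x hx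
    have hd2 : d2 ∈ D.Q := hd d1 hd1
    obtain ⟨i, j, e⟩ := mem_pair (show Commute D.z D'.z from (D.mem_C.1 (D.Q_le p.mem)).symm)
      (p.fixed_in_A f (hdA d1 (hdP x hx)) (cm_eq_one.1 (hcube x hx)))
    have hc : cm d2 x = 1 := by
      have e1 : f.u * x * f.u⁻¹ = d1 * x := step x hx
      have e2 : f.u * d1 * f.u⁻¹ = d2 * d1 := step _ hd1
      have hu3 : f.u ^ 3 = 1 := D'.Q_exp _ f.uQ'
      have hq2 : f.u * (d1 * x) * f.u⁻¹ = d2 * d1 * (d1 * x) := by
        calc f.u * (d1 * x) * f.u⁻¹ = f.u * d1 * f.u⁻¹ * (f.u * x * f.u⁻¹) := by group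
          _ = _ := by rw [e1, e2]
      have hq3 : f.u * (f.u * (d1 * x) * f.u⁻¹) * f.u⁻¹ = x := by
        calc f.u * (f.u * (d1 * x) * f.u⁻¹) * f.u⁻¹ = f.u ^ 3 * x * (f.u ^ 3)⁻¹ := by
              rw [← e1, pow_succ, pow_two]; group
          _ = x := by rw [hu3]; simp
      have hm1 : d1 * x ∈ D.Q := mul_mem hd1 hx
      have hm2 : d2 * d1 * (d1 * x) ∈ D.Q := mul_mem (mul_mem hd2 hd1) hm1
      have hA : cm (d2 * d1 * (d1 * x)) x = cm x (d1 * x) := by
        rw [← hq2]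
        conv_rhs => rw [← D.cm_conj f.uC hx hm1, ← D.cm_conj f.uC (D.conj_Q f.uC hx) (D.conj_Q f.uC hm1)]
        rw [e1, hq3]
      rw [D.cm_mul_left (mul_mem hd2 hd1) hm1 hx, D.cm_mul_left hd2 hd1 hx, D.cm_mul_left hd1 hx hx,
        D.cm_mul_right hd1 hx hx, show cm x x = 1 from cm_eq_one.2 rfl, mul_one, mul_one,
        ← cm_inv d1 x] at hA
      have h3 := D.cube_Z (D.cm_mem hd1 hx)
      rw [pow_succ, pow_two] at h3
      calc cm d2 x = cm d2 x * (cm d1 x * cm d1 x * cm d1 x) := by rw [h3, mul_one]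
        _ = cm d2 x * cm d1 x * cm d1 x * cm d1 x := by simp only [mul_assoc]
        _ = 1 := by rw [hA, inv_mul_cancel]
    rw [h2, e] at hc
    have hiZ : D.z ^ i ∈ zpowers D.z := zpow_mem (mem_zpowers _) _
    rw [D.cm_Z_left hiZ (zpow_mem p.mem j) hx] at hc
    have hj : (3 : ℤ) ∣ j := by
      by_contra hj
      refine hxC (D'.mem_C.2 ?_)
      have hc' : Commute x (D'.z ^ j) := (cm_eq_one.1 hc).symm
      have : D'.z = (D'.z ^ j) ^ j := by
        rw [← zpow_mul]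
        conv_lhs => rw [← zpow_one D'.z]
        rw [zpow_eq_zpow_iff_modEq, D'.z_order]
        show 1 % ((3 : ℕ) : ℤ) = j * j % ((3 : ℕ) : ℤ)
        push_cast
        rw [Int.mul_emod]
        have : j % 3 = 1 ∨ j % 3 = 2 := by omega
        rcases this with h | h <;> rw [h] <;> norm_num
      rw [this]
      exact (hc'.zpow_right j).eq
    show cm f.u d1 ∈ zpowers D.z
    rw [e, show D'.z ^ j = 1 from orderOf_dvd_iff_zpow_eq_one.1 (by rw [D'.z_order]; exact hj), mul_one]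
    exact hiZ
  by_cases hqC : q ∈ D'.C
  · -- write `q` as a quotient of two elements outside the centraliser
    obtain ⟨r, hr, hne⟩ := p.exists_not_comm
    have hrC : r ∉ D'.C := fun h => hne (cm_eq_one.2 (D'.mem_C.1 h))
    have hrq : r * q ∉ D'.C := fun h => hrC (by
      have := mul_mem h (inv_mem hqC); rwa [mul_inv_cancel_right] at this)
    have m1 := main _ (mul_mem hr hq) hrq
    have m2 := main _ hr hrC
    have hmul : ∀ a ∈ D.Q, ∀ b ∈ D.Q, ∃ e ∈ zpowers D.z, cm f.u (a * b) = e * (cm f.u a * cm f.u b) := by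
      intro a ha b hb
      refine ⟨cm a (cm f.u b), D.cm_mem ha (hd b hb), ?_⟩
      have hc := D.comm_zpow (D.Q_le (hd a ha)) (D.cm_mem ha (hd b hb))
      calc cm f.u (a * b) = cm f.u a * (cm a (cm f.u b) * cm f.u b) := by simp [cm, mul_assoc]
        _ = _ := by rw [← mul_assoc, hc, mul_assoc]
    obtain ⟨e, he, e1⟩ := hmul r hr q hq
    obtain ⟨e', he', e2⟩ := hmul _ (hd r hr) _ (hd q hq)
    have hez : ∀ a ∈ zpowers D.z, ∀ b ∈ D.Q, cm f.u (a * b) = cm f.u b := by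
      intro a ha b hb
      have h1 := D.comm_zpow f.uC ha
      have h2 := D.comm_zpow (D.Q_le (hd b hb)) ha
      calc cm f.u (a * b) = a * cm f.u b * a⁻¹ := by
            simp only [cm, ← mul_assoc, h1, _root_.mul_inv_rev]
        _ = cm f.u b := by rw [← h2, mul_inv_cancel_right]
    rw [e1, hez e he _ (mul_mem (hd r hr) (hd q hq)), e2, ← mul_assoc] at m1
    exact ((zpowers D.z).mul_mem_cancel_left (mul_mem he' m2)).1 m1
  · exact main q hq hqC

end Pr

end CfsgLib.Recog.LFourThree
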