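import Cfsg.Agent.Lib.Recog.LFourThree.LocalSpan

/-!
The normaliser of the common elementary group: transitivity, order, and a complement in a Sylow
subgroup.
-/

set_option autoImplicit false

namespace CfsgLib.Recog.LFourThree

open Subgroup
open scoped Pointwise

universe u

variable {G : Type u} [Group G] [Finite G]

theorem card_SL2 : Nat.card SL2 = 24 := by
  rw [Nat.card_eq_fintype_card]; decide +kernel

theorem Std.card_C (D : Std G) : Nat.card D.C = 5832 := by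
  have h := Subgroup.card_mul_index D.π.ker
  rw [Subgroup.index_ker, MonoidHom.range_eq_top.2 D.π_surj, D.π_ker,
    Nat.card_congr (subgroupOfEquivOfLe D.Q_le).toEquiv, D.Q_card,
    Nat.card_congr Subgroup.topEquiv.toEquiv, card_SL2] at h
  exact h.symm

/-- Adjusting by the centre to an element inverted by the involution. -/
theorem Std.exists_inverted (D : Std G) {t : G} (tC : t ∈ D.C) (tπ : D.π ⟨t, tC⟩ = sT)
    (ht : t * t = 1) {a : G} (ha : a ∈ D.Q) :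
    ∃ s ∈ zpowers D.z, t * (a * s) * t = (a * s)⁻¹ := by
  have htt : t⁻¹ = t := inv_eq_of_mul_eq_one_right ht
  have hs : t * a * t * a ∈ zpowers D.z := by
    have h := D.inv_Q ⟨t, tC⟩ tπ a ha
    rwa [show t * a * t⁻¹ = t * a * t by rw [htt]] at h
  set s := t * a * t * a with hs'
  refine ⟨s, hs, eq_inv_of_mul_eq_one_left ?_⟩
  have h1 := D.comm_zpow tC hs
  have h2 := D.comm_zpow (D.Q_le ha) hs
  calc t * (a * s) * t * (a * s) = t * a * (s * t) * (a * s) := by group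
    _ = (t * a * t) * (s * a) * s := by rw [← h1]; group
    _ = s * s * s := by rw [← h2, hs']; group
    _ = 1 := by rw [← pow_two, ← pow_succ]; exact D.cube_Z hs

namespace Pr

variable {D D' : Std G} (p : Pr D D')
include p

theorem inf_invariant {c : G} (hc : c ∈ D.C) {x : G} (hx : x ∈ D.Q ⊓ D'.Q) :
    c * x * c⁻¹ ∈ D.Q ⊓ D'.Q := by
  rw [← p.espan_eq] at hx ⊢
  exact Espan_invariant D D'.z c hc x hx

theorem C_le_norm : D.C ≤ normalizer ((D.Q ⊓ D'.Q : Subgroup G) : Set G) := by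
  intro c hc
  refine mem_normalizer_iff.2 fun x => ⟨fun hx => p.inf_invariant hc hx, fun hx => ?_⟩
  have h := p.inf_invariant (inv_mem hc) hx
  rwa [show c⁻¹ * (c * x * c⁻¹) * c⁻¹⁻¹ = x by group] at h

theorem C'_le_norm : D'.C ≤ normalizer ((D.Q ⊓ D'.Q : Subgroup G) : Set G) := by
  rw [inf_comm]; exact p.symm.C_le_norm

/-- The common elementary group is self-centralising. -/
theorem cent_inf {c : G} (hc : ∀ x ∈ D.Q ⊓ D'.Q, c * x = x * c) : c ∈ D.Q ⊓ D'.Q := by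
  have hz : c ∈ D.C := D.mem_C.2 (hc _ ⟨D.z_mem, p.symm.mem⟩)
  have hy : c ∈ D'.C := D'.mem_C.2 (hc _ ⟨p.mem, D'.z_mem⟩)
  refine ⟨p.espan_facts.2.2.2 c hz fun x hx => hc x ?_,
    p.symm.espan_facts.2.2.2 c hy fun x hx => hc x ?_⟩
  · rwa [p.espan_eq] at hx
  · rw [p.symm.espan_eq, inf_comm] at hx; exact hx

theorem card_T : Nat.card (D.C ⊓ D'.C : Subgroup G) = 243 := by
  obtain ⟨u, hu, huQ⟩ := p.not_le_Q
  let f : (D.C ⊓ D'.C : Subgroup G) →* SL2 := D.π.comp (inclusion inf_le_left)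
  have hne : D.π ⟨u, hu.2⟩ ≠ 1 := fun h => huQ (D.mem_ker.1 h)
  have hrange : f.range = zpowers (D.π ⟨u, hu.2⟩) := by
    refine le_antisymm ?_ (zpowers_le.2 ⟨⟨u, hu.2, D'.Q_le hu.1⟩, rfl⟩)
    rintro _ ⟨x, rfl⟩
    rcases p.image_cases (c := ⟨u, hu.2⟩) (d := ⟨x, x.2.1⟩) (D'.Q_le hu.1) x.2.2 hne with
      e | e | e <;> show D.π ⟨x, x.2.1⟩ ∈ _ <;> rw [e]
    · exact one_mem _
    · exact mem_zpowers _
    · exact mul_mem (mem_zpowers _) (mem_zpowers _)
  have hk : f.ker = (D.Q ⊓ D'.C).subgroupOf (D.C ⊓ D'.C) := by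
    ext x
    rw [MonoidHom.mem_ker, mem_subgroupOf, mem_inf]
    show D.π _ = 1 ↔ _
    rw [D.mem_ker]
    exact ⟨fun h => ⟨h, x.2.2⟩, fun h => h.1⟩
  haveI : Fact (Nat.Prime 3) := ⟨Nat.prime_three⟩
  have h := Subgroup.card_mul_index f.ker
  rw [Subgroup.index_ker, hrange, Nat.card_zpowers, orderOf_eq_prime
    (p.pow_three_of_mem_T (c := ⟨u, hu.2⟩) (D'.Q_le hu.1)) hne, hk,
    Nat.card_congr (subgroupOfEquivOfLe (le_inf (inf_le_left.trans D.Q_le) inf_le_right)).toEquiv,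
    p.card_P] at h
  exact h.symm

/-- The centraliser of the centre is transitive outside the centre. -/
theorem exists_conj_y {x : G} (hx : x ∈ D.Q ⊓ D'.Q) (hxz : x ∉ zpowers D.z) :
    ∃ c ∈ D.C, c * D'.z * c⁻¹ = x := by
  let Ω := (((D.Q ⊓ D'.Q : Subgroup G) : Set G) \ (zpowers D.z : Set G) : Set G)
  have hΩ : Nat.card Ω = 24 := by
    have hle : (zpowers D.z : Set G) ⊆ ((D.Q ⊓ D'.Q : Subgroup G) : Set G) :=
      (zpowers_le.2 ⟨D.z_mem, p.symm.mem⟩ : zpowers D.z ≤ D.Q ⊓ D'.Q)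
    show Nat.card ↥Ω = 24
    rw [Nat.card_coe_set_eq, Set.ncard_diff hle, ← Nat.card_coe_set_eq, ← Nat.card_coe_set_eq,
      SetLike.coe_sort_coe, SetLike.coe_sort_coe, p.card_A, Nat.card_zpowers, D.z_order]
  have hmem : ∀ c : D.C, (c : G) * D'.z * (c : G)⁻¹ ∈ Ω := fun c => by
    refine ⟨p.inf_invariant c.2 ⟨p.mem, D'.z_mem⟩, fun h => p.ne ?_⟩
    have h' := D.z_central (inv_mem c.2) h
    rw [show (c : G)⁻¹ * ((c : G) * D'.z * (c : G)⁻¹) * (c : G)⁻¹⁻¹ = D'.z by group] at h'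
    rw [h']; exact h
  let T' := (D.C ⊓ D'.C).subgroupOf D.C
  have key : ∀ a b : D.C, (a : G) * D'.z * (a : G)⁻¹ = (b : G) * D'.z * (b : G)⁻¹ ↔
      a⁻¹ * b ∈ T' := by
    intro a b
    rw [mem_subgroupOf, mem_inf, coe_mul, coe_inv, D'.mem_C]
    constructor
    · intro h
      refine ⟨mul_mem (inv_mem a.2) b.2, ?_⟩
      calc (a : G)⁻¹ * b * D'.z = (a : G)⁻¹ * ((b : G) * D'.z * (b : G)⁻¹) * b := by group
        _ = (a : G)⁻¹ * ((a : G) * D'.z * (a : G)⁻¹) * b := by rw [h]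
        _ = D'.z * ((a : G)⁻¹ * b) := by group
    · rintro ⟨-, h⟩
      calc (a : G) * D'.z * (a : G)⁻¹ = (a : G) * (D'.z * ((a : G)⁻¹ * b)) * (b : G)⁻¹ := by group
        _ = (a : G) * ((a : G)⁻¹ * b * D'.z) * (b : G)⁻¹ := by rw [h]
        _ = (b : G) * D'.z * (b : G)⁻¹ := by group
  let F : D.C ⧸ T' → Ω := fun q => Quotient.liftOn' q (fun c => ⟨_, hmem c⟩)
    fun a b h => Subtype.ext ((key a b).2 (QuotientGroup.leftRel_apply.1 h))
  have hinj : Function.Injective F := by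
    intro q r h
    induction q using QuotientGroup.induction_on with
    | _ a =>
      induction r using QuotientGroup.induction_on with
      | _ b => exact QuotientGroup.eq.2 ((key a b).1 (congrArg Subtype.val h))
  have hcard : Nat.card (D.C ⧸ T') = Nat.card Ω := by
    have h := Subgroup.card_mul_index T'
    rw [Nat.card_congr (subgroupOfEquivOfLe inf_le_left).toEquiv, p.card_T, D.card_C] at h
    rw [hΩ, ← Subgroup.index_eq_card]
    omega
  obtain ⟨q, hq⟩ := ((Nat.bijective_iff_injective_and_card F).2 ⟨hinj, hcard⟩).2 ⟨x, hx, hxz⟩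
  induction q using QuotientGroup.induction_on with
  | _ c => exact ⟨c, c.2, congrArg Subtype.val hq⟩

theorem exists_conj_z {x : G} (hx : x ∈ D.Q ⊓ D'.Q) (hxy : x ∉ zpowers D'.z) :
    ∃ c ∈ D'.C, c * D.z * c⁻¹ = x :=
  p.symm.exists_conj_y ⟨hx.2, hx.1⟩ hxy

/-- Transitivity on the nontrivial elements. -/
theorem exists_trans {x : G} (hx : x ∈ D.Q ⊓ D'.Q) (hx1 : x ≠ 1) :
    ∃ m ∈ D.C ⊔ D'.C, m * D.z * m⁻¹ = x := by
  by_cases hxy : x ∈ zpowers D'.z
  · obtain ⟨w, hw, hwz, hwy⟩ : ∃ w ∈ D.Q ⊓ D'.Q, w ∉ zpowers D.z ∧ w ∉ zpowers D'.z := by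
      by_contra hcon
      push_neg at hcon
      have hsub : ((D.Q ⊓ D'.Q : Subgroup G) : Set G) ⊆
          (zpowers D.z : Set G) ∪ (zpowers D'.z : Set G) := fun w hw => by
        by_cases h : w ∈ zpowers D.z
        · exact Or.inl h
        · exact Or.inr (hcon w hw h)
      have h := (Set.ncard_le_ncard hsub (Set.toFinite _)).trans (Set.ncard_union_le _ _)
      simp only [← Nat.card_coe_set_eq, SetLike.coe_sort_coe, p.card_A, Nat.card_zpowers,
        D.z_order, D'.z_order] at h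
      omega
    have hxz : x ∉ zpowers D.z := fun h => by
      obtain ⟨k, hk, e⟩ := D'.exists_pow_eq hxy
      refine p.ne ?_
      interval_cases k
      · exact absurd (by simpa using e) hx1
      · rw [e, pow_one] at h; exact h
      · have h2 := pow_mem h 2
        rwa [e, ← pow_mul, show 2 * 2 = 3 + 1 from rfl, pow_succ, D'.z_cube, one_mul] at h2
    obtain ⟨a, ha, ea⟩ := p.exists_conj_y hx hxz
    obtain ⟨b, hb, eb⟩ := p.exists_conj_y hw hwz
    obtain ⟨c, hc, ec⟩ := p.exists_conj_z hw hwy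
    refine ⟨a * b⁻¹ * c, mul_mem (mul_mem (mem_sup_left ha) (inv_mem (mem_sup_left hb)))
      (mem_sup_right hc), ?_⟩
    calc a * b⁻¹ * c * D.z * (a * b⁻¹ * c)⁻¹ = a * (b⁻¹ * (c * D.z * c⁻¹) * b) * a⁻¹ := by group
      _ = a * (b⁻¹ * (b * D'.z * b⁻¹) * b) * a⁻¹ := by rw [ec, eb]
      _ = a * D'.z * a⁻¹ := by group
      _ = x := ea
  · obtain ⟨c, hc, ec⟩ := p.exists_conj_z hx hxy
    exact ⟨c, mem_sup_right hc, ec⟩

theorem norm_conj_mem {n : G} (hn : n ∈ normalizer ((D.Q ⊓ D'.Q : Subgroup G) : Set G)) :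
    n * D.z * n⁻¹ ∈ D.Q ⊓ D'.Q ∧ n * D.z * n⁻¹ ≠ 1 :=
  ⟨((mem_normalizer_iff.1 hn) _).1 ⟨D.z_mem, p.symm.mem⟩, fun h => D.z_ne (conj_eq_one_iff.1 h)⟩

theorem norm_eq : normalizer ((D.Q ⊓ D'.Q : Subgroup G) : Set G) = D.C ⊔ D'.C := by
  refine le_antisymm (fun n hn => ?_) (sup_le p.C_le_norm p.C'_le_norm)
  obtain ⟨h1, h2⟩ := p.norm_conj_mem hn
  obtain ⟨m, hm, e⟩ := p.exists_trans h1 h2
  have hc : m⁻¹ * n ∈ D.C := D.mem_C.2 (by
    calc m⁻¹ * n * D.z = m⁻¹ * (n * D.z * n⁻¹) * n := by group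
      _ = m⁻¹ * (m * D.z * m⁻¹) * n := by rw [e]
      _ = D.z * (m⁻¹ * n) := by group)
  have := mul_mem hm (mem_sup_left hc : m⁻¹ * n ∈ D.C ⊔ D'.C)
  rwa [mul_inv_cancel_left] at this

theorem card_norm : Nat.card (normalizer ((D.Q ⊓ D'.Q : Subgroup G) : Set G)) = 151632 := by
  set N := normalizer ((D.Q ⊓ D'.Q : Subgroup G) : Set G)
  let Ω := (((D.Q ⊓ D'.Q : Subgroup G) : Set G) \ {1} : Set G)
  have hΩ : Nat.card Ω = 26 := by
    show Nat.card ↥Ω = 26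
    rw [Nat.card_coe_set_eq, Set.ncard_diff_singleton_of_mem (one_mem _), ← Nat.card_coe_set_eq,
      SetLike.coe_sort_coe, p.card_A]
  let C' := D.C.subgroupOf N
  have key : ∀ a b : N, (a : G) * D.z * (a : G)⁻¹ = (b : G) * D.z * (b : G)⁻¹ ↔ a⁻¹ * b ∈ C' := by
    intro a b
    rw [mem_subgroupOf, coe_mul, coe_inv, D.mem_C]
    constructor
    · intro h
      calc (a : G)⁻¹ * b * D.z = (a : G)⁻¹ * ((b : G) * D.z * (b : G)⁻¹) * b := by group
        _ = (a : G)⁻¹ * ((a : G) * D.z * (a : G)⁻¹) * b := by rw [h]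
        _ = D.z * ((a : G)⁻¹ * b) := by group
    · intro h
      calc (a : G) * D.z * (a : G)⁻¹ = (a : G) * (D.z * ((a : G)⁻¹ * b)) * (b : G)⁻¹ := by group
        _ = (a : G) * ((a : G)⁻¹ * b * D.z) * (b : G)⁻¹ := by rw [h]
        _ = (b : G) * D.z * (b : G)⁻¹ := by group
  let F : N ⧸ C' → Ω := fun q => Quotient.liftOn' q
    (fun c => ⟨_, p.norm_conj_mem c.2⟩)
    fun a b h => Subtype.ext ((key a b).2 (QuotientGroup.leftRel_apply.1 h))
  have hbij : Function.Bijective F := by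
    refine ⟨fun q r h => ?_, fun x => ?_⟩
    · induction q using QuotientGroup.induction_on with
      | _ a =>
        induction r using QuotientGroup.induction_on with
        | _ b => exact QuotientGroup.eq.2 ((key a b).1 (congrArg Subtype.val h))
    · obtain ⟨m, hm, e⟩ := p.exists_trans x.2.1 x.2.2
      rw [← p.norm_eq] at hm
      exact ⟨QuotientGroup.mk (⟨m, hm⟩ : N), Subtype.ext e⟩
  have h := Subgroup.card_mul_index C'
  rw [Subgroup.index_eq_card, Nat.card_eq_of_bijective F hbij, hΩ,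
    Nat.card_congr (subgroupOfEquivOfLe p.C_le_norm).toEquiv, D.card_C] at h
  exact h.symm

/-- `C` is generated by elements of order three. -/
theorem C_le_of_cubes {K : Subgroup G} (hK : ∀ x ∈ D.C, x ^ 3 = 1 → x ∈ K) : D.C ≤ K := by
  obtain ⟨f⟩ := p.exists_frame
  intro c hc
  obtain ⟨i, j, k, l, e⟩ := sl_gen_words _ _
    (p.pow_three_of_mem_T (c := ⟨f.u, f.uC⟩) (D'.Q_le f.uQ'))
    (fun h => f.u_not (D.mem_ker.1 h)) f.w_sq f.rel (D.π ⟨c, hc⟩)
  set L : D.C := ⟨f.w, f.wC⟩ * ⟨f.u, f.uC⟩ * ⟨f.w, f.wC⟩⁻¹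
  set m : D.C := ⟨f.u, f.uC⟩ ^ (i : ℕ) * L ^ (j : ℕ) * ⟨f.u, f.uC⟩ ^ (k : ℕ) * L ^ (l : ℕ)
  have hu : f.u ∈ K := hK _ f.uC (D'.Q_exp _ f.uQ')
  have hL : (L : G) ∈ K := hK _ L.2 (by
    show (f.w * f.u * f.w⁻¹) ^ 3 = 1
    rw [conj_pow, D'.Q_exp _ f.uQ', mul_one, mul_inv_cancel])
  have hq : (m : G)⁻¹ * c ∈ D.Q := by
    refine D.mem_ker (c := m⁻¹ * ⟨c, hc⟩) |>.1 ?_
    rw [map_mul, map_inv, inv_mul_eq_one, e]
    simp only [m, L, map_mul, map_pow, map_inv]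
  have hmK : (m : G) ∈ K := by
    simp only [m, coe_mul, coe_pow]
    exact K.mul_mem (K.mul_mem (K.mul_mem (K.pow_mem hu _) (K.pow_mem hL _)) (K.pow_mem hu _))
      (K.pow_mem hL _)
  have := K.mul_mem hmK (hK _ (D.Q_le hq) (D.Q_exp _ hq))
  rwa [mul_inv_cancel_left] at this

theorem conj_inv_yy (f : Fr D D') : f.u⁻¹ * p.yy f * f.u = p.yy f * D'.z := by
  have hfix : f.u * D'.z * f.u⁻¹ = D'.z := by
    rw [D'.mem_C.1 (D'.Q_le f.uQ'), mul_inv_cancel_right]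
  have h : f.u * (p.yy f * D'.z) * f.u⁻¹ = p.yy f := by
    calc f.u * (p.yy f * D'.z) * f.u⁻¹
        = (f.u * p.yy f * f.u⁻¹) * (f.u * D'.z * f.u⁻¹) := by group
      _ = p.yy f := by rw [p.u_yy f, hfix, inv_mul_cancel_right]
  calc f.u⁻¹ * p.yy f * f.u = f.u⁻¹ * (f.u * (p.yy f * D'.z) * f.u⁻¹) * f.u := by rw [h]
    _ = _ := by group

omit [Finite G] in
theorem cm_pows {a b r : G} {i j : ℕ} (ha : a ∈ D.Q) (hb : b ∈ D.Q) (hr : r ∈ D.Q) :
    cm (a ^ i * b ^ j) r = cm a r ^ i * cm b r ^ j := by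
  rw [D.cm_mul_left (pow_mem ha i) (pow_mem hb j) hr, D.cm_pow_left ha hr, D.cm_pow_left hb hr]

theorem z_pow_eq {i j : ℕ} (h : i % 3 = j % 3) : D.z ^ i = D.z ^ j := by
  rw [pow_eq_pow_iff_modEq, D.z_order]; exact h

theorem z_pow_one {i : ℕ} (h : i % 3 = 0) : D.z ^ i = 1 := by
  rw [← pow_zero D.z]; exact p.z_pow_eq (by simpa using h)

theorem exists_dual (f : Fr D D') :
    ∃ a ∈ D.Q, cm a D'.z = D.z ∧ cm a (p.yy f) = 1 := by
  obtain ⟨q, hq, hne⟩ := p.exists_not_comm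
  obtain ⟨i, hi, ei⟩ := D.exists_pow_eq (D.cm_mem hq p.mem)
  have hi0 : i ≠ 0 := fun h => hne (by rw [ei, h, pow_zero])
  obtain ⟨j, hj, ej⟩ := D.exists_pow_eq (D.cm_mem hq (p.yy_mem f))
  set q₁ := f.u * q * f.u⁻¹
  have hq₁ : q₁ ∈ D.Q := D.conj_Q f.uC hq
  have h1y : cm q₁ D'.z = D.z ^ i := by
    have hfix : f.u * D'.z * f.u⁻¹ = D'.z := by
      rw [D'.mem_C.1 (D'.Q_le f.uQ'), mul_inv_cancel_right]
    conv_lhs => rw [← hfix]
    rw [D.cm_conj f.uC hq p.mem, ei]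
  have h1w : cm q₁ (p.yy f) = D.z ^ (i + j) := by
    have hfix : f.u * (f.u⁻¹ * p.yy f * f.u) * f.u⁻¹ = p.yy f := by group
    conv_lhs => rw [← hfix]
    rw [p.conj_inv_yy f, D.cm_conj f.uC hq (mul_mem (p.yy_mem f) p.mem),
      D.cm_mul_right (p.yy_mem f) p.mem hq, ei, ej, ← pow_add, add_comm]
  -- solve in the two coordinates
  refine ⟨q ^ ((i + j) % 3) * q₁ ^ ((2 * j) % 3), mul_mem (pow_mem hq _) (pow_mem hq₁ _), ?_, ?_⟩
  · rw [p.cm_pows hq hq₁ p.mem, ei, h1y, ← pow_mul, ← pow_mul, ← pow_add]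
    conv_rhs => rw [← pow_one D.z]
    refine p.z_pow_eq ?_
    interval_cases i <;> interval_cases j <;> first | rfl | omega
  · rw [p.cm_pows hq hq₁ (p.yy_mem f), ej, h1w, ← pow_mul, ← pow_mul, ← pow_add]
    refine p.z_pow_one ?_
    interval_cases i <;> interval_cases j <;> first | rfl | omega

/-- A complement to the common elementary group in a Sylow subgroup. -/
theorem exists_sylow_complement : ∃ H : Subgroup G, H ≤ D.C ∧ H ⊓ (D.Q ⊓ D'.Q) = ⊥ ∧
    729 ∣ Nat.card ((D.Q ⊓ D'.Q) ⊔ H : Subgroup G) := by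
  obtain ⟨f⟩ := p.exists_frame
  obtain ⟨a₀, ha₀, e₀y, e₀w⟩ := p.exists_dual f
  have hw := p.yy_mem f
  have huy : f.u * D'.z * f.u⁻¹ = D'.z := by
    rw [D'.mem_C.1 (D'.Q_le f.uQ'), mul_inv_cancel_right]
  have hconj : ∀ q ∈ D.Q, cm (f.u * q * f.u⁻¹) D'.z = cm q D'.z ∧
      cm (f.u * q * f.u⁻¹) (p.yy f) = cm q (p.yy f) * cm q D'.z := by
    intro q hq
    constructor
    · conv_lhs => rw [← huy]
      exact D.cm_conj f.uC hq p.mem
    · have hfix : f.u * (f.u⁻¹ * p.yy f * f.u) * f.u⁻¹ = p.yy f := by group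
      conv_lhs => rw [← hfix]
      rw [p.conj_inv_yy f, D.cm_conj f.uC hq (mul_mem hw p.mem), D.cm_mul_right hw p.mem hq]
  obtain ⟨k, hk, ek⟩ := D.exists_pow_eq (D.cm_mem (D.conj_Q f.uC ha₀) ha₀)
  set m := p.yy f ^ k with hm
  have hmQ : m ∈ D.Q := pow_mem hw k
  obtain ⟨s, hs, hta⟩ := D.exists_inverted f.tC f.tπ f.t_sq (mul_mem ha₀ hmQ)
  set a := a₀ * m * s with hadef
  have haQ : a ∈ D.Q := mul_mem (mul_mem ha₀ hmQ) (D.Z_le_Q hs)
  have hsc : ∀ r ∈ D.Q, cm s r = 1 := fun r hr =>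
    cm_eq_one.2 (D.comm_zpow (D.Q_le hr) hs).symm
  have hay : cm a D'.z = D.z := by
    rw [hadef, D.cm_mul_left (mul_mem ha₀ hmQ) (D.Z_le_Q hs) p.mem, hsc _ p.mem, mul_one,
      D.cm_mul_left ha₀ hmQ p.mem, e₀y, hm, D.cm_pow_left hw p.mem, p.cm_yy f, one_pow, mul_one]
  have haw : cm a (p.yy f) = 1 := by
    rw [hadef, D.cm_mul_left (mul_mem ha₀ hmQ) (D.Z_le_Q hs) hw, hsc _ hw, mul_one,
      D.cm_mul_left ha₀ hmQ hw, e₀w, one_mul, hm, cm_eq_one]
    exact (pow_mul_comm' (p.yy f) k)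
  set b := f.u * a * f.u⁻¹ with hbdef
  have hbQ : b ∈ D.Q := D.conj_Q f.uC haQ
  have hby : cm b D'.z = D.z := (hconj a haQ).1.trans hay
  have hbw : cm b (p.yy f) = D.z := by rw [(hconj a haQ).2, haw, hay, one_mul]
  -- the two elements commute
  have hab : cm b a = 1 := by
    have hb' : b = f.u * a₀ * f.u⁻¹ * (p.yy f * D'.z⁻¹) ^ k * s := by
      have e1 : f.u * s * f.u⁻¹ = s := D.z_central f.uC hs
      have e2 : f.u * m * f.u⁻¹ = (p.yy f * D'.z⁻¹) ^ k := by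
        rw [hm, ← conj_pow, p.u_yy f]
      calc b = f.u * a₀ * f.u⁻¹ * (f.u * m * f.u⁻¹) * (f.u * s * f.u⁻¹) := by
            rw [hbdef, hadef]; group
        _ = _ := by rw [e1, e2]
    have hb0 := D.conj_Q f.uC ha₀
    have hyi : p.yy f * D'.z⁻¹ ∈ D.Q := mul_mem hw (inv_mem p.mem)
    have hA : ∀ r ∈ D.Q, cm b r = cm (f.u * a₀ * f.u⁻¹) r * cm (p.yy f * D'.z⁻¹) r ^ k := by
      intro r hr
      rw [hb', D.cm_mul_left (mul_mem hb0 (pow_mem hyi k)) (D.Z_le_Q hs) hr, hsc r hr, mul_one,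
        D.cm_mul_left hb0 (pow_mem hyi k) hr, D.cm_pow_left hyi hr]
    have h2 : cm (p.yy f * D'.z⁻¹) a₀ = D.z := by
      have e1 : cm (p.yy f) a₀ = 1 := by rw [← cm_inv, e₀w, inv_one]
      have e2 : cm D'.z⁻¹ a₀ * cm D'.z a₀ = 1 := by
        rw [← D.cm_mul_left (inv_mem p.mem) p.mem ha₀, inv_mul_cancel]; simp [cm]
      rw [D.cm_mul_left hw (inv_mem p.mem) ha₀, e1, one_mul, eq_inv_of_mul_eq_one_left e2, cm_inv,
        e₀y]
    have h3 : cm (f.u * a₀ * f.u⁻¹) m = D.z ^ k := by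
      rw [← cm_inv, hm, D.cm_pow_left hw hb0, ← cm_inv, (hconj a₀ ha₀).2, e₀w, e₀y, one_mul,
        inv_pow, inv_inv]
    have h4 : cm (p.yy f * D'.z⁻¹) m = 1 := by
      rw [cm_eq_one, hm]
      exact (((Commute.refl (p.yy f)).mul_left
        (show Commute D'.z⁻¹ (p.yy f) from
          ((show Commute D'.z (p.yy f) from (p.yy_comm f).symm)).inv_left)).pow_right k).eq
    have hbs : cm b s = 1 := cm_eq_one.2 (D.comm_zpow (D.Q_le hbQ) hs)
    rw [hadef, D.cm_mul_right (mul_mem ha₀ hmQ) (D.Z_le_Q hs) hbQ, hbs, mul_one,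
      D.cm_mul_right ha₀ hmQ hbQ, hA a₀ ha₀, hA m hmQ, h2, h3, h4, one_pow, mul_one, ek,
      ← pow_add, ← pow_add]
    exact p.z_pow_one (by omega)
  have htb : f.t * b * f.t = b⁻¹ := by
    have hc := comm_t p f.t_sq f.u_t
    have hci : f.t * f.u⁻¹ = f.u⁻¹ * f.t := ((show Commute f.t f.u from hc).inv_right).eq
    calc f.t * b * f.t = f.t * f.u * a * (f.u⁻¹ * f.t) := by rw [hbdef]; group
      _ = f.u * (f.t * a * f.t) * f.u⁻¹ := by rw [hc, ← hci]; group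
      _ = _ := by rw [hta, hbdef]; group
  set R := zpowers a ⊔ zpowers b with hR
  have hcom : Commute a b := (cm_eq_one.1 hab).symm
  -- `u` normalises `R`
  have hubR : f.u * b * f.u⁻¹ ∈ R := by
    have h1 := p.cm_cm_u f haQ
    have e : cm f.u (cm f.u a) = f.u * b * f.u⁻¹ * (f.u * a⁻¹ * f.u⁻¹) * (b * a⁻¹)⁻¹ := by
      rw [hbdef]; simp [cm, mul_assoc]
    rw [e, show f.u * a⁻¹ * f.u⁻¹ = b⁻¹ by rw [hbdef]; group] at h1
    set s₁ := f.u * b * f.u⁻¹ * b⁻¹ * (b * a⁻¹)⁻¹ with hs₁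
    have hr : f.u * b * f.u⁻¹ = s₁ * (b * a⁻¹ * b) := by rw [hs₁]; group
    have hbaR : b * a⁻¹ * b ∈ R := mul_mem (mul_mem (mem_sup_right (mem_zpowers b))
      (inv_mem (mem_sup_left (mem_zpowers a)))) (mem_sup_right (mem_zpowers b))
    have htr : f.t * (b * a⁻¹ * b) * f.t = (b * a⁻¹ * b)⁻¹ := by
      calc f.t * (b * a⁻¹ * b) * f.t
          = f.t * b * (f.t * f.t) * a⁻¹ * (f.t * f.t) * b * f.t := by rw [f.t_sq]; group
        _ = (f.t * b * f.t) * (f.t⁻¹ * a * f.t⁻¹)⁻¹ * (f.t * b * f.t) := by group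
        _ = b⁻¹ * a * b⁻¹ := by
            rw [inv_eq_of_mul_eq_one_right f.t_sq, hta, inv_inv, htb]
        _ = _ := by group
    have hts : f.t * (f.u * b * f.u⁻¹) * f.t = (f.u * b * f.u⁻¹)⁻¹ := by
      have hc := comm_t p f.t_sq f.u_t
      have hci : f.t * f.u⁻¹ = f.u⁻¹ * f.t := ((show Commute f.t f.u from hc).inv_right).eq
      calc f.t * (f.u * b * f.u⁻¹) * f.t = f.t * f.u * b * (f.u⁻¹ * f.t) := by group
        _ = f.u * (f.t * b * f.t) * f.u⁻¹ := by rw [hc, ← hci]; group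
        _ = _ := by rw [htb]; group
    rw [hr] at hts ⊢
    rw [p.inverted_unique f htr hts h1 (D.Q_le (mul_mem (mul_mem hbQ (inv_mem haQ)) hbQ)), one_mul]
    exact hbaR
  have huR : ∀ r ∈ R, f.u * r * f.u⁻¹ ∈ R := by
    intro r hr
    have : R ≤ R.comap (MulAut.conj f.u).toMonoidHom :=
      sup_le (zpowers_le.2 (by show f.u * a * f.u⁻¹ ∈ R; exact mem_sup_right (mem_zpowers b)))
        (zpowers_le.2 hubR)
    exact this hr
  have hcomb : ∀ r ∈ R, r ∈ D.Q ⊓ D'.Q → r = 1 := by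
    intro r hr hrE
    obtain ⟨i, j, rfl⟩ := mem_pair hcom hr
    obtain ⟨i', hi', ei⟩ : ∃ i' : ℕ, i' < 3 ∧ a ^ i = a ^ i' := by
      have h3 : a ^ (3 : ℤ) = 1 := by exact_mod_cast D.Q_exp a haQ
      refine ⟨(i % 3).toNat, by omega, ?_⟩
      rw [← zpow_natCast, Int.toNat_of_nonneg (by omega)]
      conv_lhs => rw [← Int.mul_ediv_add_emod i 3, zpow_add, zpow_mul, h3, one_zpow, one_mul]
    obtain ⟨j', hj', ej⟩ : ∃ j' : ℕ, j' < 3 ∧ b ^ j = b ^ j' := by
      have h3 : b ^ (3 : ℤ) = 1 := by exact_mod_cast D.Q_exp b hbQ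
      refine ⟨(j % 3).toNat, by omega, ?_⟩
      rw [← zpow_natCast, Int.toNat_of_nonneg (by omega)]
      conv_lhs => rw [← Int.mul_ediv_add_emod j 3, zpow_add, zpow_mul, h3, one_zpow, one_mul]
    rw [ei, ej] at hrE ⊢
    have hwE : p.yy f ∈ D.Q ⊓ D'.Q := by
      rw [← p.espan_eq, p.span_eq f]; exact mem_sup_right (mem_zpowers _)
    have h1 : cm (a ^ i' * b ^ j') D'.z = 1 :=
      cm_eq_one.2 (p.A_comm hrE ⟨p.mem, D'.z_mem⟩)
    have h2 : cm (a ^ i' * b ^ j') (p.yy f) = 1 := cm_eq_one.2 (p.A_comm hrE hwE)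
    rw [p.cm_pows haQ hbQ p.mem, hay, hby, ← pow_add] at h1
    rw [p.cm_pows haQ hbQ hw, haw, hbw, one_pow, one_mul] at h2
    have h1' := orderOf_dvd_of_pow_eq_one h1
    have h2' := orderOf_dvd_of_pow_eq_one h2
    rw [D.z_order] at h1' h2'
    obtain rfl : j' = 0 := by omega
    obtain rfl : i' = 0 := by omega
    simp
  set E := D.Q ⊓ D'.Q with hE
  set H := R ⊔ zpowers f.u with hH
  have hRQ : R ≤ D.Q := sup_le (zpowers_le.2 haQ) (zpowers_le.2 hbQ)
  have hHC : H ≤ D.C := sup_le (hRQ.trans D.Q_le) (zpowers_le.2 f.uC)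
  refine ⟨H, hHC, ?_, ?_⟩
  · rw [eq_bot_iff]
    intro x hx
    have hN : zpowers f.u ≤ normalizer (R : Set G) := by
      refine zpowers_le.2 (mem_normalizer_iff.2 fun x => ⟨huR x, fun h => ?_⟩)
      have h2 := huR _ (huR _ h)
      have h3 : f.u ^ 3 = 1 := D'.Q_exp _ f.uQ'
      rwa [show f.u * (f.u * (f.u * x * f.u⁻¹) * f.u⁻¹) * f.u⁻¹ = f.u ^ 3 * x * (f.u ^ 3)⁻¹ by
        rw [pow_succ, pow_two]; group, h3, one_mul, inv_one, mul_one] at h2
    have hm : x ∈ (R : Set G) * (zpowers f.u : Set G) := by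
      rw [← coe_mul_of_right_le_normalizer_left _ _ hN]; exact hx.1
    obtain ⟨r, hr, v, hv, rfl⟩ := hm
    have hvQ : v ∈ D.Q := by
      have := D.Q.mul_mem (D.Q.inv_mem (hRQ hr)) hx.2.1
      rwa [inv_mul_cancel_left] at this
    have hv1 : v = 1 := by
      by_contra hne
      haveI : Fact (Nat.Prime 3) := ⟨Nat.prime_three⟩
      obtain ⟨n, rfl⟩ := mem_zpowers_iff.1 hv
      have hord : orderOf f.u = 3 := orderOf_eq_prime (D'.Q_exp _ f.uQ')
        fun h => f.u_not (h ▸ one_mem _)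
      have : zpowers (f.u ^ n) = zpowers f.u := by
        refine eq_of_le_of_card_ge (zpowers_le.2 (zpow_mem (mem_zpowers _) _)) ?_
        have hd := card_dvd_of_le (zpowers_le.2 (zpow_mem (mem_zpowers f.u) n) :
          zpowers (f.u ^ n) ≤ zpowers f.u)
        simp only [Nat.card_zpowers, hord] at hd ⊢
        rcases (Nat.dvd_prime Nat.prime_three).1 hd with h | h
        · exact absurd (orderOf_eq_one_iff.1 h) hne
        · omega
      exact f.u_not ((zpowers_le.2 hvQ) (this ▸ mem_zpowers f.u))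
    subst hv1
    simp only [mul_one] at hx ⊢
    exact hcomb r hr hx.2
  · -- the product contains `Q⟨u⟩`
    have haE : a ∉ E := fun h => D.z_ne (by
      rw [← hay]; exact cm_eq_one.2 (p.A_comm h ⟨p.mem, D'.z_mem⟩))
    have hwE : p.yy f ∈ E := by
      rw [hE, ← p.espan_eq, p.span_eq f]; exact mem_sup_right (mem_zpowers _)
    have hbE : b ∉ E ⊔ zpowers a := fun h => D.z_ne (by
      rw [← hbw]
      refine cm_eq_one.2 (mem_centralizer_singleton_iff.1 ((sup_le (fun x hx => ?_)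
        (zpowers_le.2 (mem_centralizer_singleton_iff.2 (cm_eq_one.1 haw))) :
        E ⊔ zpowers a ≤ centralizer ({p.yy f} : Set G)) h))
      exact mem_centralizer_singleton_iff.2 (p.A_comm hx hwE))
    have hQU : D.Q ≤ E ⊔ H := by
      have hle : E ⊔ zpowers a ⊔ zpowers b ≤ D.Q :=
        sup_le (sup_le inf_le_left (zpowers_le.2 haQ)) (zpowers_le.2 hbQ)
      have hdiv : ∀ {K : Subgroup G}, K ≤ D.Q → ∃ k, k ≤ 5 ∧ Nat.card K = 3 ^ k := by
        intro K hK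
        have := card_dvd_of_le hK
        rw [D.Q_card, show (243 : ℕ) = 3 ^ 5 from rfl] at this
        exact (Nat.dvd_prime_pow Nat.prime_three).1 this
      have h1 : 27 < Nat.card (E ⊔ zpowers a : Subgroup G) := by
        rw [← p.card_A]
        refine lt_of_le_of_ne (card_le_of_le le_sup_left) fun h => haE ?_
        rw [eq_of_le_of_card_ge (le_sup_left : E ≤ E ⊔ zpowers a) h.ge]
        exact mem_sup_right (mem_zpowers _)
      have h2 : Nat.card (E ⊔ zpowers a : Subgroup G) <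
          Nat.card (E ⊔ zpowers a ⊔ zpowers b : Subgroup G) :=
        lt_of_le_of_ne (card_le_of_le le_sup_left) fun h => hbE (by
          rw [eq_of_le_of_card_ge le_sup_left h.ge]
          exact mem_sup_right (mem_zpowers _))
      obtain ⟨i, hi, ei⟩ := hdiv (le_sup_left.trans hle)
      obtain ⟨j, hj, ej⟩ := hdiv hle
      rw [← eq_of_le_of_card_ge hle (by
        rw [ej, D.Q_card]
        rw [ei] at h1 h2; rw [ej] at h2
        interval_cases i <;> interval_cases j <;> omega)]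
      exact sup_le (sup_le le_sup_left (zpowers_le.2 (mem_sup_right (mem_sup_left
        (mem_sup_left (mem_zpowers a))))))
        (zpowers_le.2 (mem_sup_right (mem_sup_left (mem_sup_right (mem_zpowers b)))))
    set W := D.Q ⊔ zpowers f.u with hW
    have hWC : W ≤ D.C := sup_le D.Q_le (zpowers_le.2 f.uC)
    let g : W →* SL2 := D.π.comp (inclusion hWC)
    have hk : g.ker = D.Q.subgroupOf W := by
      ext x
      rw [MonoidHom.mem_ker, mem_subgroupOf]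
      exact D.mem_ker
    have h3 : 3 ∣ Nat.card g.range := by
      haveI : Fact (Nat.Prime 3) := ⟨Nat.prime_three⟩
      have hm : D.π ⟨f.u, f.uC⟩ ∈ g.range :=
        ⟨⟨f.u, mem_sup_right (mem_zpowers _)⟩, rfl⟩
      have := Subgroup.orderOf_dvd_natCard g.range hm
      rwa [orderOf_eq_prime (p.pow_three_of_mem_T (c := ⟨f.u, f.uC⟩) (D'.Q_le f.uQ'))
        fun h => f.u_not (D.mem_ker.1 h)] at this
    have h := Subgroup.card_mul_index g.ker
    rw [Subgroup.index_ker, hk,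
      Nat.card_congr (subgroupOfEquivOfLe (le_sup_left : D.Q ≤ W)).toEquiv, D.Q_card] at h
    refine dvd_trans ?_ (card_dvd_of_le (sup_le hQU
      (zpowers_le.2 (mem_sup_right (mem_sup_right (mem_zpowers _)))) : W ≤ E ⊔ H))
    rw [← h, show 729 = 243 * 3 from rfl]
    exact Nat.mul_dvd_mul_left _ h3

end Pr

end CfsgLib.Recog.LFourThree
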