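import Cfsg.Agent.Lib.Recog.LFourThree.LocalConj

/-!
Two conjugate centres, each in the core of the other: the common elementary group.
-/

set_option autoImplicit false

namespace CfsgLib.Recog.LFourThree

open Subgroup

universe u

variable {G : Type u} [Group G]

/-- the commutator -/
def cm (a b : G) : G := a * b * a⁻¹ * b⁻¹

theorem cm_eq_one {a b : G} : cm a b = 1 ↔ a * b = b * a := by
  rw [cm, mul_inv_eq_one, mul_inv_eq_iff_eq_mul]

theorem cm_inv (a b : G) : (cm a b)⁻¹ = cm b a := by simp [cm, mul_assoc]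

theorem conj_eq_cm (a b : G) : a * b * a⁻¹ = cm a b * b := by simp [cm, mul_assoc]

theorem sl_cases : ∀ g : SL2, g ^ 3 = 1 ∨ g ^ 2 = sT ∨ g ^ 3 = sT ∨ g = sT := by decide +kernel

theorem sl_pair : ∀ a b : SL2, a ^ 3 = 1 → b ^ 3 = 1 → (a * b) ^ 3 = 1 → (a * (b * b)) ^ 3 = 1 →
    a ≠ 1 → b = 1 ∨ b = a ∨ b = a * a := by decide +kernel

theorem sl_weyl : ∀ g : SL2, g ^ 3 = 1 → g ≠ 1 →
    ∃ w : SL2, w * w = sT ∧ g * (w * g * w⁻¹) * g = w := by decide +kernel

theorem sl_gen_words : ∀ g w : SL2, g ^ 3 = 1 → g ≠ 1 → w * w = sT → g * (w * g * w⁻¹) * g = w →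
    ∀ x : SL2, ∃ p q r s : Fin 3, x =
      g ^ (p : ℕ) * (w * g * w⁻¹) ^ (q : ℕ) * g ^ (r : ℕ) * (w * g * w⁻¹) ^ (s : ℕ) := by
  decide +kernel

namespace Std

variable (D : Std G)

theorem z_central {c x : G} (hc : c ∈ D.C) (hx : x ∈ zpowers D.z) : c * x * c⁻¹ = x := by
  rw [D.comm_zpow hc hx, mul_inv_cancel_right]

theorem cm_mem {a b : G} (ha : a ∈ D.Q) (hb : b ∈ D.Q) : cm a b ∈ zpowers D.z := D.Q_comm a ha b hb

theorem cm_mul_left {a b r : G} (ha : a ∈ D.Q) (hb : b ∈ D.Q) (hr : r ∈ D.Q) :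
    cm (a * b) r = cm a r * cm b r := by
  have h1 := D.comm_zpow (D.Q_le ha) (D.cm_mem hb hr)
  have h2 := D.comm_zpow (zpowers_le.2 (D.Q_le D.z_mem) (D.cm_mem ha hr)) (D.cm_mem hb hr)
  calc cm (a * b) r = a * cm b r * a⁻¹ * cm a r := by simp [cm, mul_assoc]
    _ = cm b r * cm a r := by rw [h1, mul_inv_cancel_right]
    _ = _ := h2.symm

theorem cm_mul_right {a b r : G} (ha : a ∈ D.Q) (hb : b ∈ D.Q) (hr : r ∈ D.Q) :
    cm r (a * b) = cm r a * cm r b := by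
  have h2 := D.comm_zpow (zpowers_le.2 (D.Q_le D.z_mem) (D.cm_mem hr ha)) (D.cm_mem hr hb)
  rw [← cm_inv, D.cm_mul_left ha hb hr, _root_.mul_inv_rev, cm_inv, cm_inv, h2]

theorem cm_pow_left {a r : G} (ha : a ∈ D.Q) (hr : r ∈ D.Q) (n : ℕ) : cm (a ^ n) r = cm a r ^ n := by
  induction n with
  | zero => simp [cm]
  | succ n ih => rw [pow_succ, pow_succ, D.cm_mul_left (pow_mem ha n) ha hr, ih]

theorem cm_Z_left {a r x : G} (hx : x ∈ zpowers D.z) (ha : a ∈ D.Q) (hr : r ∈ D.Q) :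
    cm (x * a) r = cm a r := by
  rw [D.cm_mul_left (D.Z_le_Q hx) ha hr, cm_eq_one.2 (D.comm_zpow (D.Q_le hr) hx).symm, one_mul]

theorem cm_conj {c a b : G} (hc : c ∈ D.C) (ha : a ∈ D.Q) (hb : b ∈ D.Q) :
    cm (c * a * c⁻¹) (c * b * c⁻¹) = cm a b := by
  conv_rhs => rw [← D.z_central hc (D.cm_mem ha hb)]
  simp [cm, mul_assoc]

theorem cube_Z {x : G} (hx : x ∈ zpowers D.z) : x ^ 3 = 1 := D.Q_exp x (D.Z_le_Q hx)

/-- `T`: the common centraliser. -/
abbrev T (D D' : Std G) : Subgroup G := D.C ⊓ D'.C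

end Std

/-- The smallest invariant subgroup containing the centre and `y`. -/
def Espan (D : Std G) (y : G) : Subgroup G :=
  closure ({D.z} ∪ {x | ∃ c ∈ D.C, x = c * y * c⁻¹})

theorem mem_Espan_self (D : Std G) (y : G) : y ∈ Espan D y :=
  subset_closure (Or.inr ⟨1, one_mem _, by simp⟩)

theorem z_mem_Espan (D : Std G) (y : G) : D.z ∈ Espan D y := subset_closure (Or.inl rfl)

theorem Espan_invariant (D : Std G) (y : G) :
    ∀ c ∈ D.C, ∀ x ∈ Espan D y, c * x * c⁻¹ ∈ Espan D y := by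
  intro c hc x hx
  induction hx using Subgroup.closure_induction with
  | mem x hx =>
    rcases hx with rfl | ⟨d, hd, rfl⟩
    · rw [D.z_central hc (mem_zpowers _)]; exact z_mem_Espan D y
    · exact subset_closure (Or.inr ⟨c * d, mul_mem hc hd, by group⟩)
  | one => simp
  | mul a b _ _ iha ihb =>
    have e : c * (a * b) * c⁻¹ = c * a * c⁻¹ * (c * b * c⁻¹) := by group
    rw [e]; exact mul_mem iha ihb
  | inv a _ iha =>
    have e : c * a⁻¹ * c⁻¹ = (c * a * c⁻¹)⁻¹ := by group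
    rw [e]; exact inv_mem iha

/-- The second centre lies in the core of the first. -/
structure Pr (D D' : Std G) : Prop where
  mem : D'.z ∈ D.Q
  ne : D'.z ∉ zpowers D.z

namespace Pr

variable {D D' : Std G} (p : Pr D D')
include p

theorem ne' : D.z ∉ zpowers D'.z := by
  intro h
  obtain ⟨k, hk, e⟩ := D'.exists_pow_eq h
  refine p.ne ?_
  interval_cases k
  · exact absurd (by simpa using e) D.z_ne
  · exact mem_zpowers_iff.2 ⟨1, by simpa using e⟩
  · refine mem_zpowers_iff.2 ⟨2, ?_⟩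
    rw [show (2 : ℤ) = ((2 : ℕ) : ℤ) from rfl, zpow_natCast, e, ← pow_mul, pow_succ, D'.z_cube,
      one_mul]

theorem exists_not_comm : ∃ q ∈ D.Q, cm q D'.z ≠ 1 := by
  by_contra h
  push_neg at h
  exact p.ne (D.Q_center _ p.mem fun b hb => (cm_eq_one.1 (h b hb)).symm)

variable [Finite G]

theorem card_P : Nat.card (D.Q ⊓ D'.C : Subgroup G) = 81 := by
  let f : D.Q →* zpowers D.z :=
    { toFun := fun q => ⟨cm q D'.z, D.cm_mem q.2 p.mem⟩
      map_one' := Subtype.ext (by simp [cm])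
      map_mul' := fun a b => Subtype.ext (D.cm_mul_left a.2 b.2 p.mem) }
  obtain ⟨q, hq, hne⟩ := p.exists_not_comm
  have hrange : Nat.card f.range = 3 := by
    have hd : Nat.card f.range ∣ 3 := by
      have := f.range.card_subgroup_dvd_card
      rwa [Nat.card_zpowers, D.z_order] at this
    refine ((Nat.dvd_prime Nat.prime_three).1 hd).resolve_left fun h => hne ?_
    have hb := Subgroup.card_eq_one.1 h
    have hm : f ⟨q, hq⟩ ∈ f.range := ⟨_, rfl⟩
    rw [hb, mem_bot] at hm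
    exact congrArg Subtype.val hm
  have hk : f.ker = (D.Q ⊓ D'.C).subgroupOf D.Q := by
    ext a
    rw [MonoidHom.mem_ker, mem_subgroupOf, mem_inf, Subtype.ext_iff]
    show cm (a : G) D'.z = 1 ↔ _
    rw [cm_eq_one, D'.mem_C]
    exact ⟨fun h => ⟨a.2, h⟩, fun h => h.2⟩
  have h := Subgroup.card_mul_index f.ker
  rw [Subgroup.index_ker, hrange, hk, Nat.card_congr (subgroupOfEquivOfLe inf_le_left).toEquiv,
    D.Q_card] at h
  omega

theorem exists_noncomm_P :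
    ∃ a ∈ (D.Q ⊓ D'.C : Subgroup G), ∃ b ∈ (D.Q ⊓ D'.C : Subgroup G), cm a b ≠ 1 := by
  by_contra hcon
  push_neg at hcon
  obtain ⟨q, hq, hne⟩ := p.exists_not_comm
  have hqP : q ∉ (D.Q ⊓ D'.C : Subgroup G) := fun h => hne (cm_eq_one.2 (D'.mem_C.1 h.2))
  have hgen : (D.Q ⊓ D'.C) ⊔ zpowers q = D.Q := by
    refine eq_of_le_of_card_ge (sup_le inf_le_left (zpowers_le.2 hq)) ?_
    have h1 : Nat.card ((D.Q ⊓ D'.C) ⊔ zpowers q : Subgroup G) ∣ 3 ^ 5 := by
      have := card_dvd_of_le (sup_le inf_le_left (zpowers_le.2 hq) : (D.Q ⊓ D'.C) ⊔ zpowers q ≤ D.Q)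
      rwa [D.Q_card] at this
    obtain ⟨k, hk, e⟩ := (Nat.dvd_prime_pow Nat.prime_three).1 h1
    have h2 : 81 < Nat.card ((D.Q ⊓ D'.C) ⊔ zpowers q : Subgroup G) := by
      rw [← p.card_P]
      refine lt_of_le_of_ne (card_le_of_le le_sup_left) fun h => hqP ?_
      rw [eq_of_le_of_card_ge le_sup_left h.ge]
      exact mem_sup_right (mem_zpowers q)
    rw [e] at h2 ⊢
    rw [D.Q_card]
    interval_cases k <;> omega
  let f : (D.Q ⊓ D'.C : Subgroup G) →* zpowers D.z :=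
    { toFun := fun a => ⟨cm a q, D.cm_mem a.2.1 hq⟩
      map_one' := Subtype.ext (by simp [cm])
      map_mul' := fun a b => Subtype.ext (D.cm_mul_left a.2.1 b.2.1 hq) }
  have hle : f.ker.map (D.Q ⊓ D'.C).subtype ≤ zpowers D.z := by
    rintro _ ⟨a, ha, rfl⟩
    refine D.Q_center _ a.2.1 fun b hb => ?_
    have hc : D.Q ≤ centralizer ({(a : G)} : Set G) := by
      refine hgen.ge.trans (sup_le (fun x hx => mem_centralizer_singleton_iff.2
        (cm_eq_one.1 (hcon x hx a a.2))) (zpowers_le.2 (mem_centralizer_singleton_iff.2 ?_)))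
      exact (cm_eq_one.1 (congrArg Subtype.val ha : cm (a : G) q = 1)).symm
    exact (mem_centralizer_singleton_iff.1 (hc hb)).symm
  have h3 : Nat.card f.ker ≤ 3 := by
    rw [← card_map_of_injective (D.Q ⊓ D'.C).subtype_injective, ← D.z_order, ← Nat.card_zpowers]
    exact card_le_of_le hle
  have h4 := Subgroup.card_mul_index f.ker
  rw [Subgroup.index_ker, p.card_P] at h4
  have h5 : Nat.card f.range ≤ 3 := by
    rw [← D.z_order, ← Nat.card_zpowers]; exact Subgroup.card_le_card_group _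
  nlinarith [h3, h4, h5]

theorem pow_three_of_mem_T {c : D.C} (hc : (c : G) ∈ D'.C) : D.π c ^ 3 = 1 := by
  have hT : ∀ d : D.C, (d : G) ∈ D'.C → D.π d ≠ sT := by
    intro d hd e
    have h := D.inv_Q d e D'.z p.mem
    rw [D'.mem_C.1 hd, mul_inv_cancel_right] at h
    refine p.ne ?_
    have h4 : D'.z = (D'.z * D'.z) ^ 2 := by
      rw [← pow_two, ← pow_mul, show 2 * 2 = 3 + 1 from rfl, pow_succ, D'.z_cube, one_mul]
    rw [h4]
    exact pow_mem h _
  rcases sl_cases (D.π c) with h | h | h | h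
  · exact h
  · exact absurd (by rw [map_pow]; exact h) (hT (c ^ 2) (pow_mem hc 2))
  · exact absurd (by rw [map_pow]; exact h) (hT (c ^ 3) (pow_mem hc 3))
  · exact absurd h (hT c hc)

theorem image_cases {c d : D.C} (hc : (c : G) ∈ D'.C) (hd : (d : G) ∈ D'.C) (hne : D.π c ≠ 1) :
    D.π d = 1 ∨ D.π d = D.π c ∨ D.π d = D.π c * D.π c := by
  refine sl_pair _ _ (p.pow_three_of_mem_T hc) (p.pow_three_of_mem_T hd) ?_ ?_ hne
  · rw [← map_mul]; exact p.pow_three_of_mem_T (mul_mem hc hd)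
  · rw [← map_mul, ← map_mul]; exact p.pow_three_of_mem_T (mul_mem hc (mul_mem hd hd))

omit [Finite G] in
theorem image_comm {a b : D.C} (ha : (a : G) ∈ D'.C) (hb : (b : G) ∈ D'.C) [Finite G] :
    D.π a * D.π b = D.π b * D.π a := by
  by_cases h : D.π a = 1
  · rw [h, one_mul, mul_one]
  rcases p.image_cases ha hb h with e | e | e <;> rw [e]
  · rw [one_mul, mul_one]
  · rw [mul_assoc]

/-- Each centre lies in the core of the other. -/
theorem symm : Pr D' D := by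
  refine ⟨?_, p.ne'⟩
  obtain ⟨a, ha, b, hb, hne⟩ := p.exists_noncomm_P
  have key : ∀ a : D'.C, (a : G) ∈ D.Q → D'.π a ^ 3 = 1 := fun x hx => by
    rw [← map_pow, show x ^ 3 = 1 from Subtype.ext (D.Q_exp _ hx), map_one]
  set a' : D'.C := ⟨a, ha.2⟩
  set b' : D'.C := ⟨b, hb.2⟩
  have hcomm : D'.π (a' * b' * a'⁻¹ * b'⁻¹) = 1 := by
    by_cases h1 : D'.π a' = 1
    · simp [h1]
    rcases sl_pair _ _ (key a' ha.1) (key b' hb.1)
      (by rw [← map_mul]; exact key _ (mul_mem ha.1 hb.1))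
      (by rw [← map_mul, ← map_mul]; exact key _ (mul_mem ha.1 (mul_mem hb.1 hb.1))) h1 with e | e | e <;>
      simp only [map_mul, map_inv, e] <;> group
  have hm : cm a b ∈ D'.Q := D'.mem_ker.1 hcomm
  obtain ⟨k, hk, e⟩ := D.exists_pow_eq (D.cm_mem ha.1 hb.1)
  interval_cases k
  · exact absurd (by simpa using e) hne
  · rw [e, pow_one] at hm; exact hm
  · have h2 : (cm a b) ^ 2 ∈ D'.Q := pow_mem hm 2
    rw [e, ← pow_mul, show 2 * 2 = 3 + 1 from rfl, pow_succ, D.z_cube, one_mul] at h2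
    exact h2

theorem not_le_Q : ∃ u ∈ (D'.Q ⊓ D.C : Subgroup G), u ∉ D.Q := by
  by_contra hcon
  push_neg at hcon
  obtain ⟨a, ha, b, hb, hne⟩ := p.symm.exists_noncomm_P
  refine hne ?_
  obtain ⟨k, hk, e⟩ := D.exists_pow_eq (D.cm_mem (hcon a ha) (hcon b hb))
  have h' := D'.cm_mem ha.1 hb.1
  rw [e] at h'
  interval_cases k
  · simpa using e
  · rw [pow_one] at h'; exact absurd h' p.ne'
  · have := pow_mem h' 2
    rw [← pow_mul, show 2 * 2 = 3 + 1 from rfl, pow_succ, D.z_cube, one_mul] at this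
    exact absurd this p.ne'

theorem card_A : Nat.card (D.Q ⊓ D'.Q : Subgroup G) = 27 := by
  obtain ⟨u, hu, huQ⟩ := p.not_le_Q
  let f : (D'.Q ⊓ D.C : Subgroup G) →* SL2 := D.π.comp (inclusion inf_le_right)
  have hrange : f.range = zpowers (D.π ⟨u, hu.2⟩) := by
    refine le_antisymm ?_ (zpowers_le.2 ⟨⟨u, hu⟩, rfl⟩)
    rintro _ ⟨x, rfl⟩
    have hne : D.π ⟨u, hu.2⟩ ≠ 1 := fun h => huQ (D.mem_ker.1 h)
    rcases p.image_cases (c := ⟨u, hu.2⟩) (d := ⟨x, x.2.2⟩) (D'.Q_le hu.1) (D'.Q_le x.2.1) hne with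
      e | e | e <;> show D.π ⟨x, x.2.2⟩ ∈ _ <;> rw [e]
    · exact one_mem _
    · exact mem_zpowers _
    · exact mul_mem (mem_zpowers _) (mem_zpowers _)
  have hk : f.ker = (D.Q ⊓ D'.Q).subgroupOf (D'.Q ⊓ D.C) := by
    ext x
    rw [MonoidHom.mem_ker, mem_subgroupOf, mem_inf]
    show D.π _ = 1 ↔ _
    rw [D.mem_ker]
    exact ⟨fun h => ⟨h, x.2.1⟩, fun h => h.1⟩
  have h := Subgroup.card_mul_index f.ker
  haveI : Fact (Nat.Prime 3) := ⟨Nat.prime_three⟩
  rw [Subgroup.index_ker, hrange, Nat.card_zpowers, orderOf_eq_prime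
    (p.pow_three_of_mem_T (c := ⟨u, hu.2⟩) (D'.Q_le hu.1)) (fun h => huQ (D.mem_ker.1 h)), hk,
    Nat.card_congr (subgroupOfEquivOfLe (le_inf inf_le_right (inf_le_left.trans D.Q_le))).toEquiv,
    p.symm.card_P] at h
  omega

theorem A_comm {a b : G} (ha : a ∈ D.Q ⊓ D'.Q) (hb : b ∈ D.Q ⊓ D'.Q) : a * b = b * a := by
  rw [← cm_eq_one]
  obtain ⟨k, hk, e⟩ := D.exists_pow_eq (D.cm_mem ha.1 hb.1)
  have h' := D'.cm_mem ha.2 hb.2
  rw [e] at h'
  interval_cases k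
  · simpa using e
  · rw [pow_one] at h'; exact absurd h' p.ne'
  · have := pow_mem h' 2
    rw [← pow_mul, show 2 * 2 = 3 + 1 from rfl, pow_succ, D.z_cube, one_mul] at this
    exact absurd this p.ne'

/-- An involution inverting the second centre. -/
theorem exists_invol : ∃ t : D.C, D.π t = sT ∧ (t : G) * t = 1 ∧
    (t : G) * D'.z * t = D'.z⁻¹ := by
  obtain ⟨c, hc⟩ := D.π_surj sT
  have hcc : c * c ∈ D.π.ker := by
    rw [MonoidHom.mem_ker, map_mul, hc, sl_rel.2.2.2.2.2.2.1]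
  rw [MonoidHom.mem_ker, D.mem_ker] at hcc
  set s : D.C := c ^ 3 with hs
  have hs2 : (s : G) * s = 1 := by
    rw [← pow_two, hs, Subgroup.coe_pow, ← pow_mul, show 3 * 2 = 2 * 3 from rfl, pow_mul, pow_two]
    exact D.Q_exp _ hcc
  have hsπ : D.π s = sT := by
    rw [hs, map_pow, hc, pow_succ, pow_two, sl_rel.2.2.2.2.2.2.1, one_mul]
  obtain ⟨k, -, hk⟩ := D.exists_pow_eq (D.inv_Q s hsπ D'.z p.mem)
  obtain ⟨q, hq, hne⟩ := p.exists_not_comm
  obtain ⟨j, hj3, hj⟩ := D.exists_pow_eq (D.cm_mem hq p.mem)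
  have hsym : (s : G)⁻¹ = s := inv_eq_of_mul_eq_one_right hs2
  -- conjugate by a power of `q`
  obtain ⟨m, hm⟩ : ∃ m : ℕ, (k + (3 - j % 3) * m + (3 - j % 3) * m) % 3 = 0 := by
    have hj0 : j ≠ 0 := fun h => hne (by rw [hj, h, pow_zero])
    refine ⟨k * (3 - j % 3), ?_⟩
    interval_cases j <;> norm_num <;> omega
  set r := q ^ m with hr
  have hrQ : r ∈ D.Q := pow_mem hq m
  refine ⟨⟨r, D.Q_le hrQ⟩ * s * ⟨r, D.Q_le hrQ⟩⁻¹, ?_, ?_, ?_⟩
  · rw [map_mul, map_mul, hsπ, map_inv, D.mem_ker.2 hrQ, one_mul, inv_one, mul_one]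
  · show r * s * r⁻¹ * (r * s * r⁻¹) = 1
    calc r * s * r⁻¹ * (r * s * r⁻¹) = r * ((s : G) * s) * r⁻¹ := by group
      _ = 1 := by rw [hs2, mul_one, mul_inv_cancel]
  · show r * s * r⁻¹ * D'.z * (r * s * r⁻¹) = D'.z⁻¹
    have hcq : cm r⁻¹ D'.z = D.z ^ ((3 - j % 3) * m) := by
      have h1 : cm r⁻¹ D'.z * cm r D'.z = 1 := by
        rw [← D.cm_mul_left (inv_mem hrQ) hrQ p.mem, inv_mul_cancel]; simp [cm]
      rw [eq_inv_of_mul_eq_one_left h1, hr, D.cm_pow_left hq p.mem, hj, ← pow_mul,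
        inv_eq_iff_mul_eq_one, ← pow_add]
      refine orderOf_dvd_iff_pow_eq_one.1 ?_
      rw [D.z_order]
      interval_cases j <;> simp [Nat.dvd_iff_mod_eq_zero, Nat.add_mod, Nat.mul_mod] <;> omega
    have hkk : (s : G) * D'.z * s = D.z ^ k * D'.z⁻¹ := by
      rw [eq_mul_inv_iff_mul_eq, ← hk, hsym]
    have hzc : ∀ x ∈ D.C, ∀ n : ℕ, x * D.z ^ n = D.z ^ n * x := fun x hx n =>
      D.comm_zpow hx (npow_mem_zpowers _ n)
    calc r * s * r⁻¹ * D'.z * (r * s * r⁻¹)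
        = r * ((s : G) * (cm r⁻¹ D'.z * D'.z) * s) * r⁻¹ := by simp [cm, mul_assoc]
      _ = r * (D.z ^ ((3 - j % 3) * m) * ((s : G) * D'.z * s)) * r⁻¹ := by
          rw [hcq, ← mul_assoc (s : G) (D.z ^ _) D'.z, hzc s s.2]; group
      _ = r * (D.z ^ ((3 - j % 3) * m + k) * D'.z⁻¹) * r⁻¹ := by rw [hkk, pow_add]; group
      _ = D.z ^ ((3 - j % 3) * m + k) * (r * D'.z⁻¹ * r⁻¹) := by
          rw [← mul_assoc r, hzc r (D.Q_le hrQ)]; group
      _ = D.z ^ ((3 - j % 3) * m + k) * (D.z ^ ((3 - j % 3) * m) * D'.z⁻¹) := by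
          rw [← hcq]
          have hi : cm r⁻¹ D'.z = cm r D'.z⁻¹ := by
            have e1 : cm r⁻¹ D'.z * cm r D'.z = 1 := by
              rw [← D.cm_mul_left (inv_mem hrQ) hrQ p.mem, inv_mul_cancel]; simp [cm]
            have e2 : cm r D'.z⁻¹ * cm r D'.z = 1 := by
              rw [← D.cm_mul_right (inv_mem p.mem) p.mem hrQ, inv_mul_cancel]; simp [cm]
            exact mul_right_cancel (e1.trans e2.symm)
          rw [hi, conj_eq_cm r D'.z⁻¹]
      _ = D'.z⁻¹ := by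
          rw [← mul_assoc, ← pow_add]
          have : D.z ^ ((3 - j % 3) * m + k + (3 - j % 3) * m) = 1 := by
            refine orderOf_dvd_iff_pow_eq_one.1 ?_
            rw [D.z_order, Nat.dvd_iff_mod_eq_zero, show (3 - j % 3) * m + k + (3 - j % 3) * m =
              k + (3 - j % 3) * m + (3 - j % 3) * m by omega]
            exact hm
          rw [this, one_mul]

end Pr

end CfsgLib.Recog.LFourThree
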