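import Cfsg.Agent.Lib.Recog.LFourThree.LocalBase

/-!
Conjugates of the central element inside the core lie in the two natural elementary groups.
-/

set_option autoImplicit false

namespace CfsgLib.Recog.LFourThree

open Subgroup

universe u

/-- the opposite root element of the Levi factor -/
def lP : Pm := ⟨xr 2 1 1, mem_Pm.2 (by decide +kernel)⟩

theorem gens_mem_Cm : uP ∈ Cm ∧ lP ∈ Cm ∧ uP * lP ∈ Cm := by decide +kernel

theorem exists_qcoord {x : Pm} (hx : x ∈ Qm) :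
    ∃ a b c d e : ZMod 3, x = ⟨mkS (a, b, c, 0, d, e), mkS_mem _⟩ := by
  obtain ⟨p, hp⟩ := equivS.surjective ⟨x, Qm_le_Sm hx⟩
  have hm := (mem_Qm.1 hx).2
  have hx' : x = (equivS p).1 := (congrArg Subtype.val hp).symm
  obtain ⟨a, b, c, o, d, e⟩ := p
  have ho : o = 0 := by
    have := congrFun (congrFun hm 0) 1
    rw [hx'] at this
    exact this
  subst ho
  exact ⟨a, b, c, d, e, hx'⟩

/-- commutation with a conjugate, as matrices -/
def commConj (x g g' : Matrix (Fin 4) (Fin 4) (ZMod 3)) : Bool :=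
  decide (x * (g * x * g') = g * x * g' * x)

/-- the test on coordinates -/
def sepTest (p : ZMod 3 × ZMod 3 × ZMod 3 × ZMod 3 × ZMod 3) : Bool :=
  let x := (mkS (p.1, p.2.1, p.2.2.1, 0, p.2.2.2.1, p.2.2.2.2)).1
  !(commConj x (xr 1 2 1).1 (xr 1 2 (-1)).1 && commConj x (xr 2 1 1).1 (xr 2 1 (-1)).1 &&
      commConj x ((xr 1 2 1).1 * (xr 2 1 1).1) ((xr 2 1 (-1)).1 * (xr 1 2 (-1)).1)) ||
    (p.2.2.2.1 == 0 && p.2.2.2.2 == 0) || (p.1 == 0 && p.2.1 == 0)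

theorem sep_table : ∀ p, sepTest p = true := by decide +kernel

theorem mem_EmFm {a b c d e : ZMod 3} (h : (d = 0 ∧ e = 0) ∨ (a = 0 ∧ b = 0)) :
    (⟨mkS (a, b, c, 0, d, e), mkS_mem _⟩ : Pm) ∈ Em ∨
      (⟨mkS (a, b, c, 0, d, e), mkS_mem _⟩ : Pm) ∈ Fm := by
  rcases h with ⟨rfl, rfl⟩ | ⟨rfl, rfl⟩
  · refine Or.inl (mem_subgroupOf.2 (mem_patGroup.2 fun i j h => ?_))
    fin_cases i <;> fin_cases j <;> simp_all [patE, mkS]
  · refine Or.inr (mem_subgroupOf.2 (mem_patGroup.2 fun i j h => ?_))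
    fin_cases i <;> fin_cases j <;> simp_all [patF, mkS]

theorem inv_coe : (uP⁻¹ : Pm).1.1 = (xr 1 2 (-1)).1 ∧ (lP⁻¹ : Pm).1.1 = (xr 2 1 (-1)).1 ∧
    ((uP * lP)⁻¹ : Pm).1.1 = (xr 2 1 (-1)).1 * (xr 1 2 (-1)).1 := by
  have key : ∀ (g : Pm) (g' : SL4), g.1 * g' = 1 → (g⁻¹ : Pm).1.1 = g'.1 := fun g g' h =>
    congrArg (fun y : SL4 => y.1) ((Subgroup.coe_inv _ g).trans (inv_eq_of_mul_eq_one_right h))
  exact ⟨key uP _ (by decide +kernel), key lP _ (by decide +kernel),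
    key (uP * lP) (xr 2 1 (-1) * xr 1 2 (-1)) (by decide +kernel)⟩

theorem comm_coe (x g : Pm) (h : x * (g * x * g⁻¹) = g * x * g⁻¹ * x) :
    commConj x.1.1 g.1.1 (g⁻¹ : Pm).1.1 = true := by
  rw [commConj, decide_eq_true_iff]
  have h1 := congrArg (fun y : SL4 => y.1) (congrArg Subtype.val h)
  simp only [Subgroup.coe_mul, Matrix.SpecialLinearGroup.coe_mul] at h1
  exact h1

/-- An element of `Qm` commuting with all its conjugates under `Cm`. -/
theorem sep_model {x : Pm} (hx : x ∈ Qm) (h : ∀ c ∈ Cm, x * (c * x * c⁻¹) = c * x * c⁻¹ * x) :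
    x ∈ Em ∨ x ∈ Fm := by
  obtain ⟨a, b, c, d, e, rfl⟩ := exists_qcoord hx
  have key : ∀ g ∈ Cm, ∀ gi : Matrix (Fin 4) (Fin 4) (ZMod 3), (g⁻¹ : Pm).1.1 = gi →
      commConj (mkS (a, b, c, 0, d, e)).1 g.1.1 gi = true := by
    rintro g hg _ rfl
    exact comm_coe ⟨mkS (a, b, c, 0, d, e), mkS_mem _⟩ g (h g hg)
  have h1 := key _ gens_mem_Cm.1 _ inv_coe.1
  have h2 := key _ gens_mem_Cm.2.1 _ inv_coe.2.1
  have h3 := key _ gens_mem_Cm.2.2 _ inv_coe.2.2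
  have ht := sep_table (a, b, c, d, e)
  simp only [sepTest, Bool.or_eq_true, Bool.not_eq_true', Bool.and_eq_false_iff,
    Bool.and_eq_true, beq_iff_eq] at ht
  refine mem_EmFm ?_
  rcases ht with (((h | h) | h) | h) | h
  · exact absurd h (Bool.eq_false_iff.mp · |>.elim h1)
  · exact absurd h (Bool.eq_false_iff.mp · |>.elim h2)
  · exact absurd h (Bool.eq_false_iff.mp · |>.elim h3)
  · exact Or.inl h
  · exact Or.inr h

theorem zpow_zP_mem (n : ℤ) : zP ^ n ∈ Em :=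
  Em.zpow_mem (by decide +kernel) n

/-- Conjugates of the central element in the core lie in the two elementary groups. -/
theorem sep_of_local {G : Type u} [Group G] [Finite G] (B : Base G) (D : Std G)
    (hz : B.ψ zP = D.z) (hQ : Qm.map B.ψ = D.Q) :
    ∀ x : Pm, x ∈ Qm → IsConj (B.ψ zP) (B.ψ x) → x ∈ Em ∨ x ∈ Fm := by
  intro x hx hc
  obtain ⟨g, hg⟩ := isConj_iff.1 hc
  rw [hz] at hg
  by_cases hxz : B.ψ x ∈ zpowers D.z
  · obtain ⟨n, hn⟩ := mem_zpowers_iff.1 hxz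
    rw [← hz, ← map_zpow] at hn
    rw [← B.inj hn]
    exact Or.inl (zpow_zP_mem n)
  have p : Pr D (D.conj g) := by
    refine ⟨?_, ?_⟩ <;> rw [D.conj_z, hg]
    · exact hQ ▸ ⟨x, hx, rfl⟩
    · exact hxz
  refine sep_model hx fun c hc => B.inj ?_
  have hcC : B.ψ c ∈ D.C := by
    rw [show D.C = Cm.map B.ψ by rw [← B.cent_z, hz]]
    exact ⟨c, hc, rfl⟩
  have h1 : B.ψ x ∈ Espan D (D.conj g).z := by rw [D.conj_z, hg]; exact mem_Espan_self _ _
  simp only [map_mul, map_inv]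
  exact p.espan_facts.2.2.1 _ h1 _ (Espan_invariant D _ _ hcC _ h1)

end CfsgLib.Recog.LFourThree
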