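import Cfsg.Agent.Lib.Recog.LFourThree.LocalE

/-!
The natural submodule through the second centre is the intersection of the two cores.
-/

set_option autoImplicit false

namespace CfsgLib.Recog.LFourThree

open Subgroup
open scoped Pointwise

universe u

variable {G : Type u} [Group G] [Finite G]

namespace Pr

variable {D D' : Std G} (p : Pr D D')
include p

omit [Finite G] in
theorem commute_zy : Commute D.z D'.z := (D.mem_C.1 (D.Q_le p.mem)).symm

theorem commute_zy' (f : Fr D D') : Commute D.z (p.yy f) := (D.mem_C.1 (D.Q_le (p.yy_mem f))).symm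

theorem span_comm (f : Fr D D') {a b : G} (ha : a ∈ zpowers D.z ⊔ zpowers D'.z ⊔ zpowers (p.yy f))
    (hb : b ∈ zpowers D.z ⊔ zpowers D'.z ⊔ zpowers (p.yy f)) : a * b = b * a := by
  have key : ∀ g ∈ ({D.z, D'.z, p.yy f} : Set G),
      zpowers D.z ⊔ zpowers D'.z ⊔ zpowers (p.yy f) ≤ centralizer ({g} : Set G) := by
    intro g hg
    refine sup_le (sup_le (zpowers_le.2 ?_) (zpowers_le.2 ?_)) (zpowers_le.2 ?_) <;>
      rw [mem_centralizer_singleton_iff] <;> rcases hg with rfl | rfl | rfl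
    · rfl
    · exact p.commute_zy.eq
    · exact (p.commute_zy' f).eq
    · exact p.commute_zy.eq.symm
    · rfl
    · exact (p.yy_comm f).symm
    · exact (p.commute_zy' f).eq.symm
    · exact p.yy_comm f
    · rfl
  have h2 : zpowers D.z ⊔ zpowers D'.z ⊔ zpowers (p.yy f) ≤ centralizer ({b} : Set G) := by
    refine sup_le (sup_le (zpowers_le.2 ?_) (zpowers_le.2 ?_)) (zpowers_le.2 ?_) <;>
      exact mem_centralizer_singleton_iff.2
        (mem_centralizer_singleton_iff.1 (key _ (by simp) hb)).symm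
  exact mem_centralizer_singleton_iff.1 (h2 ha)

theorem span_le_Q (f : Fr D D') : zpowers D.z ⊔ zpowers D'.z ⊔ zpowers (p.yy f) ≤ D.Q :=
  sup_le (sup_le D.Z_le_Q (zpowers_le.2 p.mem)) (zpowers_le.2 (p.yy_mem f))

theorem yy_notMem (f : Fr D D') : p.yy f ∉ zpowers D.z ⊔ zpowers D'.z := by
  intro h
  have hu : zpowers D.z ⊔ zpowers D'.z ≤ centralizer ({f.u} : Set G) :=
    sup_le (zpowers_le.2 (mem_centralizer_singleton_iff.2 (D.mem_C.1 f.uC).symm))
      (zpowers_le.2 (mem_centralizer_singleton_iff.2 (D'.mem_C.1 (D'.Q_le f.uQ')).symm))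
  have h1 := mem_centralizer_singleton_iff.1 (hu h)
  have h2 := p.u_yy f
  rw [← h1, mul_inv_cancel_right] at h2
  exact D'.z_ne (inv_eq_one.1 (mul_eq_left.1 h2.symm))

theorem card_span (f : Fr D D') :
    Nat.card (zpowers D.z ⊔ zpowers D'.z ⊔ zpowers (p.yy f) : Subgroup G) = 27 := by
  set Y := zpowers D.z ⊔ zpowers D'.z with hY
  set E := Y ⊔ zpowers (p.yy f) with hE
  have hdiv : ∀ {K : Subgroup G}, K ≤ D.Q → ∃ k, k ≤ 5 ∧ Nat.card K = 3 ^ k := by
    intro K hK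
    have := card_dvd_of_le hK
    rw [D.Q_card, show (243 : ℕ) = 3 ^ 5 from rfl] at this
    exact (Nat.dvd_prime_pow Nat.prime_three).1 this
  have h1 : 3 < Nat.card Y := by
    rw [← D.z_order, ← Nat.card_zpowers]
    refine lt_of_le_of_ne (card_le_of_le le_sup_left) fun h => p.ne ?_
    rw [eq_of_le_of_card_ge le_sup_left h.ge]
    exact mem_sup_right (mem_zpowers _)
  have h2 : Nat.card Y < Nat.card E :=
    lt_of_le_of_ne (card_le_of_le le_sup_left) fun h => p.yy_notMem f (by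
      show p.yy f ∈ Y
      rw [eq_of_le_of_card_ge (le_sup_left : Y ≤ E) h.ge]
      exact mem_sup_right (mem_zpowers _))
  have h3 : Nat.card E ≤ 27 := by
    let g : Fin 3 × Fin 3 × Fin 3 → G :=
      fun q => D.z ^ (q.1 : ℕ) * D'.z ^ (q.2.1 : ℕ) * p.yy f ^ (q.2.2 : ℕ)
    have hsub : (E : Set G) ⊆ Set.range g := by
      intro a ha
      have hYc : Y ≤ centralizer ({p.yy f} : Set G) := fun y hy => mem_centralizer_singleton_iff.2
        (p.span_comm f (mem_sup_left hy) (mem_sup_right (mem_zpowers _)))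
      have hm : a ∈ (Y : Set G) * (zpowers (p.yy f) : Set G) := by
        rw [← coe_mul_of_left_le_normalizer_right _ _ (hYc.trans ?_)]
        · exact ha
        · intro y hy
          refine mem_normalizer_iff.2 fun x => ?_
          have hyc : Commute y (p.yy f) := mem_centralizer_singleton_iff.1 hy
          constructor <;> intro hx
          · obtain ⟨i, rfl⟩ := mem_zpowers_iff.1 hx
            rw [(hyc.zpow_right i).eq, mul_inv_cancel_right]; exact hx
          · obtain ⟨i, hi⟩ := mem_zpowers_iff.1 hx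
            have : y⁻¹ * (p.yy f ^ i) * y = p.yy f ^ i := by
              rw [mul_assoc, ← (hyc.zpow_right i).eq, inv_mul_cancel_left]
            rw [hi] at this
            rw [show x = y⁻¹ * (y * x * y⁻¹) * y by group, this]
            exact hx
      obtain ⟨y, hy, b, hb, rfl⟩ := hm
      obtain ⟨i, j, rfl⟩ := mem_pair p.commute_zy hy
      obtain ⟨i', hi, ei⟩ := D.exists_pow_eq (zpow_mem (mem_zpowers D.z) i)
      obtain ⟨j', hj, ej⟩ := D'.exists_pow_eq (zpow_mem (mem_zpowers D'.z) j)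
      obtain ⟨k, hk⟩ := mem_zpowers_iff.1 hb
      have hy3 : orderOf (p.yy f) = 3 := by
        show orderOf (f.w * D'.z * f.w⁻¹) = 3
        rw [orderOf_conj_elem, D'.z_order]
      have hk' : p.yy f ^ k = p.yy f ^ (k % 3).toNat := by
        rw [← zpow_natCast, Int.toNat_of_nonneg (by omega), zpow_eq_zpow_iff_modEq, hy3]
        exact (Int.mod_modEq k 3).symm
      refine ⟨(⟨i', hi⟩, ⟨j', hj⟩, ⟨(k % 3).toNat, by omega⟩), ?_⟩
      simp only [g]
      rw [← hk, hk', ei, ej]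
    calc Nat.card E ≤ Nat.card (Set.range g) := Nat.card_mono (Set.finite_range g) hsub
      _ ≤ Nat.card (Fin 3 × Fin 3 × Fin 3) := Finite.card_range_le g
      _ = 27 := by simp
  obtain ⟨i, hi, ei⟩ := hdiv ((le_sup_left : Y ≤ E).trans (p.span_le_Q f))
  obtain ⟨j, hj, ej⟩ := hdiv (p.span_le_Q f)
  rw [ei] at h1 h2
  rw [ej] at h2 h3 ⊢
  interval_cases j <;> interval_cases i <;> omega

theorem span_invariant (f : Fr D D') : ∀ c ∈ D.C, ∀ x ∈ zpowers D.z ⊔ zpowers D'.z ⊔ zpowers (p.yy f),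
    c * x * c⁻¹ ∈ zpowers D.z ⊔ zpowers D'.z ⊔ zpowers (p.yy f) := by
  set E := zpowers D.z ⊔ zpowers D'.z ⊔ zpowers (p.yy f) with hE
  have hzE : D.z ∈ E := mem_sup_left (mem_sup_left (mem_zpowers _))
  have hyE : D'.z ∈ E := mem_sup_left (mem_sup_right (mem_zpowers _))
  have hwE : p.yy f ∈ E := mem_sup_right (mem_zpowers _)
  let N : Submonoid G := {
    carrier := {c | c ∈ D.C ∧ ∀ x ∈ E, c * x * c⁻¹ ∈ E}
    one_mem' := ⟨one_mem _, fun x hx => by simpa using hx⟩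
    mul_mem' := fun {a b} ha hb => ⟨mul_mem ha.1 hb.1, fun x hx => by
      have e : a * b * x * (a * b)⁻¹ = a * (b * x * b⁻¹) * a⁻¹ := by group
      rw [e]; exact ha.2 _ (hb.2 x hx)⟩ }
  have hgen : ∀ c ∈ D.C, c * D'.z * c⁻¹ ∈ E → c * p.yy f * c⁻¹ ∈ E → c ∈ N := by
    intro c hc h1 h2
    have hle : E ≤ E.comap (MulAut.conj c).toMonoidHom :=
      sup_le (sup_le (zpowers_le.2 (by
        show c * D.z * c⁻¹ ∈ E
        rw [D.z_central hc (mem_zpowers _)]; exact hzE)) (zpowers_le.2 h1)) (zpowers_le.2 h2)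
    exact ⟨hc, fun x hx => hle hx⟩
  have hQN : ∀ q ∈ D.Q, q ∈ N := fun q hq => hgen q (D.Q_le hq)
    (by rw [conj_eq_cm]; exact mul_mem ((zpowers_le.2 hzE) (D.cm_mem hq p.mem)) hyE)
    (by rw [conj_eq_cm]; exact mul_mem ((zpowers_le.2 hzE) (D.cm_mem hq (p.yy_mem f))) hwE)
  have huN : f.u ∈ N := hgen _ f.uC
    (by rw [D'.mem_C.1 (D'.Q_le f.uQ'), mul_inv_cancel_right]; exact hyE)
    (by rw [p.u_yy f]; exact mul_mem hwE (inv_mem hyE))
  have hwN : f.w ∈ N := hgen _ f.wC hwE (by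
    have h := D.inv_Q (⟨f.w, f.wC⟩ * ⟨f.w, f.wC⟩) (by rw [map_mul]; exact f.w_sq) D'.z p.mem
    have e : f.w * p.yy f * f.w⁻¹ = (f.w * f.w * D'.z * (f.w * f.w)⁻¹ * D'.z) * D'.z⁻¹ := by
      show f.w * (f.w * D'.z * f.w⁻¹) * f.w⁻¹ = _
      group
    rw [e]
    exact mul_mem ((zpowers_le.2 hzE) h) (inv_mem hyE))
  intro c hc
  obtain ⟨i, j, k, l, e⟩ := sl_gen_words _ _
    (p.pow_three_of_mem_T (c := ⟨f.u, f.uC⟩) (D'.Q_le f.uQ'))
    (fun h => f.u_not (D.mem_ker.1 h)) f.w_sq f.rel (D.π ⟨c, hc⟩)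
  set L : G := f.w * f.u * f.w⁻¹ with hL
  have hLC : L ∈ D.C := mul_mem (mul_mem f.wC f.uC) (inv_mem f.wC)
  have hwi : f.w⁻¹ ∈ N := by
    have h : f.w ^ (orderOf f.w - 1) = f.w⁻¹ := by
      refine eq_inv_of_mul_eq_one_left ?_
      rw [← pow_succ, Nat.sub_add_cancel (orderOf_pos f.w), pow_orderOf_eq_one]
    rw [← h]; exact pow_mem hwN _
  have hLN : L ∈ N := mul_mem (mul_mem hwN huN) hwi
  set m : D.C := ⟨f.u, f.uC⟩ ^ (i : ℕ) * ⟨L, hLC⟩ ^ (j : ℕ) * ⟨f.u, f.uC⟩ ^ (k : ℕ) *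
    ⟨L, hLC⟩ ^ (l : ℕ)
  have hm : D.π m = D.π ⟨c, hc⟩ := by
    rw [e]
    simp only [m, map_mul, map_pow]
    rw [show (⟨L, hLC⟩ : D.C) = ⟨f.w, f.wC⟩ * ⟨f.u, f.uC⟩ * ⟨f.w, f.wC⟩⁻¹ from rfl, map_mul,
      map_mul, map_inv]
  have hq : (m : G)⁻¹ * c ∈ D.Q := by
    have : m⁻¹ * ⟨c, hc⟩ ∈ D.π.ker := by rw [MonoidHom.mem_ker, map_mul, map_inv, hm, inv_mul_cancel]
    rw [D.π_ker, mem_subgroupOf] at this
    exact this
  have hmN : (m : G) ∈ N := by
    simp only [m, coe_mul, coe_pow]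
    exact mul_mem (mul_mem (mul_mem (pow_mem huN _) (pow_mem hLN _)) (pow_mem huN _)) (pow_mem hLN _)
  have hcN := mul_mem hmN (hQN _ hq)
  rw [mul_inv_cancel_left] at hcN
  exact hcN.2

theorem span_eq (f : Fr D D') :
    Espan D D'.z = zpowers D.z ⊔ zpowers D'.z ⊔ zpowers (p.yy f) := by
  refine le_antisymm ((closure_le _).2 ?_) (sup_le (sup_le (zpowers_le.2 (z_mem_Espan _ _))
    (zpowers_le.2 (mem_Espan_self _ _))) (zpowers_le.2 (subset_closure (Or.inr ⟨f.w, f.wC, rfl⟩))))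
  rintro x (rfl | ⟨c, hc, rfl⟩)
  · exact mem_sup_left (mem_sup_left (mem_zpowers _))
  · exact p.span_invariant f c hc _ (mem_sup_left (mem_sup_right (mem_zpowers _)))

/-- The basic facts on the span. -/
theorem espan_facts : Espan D D'.z ≤ D.Q ∧ Nat.card (Espan D D'.z) = 27 ∧
    (∀ a ∈ Espan D D'.z, ∀ b ∈ Espan D D'.z, a * b = b * a) ∧
    ∀ c ∈ D.C, (∀ x ∈ Espan D D'.z, c * x = x * c) → c ∈ D.Q := by
  obtain ⟨f⟩ := p.exists_frame
  rw [p.span_eq f]
  refine ⟨p.span_le_Q f, p.card_span f, fun a ha b hb => p.span_comm f ha hb, fun c hc hcE => ?_⟩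
  have hcT : c ∈ D'.C :=
    D'.mem_C.2 (hcE _ (mem_sup_left (mem_sup_right (mem_zpowers _))))
  have hne : D.π ⟨f.u, f.uC⟩ ≠ 1 := fun h => f.u_not (D.mem_ker.1 h)
  have hcy := hcE _ (mem_sup_right (mem_zpowers (p.yy f)))
  have key : ∀ n : ℕ, D.π ⟨c, hc⟩ = D.π (⟨f.u, f.uC⟩ ^ n) → n % 3 = 0 := by
    intro n hn
    have hq : (f.u ^ n)⁻¹ * c ∈ D.Q := by
      have : (⟨f.u, f.uC⟩ ^ n)⁻¹ * ⟨c, hc⟩ ∈ D.π.ker := by
        rw [MonoidHom.mem_ker, map_mul, map_inv, hn, inv_mul_cancel]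
      rw [D.π_ker, mem_subgroupOf] at this
      exact this
    set q := (f.u ^ n)⁻¹ * c with hq'
    have hpow : ∀ k : ℕ, f.u ^ k * p.yy f * (f.u ^ k)⁻¹ = p.yy f * (D'.z⁻¹) ^ k := by
      intro k
      induction k with
      | zero => simp
      | succ k ih =>
        have hfix : ∀ i : ℕ, f.u * (D'.z⁻¹) ^ i * f.u⁻¹ = (D'.z⁻¹) ^ i := fun i => by
          rw [((show Commute f.u D'.z from D'.mem_C.1 (D'.Q_le f.uQ')).inv_right.pow_right i).eq,
            mul_inv_cancel_right]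
        calc f.u ^ (k + 1) * p.yy f * (f.u ^ (k + 1))⁻¹
            = f.u * (f.u ^ k * p.yy f * (f.u ^ k)⁻¹) * f.u⁻¹ := by rw [pow_succ']; group
          _ = (f.u * p.yy f * f.u⁻¹) * (f.u * (D'.z⁻¹) ^ k * f.u⁻¹) := by rw [ih]; group
          _ = _ := by rw [p.u_yy f, hfix, pow_succ', mul_assoc]
    have hz := D.cm_mem hq (p.yy_mem f)
    have h1 : p.yy f = cm q (p.yy f) * (p.yy f * (D'.z⁻¹) ^ n) := by
      calc p.yy f = c * p.yy f * c⁻¹ := by rw [hcy, mul_inv_cancel_right]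
        _ = f.u ^ n * (q * p.yy f * q⁻¹) * (f.u ^ n)⁻¹ := by rw [hq']; group
        _ = f.u ^ n * cm q (p.yy f) * (p.yy f * (f.u ^ n)⁻¹) := by rw [conj_eq_cm q]; group
        _ = cm q (p.yy f) * (f.u ^ n * p.yy f * (f.u ^ n)⁻¹) := by
            rw [D.comm_zpow (pow_mem f.uC n) hz]; group
        _ = _ := by rw [hpow]
    have h2 : (D'.z⁻¹) ^ n ∈ zpowers D.z := by
      have h3 : (D'.z⁻¹) ^ n = (p.yy f)⁻¹ * ((cm q (p.yy f))⁻¹ * p.yy f) := by
        conv_rhs => arg 2; arg 2; rw [h1]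
        group
      rw [h3, ← D.comm_zpow (D.Q_le (p.yy_mem f)) (inv_mem hz), inv_mul_cancel_left]
      exact inv_mem hz
    by_contra h0
    refine p.ne ?_
    rw [inv_pow] at h2
    have h4 := inv_mem h2
    rw [inv_inv] at h4
    have : D'.z = (D'.z ^ n) ^ n := by
      rw [← pow_mul]
      conv_lhs => rw [← pow_one D'.z]
      rw [pow_eq_pow_iff_modEq, D'.z_order]
      show 1 % 3 = n * n % 3
      rw [Nat.mul_mod]
      have : n % 3 = 1 ∨ n % 3 = 2 := by omega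
      rcases this with h | h <;> rw [h]
    rw [this]
    exact pow_mem h4 n
  rcases p.image_cases (c := ⟨f.u, f.uC⟩) (d := ⟨c, hc⟩) (D'.Q_le f.uQ') hcT hne with e | e | e
  · exact D.mem_ker.1 e
  · exact absurd (key 1 (by rw [pow_one]; exact e)) (by norm_num)
  · exact absurd (key 2 (by rw [pow_two, map_mul]; exact e)) (by norm_num)

/-- The span through the centre in the core of the second is the intersection of the cores. -/
theorem espan_symm_eq : Espan D' D.z = D.Q ⊓ D'.Q := by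
  obtain ⟨f⟩ := p.exists_frame
  obtain ⟨hFQ', hFcard, hFcomm, hFcent⟩ := p.symm.espan_facts
  set F := Espan D' D.z with hF
  have hzF : D.z ∈ F := mem_Espan_self _ _
  have hyF : D'.z ∈ F := z_mem_Espan _ _
  have hFC : F ≤ D.C := fun x hx => D.mem_C.2 (hFcomm x hx _ hzF)
  suffices hle : F ≤ D.Q by
    exact eq_of_le_of_card_ge (le_inf hle hFQ') (by rw [hFcard, p.card_A])
  by_contra hnot
  obtain ⟨c, hc, hcQ⟩ := SetLike.not_le_iff_exists.1 hnot
  have htt : f.t⁻¹ = f.t := inv_eq_of_mul_eq_one_right f.t_sq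
  -- the span is invariant under the involution
  have htF : ∀ x ∈ F, f.t * x * f.t ∈ F := by
    intro x hx
    have hle : F ≤ F.comap (MulAut.conj f.t).toMonoidHom := by
      refine (closure_le _).2 ?_
      rintro y (rfl | ⟨d, hd, rfl⟩)
      · show f.t * D'.z * f.t⁻¹ ∈ F
        rw [htt, f.t_inv]; exact inv_mem hyF
      · show f.t * (d * D.z * d⁻¹) * f.t⁻¹ ∈ F
        have hdC : f.t * d * f.t ∈ D'.C := D'.mem_C.2 (by
          have h1 : f.t * D'.z * f.t⁻¹ = D'.z⁻¹ := by rw [htt]; exact f.t_inv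
          calc f.t * d * f.t * D'.z = f.t * (d * (f.t * D'.z * f.t)) * f.t := by
                rw [f.t_inv]
                rw [show f.t * d * f.t * D'.z = f.t * d * (f.t * D'.z * f.t⁻¹) * f.t by group, h1]
                group
            _ = f.t * ((f.t * D'.z * f.t) * d) * f.t := by
                rw [f.t_inv, ((show Commute d D'.z from D'.mem_C.1 hd).inv_right).eq]
            _ = (f.t * f.t) * D'.z * (f.t * d * f.t) := by group
            _ = _ := by rw [f.t_sq, one_mul])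
        have e : f.t * (d * D.z * d⁻¹) * f.t⁻¹ = f.t * d * f.t * D.z * (f.t * d * f.t)⁻¹ := by
          calc f.t * (d * D.z * d⁻¹) * f.t⁻¹ = f.t * d * (f.t⁻¹ * f.t) * D.z * d⁻¹ * f.t⁻¹ := by
                group
            _ = f.t * d * f.t⁻¹ * (f.t * D.z) * d⁻¹ * f.t⁻¹ := by group
            _ = f.t * d * f.t⁻¹ * (D.z * f.t) * d⁻¹ * f.t⁻¹ := by rw [D.mem_C.1 f.tC]
            _ = _ := by rw [htt]; simp [mul_assoc, htt]
        rw [e]
        exact Espan_invariant D' D.z _ hdC _ hzF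
    have h := hle hx
    have h' : f.t * x * f.t⁻¹ ∈ F := h
    rwa [htt] at h'
  -- `u` belongs to the span
  set x := c⁻¹ * (f.t * c * f.t) with hx
  have hxF : x ∈ F := mul_mem (inv_mem hc) (htF c hc)
  have hxQ : x ∈ D.Q := by
    rw [← D.mem_ker (c := ⟨x, hFC hxF⟩),
      show (⟨x, hFC hxF⟩ : D.C) = ⟨c, hFC hc⟩⁻¹ * (⟨f.t, f.tC⟩ * ⟨c, hFC hc⟩ * ⟨f.t, f.tC⟩)
        from Subtype.ext hx,
      map_mul, map_mul, map_mul, map_inv, f.tπ, mul_assoc, sl_central, ← mul_assoc sT,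
      sl_rel.2.2.2.2.2.2.1, one_mul, inv_mul_cancel]
  have hfix := fix_of_cube f.t_sq hx (D.Q_exp x hxQ)
  set d := c * (x * x) with hd
  have hdF : d ∈ F := mul_mem hc (mul_mem hxF hxF)
  have hdQ : d ∉ D.Q := fun h => hcQ (by
    rw [show c = d * (x * x)⁻¹ by rw [hd, mul_inv_cancel_right]]
    exact mul_mem h (inv_mem (mul_mem hxQ hxQ)))
  have huF : f.u ∈ F := by
    have hdT : d ∈ D'.C := D'.Q_le (hFQ' hdF)
    have hfixZ : ∀ r : G, r ∈ D.Q → f.t * r * f.t = r → r ∈ zpowers D.z := by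
      intro r hr hfr
      have h := D.inv_Q ⟨f.t, f.tC⟩ f.tπ r hr
      rw [show f.t * r * f.t⁻¹ = r by rw [htt]; exact hfr] at h
      have h4 : r = (r * r) ^ 2 := by
        rw [← pow_two, ← pow_mul, show 2 * 2 = 3 + 1 from rfl, pow_succ, D.Q_exp r hr, one_mul]
      rw [h4]; exact pow_mem h _
    have hne : D.π ⟨d, hFC hdF⟩ ≠ 1 := fun h => hdQ (D.mem_ker.1 h)
    have hmk : ∀ e : G, e ∈ F → e ∈ D.C → f.t * e * f.t = e → ∀ he : e ∈ D.C,
        D.π ⟨f.u, f.uC⟩ = D.π ⟨e, he⟩ → f.u ∈ F := by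
      intro e heF _ hte he hπ
      have hq : e⁻¹ * f.u ∈ D.Q := by
        have : (⟨e, he⟩ : D.C)⁻¹ * ⟨f.u, f.uC⟩ ∈ D.π.ker := by
          rw [MonoidHom.mem_ker, map_mul, map_inv, hπ, inv_mul_cancel]
        rw [D.π_ker, mem_subgroupOf] at this
        exact this
      have hce : f.t * e⁻¹ = e⁻¹ * f.t :=
        ((show Commute f.t e from comm_t p f.t_sq hte).inv_right).eq
      have hz := hfixZ _ hq (by
        calc f.t * (e⁻¹ * f.u) * f.t = f.t * e⁻¹ * (f.u * f.t) := by group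
          _ = e⁻¹ * (f.t * f.u * f.t) := by rw [hce]; group
          _ = _ := by rw [f.u_t])
      obtain ⟨m, -, em⟩ := D.exists_pow_eq hz
      rw [show f.u = e * (e⁻¹ * f.u) by group, em]
      exact mul_mem heF (pow_mem hzF m)
    rcases p.image_cases (c := ⟨d, hFC hdF⟩) (d := ⟨f.u, f.uC⟩) hdT (D'.Q_le f.uQ') hne with e | e | e
    · exact absurd (D.mem_ker.1 e) f.u_not
    · exact hmk d hdF (hFC hdF) hfix (hFC hdF) e
    · refine hmk (d * d) (mul_mem hdF hdF) (hFC (mul_mem hdF hdF)) ?_ (hFC (mul_mem hdF hdF))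
        (by rw [e, ← map_mul]; rfl)
      calc f.t * (d * d) * f.t = f.t * d * ((f.t * f.t) * d) * f.t := by rw [f.t_sq]; group
        _ = (f.t * d * f.t) * (f.t * d * f.t) := by group
        _ = _ := by rw [hfix]
  -- a fixed element outside the intersection
  obtain ⟨q, hqP, hqA⟩ : ∃ q ∈ D.Q ⊓ D'.C, q ∉ D.Q ⊓ D'.Q := by
    by_contra h
    push_neg at h
    have h' := card_le_of_le (show D.Q ⊓ D'.C ≤ D.Q ⊓ D'.Q from h)
    rw [p.card_P, p.card_A] at h'
    omega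
  have hqC : q ∈ D.C := D.Q_le hqP.1
  have hu' : ∀ r ∈ D.Q ⊓ D'.C, cm f.u r ∈ D.Q ⊓ D'.Q := fun r hr => ⟨by
    rw [show cm f.u r = f.u * r * f.u⁻¹ * r⁻¹ from rfl]
    exact D.Q.mul_mem (D.conj_Q f.uC hr.1) (D.Q.inv_mem hr.1), by
    rw [show cm f.u r = f.u * (r * f.u⁻¹ * r⁻¹) by simp [cm, mul_assoc]]
    exact D'.Q.mul_mem f.uQ' (D'.conj_Q hr.2 (D'.Q.inv_mem f.uQ'))⟩
  have hd1 := hu' q hqP
  have hd2 : cm f.u (cm f.u q) = 1 := by
    obtain ⟨k, hk, ek⟩ := D.exists_pow_eq (p.cm_cm_u f hqP.1)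
    have h' := D'.cm_mem f.uQ' hd1.2
    rw [ek] at h'
    interval_cases k
    · simpa using ek
    · rw [pow_one] at h'; exact absurd h' p.ne'
    · have := pow_mem h' 2
      rw [← pow_mul, show 2 * 2 = 3 + 1 from rfl, pow_succ, D.z_cube, one_mul] at this
      exact absurd this p.ne'
  obtain ⟨i, j, eij⟩ := mem_pair p.commute_zy (p.fixed_in_A f hd1 (cm_eq_one.1 hd2))
  obtain ⟨a, ha, n, hn, ea⟩ := p.exists_moved f
  obtain ⟨j', hj', ej⟩ := D'.exists_pow_eq (zpow_mem (mem_zpowers D'.z) j)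
  rw [ej] at eij
  -- `b` is fixed modulo the centre
  obtain ⟨m, hm⟩ : ∃ m : ℕ, (j' + n * m) % 3 = 0 := by
    refine ⟨(3 - j') * n, ?_⟩
    have : n % 3 = 1 ∨ n % 3 = 2 := by omega
    rw [Nat.add_mod, Nat.mul_mod n, Nat.mul_mod (3 - j') n]
    interval_cases j' <;> rcases this with h | h <;> rw [h] <;> rfl
  set b := q * a ^ m with hb
  have hamP : a ^ m ∈ D.Q ⊓ D'.C := ⟨pow_mem ha.1 m, pow_mem (D'.Q_le ha.2) m⟩
  have hbP : b ∈ D.Q ⊓ D'.C := mul_mem hqP hamP
  have hbA : b ∉ D.Q ⊓ D'.Q := fun h => hqA (by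
    have := mul_mem h (inv_mem (pow_mem ha m))
    rwa [hb, mul_inv_cancel_right] at this)
  have hub : f.u * b * f.u⁻¹ * b⁻¹ ∈ zpowers D.z := by
    have e1 : f.u * q * f.u⁻¹ = D.z ^ i * D'.z ^ j' * q := by
      rw [← eij]; exact conj_eq_cm _ _
    have e2 : f.u * a ^ m * f.u⁻¹ = D'.z ^ (n * m) * a ^ m := by
      rw [← conj_pow, ea, Commute.mul_pow ?_, pow_mul]
      exact (show Commute D'.z a from p.A_comm ⟨p.mem, D'.z_mem⟩ ha).pow_left n
    have e3 : q * D'.z ^ (n * m) = D'.z ^ (n * m) * q :=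
      ((show Commute q D'.z from D'.mem_C.1 hqP.2).pow_right _).eq
    have e4 : D'.z ^ j' * D'.z ^ (n * m) = 1 := by
      rw [← pow_add]
      exact orderOf_dvd_iff_pow_eq_one.1 (by rw [D'.z_order]; exact Nat.dvd_of_mod_eq_zero hm)
    have : f.u * b * f.u⁻¹ * b⁻¹ = D.z ^ i := by
      calc f.u * b * f.u⁻¹ * b⁻¹ = f.u * q * f.u⁻¹ * (f.u * a ^ m * f.u⁻¹) * b⁻¹ := by
            rw [hb]; group
        _ = D.z ^ i * D'.z ^ j' * (q * D'.z ^ (n * m)) * a ^ m * b⁻¹ := by rw [e1, e2]; group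
        _ = D.z ^ i * (D'.z ^ j' * D'.z ^ (n * m)) * (q * a ^ m) * b⁻¹ := by rw [e3]; group
        _ = _ := by rw [e4, ← hb]; group
    rw [this]
    exact zpow_mem (mem_zpowers _) _
  -- hence fixed
  have hbu : f.u * b = b * f.u := by
    obtain ⟨r, hr, er⟩ := D.exists_pow_eq hub
    have hbC : b ∈ D.C := D.Q_le hbP.1
    have hinv : f.t * b * f.t * b ∈ zpowers D.z := by
      have h := D.inv_Q ⟨f.t, f.tC⟩ f.tπ b hbP.1
      rwa [show ((⟨f.t, f.tC⟩ : D.C) : G)⁻¹ = f.t from htt] at h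
    set s := f.t * b * f.t * b with hs
    have hc1 := comm_t p f.t_sq f.u_t
    have hci : f.t * f.u⁻¹ = f.u⁻¹ * f.t := ((show Commute f.t f.u from hc1).inv_right).eq
    have hzr : ∀ g ∈ D.C, g * D.z ^ r = D.z ^ r * g := fun g hg =>
      D.comm_zpow hg (npow_mem_zpowers _ r)
    have hub' : f.u * b * f.u⁻¹ = D.z ^ r * b := mul_inv_eq_iff_eq_mul.1 er
    -- apply the involution
    have h1 : f.u * (f.t * b * f.t) * f.u⁻¹ = D.z ^ r * (f.t * b * f.t) := by
      calc f.u * (f.t * b * f.t) * f.u⁻¹ = f.u * f.t * b * (f.t * f.u⁻¹) := by group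
        _ = f.t * (f.u * b * f.u⁻¹) * f.t := by rw [hci, ← hc1]; group
        _ = f.t * D.z ^ r * b * f.t := by rw [hub']; group
        _ = _ := by rw [hzr f.t f.tC]; group
    have hus : f.u * s * f.u⁻¹ = s := by
      rw [D.comm_zpow f.uC hinv, mul_inv_cancel_right]
    have h2 : D.z ^ r * D.z ^ r = 1 := by
      have h3 : f.u * s * f.u⁻¹ = D.z ^ r * D.z ^ r * s := by
        calc f.u * s * f.u⁻¹ = f.u * (f.t * b * f.t) * f.u⁻¹ * (f.u * b * f.u⁻¹) := by
              rw [hs]; group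
          _ = D.z ^ r * ((f.t * b * f.t) * D.z ^ r) * b := by rw [h1, hub']; group
          _ = _ := by
              rw [hzr (f.t * b * f.t) (mul_mem (mul_mem f.tC hbC) f.tC), hs]; group
      rw [hus] at h3
      exact (mul_eq_right.1 h3.symm)
    have hr0 : r = 0 := by
      rw [← pow_add] at h2
      have := orderOf_dvd_of_pow_eq_one h2
      rw [D.z_order] at this
      omega
    rw [hr0, pow_zero, one_mul] at hub'
    exact mul_inv_eq_iff_eq_mul.1 hub'
  -- the span is generated by the two centres and `u`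
  have hgenF : zpowers D.z ⊔ zpowers D'.z ⊔ zpowers f.u = F := by
    refine eq_of_le_of_card_ge (sup_le (sup_le (zpowers_le.2 hzF) (zpowers_le.2 hyF))
      (zpowers_le.2 huF)) ?_
    rw [hFcard]
    set Y := zpowers D.z ⊔ zpowers D'.z with hY
    have hYF : Y ≤ F := sup_le (zpowers_le.2 hzF) (zpowers_le.2 hyF)
    have h1 : 3 < Nat.card Y := by
      rw [← D.z_order, ← Nat.card_zpowers]
      refine lt_of_le_of_ne (card_le_of_le le_sup_left) fun h => p.ne ?_
      rw [eq_of_le_of_card_ge le_sup_left h.ge]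
      exact mem_sup_right (mem_zpowers _)
    have hYQ : Y ≤ D.Q := sup_le D.Z_le_Q (zpowers_le.2 p.mem)
    have h2 : Nat.card Y < Nat.card (Y ⊔ zpowers f.u : Subgroup G) :=
      lt_of_le_of_ne (card_le_of_le le_sup_left) fun h => f.u_not (hYQ (by
        rw [eq_of_le_of_card_ge le_sup_left h.ge]
        exact mem_sup_right (mem_zpowers _)))
    have hdiv : ∀ {K : Subgroup G}, K ≤ F → ∃ k, k ≤ 3 ∧ Nat.card K = 3 ^ k := by
      intro K hK
      have := card_dvd_of_le hK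
      rw [hFcard, show (27 : ℕ) = 3 ^ 3 from rfl] at this
      exact (Nat.dvd_prime_pow Nat.prime_three).1 this
    obtain ⟨i, hi, ei⟩ := hdiv hYF
    obtain ⟨j, hj, ej⟩ := hdiv (sup_le hYF (zpowers_le.2 huF))
    rw [ei] at h1 h2; rw [ej] at h2 ⊢
    interval_cases i <;> interval_cases j <;> omega
  have hbQ' : b ∈ D'.Q := by
    refine hFcent b hbP.2 fun y hy => ?_
    have hle : F ≤ centralizer ({b} : Set G) := by
      rw [← hgenF]
      exact sup_le (sup_le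
        (zpowers_le.2 (mem_centralizer_singleton_iff.2 (D.mem_C.1 (D.Q_le hbP.1)).symm))
        (zpowers_le.2 (mem_centralizer_singleton_iff.2 (D'.mem_C.1 hbP.2).symm)))
        (zpowers_le.2 (mem_centralizer_singleton_iff.2 hbu))
    exact (mem_centralizer_singleton_iff.1 (hle hy)).symm
  exact hbA ⟨hbP.1, hbQ'⟩

/-- The common elementary group. -/
theorem espan_eq : Espan D D'.z = D.Q ⊓ D'.Q := by
  rw [p.symm.espan_symm_eq, inf_comm]

end Pr

end CfsgLib.Recog.LFourThree
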