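import Cfsg.Agent.Lib.Recog.LFourThree.LocalNorm
import Cfsg.Agent.Lib.Recog.PlaneThirteen
import Cfsg.Agent.Lib.Solvable.Gaschutz

/-!
The normaliser of the common elementary group is split over it with quotient `SL(3,3)`.
-/

set_option autoImplicit false

namespace CfsgLib.Recog.LFourThree

open Subgroup Matrix

universe u

/-- The natural module of `SL(3,3)`. -/
abbrev Vec3 := Fin 3 → ZMod 3

/-- `SL(3,3)`. -/
abbrev SL3 := Matrix.SpecialLinearGroup (Fin 3) (ZMod 3)

variable {G : Type u} [Group G] [Finite G]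

/-- The action of the normaliser and a complement, in given coordinates. -/
theorem Pr.exists_split {D D' : Std G} (p : Pr D D') (e : Vec3 → G)
    (hadd : ∀ a b, e (a + b) = e a * e b) (hinj : Function.Injective e)
    (hmem : ∀ a, e a ∈ D.Q ⊓ D'.Q) :
    ∃ κ : SL3 →* G,
      (∀ (A : SL3) (a : Vec3), κ A * e a = e ((A : Matrix (Fin 3) (Fin 3) (ZMod 3)) *ᵥ a) * κ A) ∧
      (∀ n, n ∈ normalizer ((D.Q ⊓ D'.Q : Subgroup G) : Set G) ↔ ∃ a A, n = e a * κ A) ∧
      (∀ a A, e a * κ A = 1 → a = 0 ∧ A = 1) := by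
  classical
  set E := D.Q ⊓ D'.Q with hE
  set N := normalizer ((E : Subgroup G) : Set G) with hN
  have hsurj : ∀ x ∈ E, ∃ a, e a = x := by
    have hb : Function.Bijective (fun a : Vec3 => (⟨e a, hmem a⟩ : E)) :=
      (Nat.bijective_iff_injective_and_card _).2
        ⟨fun a b h => hinj (congrArg Subtype.val h), by
          rw [show Nat.card E = 27 from p.card_A, Nat.card_eq_fintype_card, Fintype.card_fun,
            ZMod.card, Fintype.card_fin]; norm_num⟩
    intro x hx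
    obtain ⟨a, ha⟩ := hb.2 ⟨x, hx⟩
    exact ⟨a, congrArg Subtype.val ha⟩
  have h0 : e 0 = 1 := by
    have h := hadd 0 0
    rwa [add_zero, left_eq_mul] at h
  have hnorm : ∀ (n : N) (a : Vec3), ∃ b, e b = (n : G) * e a * (n : G)⁻¹ := fun n a =>
    hsurj _ ((mem_normalizer_iff.1 n.2 _).1 (hmem a))
  choose L hL using hnorm
  have hLadd : ∀ n a b, L n (a + b) = L n a + L n b := fun n a b => hinj (by
    rw [hadd, hL, hL, hL, hadd]; group)
  let M : N → Matrix (Fin 3) (Fin 3) (ZMod 3) := fun n =>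
    LinearMap.toMatrix' ((AddMonoidHom.mk' (L n) (hLadd n)).toZModLinearMap 3)
  have hM : ∀ n a, M n *ᵥ a = L n a := fun n a => by
    rw [← Matrix.toLin'_apply]
    simp only [M, Matrix.toLin'_toMatrix']
    rfl
  have hext : ∀ A B : Matrix (Fin 3) (Fin 3) (ZMod 3), (∀ a, A *ᵥ a = B *ᵥ a) → A = B :=
    fun A B h => Matrix.toLin'.injective (LinearMap.ext fun a => by
      rw [Matrix.toLin'_apply, Matrix.toLin'_apply, h])
  let Mh : N →* Matrix (Fin 3) (Fin 3) (ZMod 3) :=
    { toFun := M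
      map_one' := hext _ _ fun a => hinj (by
        rw [hM, hL, Matrix.one_mulVec]; simp)
      map_mul' := fun n m => hext _ _ fun a => hinj (by
        rw [← Matrix.mulVec_mulVec, hM, hM, hM, hL, hL, hL, Subgroup.coe_mul]; group) }
  -- the determinant is trivial
  let δ : N →* (ZMod 3)ˣ := (Matrix.detMonoidHom.comp Mh).toHomUnits
  have hcube : ∀ n : N, (n : G) ^ 3 = 1 → δ n = 1 := by
    intro n hn
    have h : δ n ^ 3 = 1 := by
      rw [← map_pow, show n ^ 3 = 1 from Subtype.ext hn, map_one]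
    have key : ∀ x : (ZMod 3)ˣ, x ^ 3 = 1 → x = 1 := by decide
    exact key _ h
  have hKC : D.C ≤ δ.ker.map N.subtype := p.C_le_of_cubes fun x hx h3 =>
    ⟨⟨x, p.C_le_norm hx⟩, MonoidHom.mem_ker.2 (hcube ⟨x, p.C_le_norm hx⟩ h3), rfl⟩
  have hKC' : D'.C ≤ δ.ker.map N.subtype := p.symm.C_le_of_cubes fun x hx h3 =>
    ⟨⟨x, p.C'_le_norm hx⟩, MonoidHom.mem_ker.2 (hcube ⟨x, p.C'_le_norm hx⟩ h3), rfl⟩
  have hdet : ∀ n : N, (M n).det = 1 := by
    intro n
    obtain ⟨m, hm, e'⟩ := (p.norm_eq.le.trans (sup_le hKC hKC')) n.2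
    have hnm : m = n := Subtype.ext e'
    rw [← hnm]
    exact congrArg Units.val (MonoidHom.mem_ker.1 hm)
  let α : N →* SL3 :=
    { toFun := fun n => ⟨M n, hdet n⟩
      map_one' := Subtype.ext Mh.map_one
      map_mul' := fun n m => Subtype.ext (Mh.map_mul n m) }
  have hα : ∀ (n : N) (a : Vec3),
      (n : G) * e a = e ((α n : Matrix (Fin 3) (Fin 3) (ZMod 3)) *ᵥ a) * n := fun n a => by
    show _ = e (M n *ᵥ a) * _
    rw [hM, hL]; group
  -- the kernel
  set K := E.subgroupOf N with hK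
  have hker : α.ker = K := by
    ext n
    rw [MonoidHom.mem_ker, mem_subgroupOf]
    constructor
    · intro h
      refine p.cent_inf fun x hx => ?_
      obtain ⟨a, rfl⟩ := hsurj x hx
      have := hα n a
      rwa [h, Matrix.SpecialLinearGroup.coe_one, Matrix.one_mulVec] at this
    · intro h
      refine Subtype.ext (hext _ _ fun a => hinj ?_)
      show e (M n *ᵥ a) = e ((1 : Matrix (Fin 3) (Fin 3) (ZMod 3)) *ᵥ a)
      rw [hM, hL, Matrix.one_mulVec, p.A_comm h (hmem a), mul_inv_cancel_right]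
  haveI hKn : K.Normal := hker ▸ α.normal_ker
  haveI : IsMulCommutative K := ⟨⟨fun a b => Subtype.ext (Subtype.ext
    (p.A_comm (mem_subgroupOf.1 a.2) (mem_subgroupOf.1 b.2)))⟩⟩
  have hEN : E ≤ N := le_normalizer
  have hKcard : Nat.card K = 27 := by
    rw [Nat.card_congr (subgroupOfEquivOfLe hEN).toEquiv]; exact p.card_A
  have hαsurj : Function.Surjective α := by
    have h := Subgroup.card_mul_index α.ker
    rw [Subgroup.index_ker, hker, hKcard, show Nat.card N = 151632 from p.card_norm] at h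
    refine MonoidHom.range_eq_top.1 (Subgroup.eq_top_of_card_eq _ ?_)
    rw [CfsgLib.Recog.PlaneThirteen.card_sl.1]
    omega
  -- a complement
  obtain ⟨H, hHC, hHE, hdvd⟩ := p.exists_sylow_complement
  have hHN : H ≤ N := hHC.trans p.C_le_norm
  have hinf : H.subgroupOf N ⊓ K = ⊥ := by
    rw [eq_bot_iff]
    intro x hx
    rw [mem_inf, mem_subgroupOf, mem_subgroupOf] at hx
    have : (x : G) ∈ H ⊓ E := hx
    rw [hHE, mem_bot] at this
    rw [mem_bot]; exact Subtype.ext this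
  obtain ⟨C₁, hC₁⟩ := CfsgLib.Solvable.gaschutz_exists (K := K) (U := K ⊔ H.subgroupOf N)
    le_sup_left (by
      rw [hKcard]
      have h729 : 729 ∣ Nat.card (K ⊔ H.subgroupOf N : Subgroup N) := by
        rw [hK, ← subgroupOf_sup hEN hHN,
          Nat.card_congr (subgroupOfEquivOfLe (sup_le hEN hHN)).toEquiv]
        exact hdvd
      have h := Subgroup.card_mul_index (K ⊔ H.subgroupOf N)
      rw [show Nat.card N = 151632 from p.card_norm] at h
      obtain ⟨c, hc⟩ := h729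
      have hd : (K ⊔ H.subgroupOf N).index ∣ 208 := by
        refine ⟨c, ?_⟩
        rw [hc] at h
        nlinarith
      exact Nat.Coprime.coprime_dvd_right hd (by norm_num)) hinf rfl
  have hbij : Function.Bijective (α.comp C₁.subtype) := by
    refine ⟨(injective_iff_map_eq_one _).2 fun x hx => ?_, fun A => ?_⟩
    · have hxK : (x : N) ∈ K := hker ▸ MonoidHom.mem_ker.2 hx
      have := Subgroup.disjoint_def.1 hC₁.disjoint hxK x.2
      exact Subtype.ext this
    · obtain ⟨n, rfl⟩ := hαsurj A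
      obtain ⟨⟨k, c⟩, hkc, -⟩ := isComplement_iff_existsUnique.1 hC₁ n
      refine ⟨c, ?_⟩
      have hk : α k = 1 := MonoidHom.mem_ker.1 (hker.ge k.2)
      show α (c : N) = α n
      rw [← hkc, map_mul, hk, one_mul]
  let β : C₁ ≃* SL3 := MulEquiv.ofBijective _ hbij
  let κ : SL3 →* G := N.subtype.comp (C₁.subtype.comp β.symm.toMonoidHom)
  have hκN : ∀ A, κ A ∈ N := fun A => ((β.symm A : C₁) : N).2
  have hακ : ∀ A, α ⟨κ A, hκN A⟩ = A := fun A => by
    show α ((β.symm A : C₁) : N) = A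
    exact β.apply_symm_apply A
  refine ⟨κ, fun A a => ?_, fun n => ⟨fun hn => ?_, ?_⟩, fun a A h => ?_⟩
  · have := hα ⟨κ A, hκN A⟩ a
    rwa [hακ] at this
  · set A := α ⟨n, hn⟩
    have hd : (⟨n, hn⟩ * ⟨κ A, hκN A⟩⁻¹ : N) ∈ K := by
      rw [← hker, MonoidHom.mem_ker, map_mul, map_inv, hακ, mul_inv_cancel]
    obtain ⟨a, ha⟩ := hsurj _ (mem_subgroupOf.1 hd)
    refine ⟨a, A, ?_⟩
    rw [ha]
    show n = n * (κ A)⁻¹ * κ A
    group
  · rintro ⟨a, A, rfl⟩
    exact N.mul_mem (hEN (hmem a)) (hκN A)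
  · have hA : A = 1 := by
      have h1 : (⟨κ A, hκN A⟩ : N) = ⟨e a, hEN (hmem a)⟩⁻¹ := Subtype.ext
        (eq_inv_of_mul_eq_one_right h)
      have h2 : (⟨e a, hEN (hmem a)⟩ : N) ∈ α.ker := hker.ge (mem_subgroupOf.2 (hmem a))
      rw [← hακ A, h1, map_inv, MonoidHom.mem_ker.1 h2, inv_one]
    refine ⟨hinj ?_, hA⟩
    rw [h0]
    rwa [hA, map_one, mul_one] at h

end CfsgLib.Recog.LFourThree
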