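import Cfsg.Prelude.Def_Solvable
import Cfsg.Prelude.Def_Transfer
import Cfsg.Agent.Lib.Amalgam.PCore
import Cfsg.Agent.Lib.Recog.LFourThree.LocalSL

/-!
The standard data of the `3`-local recognition of `PSL(4,3)`: the central involution of
`C(z)/Q ≅ SL(2,3)` inverts `Q/⟨z⟩`.
-/

set_option autoImplicit false

namespace CfsgLib.Recog.LFourThree

open Subgroup

universe u

variable {G : Type u} [Group G]

/-- The standard data. -/
structure Std (G : Type u) [Group G] where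
  /-- the generator of the centre -/
  z : G
  /-- the extraspecial group -/
  Q : Subgroup G
  /-- the Sylow subgroup -/
  S : Sylow 3 G
  /-- the quotient map -/
  π : centralizer ({z} : Set G) →* SL2
  π_surj : Function.Surjective π
  π_ker : π.ker = Q.subgroupOf (centralizer ({z} : Set G))
  z_order : orderOf z = 3
  z_mem : z ∈ Q
  Q_le : Q ≤ centralizer ({z} : Set G)
  S_le : (S : Subgroup G) ≤ centralizer ({z} : Set G)
  Q_card : Nat.card Q = 243
  Q_exp : ∀ a ∈ Q, a ^ 3 = 1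
  Q_comm : ∀ a ∈ Q, ∀ b ∈ Q, a * b * a⁻¹ * b⁻¹ ∈ zpowers z
  Q_center : ∀ a ∈ Q, (∀ b ∈ Q, a * b = b * a) → a ∈ zpowers z
  cent_Q : centralizer (Q : Set G) ≤ Q
  inv_Q : ∀ c : centralizer ({z} : Set G), π c = sT →
    ∀ q ∈ Q, (c : G) * q * (c : G)⁻¹ * q ∈ zpowers z

section Section

variable (C A B : Subgroup G) (hAn : ∀ c ∈ C, ∀ a ∈ A, c * a * c⁻¹ ∈ A)
  (hBn : ∀ c ∈ C, ∀ b ∈ B, c * b * c⁻¹ ∈ B)

/-- conjugation restricted to an invariant subgroup -/
def conjEquiv (c : C) : B ≃* B where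
  toFun b := ⟨(c : G) * b * (c : G)⁻¹, hBn c c.2 b b.2⟩
  invFun b := ⟨(c : G)⁻¹ * b * (c : G), by simpa using hBn _ (C.inv_mem c.2) b b.2⟩
  left_inv b := Subtype.ext (by simp [mul_assoc])
  right_inv b := Subtype.ext (by simp [mul_assoc])
  map_mul' a b := Subtype.ext (by simp [mul_assoc])

@[simp] theorem conjEquiv_apply (c : C) (b : B) :
    (conjEquiv C B hBn c b : G) = (c : G) * b * (c : G)⁻¹ := rfl

include hAn in
theorem conjEquiv_map (c : C) :
    (A.subgroupOf B).map (conjEquiv C B hBn c).toMonoidHom = A.subgroupOf B := by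
  refine le_antisymm ?_ ?_
  · rintro _ ⟨b, hb, rfl⟩
    exact mem_subgroupOf.2 (hAn c c.2 _ (mem_subgroupOf.1 hb))
  · intro b hb
    refine ⟨(conjEquiv C B hBn c).symm b, mem_subgroupOf.2 ?_, by simp⟩
    have := hAn _ (C.inv_mem c.2) _ (mem_subgroupOf.1 hb)
    rw [inv_inv] at this
    exact this

variable [(A.subgroupOf B).Normal]

/-- The action on a section. -/
noncomputable def sectionAct : C →* MulAut (B ⧸ A.subgroupOf B) where
  toFun c := QuotientGroup.congr _ _ (conjEquiv C B hBn c) (conjEquiv_map C A B hAn hBn c)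
  map_one' := by
    refine MulEquiv.ext fun x => ?_
    induction x using QuotientGroup.induction_on with
    | _ b =>
      show ((conjEquiv C B hBn 1 b : B) : B ⧸ A.subgroupOf B) = (b : B ⧸ A.subgroupOf B)
      exact congrArg _ (Subtype.ext (by simp))
  map_mul' c d := by
    refine MulEquiv.ext fun x => ?_
    induction x using QuotientGroup.induction_on with
    | _ b =>
      show ((conjEquiv C B hBn (c * d) b : B) : B ⧸ A.subgroupOf B) =
        ((conjEquiv C B hBn c (conjEquiv C B hBn d b) : B) : B ⧸ A.subgroupOf B)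
      exact congrArg _ (Subtype.ext (by simp [mul_assoc]))

theorem sectionAct_mk (c : C) (b : B) :
    sectionAct C A B hAn hBn c (b : B ⧸ A.subgroupOf B) =
      ((conjEquiv C B hBn c b : B) : B ⧸ A.subgroupOf B) := rfl

/-- `c` acts trivially on `b` modulo `A`. -/
theorem sectionAct_fix_iff (hA : ∀ a ∈ A, a ∈ B) (c : C) (b : B) :
    sectionAct C A B hAn hBn c (b : B ⧸ A.subgroupOf B) = b ↔
      (c : G) * b * (c : G)⁻¹ * (b : G)⁻¹ ∈ A := by
  have hn : (A.subgroupOf B).Normal := inferInstance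
  rw [sectionAct_mk, QuotientGroup.eq_iff_div_mem, mem_subgroupOf]
  simp [div_eq_mul_inv]

end Section

/-- The central involution inverts an irreducible nontrivial section of order nine. -/
theorem section_inverts [Finite G] {C A B Q : Subgroup G} (π : C →* SL2)
    (hπ : Function.Surjective π) (hker : π.ker = Q.subgroupOf C) (hAB : A ≤ B)
    (hAn : ∀ c ∈ C, ∀ a ∈ A, c * a * c⁻¹ ∈ A) (hBn : ∀ c ∈ C, ∀ b ∈ B, c * b * c⁻¹ ∈ B)
    (hcomm : ∀ a ∈ B, ∀ b ∈ B, a * b * a⁻¹ * b⁻¹ ∈ A) (hexp : ∀ b ∈ B, b ^ 3 ∈ A)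
    (hQ : ∀ q ∈ Q, ∀ b ∈ B, q * b * q⁻¹ * b⁻¹ ∈ A)
    (hcard : Nat.card B = 9 * Nat.card A)
    (hirr : ∀ F : Subgroup G, A ≤ F → F ≤ B → (∀ c ∈ C, ∀ f ∈ F, c * f * c⁻¹ ∈ F) → F = A ∨ F = B)
    (hnon : ∃ c ∈ C, ∃ b ∈ B, c * b * c⁻¹ * b⁻¹ ∉ A)
    (c₀ : C) (hc₀ : π c₀ = sT) : ∀ b ∈ B, (c₀ : G) * b * (c₀ : G)⁻¹ * b ∈ A := by
  classical
  have hAn' : ∀ b ∈ B, ∀ a ∈ A, b * a * b⁻¹ ∈ A := fun b hb a ha => by
    have := A.mul_mem (hcomm b hb a (hAB ha)) ha
    simpa [mul_assoc] using this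
  haveI hN : (A.subgroupOf B).Normal := ⟨fun a ha b => mem_subgroupOf.2 (by
    simpa using hAn' b b.2 a (mem_subgroupOf.1 ha))⟩
  let X := B ⧸ A.subgroupOf B
  letI : CommGroup X :=
    { (inferInstance : Group (B ⧸ A.subgroupOf B)) with
      mul_comm := fun x y => by
        induction x using QuotientGroup.induction_on with
        | _ a =>
          induction y using QuotientGroup.induction_on with
          | _ b =>
            rw [← QuotientGroup.mk_mul, ← QuotientGroup.mk_mul, QuotientGroup.eq_iff_div_mem,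
              mem_subgroupOf]
            simpa [div_eq_mul_inv, mul_assoc] using hcomm a a.2 b b.2 }
  have hX : Nat.card X = 9 := by
    have h := Subgroup.card_eq_card_quotient_mul_card_subgroup (A.subgroupOf B)
    rw [Nat.card_congr (subgroupOfEquivOfLe hAB).toEquiv, hcard] at h
    exact (Nat.eq_of_mul_eq_mul_right Nat.card_pos h).symm
  have hX3 : ∀ x : X, x ^ 3 = 1 := fun x => by
    induction x using QuotientGroup.induction_on with
    | _ a =>
      rw [← QuotientGroup.mk_pow, QuotientGroup.eq_one_iff, mem_subgroupOf]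
      exact hexp a a.2
  let φ : C →* MulAut X := sectionAct C A B hAn hBn
  have hfix : ∀ (c : C) (b : B), φ c (b : X) = (b : X) ↔
      (c : G) * b * (c : G)⁻¹ * (b : G)⁻¹ ∈ A :=
    fun c b => sectionAct_fix_iff C A B hAn hBn (fun a ha => hAB ha) c b
  have hkerφ : π.ker ≤ φ.ker := fun c hc => by
    rw [hker, mem_subgroupOf] at hc
    rw [MonoidHom.mem_ker]
    refine MulEquiv.ext fun x => ?_
    induction x using QuotientGroup.induction_on with
    | _ b => rw [MulAut.one_apply]; exact (hfix c b).2 (hQ _ hc b b.2)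
  let ψ : SL2 →* MulAut X := π.liftOfSurjective hπ ⟨φ, hkerφ⟩
  have hψ : ∀ c, ψ (π c) = φ c := fun c => by
    simp [ψ, MonoidHom.liftOfSurjective, MonoidHom.liftOfRightInverse_comp_apply]
  -- invariant subgroups of the section
  have hinvF : ∀ F : Subgroup X, (∀ g : SL2, ∀ x ∈ F, ψ g x ∈ F) → F = ⊥ ∨ F = ⊤ := by
    intro F hF
    let F' : Subgroup G := (F.comap (QuotientGroup.mk' (A.subgroupOf B))).map B.subtype
    have h1 : A ≤ F' := fun a ha => ⟨⟨a, hAB ha⟩, by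
      show ((⟨a, hAB ha⟩ : B) : X) ∈ F
      rw [(QuotientGroup.eq_one_iff (N := A.subgroupOf B) _).2 (mem_subgroupOf.2 ha)]
      exact F.one_mem, rfl⟩
    have h2 : ∀ c ∈ C, ∀ f ∈ F', c * f * c⁻¹ ∈ F' := by
      rintro c hc _ ⟨b, hb, rfl⟩
      refine ⟨conjEquiv C B hBn ⟨c, hc⟩ b, ?_, rfl⟩
      show ((conjEquiv C B hBn ⟨c, hc⟩ b : B) : X) ∈ F
      rw [← sectionAct_mk C A B hAn hBn]
      have := hF (π ⟨c, hc⟩) (b : X) hb
      rwa [hψ] at this
    rcases hirr F' h1 (map_subtype_le _) h2 with e | e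
    · refine Or.inl ((eq_bot_iff_forall _).2 fun x hx => ?_)
      induction x using QuotientGroup.induction_on with
      | _ b =>
        refine (QuotientGroup.eq_one_iff _).2 (mem_subgroupOf.2 ?_)
        rw [← e]
        exact ⟨b, hx, rfl⟩
    · refine Or.inr (eq_top_iff.2 fun x _ => ?_)
      induction x using QuotientGroup.induction_on with
      | _ b =>
        obtain ⟨b', hb', he⟩ := e.ge b.2
        rwa [Subtype.ext he] at hb'
  -- the central involution
  have hT2 : ψ sT * ψ sT = 1 := by rw [← map_mul, sl_rel.2.2.2.2.2.2.1, map_one]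
  intro b hb
  rcases hinvF (fixSub (ψ sT)) (fun g x hx => by
    rw [mem_fixSub] at hx ⊢
    rw [← MulAut.mul_apply, ← map_mul, ← sl_central g, map_mul, MulAut.mul_apply, hx]) with e | e
  · have hm : ((⟨b, hb⟩ : B) : X) * ψ sT ((⟨b, hb⟩ : B) : X) ∈ fixSub (ψ sT) := by
      rw [mem_fixSub, map_mul, show ψ sT (ψ sT _) = _ from DFunLike.congr_fun hT2 _, mul_comm]
      rfl
    rw [e, mem_bot, mul_comm, ← hc₀, hψ] at hm
    change ((conjEquiv C B hBn c₀ ⟨b, hb⟩ : B) : X) * ((⟨b, hb⟩ : B) : X) = 1 at hm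
    rw [← QuotientGroup.mk_mul, QuotientGroup.eq_one_iff, mem_subgroupOf] at hm
    exact hm
  · exfalso
    have hT : ψ sT = 1 := MulEquiv.ext fun x => mem_fixSub.1 (e.symm ▸ mem_top x)
    obtain ⟨r1, r2, r3, r4, r5, r6, -⟩ := sl_rel
    have ha : ψ sW * ψ sW = 1 := by rw [← map_mul, r1, hT]
    have hb' : ψ sJ * ψ sJ = 1 := by rw [← map_mul, r2, hT]
    have hab : ψ sW * ψ sJ = ψ sJ * ψ sW := by
      rw [← map_mul, r3, map_mul, hT, one_mul, map_mul]
    have hua : ψ sU * ψ sW * (ψ sU)⁻¹ = ψ sJ := by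
      rw [← map_inv, ← map_mul, ← map_mul, r4, map_mul, hT, one_mul]
    have hub : ψ sU * ψ sJ * (ψ sU)⁻¹ = ψ sW * ψ sJ := by
      rw [← map_inv, ← map_mul, ← map_mul]
      rcases r5 with h | h <;> rw [h]
      · rw [map_mul]
      · rw [map_mul, hT, one_mul, map_mul]
    have hu : ψ sU * ψ sU * ψ sU = 1 := by rw [← map_mul, ← map_mul, r6, map_one]
    obtain ⟨e1, -, e3⟩ := nine_trivial hX hX3 _ _ _ ha hb' hab hua hub hu (fun F hF => by
      refine hinvF F fun g x hx => ?_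
      let H : Subgroup SL2 := {
        carrier := {g | ∀ y, y ∈ F ↔ ψ g y ∈ F}
        one_mem' := fun y => by rw [map_one, MulAut.one_apply]
        mul_mem' := fun {g g'} hg hg' y => by
          rw [map_mul, MulAut.mul_apply, hg' y, hg (ψ g' y)]
        inv_mem' := fun {g} hg y => by
          conv_rhs => rw [hg]
          rw [map_inv, MulAut.apply_inv_self] }
      have hmem : ∀ w : SL2, (∀ y ∈ F, ψ w y ∈ F) → w ∈ H := fun w hw y =>
        ⟨hw y, fun hy => by
          have hsur : Function.Surjective (fun x : F => (⟨ψ w x.1, hw x.1 x.2⟩ : F)) :=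
            Finite.injective_iff_surjective.1 fun p q e =>
              Subtype.ext ((ψ w).injective (congrArg Subtype.val e))
          obtain ⟨⟨y', hy'⟩, he⟩ := hsur ⟨_, hy⟩
          rwa [← (ψ w).injective (congrArg Subtype.val he)]⟩
      have hH : H = ⊤ := sl_eq_top (hmem _ fun y hy => (hF y hy).2.2)
        (hmem _ fun y hy => (hF y hy).1)
      exact ((hH.symm ▸ mem_top g : g ∈ H) x).1 hx)
    have hall : ψ.ker = ⊤ := sl_eq_top (MonoidHom.mem_ker.2 e3) (MonoidHom.mem_ker.2 e1)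
    obtain ⟨c, hc, b, hb, hne⟩ := hnon
    refine hne ((hfix ⟨c, hc⟩ ⟨b, hb⟩).1 ?_)
    rw [← hψ, MonoidHom.mem_ker.1 (hall.symm ▸ mem_top (π ⟨c, hc⟩)), MulAut.one_apply]

/-- A section of order three is centralised. -/
theorem section_three_trivial [Finite G] {C A B Q : Subgroup G} (π : C →* SL2)
    (hπ : Function.Surjective π) (hker : π.ker = Q.subgroupOf C) (hAB : A ≤ B)
    (hAn : ∀ c ∈ C, ∀ a ∈ A, c * a * c⁻¹ ∈ A) (hBn : ∀ c ∈ C, ∀ b ∈ B, c * b * c⁻¹ ∈ B)
    (hcomm : ∀ a ∈ B, ∀ b ∈ B, a * b * a⁻¹ * b⁻¹ ∈ A)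
    (hQ : ∀ q ∈ Q, ∀ b ∈ B, q * b * q⁻¹ * b⁻¹ ∈ A)
    (hcard : Nat.card B = 3 * Nat.card A) :
    ∀ c ∈ C, ∀ b ∈ B, c * b * c⁻¹ * b⁻¹ ∈ A := by
  classical
  have hAn' : ∀ b ∈ B, ∀ a ∈ A, b * a * b⁻¹ ∈ A := fun b hb a ha => by
    have := A.mul_mem (hcomm b hb a (hAB ha)) ha
    simpa [mul_assoc] using this
  haveI hN : (A.subgroupOf B).Normal := ⟨fun a ha b => mem_subgroupOf.2 (by
    simpa using hAn' b b.2 a (mem_subgroupOf.1 ha))⟩
  haveI : Fact (Nat.Prime 3) := ⟨Nat.prime_three⟩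
  have hX : Nat.card (B ⧸ A.subgroupOf B) = 3 := by
    have h := Subgroup.card_eq_card_quotient_mul_card_subgroup (A.subgroupOf B)
    rw [Nat.card_congr (subgroupOfEquivOfLe hAB).toEquiv, hcard] at h
    exact (Nat.eq_of_mul_eq_mul_right Nat.card_pos h).symm
  have hsq : ∀ a : MulAut (B ⧸ A.subgroupOf B), a * a = 1 := by
    intro a
    obtain ⟨x, hx⟩ : ∃ x : B ⧸ A.subgroupOf B, x ≠ 1 := by
      by_contra hall
      push_neg at hall
      have : Subsingleton (B ⧸ A.subgroupOf B) := ⟨fun p q => (hall p).trans (hall q).symm⟩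
      rw [Nat.card_unique] at hX
      norm_num at hX
    have hgen := zpowers_eq_top_of_prime_card hX hx
    obtain ⟨n, hn⟩ := mem_zpowers_iff.1 (hgen.symm ▸ mem_top (a x) : a x ∈ zpowers x)
    have hord : orderOf x = 3 := by rw [← Nat.card_zpowers, hgen, card_top, hX]
    refine MulEquiv.ext fun y => ?_
    obtain ⟨m, rfl⟩ := mem_zpowers_iff.1 (hgen.symm ▸ mem_top y : y ∈ zpowers x)
    rw [MulAut.mul_apply, MulAut.one_apply, map_zpow, map_zpow, ← hn, map_zpow, ← hn, ← zpow_mul,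
      ← zpow_mul, zpow_eq_zpow_iff_modEq, hord]
    have hn3 : ¬ (3 : ℤ) ∣ n := fun h => hx (a.injective (by
      rw [map_one, ← hn, ← orderOf_dvd_iff_zpow_eq_one, hord]; exact h))
    have : (n * n) % 3 = 1 := by
      have : n % 3 = 1 ∨ n % 3 = 2 := by omega
      rcases this with h | h <;> rw [Int.mul_emod, h] <;> norm_num
    unfold Int.ModEq
    rw [← mul_assoc, Int.mul_emod]
    push_cast
    rw [this, one_mul, Int.emod_emod_of_dvd m (dvd_refl 3)]
  let φ : C →* MulAut (B ⧸ A.subgroupOf B) := sectionAct C A B hAn hBn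
  have hall : ∀ c : C, φ c = 1 := by
    intro c
    let H : Subgroup SL2 := φ.ker.map π
    have hQker : π.ker ≤ φ.ker := fun d hd => by
      rw [hker, mem_subgroupOf] at hd
      rw [MonoidHom.mem_ker]
      refine MulEquiv.ext fun x => ?_
      induction x using QuotientGroup.induction_on with
      | _ b =>
        rw [MulAut.one_apply]
        exact (sectionAct_fix_iff C A B hAn hBn (fun a ha => hAB ha) d b).2 (hQ _ hd b b.2)
    have hH : H = ⊤ := sl_eq_top_of_three fun g hg => by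
      obtain ⟨d, rfl⟩ := hπ g
      have h3 : φ (d ^ 3) = 1 := MonoidHom.mem_ker.1 (hQker (by rw [MonoidHom.mem_ker, map_pow, hg]))
      refine ⟨d, MonoidHom.mem_ker.2 ?_, rfl⟩
      rw [map_pow, pow_succ, pow_two, hsq, one_mul] at h3
      exact h3
    obtain ⟨d, hd, he⟩ := hH.symm ▸ mem_top (π c)
    have : d⁻¹ * c ∈ π.ker := by rw [MonoidHom.mem_ker, map_mul, map_inv, he, inv_mul_cancel]
    have h := MonoidHom.mem_ker.1 (hQker this)
    rwa [map_mul, map_inv, MonoidHom.mem_ker.1 hd, inv_one, one_mul] at h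
  intro c hc b hb
  refine (sectionAct_fix_iff C A B hAn hBn (fun a ha => hAB ha) ⟨c, hc⟩ ⟨b, hb⟩).1 ?_
  rw [show sectionAct C A B hAn hBn ⟨c, hc⟩ = 1 from hall ⟨c, hc⟩, MulAut.one_apply]

/-- Powers of three. -/
theorem exists_card_pow [Finite G] {B : Subgroup G} (h : IsPGroup 3 B) :
    ∃ a : ℕ, Nat.card B = 3 ^ a :=
  haveI : Fact (Nat.Prime 3) := ⟨Nat.prime_three⟩
  IsPGroup.iff_card.1 h

/-- The hypotheses of the recognition theorem give the standard data. -/
theorem exists_std [Finite G]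
    (S : Sylow 3 G) (Z : Subgroup G)
    (hZ : Z = (S : Subgroup G) ⊓ centralizer ((S : Subgroup G) : Set G))
    (C : Subgroup G) (hCZ : C = centralizer (Z : Set G))
    (Q : Subgroup G) (hQ : Q = (Cfsg.pCore 3 C).map C.subtype)
    (hQex : Cfsg.IsExtraspecial 3 Q) (hQcard : Nat.card Q = 3 ^ 5) (hQexp : ∀ a ∈ Q, a ^ 3 = 1)
    (hCQ : centralizer (Q : Set G) ≤ Q)
    [hcn : (Cfsg.pCore 3 C).Normal]
    (K : Subgroup G) (hK : K = ((Cfsg.pResidual 2 (C ⧸ Cfsg.pCore 3 C)).comap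
      (QuotientGroup.mk' (Cfsg.pCore 3 C))).map C.subtype)
    (r : ℕ) (A : Fin (r + 1) → Subgroup G) (hA0 : A 0 = Z) (hAr : A (Fin.last r) = Q)
    (hmono : ∀ i : Fin r, A i.castSucc < A i.succ)
    (hinv : ∀ i : Fin (r + 1), ∀ k ∈ K, ∀ a ∈ A i, k * a * k⁻¹ ∈ A i)
    (hmax : ∀ i : Fin r, ∀ B : Subgroup G, A i.castSucc < B → B < A i.succ →
      ∃ k ∈ K, ∃ b ∈ B, k * b * k⁻¹ ∉ B)
    (e : C ⧸ Cfsg.pCore 3 C ≃* SL2)
    (htwo : ∃ i j : Fin r, i ≠ j ∧
      (∃ k ∈ K, ∃ a ∈ A i.succ, k * a * k⁻¹ * a⁻¹ ∉ A i.castSucc) ∧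
      (∃ k ∈ K, ∃ a ∈ A j.succ, k * a * k⁻¹ * a⁻¹ ∉ A j.castSucc)) :
    ∃ D : Std G, D.S = S ∧ zpowers D.z = Z ∧ centralizer ({D.z} : Set G) = C ∧ D.Q = Q := by
  classical
  haveI : Fact (Nat.Prime 3) := ⟨Nat.prime_three⟩
  have hZS : Z ≤ (S : Subgroup G) := hZ.le.trans inf_le_left
  have hSc : ∀ s ∈ (S : Subgroup G), ∀ x ∈ Z, s * x = x * s := fun s hs x hx =>
    mem_centralizer_iff.1 (hZ.le hx).2 s hs
  have hSC : (S : Subgroup G) ≤ C := fun s hs => hCZ.ge (mem_centralizer_iff.2 fun x hx =>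
    (hSc s hs x hx).symm)
  have hQS : Q ≤ (S : Subgroup G) := by
    intro q hq
    rw [hQ] at hq
    obtain ⟨y, hy, rfl⟩ := hq
    exact CfsgLib.Amalgam.pCore_le_sylow (S.subtype hSC) hy
  have hQC : Q ≤ C := hQS.trans hSC
  have hZQ : Z ≤ Q := by
    intro x hx
    rw [hQ]
    refine ⟨⟨x, hSC (hZS hx)⟩, CfsgLib.Amalgam.le_pCore (N := Z.subgroupOf C) ⟨fun a ha c => ?_⟩
      ((S.isPGroup'.to_le hZS).comap_subtype) (mem_subgroupOf.2 hx), rfl⟩
    have h := mem_centralizer_iff.1 (hCZ.le c.2) _ (mem_subgroupOf.1 ha)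
    refine mem_subgroupOf.2 ?_
    rw [coe_mul, coe_mul, coe_inv, ← h, mul_inv_cancel_right]
    exact mem_subgroupOf.1 ha
  have hcard3 : Nat.card ((center Q).map Q.subtype) = 3 := by
    rw [card_map_of_injective Q.subtype_injective]; exact hQex.2
  have hZle : Z ≤ (center Q).map Q.subtype := fun x hx =>
    ⟨⟨x, hZQ hx⟩, mem_center_iff.2 fun q => Subtype.ext (hSc q (hQS q.2) x hx), rfl⟩
  have hSnt : Nontrivial (S : Subgroup G) :=
    Finite.one_lt_card_iff_nontrivial.1 (lt_of_lt_of_le (by rw [hQcard]; norm_num) (card_le_of_le hQS))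
  have hZne : Z ≠ ⊥ := by
    haveI := hSnt
    haveI := S.isPGroup'.center_nontrivial
    obtain ⟨⟨⟨x, hxS⟩, hxc⟩, hx1⟩ := exists_ne (1 : center (S : Subgroup G))
    intro e'
    have hxZ : x ∈ Z := hZ.ge ⟨hxS, mem_centralizer_iff.2 fun s hs =>
      congrArg Subtype.val (mem_center_iff.1 hxc ⟨s, hs⟩)⟩
    rw [e', mem_bot] at hxZ
    exact hx1 (Subtype.ext (Subtype.ext hxZ))
  obtain ⟨z, hzZ, hz1⟩ := Z.bot_or_exists_ne_one.resolve_left hZne
  have hzo : orderOf z = 3 := orderOf_eq_prime (hQexp z (hZQ hzZ)) hz1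
  have hZz : zpowers z = Z := eq_of_le_of_card_ge (zpowers_le.2 hzZ) (by
    rw [Nat.card_zpowers, hzo, ← hcard3]; exact card_le_of_le hZle)
  have hZc : (center Q).map Q.subtype = Z := (eq_of_le_of_card_ge hZle (by
    rw [hcard3, ← hZz, Nat.card_zpowers, hzo])).symm
  have hCz : centralizer ({z} : Set G) = C := by
    refine le_antisymm (fun g hg => hCZ.ge (mem_centralizer_iff.2 fun x hx => ?_))
      (fun g hg => mem_centralizer_singleton_iff.2 (mem_centralizer_iff.1 (hCZ.le hg) z hzZ).symm)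
    rw [← hZz] at hx
    obtain ⟨n, rfl⟩ := mem_zpowers_iff.1 hx
    exact ((show Commute g z from mem_centralizer_singleton_iff.1 hg).zpow_right n).eq.symm
  have hQcomm : ∀ a ∈ Q, ∀ b ∈ Q, a * b * a⁻¹ * b⁻¹ ∈ Z := fun a ha b hb =>
    hZc.le ⟨⟨a, ha⟩ * ⟨b, hb⟩ * ⟨a, ha⟩⁻¹ * ⟨b, hb⟩⁻¹, by
      rw [← hQex.1.2.2, ← commutatorElement_def]
      exact commutator_mem_commutator (mem_top _) (mem_top _), rfl⟩
  -- `K` is the whole of `C`
  have hres : Cfsg.pResidual 2 (C ⧸ Cfsg.pCore 3 C) = ⊤ := by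
    have h : (Cfsg.pResidual 2 (C ⧸ Cfsg.pCore 3 C)).map e.toMonoidHom = ⊤ :=
      sl_eq_top_of_three fun g hg => ⟨e.symm g, subset_closure (by
        have hd : orderOf (e.symm g) ∣ 3 :=
          orderOf_dvd_of_pow_eq_one (by rw [← map_pow, hg, map_one])
        rcases (Nat.dvd_prime Nat.prime_three).1 hd with h | h <;>
          simp only [Set.mem_setOf_eq, h] <;> norm_num), by simp⟩
    refine eq_top_iff.2 fun x _ => ?_
    obtain ⟨y, hy, he⟩ := h.ge (mem_top (e x))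
    rwa [← e.injective he]
  have hKC : K = C := by
    rw [hK, hres, comap_top, ← MonoidHom.range_eq_map, range_subtype]
  rw [hKC] at hinv hmax htwo
  -- the quotient map
  let π : C →* SL2 := e.toMonoidHom.comp (QuotientGroup.mk' (Cfsg.pCore 3 C))
  have hπs : Function.Surjective π := e.surjective.comp (QuotientGroup.mk'_surjective _)
  have hπk : π.ker = Q.subgroupOf C := by
    ext x
    rw [MonoidHom.mem_ker, mem_subgroupOf, hQ]
    simp only [π, MonoidHom.comp_apply, MulEquiv.coe_toMonoidHom, EmbeddingLike.map_eq_one_iff]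
    rw [QuotientGroup.mk'_apply, QuotientGroup.eq_one_iff]
    exact ⟨fun h => ⟨x, h, rfl⟩, fun ⟨y, hy, he⟩ => Subtype.ext he ▸ hy⟩
  -- the chain
  let f : ℕ → Subgroup G := fun n => A ⟨min n r, by omega⟩
  have hstep : ∀ n, n < r → f n < f (n + 1) := fun n hn => by
    have h := hmono ⟨n, hn⟩
    have h1 : min n r = n := by omega
    have h2 : min (n + 1) r = n + 1 := by omega
    simp only [f, h1, h2]
    exact h
  have hf0 : f 0 = Z := by
    simp only [f, Nat.zero_min]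
    exact hA0
  have hfr : f r = Q := by
    simp only [f, min_self]
    exact hAr
  have hmonof : ∀ n m, n ≤ m → m ≤ r → f n ≤ f m := by
    intro n m hnm hm
    induction m, hnm using Nat.le_induction with
    | base => exact le_refl _
    | succ m _ ih => exact (ih (by omega)).trans (hstep m (by omega)).le
  have hfQ : ∀ n, n ≤ r → f n ≤ Q := fun n hn => hfr ▸ hmonof n r hn le_rfl
  have hfZ : ∀ n, n ≤ r → Z ≤ f n := fun n hn => hf0 ▸ hmonof 0 n (Nat.zero_le _) hn
  have hp : ∀ n, n ≤ r → ∃ a : ℕ, Nat.card (f n) = 3 ^ a := fun n hn =>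
    exists_card_pow ((S.isPGroup'.to_le hQS).to_le (hfQ n hn))
  choose! a ha using hp
  have hlt : ∀ n, n < r → a n < a (n + 1) := fun n hn => by
    have h1 : Nat.card (f n) < Nat.card (f (n + 1)) :=
      lt_of_le_of_ne (card_le_of_le (hstep n hn).le) fun h =>
        (hstep n hn).ne (eq_of_le_of_card_ge (hstep n hn).le h.ge)
    rw [ha n hn.le, ha (n + 1) hn] at h1
    exact (Nat.pow_lt_pow_iff_right (by norm_num)).1 h1
  have hnormal : ∀ n, n ≤ r → ∀ c ∈ C, ∀ x ∈ f n, c * x * c⁻¹ ∈ f n :=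
    fun n _ c hc x hx => hinv _ c hc x hx
  have hbig : ∀ i : Fin r, (∃ k ∈ C, ∃ x ∈ A i.succ, k * x * k⁻¹ * x⁻¹ ∉ A i.castSucc) →
      a i.1 + 2 ≤ a (i.1 + 1) := by
    intro i hi
    by_contra hcon
    have h1 := hlt i.1 i.2
    have heq : a (i.1 + 1) = a i.1 + 1 := by omega
    obtain ⟨k, hk, x, hx, hne⟩ := hi
    have e1 : A i.castSucc = f i.1 := by
      simp only [f, Nat.min_eq_left i.2.le]; rfl
    have e2 : A i.succ = f (i.1 + 1) := by
      simp only [f, Nat.min_eq_left (Nat.succ_le_of_lt i.2)]; rfl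
    rw [e1] at hne; rw [e2] at hx
    refine hne (section_three_trivial π hπs hπk (hstep i.1 i.2).le (hnormal _ i.2.le) (hnormal _ i.2)
      (fun p hp q hq => hfZ _ i.2.le (hQcomm p (hfQ _ i.2 hp) q (hfQ _ i.2 hq)))
      (fun q hq p hp => hfZ _ i.2.le (hQcomm q hq p (hfQ _ i.2 hp))) ?_ k hk x hx)
    rw [ha _ i.2, ha _ i.2.le, heq, pow_succ]; ring
  have ha0 : a 0 = 1 := by
    have h := ha 0 (Nat.zero_le _)
    rw [hf0, ← hZz, Nat.card_zpowers, hzo] at h
    exact Nat.pow_right_injective (by norm_num : 2 ≤ 3) (h.symm.trans (pow_one 3).symm)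
  have har : a r = 5 := by
    have h := ha r le_rfl
    rw [hfr, hQcard] at h
    exact (Nat.pow_right_injective (by norm_num : 2 ≤ 3) h).symm
  have hmonoa : ∀ n m, n ≤ m → m ≤ r → a n + (m - n) ≤ a m := by
    intro n m hnm hm
    induction m, hnm using Nat.le_induction with
    | base => omega
    | succ m hnm ih =>
      have := ih (by omega)
      have := hlt m (by omega)
      omega
  obtain ⟨i, j, hij, hi, hj⟩ := htwo
  have hi2 := hbig i hi
  have hj2 := hbig j hj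
  have hr : r = 2 := by
    have hij' : i.1 ≠ j.1 := fun h => hij (Fin.ext h)
    rcases Nat.lt_or_ge i.1 j.1 with h | h
    · have := hmonoa 0 i.1 (Nat.zero_le _) i.2.le
      have := hmonoa (i.1 + 1) j.1 h j.2.le
      have := hmonoa (j.1 + 1) r j.2 le_rfl
      omega
    · have := hmonoa 0 j.1 (Nat.zero_le _) j.2.le
      have := hmonoa (j.1 + 1) i.1 (by omega) i.2.le
      have := hmonoa (i.1 + 1) r i.2 le_rfl
      omega
  subst hr
  have hA1 : Nat.card (A 1) = 27 := by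
    have hij' : i.1 ≠ j.1 := fun h => hij (Fin.ext h)
    have h1 : a 1 = 3 := by
      have hi' : i.1 = 0 ∨ i.1 = 1 := by omega
      rcases hi' with h | h
      · have hj' : j.1 = 1 := by omega
        rw [h] at hi2; rw [hj'] at hj2; norm_num at hi2 hj2; omega
      · have hj' : j.1 = 0 := by omega
        rw [h] at hi2; rw [hj'] at hj2; norm_num at hi2 hj2; omega
    have := ha 1 (by norm_num)
    rw [h1] at this
    norm_num [f] at this
    exact this
  have hW : Z ≤ A 1 ∧ A 1 ≤ Q := ⟨hA0 ▸ (hmono 0).le, hAr ▸ (hmono 1).le⟩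
  have hnon : ∀ l : Fin 2, ∃ k ∈ C, ∃ x ∈ A l.succ, k * x * k⁻¹ * x⁻¹ ∉ A l.castSucc := by
    intro l
    have : l = i ∨ l = j := by omega
    rcases this with rfl | rfl
    exacts [hi, hj]
  have hsec : ∀ l : Fin 2, Nat.card (A l.succ) = 9 * Nat.card (A l.castSucc) →
      A l.succ ≤ Q → Z ≤ A l.castSucc →
      ∀ c : C, π c = sT → ∀ b ∈ A l.succ, (c : G) * b * (c : G)⁻¹ * b ∈ A l.castSucc := by
    intro l hc hQl hZl c hc' b hb
    refine section_inverts π hπs hπk (hmono l).le (hinv _) (hinv _)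
      (fun p hp q hq => hZl (hQcomm p (hQl hp) q (hQl hq))) (fun p hp => by
        rw [hQexp p (hQl hp)]; exact one_mem _)
      (fun q hq p hp => hZl (hQcomm q hq p (hQl hp))) hc ?_ (hnon l) c hc' b hb
    intro F h1 h2 h3
    by_contra hcon
    push_neg at hcon
    obtain ⟨k, hk, p, hp, hne⟩ := hmax l F (lt_of_le_of_ne h1 (Ne.symm hcon.1))
      (lt_of_le_of_ne h2 hcon.2)
    exact hne (h3 k hk p hp)
  have hA0card : Nat.card (A 0) = 3 := by rw [hA0, ← hZz, Nat.card_zpowers, hzo]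
  have hinvQ : ∀ c : C, π c = sT → ∀ q ∈ Q, (c : G) * q * (c : G)⁻¹ * q ∈ Z := by
    intro c hc q hq
    have h1 : ∀ b ∈ A 1, (c : G) * b * (c : G)⁻¹ * b ∈ Z := fun b hb => hA0 ▸
      hsec 0 (by simp [hA1, hA0card]) hW.2 (hA0 ▸ le_refl _) c hc b hb
    have h2 : (c : G) * q * (c : G)⁻¹ * q ∈ A 1 :=
      hsec 1 (by
        show Nat.card (A (Fin.last 2)) = 9 * Nat.card (A 1)
        rw [hAr, hA1, hQcard]; norm_num) (hAr ▸ le_refl _) hW.1 c hc q (hAr ▸ hq)
    set d := (c : G) * q * (c : G)⁻¹ * q with hd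
    have hcQ : ∀ x ∈ Q, (c : G) * x * (c : G)⁻¹ ∈ Q := fun x hx => by
      have := hinv (Fin.last 2) c c.2 x (hAr.symm ▸ hx)
      rwa [hAr] at this
    have hdQ : d ∈ Q := hW.2 h2
    -- modulo `Z`: `c²` is trivial, so `d` is fixed
    have hc2 : ∀ x ∈ Q, (c : G) * ((c : G) * x * (c : G)⁻¹) * (c : G)⁻¹ * x⁻¹ ∈ Z := by
      intro x hx
      have hcc : c * c ∈ π.ker := by rw [MonoidHom.mem_ker, map_mul, hc, sl_rel.2.2.2.2.2.2.1]
      rw [hπk, mem_subgroupOf] at hcc
      have := hQcomm _ hcc x hx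
      simpa [mul_assoc] using this
    have hswap : ∀ p ∈ Q, ∀ p' ∈ Q, ∀ w : G, p * p' * w⁻¹ ∈ Z → p' * p * w⁻¹ ∈ Z := by
      intro p hp p' hp' w hw
      have := Z.mul_mem (hQcomm p' hp' p hp) hw
      simpa [mul_assoc] using this
    have hZcent : ∀ w ∈ Z, ∀ x ∈ Q, x * w = w * x := fun w hw x hx => hSc x (hQS hx) w hw
    have hfix : (c : G) * d * (c : G)⁻¹ * d⁻¹ ∈ Z := by
      set q' := (c : G) * q * (c : G)⁻¹ with hq'
      set q'' := (c : G) * q' * (c : G)⁻¹ with hq''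
      have hw : q'' * q⁻¹ ∈ Z := hc2 q hq
      have e1 : (c : G) * d * (c : G)⁻¹ = q'' * q' := by
        rw [hd, hq'', hq']; group
      have hqQ' := hcQ q hq
      have hqQ'' : q'' ∈ Q := hcQ q' hqQ'
      rw [e1, hd, mul_inv_rev]
      -- q'' q' q⁻¹ q'⁻¹ = (q'' q⁻¹) · [q, q']
      have : q'' * q' * (q⁻¹ * q'⁻¹) = q'' * q⁻¹ * (q * q' * q⁻¹ * q'⁻¹) := by group
      rw [this]
      exact Z.mul_mem hw (hQcomm q hq q' hqQ')
    have h3 := h1 d h2
    have hsq : d * d ∈ Z := by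
      have e1 : (c : G) * d * (c : G)⁻¹ * d =
          ((c : G) * d * (c : G)⁻¹ * d⁻¹) * (d * d) := by group
      rw [e1] at h3
      exact (Z.mul_mem_cancel_left hfix).1 h3
    have hd3 : d ^ 3 = 1 := hQexp d hdQ
    have : d = (d * d) * (d * d) := by
      rw [pow_succ, pow_two] at hd3
      calc d = d * d * d * d := by rw [hd3, one_mul]
        _ = _ := by group
    rw [this]
    exact Z.mul_mem hsq hsq
  subst hCz
  refine ⟨{
    z := z, Q := Q, S := S, π := π, π_surj := hπs, π_ker := hπk, z_order := hzo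
    z_mem := hZQ hzZ, Q_le := hQC, S_le := hSC
    Q_card := by rw [hQcard]; norm_num
    Q_exp := hQexp
    Q_comm := fun p hp q hq => hZz ▸ hQcomm p hp q hq
    Q_center := fun p hp hc => hZz ▸ hZc.le ⟨⟨p, hp⟩,
      mem_center_iff.2 fun q => Subtype.ext (hc q q.2).symm, rfl⟩
    cent_Q := hCQ
    inv_Q := fun c hc q hq => hZz ▸ hinvQ c hc q hq }, rfl, hZz, rfl, rfl⟩

end CfsgLib.Recog.LFourThree
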