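import Mathlib

/-!
The model for the `3`-local recognition of `PSL(4,3)`: the stabiliser `Pm` of the first basis
column in `SL(4,3)`, the stabiliser `Pd` of the last basis row, and their named subgroups.
Indices are `0,…,3`; `x i j` is the root element with `1` in position `(i,j)`.
-/

set_option autoImplicit false

namespace CfsgLib.Recog.LFourThree

open Matrix

/-- `SL(4,3)`. -/
abbrev SL4 := Matrix.SpecialLinearGroup (Fin 4) (ZMod 3)

/-- The root element `1 + a E_{ij}`. -/
def xr (i j : Fin 4) (a : ZMod 3) (h : i ≠ j := by decide) : SL4 :=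
  ⟨Matrix.transvection i j a, Matrix.det_transvection_of_ne i j h a⟩

/-- The stabiliser of the first column `e₀`. -/
def Pm : Subgroup SL4 where
  carrier := {g | (g : Matrix (Fin 4) (Fin 4) (ZMod 3)) *ᵥ Pi.single 0 1 = Pi.single 0 1}
  one_mem' := Matrix.one_mulVec _
  mul_mem' := by
    intro a b ha hb
    simp only [Set.mem_setOf_eq, Matrix.SpecialLinearGroup.coe_mul] at *
    rw [← Matrix.mulVec_mulVec, hb, ha]
  inv_mem' := by
    intro a ha
    simp only [Set.mem_setOf_eq] at *
    conv_lhs => rw [← ha, Matrix.mulVec_mulVec, ← Matrix.SpecialLinearGroup.coe_mul, inv_mul_cancel]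
    exact Matrix.one_mulVec _

/-- The stabiliser of the last row `e₃`. -/
def Pd : Subgroup SL4 where
  carrier := {g | Pi.single 3 1 ᵥ* (g : Matrix (Fin 4) (Fin 4) (ZMod 3)) = Pi.single 3 1}
  one_mem' := Matrix.vecMul_one _
  mul_mem' := by
    intro a b ha hb
    simp only [Set.mem_setOf_eq, Matrix.SpecialLinearGroup.coe_mul] at *
    rw [← Matrix.vecMul_vecMul, ha, hb]
  inv_mem' := by
    intro a ha
    simp only [Set.mem_setOf_eq] at *
    conv_lhs => rw [← ha, Matrix.vecMul_vecMul, ← Matrix.SpecialLinearGroup.coe_mul, mul_inv_cancel]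
    exact Matrix.vecMul_one _

theorem mem_Pm {g : SL4} :
    g ∈ Pm ↔ ∀ i, (g : Matrix (Fin 4) (Fin 4) (ZMod 3)) i 0 = if i = 0 then 1 else 0 := by
  show (g : Matrix (Fin 4) (Fin 4) (ZMod 3)) *ᵥ Pi.single 0 1 = Pi.single 0 1 ↔ _
  rw [funext_iff]
  refine forall_congr' fun i => ?_
  simp [Matrix.mulVec_single_one, Pi.single_apply]

theorem mem_Pd {g : SL4} :
    g ∈ Pd ↔ ∀ j, (g : Matrix (Fin 4) (Fin 4) (ZMod 3)) 3 j = if j = 3 then 1 else 0 := by
  show Pi.single 3 1 ᵥ* (g : Matrix (Fin 4) (Fin 4) (ZMod 3)) = Pi.single 3 1 ↔ _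
  rw [funext_iff]
  refine forall_congr' fun i => ?_
  simp [Matrix.single_one_vecMul, Pi.single_apply]

instance : DecidablePred (· ∈ Pm) := fun _ => decidable_of_iff _ mem_Pm.symm

instance : DecidablePred (· ∈ Pd) := fun _ => decidable_of_iff _ mem_Pd.symm

/-- A set of matrix positions closed under composition. -/
def Closed (P : Fin 4 → Fin 4 → Bool) : Prop :=
  ∀ i k j, P i k = true → P k j = true → P i j = true

/-- The elements differing from the identity only at positions in `P`. -/
def patMonoid (P : Fin 4 → Fin 4 → Bool) (hP : Closed P) : Submonoid SL4 where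
  carrier := {g | ∀ i j, P i j = false →
    (g : Matrix (Fin 4) (Fin 4) (ZMod 3)) i j = if i = j then 1 else 0}
  one_mem' := by
    intro i j _
    simp [Matrix.one_apply]
  mul_mem' := by
    intro a b ha hb i j hij
    simp only [Matrix.SpecialLinearGroup.coe_mul, Matrix.mul_apply]
    have key : ∀ k, (a : Matrix (Fin 4) (Fin 4) (ZMod 3)) i k *
        (b : Matrix (Fin 4) (Fin 4) (ZMod 3)) k j = if i = j ∧ k = i then 1 else 0 := by
      intro k
      cases h1 : P i k with
      | false =>
        rw [ha i k h1]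
        by_cases hik : i = k
        · subst hik
          rw [if_pos rfl, one_mul, hb i j hij]
          by_cases hj : i = j <;> simp [hj]
        · rw [if_neg hik, zero_mul, if_neg fun h => hik h.2.symm]
      | true =>
        cases h2 : P k j with
        | false =>
          rw [hb k j h2]
          by_cases hkj : k = j
          · subst hkj
            rw [if_pos rfl, mul_one, ha i k hij]
            by_cases hj : i = k <;> simp [hj]
          · rw [if_neg hkj, mul_zero, if_neg fun h => hkj (h.2.trans h.1)]
        | true => exact absurd (hP i k j h1 h2) (by simp [hij])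
    rw [Finset.sum_congr rfl fun k _ => key k]
    by_cases hj : i = j <;> simp [hj]

/-- The subgroup of the elements differing from the identity only at positions in `P`. -/
def patGroup (P : Fin 4 → Fin 4 → Bool) (hP : Closed P) : Subgroup SL4 :=
  { patMonoid P hP with
    inv_mem' := by
      intro g hg
      have h : (g ^ (orderOf g - 1)) = g⁻¹ := by
        refine eq_inv_of_mul_eq_one_left ?_
        rw [← pow_succ, Nat.sub_add_cancel (orderOf_pos g), pow_orderOf_eq_one]
      rw [← h]
      exact (patMonoid P hP).pow_mem hg _ }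

theorem mem_patGroup {P : Fin 4 → Fin 4 → Bool} {hP : Closed P} {g : SL4} :
    g ∈ patGroup P hP ↔ ∀ i j, P i j = false →
      (g : Matrix (Fin 4) (Fin 4) (ZMod 3)) i j = if i = j then 1 else 0 :=
  Iff.rfl

instance (P : Fin 4 → Fin 4 → Bool) (hP : Closed P) : DecidablePred (· ∈ patGroup P hP) :=
  fun g => decidable_of_iff
    (∀ p ∈ (Finset.univ : Finset (Fin 4 × Fin 4)).filter (fun p => P p.1 p.2 = false),
      (g : Matrix (Fin 4) (Fin 4) (ZMod 3)) p.1 p.2 = if p.1 = p.2 then 1 else 0)
    ⟨fun h i j hij => h (i, j) (Finset.mem_filter.2 ⟨Finset.mem_univ _, hij⟩),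
      fun h p hp => h p.1 p.2 (Finset.mem_filter.1 hp).2⟩

/-- positions of the elementary abelian group fixing the first column and acting trivially modulo
it -/
def patE (i j : Fin 4) : Bool := i == 0 && j != 0
/-- positions of the dual elementary abelian group -/
def patF (i j : Fin 4) : Bool := j == 3 && i != 3
/-- positions of the extraspecial group -/
def patQ (i j : Fin 4) : Bool := patE i j || patF i j
/-- positions of the Sylow group -/
def patS (i j : Fin 4) : Bool := decide (i < j)
/-- positions of the abelian subgroup of order 81 -/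
def patM (i j : Fin 4) : Bool := decide (i < 2 ∧ 2 ≤ j)

theorem closed_patE : Closed patE := by unfold Closed patE; decide
theorem closed_patF : Closed patF := by unfold Closed patF; decide
theorem closed_patQ : Closed patQ := by unfold Closed patQ patE patF; decide
theorem closed_patS : Closed patS := by unfold Closed patS; decide
theorem closed_patM : Closed patM := by unfold Closed patM; decide

/-- `E = ⟨x₀₁, x₀₂, x₀₃⟩`. -/
def Em : Subgroup Pm := (patGroup patE closed_patE).subgroupOf Pm
/-- the extraspecial group -/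
def Qm : Subgroup Pm := (patGroup patQ closed_patQ).subgroupOf Pm
/-- the Sylow `3`-subgroup -/
def Sm : Subgroup Pm := (patGroup patS closed_patS).subgroupOf Pm
/-- `⟨x₀₂, x₀₃, x₁₂, x₁₃⟩` -/
def Mm : Subgroup Pm := (patGroup patM closed_patM).subgroupOf Pm
/-- `⟨x₀₃, x₁₃, x₂₃⟩` -/
def Fm : Subgroup Pm := (patGroup patF closed_patF).subgroupOf Pm
/-- the centraliser of the centre of the Sylow group -/
def Cm : Subgroup Pm := Pd.subgroupOf Pm

instance : DecidablePred (· ∈ Em) := fun _ => decidable_of_iff _ Subgroup.mem_subgroupOf.symm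

instance : DecidablePred (· ∈ Qm) := fun _ => decidable_of_iff _ Subgroup.mem_subgroupOf.symm

instance : DecidablePred (· ∈ Sm) := fun _ => decidable_of_iff _ Subgroup.mem_subgroupOf.symm

instance : DecidablePred (· ∈ Mm) := fun _ => decidable_of_iff _ Subgroup.mem_subgroupOf.symm

instance : DecidablePred (· ∈ Fm) := fun _ => decidable_of_iff _ Subgroup.mem_subgroupOf.symm

instance : DecidablePred (· ∈ Cm) := fun _ => decidable_of_iff _ Subgroup.mem_subgroupOf.symm

/-- the diagonal involution `diag(1,-1,-1,1)` -/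
def tD : SL4 := ⟨Matrix.diagonal ![1, -1, -1, 1], by decide +kernel⟩

/-- the central element of the Sylow group -/
def zP : Pm := ⟨xr 0 3 1, mem_Pm.2 (by decide +kernel)⟩
/-- a second element of `E` -/
def yP : Pm := ⟨xr 0 2 1, mem_Pm.2 (by decide +kernel)⟩
/-- a root element of the dual elementary abelian group -/
def y2P : Pm := ⟨xr 1 3 1, mem_Pm.2 (by decide +kernel)⟩
/-- a root element of the Levi factor -/
def uP : Pm := ⟨xr 1 2 1, mem_Pm.2 (by decide +kernel)⟩
/-- the involution centralising `zP` -/
def tP : Pm := ⟨tD, mem_Pm.2 (by decide +kernel)⟩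

theorem zP_mem_Cm : zP ∈ Cm :=
  Subgroup.mem_subgroupOf.2 (mem_Pd.2 (by decide +kernel))

theorem zP_pow : zP ^ 3 = 1 ∧ zP ≠ 1 := by
  refine ⟨Subtype.ext (Subtype.ext ?_), fun h => ?_⟩
  · show (((xr 0 3 1 : SL4) ^ 3 : SL4) : Matrix (Fin 4) (Fin 4) (ZMod 3)) = 1
    rw [show ((xr 0 3 1 : SL4) ^ 3) = xr 0 3 1 * xr 0 3 1 * xr 0 3 1 by rw [pow_succ, pow_two]]
    decide +kernel
  · exact absurd (congrArg (fun g : Pm => ((g : SL4) : Matrix (Fin 4) (Fin 4) (ZMod 3)) 0 3) h)
      (by decide +kernel)

end CfsgLib.Recog.LFourThree
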