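import Cfsg.Agent.Lib.Recog.LFourThree.OneQuot
import Cfsg.Agent.Lib.Recog.LFourThree.ExcTable

/-!
Case of one elementary group: the centralisers of `1 ± E₀₂ + E₁₃` lie in the range.
-/

set_option autoImplicit false

namespace CfsgLib.Recog.LFourThree

open Subgroup

universe u

/-- The coordinates in `Mm` modulo `wEl δ`. -/
def vecE (v : V3) : CwP := mP (v 0) (v 1) (v 2) 0

/-- The six maps induced on the coordinates. -/
def wMap (δ : ZMod 3) (s : Fin 6) (v : V3) : V3 :=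
  let a : ZMod 3 := if s.val < 3 then 1 else -1
  let h : ZMod 3 := (s.val : ZMod 3)
  ![v 0 + 2 * δ * h * v 2, a * (v 1 - h * v 0 - δ * h * h * v 2), a * v 2]

/-- The map attached to a parameter. -/
def wIdx (p : CwP) : Fin 6 :=
  ⟨(if p.s then 3 else 0) + p.h.val, by
    have := ZMod.val_lt p.h
    split_ifs <;> omega⟩

theorem vecE_mul : ∀ δ : ZMod 3, ∀ u v : V3, pmul δ (vecE u) (vecE v) = vecE (u + v) := by
  decide +kernel

theorem vecE_ne : ∀ δ : ZMod 3, ∀ v : V3, (∃ i, vecE v = wP δ i) → v = 0 := by decide +kernel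

theorem vecE_mem : ∀ δ b c d e : ZMod 3,
    pmul δ (vecE ![b - δ * e, c, d]) (wP δ e) = mP b c d e := by decide +kernel

theorem vecE_wP : ∀ δ : ZMod 3, ∀ v : V3, ∀ i, ∃ b c d e,
    pmul δ (vecE v) (wP δ i) = mP b c d e := by decide +kernel

theorem wP_as_mP : ∀ δ i : ZMod 3, ∃ b c d e, wP δ i = mP b c d e := fun δ i =>
  ⟨δ * i, 0, 0, i, rfl⟩

theorem decomp_cw : ∀ δ : ZMod 3, ∀ p : CwP,
    p = pmul δ (mP p.b ((p.c - p.b * p.h) * sgn3 p.s) p.d ((p.e - p.d * p.h) * sgn3 p.s))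
      ⟨p.s, 0, 0, 0, 0, p.h⟩ := by decide +kernel

theorem wIdx_rep : ∀ p : CwP, wIdx p = wIdx ⟨p.s, 0, 0, 0, 0, p.h⟩ := fun _ => rfl

theorem conj_rep : ∀ δ : ZMod 3, δ ≠ 0 → ∀ (s : Bool) (h : ZMod 3) (v : V3), ∃ i,
    pmul δ ⟨s, 0, 0, 0, 0, h⟩ (vecE v) =
      pmul δ (pmul δ (vecE (wMap δ (wIdx ⟨s, 0, 0, 0, 0, h⟩) v)) (wP δ i))
        ⟨s, 0, 0, 0, 0, h⟩ := by decide +kernel

theorem pmul_assoc (δ : ZMod 3) (p q r : CwP) :
    pmul δ (pmul δ p q) r = pmul δ p (pmul δ q r) :=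
  cw_inj δ (by rw [← cw_mul, ← cw_mul, ← cw_mul, ← cw_mul, mul_assoc])

theorem pmul_Mm_comm (δ b c d e : ZMod 3) {q : CwP} (hq : cw δ q ∈ Mm) :
    pmul δ (mP b c d e) q = pmul δ q (mP b c d e) :=
  cw_inj δ (by
    rw [← cw_mul, ← cw_mul]
    exact Mm_comm ((mem_Mm_iff δ).2 ⟨_, _, _, _, rfl⟩) hq)

theorem vecE_wP_Mm (δ : ZMod 3) (v : V3) (i : ZMod 3) : cw δ (pmul δ (vecE v) (wP δ i)) ∈ Mm := by
  rw [← cw_mul]
  exact Mm.mul_mem ((mem_Mm_iff δ).2 ⟨_, _, _, _, rfl⟩) ((mem_Mm_iff δ).2 ⟨_, _, _, _, rfl⟩)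

theorem conj_vecE (δ : ZMod 3) (hδ : δ ≠ 0) (p : CwP) (v : V3) : ∃ i,
    pmul δ p (vecE v) = pmul δ (pmul δ (vecE (wMap δ (wIdx p) v)) (wP δ i)) p := by
  obtain ⟨i, hi⟩ := conj_rep δ hδ p.s p.h v
  refine ⟨i, ?_⟩
  rw [wIdx_rep p]
  conv_lhs => rw [decomp_cw δ p]
  conv_rhs => arg 3; rw [decomp_cw δ p]
  rw [pmul_assoc, hi, ← pmul_assoc, pmul_Mm_comm _ _ _ _ _ (vecE_wP_Mm δ _ i), pmul_assoc]

theorem wMap_inj : ∀ δ : ZMod 3, δ ≠ 0 → ∀ s t : Fin 6,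
    (∀ v : V3, wMap δ s v = wMap δ t v) → s = t := by decide +kernel

theorem wIdx_surj : ∀ s : Fin 6, ∃ p : CwP, wIdx p = s := by decide +kernel

theorem wIdx_zero : ∀ p : CwP, wIdx p = 0 → p.s = false ∧ p.h = 0 := by decide +kernel

theorem wMap_zero : ∀ δ : ZMod 3, ∀ v : V3, wMap δ 0 v = v := by decide +kernel

theorem cent_sign_rep : ∀ δ : ZMod 3, δ ≠ 0 → ∀ v : V3, v 2 ≠ 0 → ∀ (s : Bool) (h i : ZMod 3),
    pmul δ ⟨s, 0, 0, 0, 0, h⟩ (vecE v) =
      pmul δ (pmul δ (vecE v) (wP δ i)) ⟨s, 0, 0, 0, 0, h⟩ → s = false := by decide +kernel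

theorem cent_sign (δ : ZMod 3) (hδ : δ ≠ 0) (v : V3) (hv : v 2 ≠ 0) (p : CwP) (i : ZMod 3)
    (h : pmul δ p (vecE v) = pmul δ (pmul δ (vecE v) (wP δ i)) p) : p.s = false := by
  refine cent_sign_rep δ hδ v hv p.s p.h i ?_
  have h' : cw δ p * cw δ (vecE v) = cw δ (pmul δ (vecE v) (wP δ i)) * cw δ p := by
    rw [cw_mul, cw_mul, h]
  rw [show cw δ p = cw δ (pmul δ (mP p.b ((p.c - p.b * p.h) * sgn3 p.s) p.d
      ((p.e - p.d * p.h) * sgn3 p.s)) ⟨p.s, 0, 0, 0, 0, p.h⟩) from congrArg _ (decomp_cw δ p),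
    ← cw_mul δ (mP _ _ _ _), mul_assoc, ← mul_assoc (cw δ (pmul δ (vecE v) (wP δ i))),
    ← Mm_comm ((mem_Mm_iff δ).2 ⟨_, _, _, _, rfl⟩) (vecE_wP_Mm δ v i), mul_assoc] at h'
  have h'' := mul_left_cancel h'
  rw [cw_mul, cw_mul] at h''
  exact cw_inj δ h''

theorem pow_three_sign : ∀ δ : ZMod 3, ∀ p : CwP, pmul δ (pmul δ p p) p = pone → p.s = false := by
  decide +kernel

theorem pow_nine : ∀ δ : ZMod 3, ∀ p : CwP, p.s = false →
    (fun r => pmul δ (pmul δ r r) r) (pmul δ (pmul δ p p) p) = pone := by decide +kernel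

/-- The linear forms of the exceptional family. -/
def formE (i : Fin 3) : V3 := ![0, 1, (i.val : ZMod 3)]

theorem tableE : ∀ δ : ZMod 3, δ ≠ 0 →
    (∀ i v, levelCount (wMap δ) (formE i) v 1 = levelCount (wMap δ) (formE i) v 2) ∧
    (∀ i j, ∑ v, tableVal (wMap δ) (formE i) v * tableVal (wMap δ) (formE j) v =
      if i = j then 27 * ((6 : ℕ) : ℤ) else 0) ∧
    (∀ i, tableVal (wMap δ) (formE i) 0 = tableVal (wMap δ) (formE 0) 0) := by decide +kernel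

theorem testE_nd : ∀ δ : ZMod 3, δ ≠ 0 → ∀ v : V3, v ≠ 0 →
    (testVal (wMap δ) formE ![1, -2, 1] v = 0 ∨ testVal (wMap δ) formE ![-2, 1, 1] v = 0 ∨
      testVal (wMap δ) formE ![1, 1, -2] (-v) = 0) ∧
    (testVal (wMap δ) formE ![1, 1, -2] v ≠ 0 → v 2 ≠ 0) := by decide +kernel

theorem testE_R : ∀ δ : ZMod 3, δ ≠ 0 →
    ∑ u, testVal (wMap δ) formE ![1, -2, 1] u *
      ∑ v, testVal (wMap δ) formE ![-2, 1, 1] v * testVal (wMap δ) formE ![1, 1, -2] (u + v) =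
      27 * 27 * ((6 : ℕ) : ℤ) * ∑ i : Fin 3, ![1, -2, 1] i * ![-2, 1, 1] i * ![1, 1, -2] i := by
  decide +kernel

variable {G : Type u} [Group G] [Finite G] {B : Base G}

/-- The centraliser of `wEl δ`, `δ ≠ 0`, lies in the range. -/
theorem cent_wEl_le (F : B.OnlyFacts) {δ : ZMod 3} (hδ : δ ≠ 0) :
    centralizer ({B.ψ (wEl δ)} : Set G) ≤ B.ψ.range := by
  classical
  set C := centralizer ({B.ψ (wEl δ)} : Set G) with hC
  have hCw : ∀ g ∈ C, g * B.ψ (wEl δ) = B.ψ (wEl δ) * g := fun g hg =>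
    mem_centralizer_singleton_iff.1 hg
  let ρ : CwP → C := fun p => ⟨B.ψ (cw δ p), cw_mem_centralizer B δ p⟩
  have hρ : ∀ p q, ρ p * ρ q = ρ (pmul δ p q) := fun p q => Subtype.ext (by
    show B.ψ (cw δ p) * B.ψ (cw δ q) = B.ψ _
    rw [← map_mul, cw_mul])
  have hρinj : Function.Injective ρ := fun p q e => cw_inj δ (B.inj (congrArg Subtype.val e))
  have hρ1 : ρ pone = 1 := Subtype.ext (by show B.ψ (cw δ pone) = 1; rw [cw_one, map_one])
  set w : C := ρ (wP δ 1) with hwdef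
  have hw : (w : G) = B.ψ (wEl δ) := by rw [wEl_eq_wP]
  haveI := zpowers_normal B hw hCw
  set π := QuotientGroup.mk' (zpowers w) with hπdef
  have hπw : ∀ i, π (ρ (wP δ i)) = 1 := fun i =>
    (QuotientGroup.eq_one_iff _).2 ((mem_zpowers_wEl B hw).2 ⟨i, rfl⟩)
  have hker : ∀ x, π x = 1 → ∃ i, x = ρ (wP δ i) := fun x hx => by
    obtain ⟨i, hi⟩ := (mem_zpowers_wEl B hw).1 ((QuotientGroup.eq_one_iff x).1 hx)
    exact ⟨i, Subtype.ext hi⟩
  have hrep : ∀ x y, π x = π y → ∃ i, x = y * ρ (wP δ i) := fun x y h => by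
    obtain ⟨i, hi⟩ := hker (y⁻¹ * x) (by rw [map_mul, map_inv, h, inv_mul_cancel])
    exact ⟨i, by rw [← hi, mul_inv_cancel_left]⟩
  let φ₀ : Multiplicative V3 →* C ⧸ zpowers w :=
    MonoidHom.mk' (fun v => π (ρ (vecE v.toAdd))) fun u v => by
      rw [← map_mul, hρ, vecE_mul, toAdd_mul]
  have hφinj : Function.Injective φ₀ := by
    rw [injective_iff_map_eq_one]
    intro v hv
    obtain ⟨i, hi⟩ := hker _ hv
    exact Multiplicative.toAdd.injective (by rw [toAdd_one]; exact vecE_ne δ _ ⟨i, hρinj hi⟩)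
  set J := φ₀.range with hJdef
  have hJmem : ∀ x : C, π x ∈ J ↔ (x : G) ∈ Mm.map B.ψ := by
    intro x
    constructor
    · rintro ⟨v, hv⟩
      obtain ⟨i, hi⟩ := hrep x _ hv.symm
      obtain ⟨b, c, d, e, he⟩ := vecE_wP δ v.toAdd i
      refine ⟨cw δ (mP b c d e), (mem_Mm_iff δ).2 ⟨_, _, _, _, rfl⟩, ?_⟩
      rw [hi, hρ, he]
    · rintro ⟨y, hy, hyx⟩
      obtain ⟨b, c, d, e, rfl⟩ := (mem_Mm_iff δ).1 hy
      refine ⟨Multiplicative.ofAdd ![b - δ * e, c, d], ?_⟩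
      have : x = ρ (mP b c d e) := Subtype.ext hyx.symm
      show π (ρ (vecE ![b - δ * e, c, d])) = π x
      rw [this, ← vecE_mem δ b c d e, ← hρ, map_mul, hπw, mul_one]
  have hconjp : ∀ p v, ∃ i, ρ p * ρ (vecE v) * (ρ p)⁻¹ = ρ (vecE (wMap δ (wIdx p) v)) * ρ (wP δ i) := by
    intro p v
    obtain ⟨i, hi⟩ := conj_vecE δ hδ p v
    exact ⟨i, by rw [hρ, hi, ← hρ, ← hρ, mul_inv_cancel_right]⟩
  have hactp : ∀ p v, π (ρ p) * π (ρ (vecE v)) * (π (ρ p))⁻¹ = π (ρ (vecE (wMap δ (wIdx p) v))) := by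
    intro p v
    obtain ⟨i, hi⟩ := hconjp p v
    rw [← map_inv, ← map_mul, ← map_mul, hi, map_mul, hπw, mul_one]
  have hJN : ∀ p, π (ρ p) ∈ normalizer (J : Set (C ⧸ zpowers w)) := by
    intro p
    haveI : Finite J := inferInstance
    haveI : Finite (J : Set (C ⧸ zpowers w)) := inferInstanceAs (Finite J)
    refine mem_normalizer_fintype fun n hn => ?_
    obtain ⟨v, rfl⟩ := hn
    exact ⟨Multiplicative.ofAdd (wMap δ (wIdx p) v.toAdd), (hactp p v.toAdd).symm⟩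
  have hNmem : ∀ n ∈ normalizer (J : Set (C ⧸ zpowers w)), ∃ p, n = π (ρ p) := by
    intro n hn
    obtain ⟨g, rfl⟩ := QuotientGroup.mk'_surjective _ n
    have hg : (g : G) ∈ B.ψ.range := norm_M_le F fun x hx => by
      have hxC : B.ψ x ∈ C := by
        obtain ⟨b, c, d, e, rfl⟩ := (mem_Mm_iff δ).1 hx
        exact cw_mem_centralizer B δ _
      have h1 := (mem_normalizer_iff.1 hn _).1 ((hJmem ⟨_, hxC⟩).2 (mem_map_of_mem _ hx))
      rw [← map_inv, ← map_mul, ← map_mul] at h1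
      exact (hJmem _).1 h1
    obtain ⟨p, hp⟩ := exists_cw_of_mem hg (hCw _ g.2)
    exact ⟨p, congrArg π (Subtype.ext hp : g = ρ p)⟩
  have key : ∀ (g : C) (v : V3), v ≠ 0 → ∀ r : CwP, r.s = false →
      g * ρ (vecE v) * g⁻¹ = ρ r → ∃ p, g = ρ p := by
    intro g v hv r hr he
    have h1 : (g : G) * B.ψ (cw δ (mP (v 0) (v 1) (v 2) 0)) * (g : G)⁻¹ = B.ψ (cw δ r) :=
      congrArg Subtype.val he
    have hg := mem_range_of_conj_M F (fun i e => hv (vecE_ne δ v ⟨i, e⟩)) (hCw _ g.2) hr h1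
    obtain ⟨p, hp⟩ := exists_cw_of_mem hg (hCw _ g.2)
    exact ⟨p, Subtype.ext hp⟩
  have hcube : ∀ v r (g : C), g * ρ (vecE v) * g⁻¹ = ρ r → r.s = false := by
    intro v r g he
    refine pow_three_sign δ r (hρinj ?_)
    have e3 : ρ (vecE v) ^ 3 = 1 := Subtype.ext (by
      show B.ψ (cw δ (vecE v)) ^ 3 = 1
      rw [← map_pow, vecE, psi_cw_pow_three, map_one])
    rw [← hρ, ← hρ, hρ1, ← pow_two, ← pow_succ, ← he, conj_pow, e3, mul_one, mul_inv_cancel]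
  have hTI : TIThree J := by
    refine ⟨?_, ?_, ?_⟩
    · rintro _ ⟨v, rfl⟩
      rw [← map_pow]
      convert map_one φ₀
      refine Multiplicative.toAdd.injective ?_
      rw [toAdd_pow, toAdd_one, ← Nat.cast_smul_eq_nsmul (ZMod 3),
        show ((3 : ℕ) : ZMod 3) = 0 from rfl, zero_smul]
    · rintro _ ⟨u, rfl⟩ _ ⟨v, rfl⟩
      rw [← map_mul, ← map_mul, mul_comm]
    · rintro _ ⟨v, rfl⟩ hx n hn
      obtain ⟨g, rfl⟩ := QuotientGroup.mk'_surjective _ n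
      have hv : v.toAdd ≠ 0 := fun e => hx (by
        rw [show v = 1 from Multiplicative.toAdd.injective (e.trans toAdd_one.symm), map_one])
      obtain ⟨q, hq⟩ := hNmem _ hn
      change π g * π (ρ (vecE v.toAdd)) * (π g)⁻¹ = π (ρ q) at hq
      rw [← map_inv, ← map_mul, ← map_mul] at hq
      obtain ⟨i, hi⟩ := hrep _ _ hq
      rw [hρ] at hi
      obtain ⟨p, hp⟩ := key g _ hv _ (hcube _ _ _ hi) hi
      rw [hp]
      exact hJN p
  let D : ExcCoord J 6 :=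
    { φ := MonoidHom.ofInjective hφinj
      W := wMap δ
      injW := fun s t e => wMap_inj δ hδ s t fun v => congrFun e v
      act := fun n hn => by
        obtain ⟨p, rfl⟩ := hNmem n hn
        exact ⟨wIdx p, fun v => hactp p v⟩
      sur := fun s => by
        obtain ⟨p, rfl⟩ := wIdx_surj s
        exact ⟨_, hJN p, fun v => hactp p v⟩
      faithful := fun n hn hfix => by
        obtain ⟨p, rfl⟩ := hNmem n hn
        have h0 : ∀ v, wMap δ (wIdx p) v = wMap δ 0 v := fun v => by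
          rw [wMap_zero]
          have h1 := (hactp p v).symm.trans (hfix _ ⟨Multiplicative.ofAdd v, rfl⟩)
          exact Multiplicative.ofAdd.injective (hφinj (a₁ := Multiplicative.ofAdd _) h1)
        obtain ⟨hs, hh⟩ := wIdx_zero p (wMap_inj δ hδ _ _ h0)
        refine (hJmem _).2 ⟨cw δ p, (mem_Mm_iff δ).2 ⟨p.b, p.c, p.d, p.e, ?_⟩, rfl⟩
        congr 1
        cases p
        simp_all [mP] }
  haveI := Fintype.ofFinite (C ⧸ zpowers w)
  obtain ⟨h1, h2, h3⟩ := tableE δ hδ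
  have htop := hTI.eq_top_of_table D (0 : Fin 3) formE ![1, -2, 1] ![-2, 1, 1] ![1, 1, -2]
    (by decide +kernel) (by decide +kernel) (by decide +kernel) h1 h2 h3
    (fun v hv => (testE_nd δ hδ v hv).1)
    (fun v hv hne => by
      have hv2 := (testE_nd δ hδ v hv).2 hne
      rintro ⟨n, hn⟩
      obtain ⟨g, rfl⟩ := QuotientGroup.mk'_surjective _ n
      have h4 : π g * π (ρ (vecE v)) = π (ρ (vecE v)) * π g :=
        mem_centralizer_singleton_iff.1 hn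
      obtain ⟨i, hi⟩ := hrep (g * ρ (vecE v) * g⁻¹) (ρ (vecE v)) (by
        rw [map_mul, map_mul, h4, map_inv, mul_inv_cancel_right])
      rw [hρ] at hi
      obtain ⟨p, rfl⟩ := key g v hv _ (hcube _ _ _ hi) hi
      have h5 := mul_inv_eq_iff_eq_mul.1 hi
      rw [hρ, hρ] at h5
      have hs := cent_sign δ hδ v hv2 p i (hρinj h5)
      refine ⟨2, Subtype.ext ?_⟩
      show π (ρ p) ^ 3 ^ 2 = 1
      rw [← map_pow, show (3 : ℕ) ^ 2 = 3 * 3 from rfl, pow_mul]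
      convert map_one π
      simp only [pow_succ, pow_zero, one_mul, hρ]
      rw [show pmul δ (pmul δ (pmul δ (pmul δ p p) p) (pmul δ (pmul δ p p) p))
        (pmul δ (pmul δ p p) p) = pone from pow_nine δ p hs, hρ1])
    (testE_R δ hδ) (by decide +kernel) (by norm_num)
  intro g hg
  obtain ⟨p, hp⟩ := hNmem (π ⟨g, hg⟩) (by rw [htop]; exact mem_top _)
  obtain ⟨i, hi⟩ := hrep _ _ hp
  rw [show g = B.ψ (cw δ p) * B.ψ (cw δ (wP δ i)) from congrArg Subtype.val hi, ← map_mul]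
  exact B.psi_mem_range _

end CfsgLib.Recog.LFourThree
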