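import Cfsg.Agent.Lib.Recog.LFourThree.OneQuot
import Cfsg.Agent.Lib.Recog.LFourThree.ExcTable
import Mathlib.GroupTheory.Transfer

/-!
Case of one elementary group: the centraliser of `y2P` lies in the range. A transfer gives a
subgroup of index three, whose quotient by `⟨y2P⟩` has a self-centralising Sylow `3`-subgroup.
-/

set_option autoImplicit false

namespace CfsgLib.Recog.LFourThree

open Subgroup

universe u

/-- The parameters without the entry `(0,2)`. -/
def noB (p : CwP) : CwP := ⟨p.s, 0, p.c, p.d, p.e, p.h⟩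

/-- The coordinates modulo `y2P` of the index three subgroup. -/
def vecY (v : V3) : CwP := ⟨false, 0, v 0, v 1, 0, v 2⟩

/-- The involution inverting the coordinates. -/
def sY : CwP := ⟨true, 0, 0, 0, 0, 0⟩

/-- The two maps induced on the coordinates. -/
def negMap (s : Fin 2) (v : V3) : V3 := if s = 0 then v else -v

/-- The map attached to a parameter. -/
def negIdx (p : CwP) : Fin 2 := if p.s then 1 else 0

theorem vecY_mul : ∀ u v : V3,
    pmul 0 (vecY u) (vecY v) = pmul 0 (vecY (u + v)) (wP 0 (u 1 * v 2)) := by decide +kernel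

theorem vecY_ne : ∀ v : V3, (∃ i, vecY v = wP 0 i) → v = 0 := by decide +kernel

theorem vecY_mem : ∀ p : CwP, p.s = false → p.b = 0 →
    pmul 0 (vecY ![p.c, p.d, p.h]) (wP 0 p.e) = p := by decide +kernel

theorem vecY_wP : ∀ v : V3, ∀ i, (pmul 0 (vecY v) (wP 0 i)).s = false ∧
    (pmul 0 (vecY v) (wP 0 i)).b = 0 := by decide +kernel

theorem conj_vecY : ∀ p : CwP, p.b = 0 → ∀ v : V3, ∃ i,
    pmul 0 p (vecY v) = pmul 0 (pmul 0 (vecY (negMap (negIdx p) v)) (wP 0 i)) p := by decide +kernel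

theorem centY : ∀ v : V3, v ≠ 0 → ∀ p : CwP, p.b = 0 → ∀ i,
    pmul 0 p (vecY v) = pmul 0 (pmul 0 (vecY v) (wP 0 i)) p → p.s = false := by decide +kernel

theorem sY_inverts : ∀ p : CwP, p.s = false → p.b = 0 →
    ∃ i, pmul 0 (pmul 0 (pmul 0 sY p) sY) p = wP 0 i := by decide +kernel

theorem sY_sq : pmul 0 sY sY = pone := by decide +kernel

theorem wP_comm_rep : ∀ i : ZMod 3,
    pmul 0 (vecY ![0, i, 0]) (vecY ![0, 0, 1]) =
      pmul 0 (pmul 0 (vecY ![0, 0, 1]) (vecY ![0, i, 0])) (wP 0 i) := by decide +kernel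

theorem split_b : ∀ p : CwP, p = pmul 0 (mP p.b 0 0 0)
    ⟨p.s, 0, p.c - p.b * p.h, p.d, p.e, p.h⟩ := by decide +kernel

theorem bHom_mul : ∀ p q : CwP, (pmul 0 p q).b = p.b + q.b :=
  fun p q => by simp [pmul]

theorem conj_x02 : ∀ p : CwP, ∀ q : CwP, pmul 0 p (mP 1 0 0 0) = pmul 0 q p → q.b = 1 := by
  intro p q h
  have h1 := congrArg CwP.b h
  rw [bHom_mul, bHom_mul] at h1
  simp only [mP] at h1
  linear_combination -h1

theorem sgn_mul_sq : ∀ p : CwP, pmul 0 (pmul 0 p p) p = pone → p.s = false := by decide +kernel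

theorem pow_nineY : ∀ p : CwP, p.s = false →
    (fun r => pmul 0 (pmul 0 r r) r) (pmul 0 (pmul 0 p p) p) = pone := by decide +kernel

/-- The linear forms of the exceptional family. -/
def formY : Fin 13 → V3 :=
  ![![0, 0, 1], ![0, 1, 0], ![0, 1, 1], ![0, 1, 2], ![1, 0, 0], ![1, 0, 1], ![1, 0, 2],
    ![1, 1, 0], ![1, 1, 1], ![1, 1, 2], ![1, 2, 0], ![1, 2, 1], ![1, 2, 2]]

/-- first test function -/
def coefY₁ : Fin 13 → ℤ := ![0, 0, -1, 1, 1, 0, -1, -1, 0, 1, 0, 0, 0]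
/-- second test function -/
def coefY₂ : Fin 13 → ℤ := ![-1, 0, 0, 1, -1, 0, -1, 1, 0, 0, 0, 0, 1]
/-- third test function -/
def coefY₃ : Fin 13 → ℤ := ![1, -1, 0, 0, 1, 1, 0, 0, 0, -1, 0, 0, -1]

theorem tableY :
    (∀ i v, levelCount negMap (formY i) v 1 = levelCount negMap (formY i) v 2) ∧
    (∀ i j, ∑ v, tableVal negMap (formY i) v * tableVal negMap (formY j) v =
      if i = j then 27 * ((2 : ℕ) : ℤ) else 0) ∧
    (∀ i, tableVal negMap (formY i) 0 = tableVal negMap (formY 0) 0) := by decide +kernel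

theorem testY_nd : ∀ v : V3, v ≠ 0 → testVal negMap formY coefY₁ v = 0 ∨
    testVal negMap formY coefY₂ v = 0 ∨ testVal negMap formY coefY₃ (-v) = 0 := by decide +kernel

theorem testY_R :
    ∑ u, testVal negMap formY coefY₁ u *
      ∑ v, testVal negMap formY coefY₂ v * testVal negMap formY coefY₃ (u + v) =
      27 * 27 * ((2 : ℕ) : ℤ) * ∑ i, coefY₁ i * coefY₂ i * coefY₃ i := by decide +kernel

theorem z3_cases : ∀ x : ZMod 3, x = 0 ∨ x = 1 ∨ x = 2 := by decide +kernel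

theorem two_ne_zero_z3 : (2 : ZMod 3) ≠ 0 := by decide +kernel

theorem mulZ3_cube : ∀ a : Multiplicative (ZMod 3), a ^ 3 = 1 := by decide +kernel

theorem mulZ3_sq : ∀ a : Multiplicative (ZMod 3), a * a = 1 → a = 1 := by decide +kernel

theorem mP_two : pmul 0 (mP 1 0 0 0) (mP 1 0 0 0) = mP 2 0 0 0 := by decide +kernel

theorem wP_two : wP 0 2 = pmul 0 (wP 0 1) (wP 0 1) := by decide +kernel

theorem mP_sub : ∀ x y : ZMod 3, mP x 0 0 0 = pmul 0 (mP y 0 0 0) (mP (x - y) 0 0 0) := by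
  decide +kernel

theorem negIdx_surj : ∀ s : Fin 2, ∃ p : CwP, p.b = 0 ∧ negIdx p = s := by decide +kernel

theorem negMap_inj : ∀ s t : Fin 2, (∀ v : V3, negMap s v = negMap t v) → s = t := by decide +kernel

theorem e100_ne : (![1, 0, 0] : V3) ≠ 0 := by decide +kernel

theorem sgn_wP : ∀ q : CwP, ∀ i, pmul 0 (pmul 0 q q) q = wP 0 i → q.s = false := by decide +kernel

variable {G : Type u} [Group G] [Finite G] {B : Base G}

/-- A subgroup of index three of the centraliser. -/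
theorem exists_index_three (F : B.OnlyFacts) :
    ∃ τ : centralizer ({B.ψ (wEl 0)} : Set G) →* Multiplicative (ZMod 3),
      ∀ p : CwP, (τ ⟨B.ψ (cw 0 p), cw_mem_centralizer B 0 p⟩ = 1 ↔ p.b = 0) := by
  classical
  haveI : Fact (Nat.Prime 3) := ⟨Nat.prime_three⟩
  set C := centralizer ({B.ψ (wEl 0)} : Set G) with hC
  have hCw : ∀ g ∈ C, g * B.ψ (wEl 0) = B.ψ (wEl 0) * g := fun g hg =>
    mem_centralizer_singleton_iff.1 hg
  let ρ : CwP → C := fun p => ⟨B.ψ (cw 0 p), cw_mem_centralizer B 0 p⟩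
  have hρ : ∀ p q, ρ p * ρ q = ρ (pmul 0 p q) := fun p q => Subtype.ext (by
    show B.ψ (cw 0 p) * B.ψ (cw 0 q) = B.ψ _
    rw [← map_mul, cw_mul])
  have hρinj : Function.Injective ρ := fun p q e => cw_inj 0 (B.inj (congrArg Subtype.val e))
  have hρ1 : ρ pone = 1 := Subtype.ext (by show B.ψ (cw 0 pone) = 1; rw [cw_one, map_one])
  have hρinv : ∀ p, ∃ q, (ρ p)⁻¹ = ρ q ∧ q.b = -p.b ∧ q.s = p.s := by
    intro p
    obtain ⟨q, hq⟩ := exists_cw_of_mem (B := B) (δ := 0)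
      (g := ((ρ p)⁻¹ : C).1) (B.ψ.range.inv_mem (B.psi_mem_range _)) (hCw _ ((ρ p)⁻¹).2)
    have hq' : (ρ p)⁻¹ = ρ q := Subtype.ext hq
    have h1 : pmul 0 p q = pone := hρinj (by rw [← hρ, ← hq', mul_inv_cancel, hρ1])
    refine ⟨q, hq', ?_, ?_⟩
    · have := congrArg CwP.b h1
      rw [bHom_mul] at this
      exact eq_neg_of_add_eq_zero_right this
    · have := congrArg CwP.s h1
      simp only [pmul, pone] at this
      revert this
      cases p.s <;> cases q.s <;> simp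
  -- the Sylow subgroup
  let T : Subgroup C :=
    { carrier := {x | ∃ p : CwP, p.s = false ∧ x = ρ p}
      one_mem' := ⟨pone, rfl, hρ1.symm⟩
      mul_mem' := by
        rintro x y ⟨p, hp, rfl⟩ ⟨q, hq, rfl⟩
        exact ⟨pmul 0 p q, by simp [pmul, hp, hq], hρ p q⟩
      inv_mem' := by
        rintro x ⟨p, hp, rfl⟩
        obtain ⟨q, hq, -, hs⟩ := hρinv p
        exact ⟨q, hs.trans hp, hq⟩ }
  have hTb : ∀ x : T, ∃ p : CwP, p.s = false ∧ (x : C) = ρ p := fun x => x.2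
  choose par hpar hpar' using hTb
  let φ : T →* Multiplicative (ZMod 3) :=
    MonoidHom.mk' (fun x => Multiplicative.ofAdd (par x).b) fun x y => by
      rw [← ofAdd_add, ← bHom_mul]
      congr 2
      refine hρinj ?_
      rw [← hpar' (x * y), ← hρ, ← hpar' x, ← hpar' y, Subgroup.coe_mul]
  have hφ : ∀ (x : T) p, (x : C) = ρ p → φ x = Multiplicative.ofAdd p.b := fun x p h => by
    show Multiplicative.ofAdd (par x).b = _
    rw [hρinj ((hpar' x).symm.trans h)]
  haveI : T.FiniteIndex := inferInstance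
  -- the index is prime to three
  have hTp : IsPGroup 3 T := by
    intro x
    refine ⟨2, Subtype.ext ?_⟩
    rw [SubmonoidClass.coe_pow, hpar' x, show (3 : ℕ) ^ 2 = 3 * 3 from rfl, pow_mul]
    simp only [pow_succ, pow_zero, one_mul, hρ]
    rw [show pmul 0 (pmul 0 (pmul 0 (pmul 0 (par x) (par x)) (par x))
      (pmul 0 (pmul 0 (par x) (par x)) (par x))) (pmul 0 (pmul 0 (par x) (par x)) (par x)) = pone
      from pow_nineY _ (hpar x), hρ1, OneMemClass.coe_one]
  have hTn : ∀ g : C, g ∈ normalizer (T : Set C) → (∃ n : ℕ, g ^ 3 ^ n = 1) → g ∈ T := by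
    intro g hg ⟨n, hn⟩
    obtain ⟨r, hr, hgr⟩ := (mem_normalizer_iff.1 hg (ρ (mP 0 1 0 0))).1 ⟨_, rfl, rfl⟩
    have hgR : (g : G) ∈ B.ψ.range := by
      refine mem_range_of_conj_Em F (cw_mem_Em 0 0 1) (mP_ne_one 0 0 1 (Or.inr one_ne_zero)) ?_
      exact ⟨_, cw_mem_Sm 0 hr, (congrArg Subtype.val hgr).symm⟩
    obtain ⟨p, hp⟩ := exists_cw_of_mem hgR (hCw _ g.2)
    have hgp : g = ρ p := Subtype.ext hp
    refine ⟨p, ?_, hgp⟩
    have hpow : ∀ k : ℕ, ∃ q, ρ p ^ k = ρ q ∧ q.s = if Even k then false else p.s := by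
      intro k
      induction k with
      | zero => exact ⟨pone, by rw [pow_zero, hρ1], by simp [pone]⟩
      | succ k ih =>
        obtain ⟨q, hq, hs⟩ := ih
        refine ⟨pmul 0 q p, by rw [pow_succ, hq, hρ], ?_⟩
        simp only [pmul, hs, Nat.even_add_one]
        by_cases hk : Even k <;> simp [hk]
    obtain ⟨q, hq, hs⟩ := hpow (3 ^ n)
    rw [hgp, hq, ← hρ1] at hn
    have hodd : ¬ Even (3 ^ n) := Nat.not_even_iff_odd.2 (Odd.pow (by decide))
    rw [if_neg hodd, hρinj hn] at hs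
    exact hs.symm
  have hidx : ¬ 3 ∣ T.index := by
    obtain ⟨P, hP⟩ := hTp.exists_le_sylow
    suffices h : (P : Subgroup C) = T by rw [← h]; exact P.not_dvd_index
    refine le_antisymm (fun x hx => ?_) hP
    haveI := P.isPGroup'.isNilpotent
    by_contra hxT
    set H : Subgroup (P : Subgroup C) := T.subgroupOf P with hH
    have hlt : H < ⊤ := lt_top_iff_ne_top.2 fun e => hxT (subgroupOf_eq_top.1 e hx)
    have hgr : H < normalizer (H : Set (P : Subgroup C)) :=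
      Group.normalizerCondition_of_isNilpotent H hlt
    obtain ⟨g, hg, hgH⟩ := SetLike.exists_of_lt hgr
    refine hgH (mem_subgroupOf.2 (hTn g ?_ ?_))
    · haveI : Finite (T : Set C) := inferInstanceAs (Finite T)
      exact mem_normalizer_fintype fun a ha =>
        mem_subgroupOf.1 ((mem_normalizer_iff.1 hg ⟨a, hP ha⟩).1 (mem_subgroupOf.2 ha))
    · obtain ⟨n, hn⟩ := P.isPGroup' g
      exact ⟨n, congrArg Subtype.val hn⟩
  let τ := MonoidHom.transfer φ
  refine ⟨τ, ?_⟩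
  have hA2 := mulZ3_sq
  -- the value on the moved element
  have hone : τ (ρ (mP 1 0 0 0)) ≠ 1 := by
    set g := ρ (mP 1 0 0 0) with hg
    letI := T.fintypeQuotientOfFiniteIndex
    letI : Fintype (Quotient (MulAction.orbitRel (zpowers g) (C ⧸ T))) := Fintype.ofFinite _
    have hg3 : g ^ 3 = 1 := Subtype.ext (by
      rw [SubmonoidClass.coe_pow, OneMemClass.coe_one]
      show B.ψ (cw 0 (mP 1 0 0 0)) ^ 3 = 1
      rw [← map_pow, psi_cw_pow_three, map_one])
    show MonoidHom.transfer φ g ≠ 1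
    rw [MonoidHom.transfer_eq_prod_quotient_orbitRel_zpowers_quot]
    have hval : ∀ (k : ℕ) (o : C) (ho : o⁻¹ * g ^ k * o ∈ T),
        φ ⟨o⁻¹ * g ^ k * o, ho⟩ = Multiplicative.ofAdd (k : ZMod 3) := by
      intro k o ho
      obtain ⟨i, hi, hik⟩ : ∃ i, i < 3 ∧ k % 3 = i := ⟨_, Nat.mod_lt _ (by norm_num), rfl⟩
      have hgk : g ^ k = g ^ i := by
        rw [← Nat.mod_add_div k 3, pow_add, pow_mul, hg3, one_pow, mul_one, hik]
      have hkc : (k : ZMod 3) = (i : ZMod 3) := by rw [← hik, ZMod.natCast_mod]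
      have step : ∀ j : ZMod 3, j ≠ 0 → ∀ r : CwP, r.s = false →
          o⁻¹ * ρ (mP j 0 0 0) * o = ρ r → r.b = j := by
        intro j hj r hr he
        have ho' : ((o⁻¹ : C) : G) ∈ B.ψ.range := by
          refine mem_range_of_conj_Em F (cw_mem_Em 0 j 0) (mP_ne_one 0 j 0 (Or.inl hj)) ?_
          refine ⟨_, cw_mem_Sm 0 hr, ?_⟩
          have := congrArg Subtype.val he
          simp only [Subgroup.coe_mul, Subgroup.coe_inv] at this ⊢
          rw [inv_inv]
          exact this.symm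
        obtain ⟨p, hp⟩ := exists_cw_of_mem ho' (hCw _ (o⁻¹).2)
        have hop : o⁻¹ = ρ p := Subtype.ext hp
        have h1 : pmul 0 p (mP j 0 0 0) = pmul 0 r p := hρinj (by
          rw [← hρ, ← hρ, ← hop, ← he]; group)
        have h2 := congrArg CwP.b h1
        rw [bHom_mul, bHom_mul] at h2
        simp only [mP] at h2
        linear_combination -h2
      obtain ⟨r, hr, hr'⟩ := (ho : o⁻¹ * g ^ k * o ∈ T)
      rw [hφ _ r hr', hkc]
      congr 1
      rw [hgk] at hr'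
      interval_cases i
      · rw [pow_zero, mul_one, inv_mul_cancel, ← hρ1] at hr'
        rw [← hρinj hr']
        simp [pone]
      · rw [pow_one] at hr'
        rw [Nat.cast_one]
        exact step 1 one_ne_zero r hr hr'
      · rw [pow_two, hg, hρ, mP_two] at hr'
        exact step 2 two_ne_zero_z3 r hr hr'
    rw [Finset.prod_congr rfl fun q _ => hval _ _ _, ← ofAdd_sum, ← Nat.cast_sum,
      ← Subgroup.index_eq_sum_minimalPeriod T g]
    intro e
    exact hidx ((ZMod.natCast_eq_zero_iff _ _).1 (Multiplicative.ofAdd.injective e))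
  -- vanishing
  have hwz : ∀ i, τ (ρ (wP 0 i)) = 1 := by
    intro i
    have e := congrArg ρ (wP_comm_rep i)
    rw [← hρ, ← hρ, ← hρ] at e
    have e' := congrArg τ e
    rw [map_mul, map_mul, map_mul, mul_comm (τ (ρ (vecY ![0, i, 0])))] at e'
    exact left_eq_mul.1 e'
  have hs : τ (ρ sY) = 1 := hA2 _ (by rw [← map_mul, hρ, sY_sq, hρ1, map_one])
  have hzero : ∀ p : CwP, p.b = 0 → τ (ρ p) = 1 := by
    have h1 : ∀ p : CwP, p.s = false → p.b = 0 → τ (ρ p) = 1 := by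
      intro p hps hpb
      obtain ⟨i, hi⟩ := sY_inverts p hps hpb
      have e := congrArg (fun x => τ (ρ x)) hi
      simp only [← hρ, map_mul, hs, hwz, one_mul, mul_one] at e
      exact hA2 _ e
    intro p hpb
    cases hps : p.s with
    | false => exact h1 p hps hpb
    | true =>
      have e : τ (ρ (pmul 0 sY p)) = 1 := h1 _ (by simp [pmul, sY, hps]) (by simp [bHom_mul, sY, hpb])
      rwa [← hρ, map_mul, hs, one_mul] at e
  intro p
  refine ⟨fun h => ?_, hzero p⟩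
  have e : τ (ρ p) = τ (ρ (mP p.b 0 0 0)) := by
    conv_lhs => rw [split_b p, ← hρ, map_mul, hzero ⟨p.s, 0, p.c - p.b * p.h, p.d, p.e, p.h⟩ rfl, mul_one]
  change τ (ρ p) = 1 at h
  rw [h] at e
  have hb : p.b = 0 ∨ p.b = 1 ∨ p.b = 2 := z3_cases p.b
  rcases hb with hb | hb | hb
  · exact hb
  · rw [hb] at e; exact absurd e.symm hone
  · rw [hb, ← mP_two, ← hρ, map_mul] at e
    exact absurd (hA2 _ e.symm) hone

/-- The centraliser of `wEl 0` lies in the range. -/
theorem cent_wEl_zero_le (F : B.OnlyFacts) :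
    centralizer ({B.ψ (wEl 0)} : Set G) ≤ B.ψ.range := by
  classical
  haveI : Fact (Nat.Prime 3) := ⟨Nat.prime_three⟩
  set C₀ := centralizer ({B.ψ (wEl 0)} : Set G) with hC₀
  obtain ⟨τ, hτ⟩ : ∃ τ : C₀ →* Multiplicative (ZMod 3),
      ∀ p : CwP, (τ ⟨B.ψ (cw 0 p), cw_mem_centralizer B 0 p⟩ = 1 ↔ p.b = 0) := exists_index_three F
  set C := τ.ker.map C₀.subtype with hC
  have hCC₀ : C ≤ C₀ := map_subtype_le _
  have hCw : ∀ g ∈ C, g * B.ψ (wEl 0) = B.ψ (wEl 0) * g := fun g hg =>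
    mem_centralizer_singleton_iff.1 (hCC₀ hg)
  have hmemC : ∀ p : CwP, B.ψ (cw 0 p) ∈ C ↔ p.b = 0 := by
    intro p
    rw [← hτ p]
    constructor
    · rintro ⟨x, hx, hxe⟩
      have : x = ⟨B.ψ (cw 0 p), cw_mem_centralizer B 0 p⟩ := Subtype.ext hxe
      exact this ▸ hx
    · intro h
      exact ⟨_, h, rfl⟩
  let ρ : CwP → C := fun p => ⟨B.ψ (cw 0 (noB p)), (hmemC _).2 rfl⟩
  have hnoB : ∀ p : CwP, p.b = 0 → noB p = p := fun p hp => by cases p; simp_all [noB]
  have hρc : ∀ p : CwP, p.b = 0 → (ρ p : G) = B.ψ (cw 0 p) := fun p hp => by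
    show B.ψ (cw 0 (noB p)) = _
    rw [hnoB p hp]
  have hρ : ∀ p q, p.b = 0 → q.b = 0 → ρ p * ρ q = ρ (pmul 0 p q) := fun p q hp hq =>
    Subtype.ext (by
      rw [Subgroup.coe_mul, hρc p hp, hρc q hq, hρc _ (by rw [bHom_mul, hp, hq, add_zero]),
        ← map_mul, cw_mul])
  have hρinj : ∀ p q : CwP, p.b = 0 → q.b = 0 → ρ p = ρ q → p = q := fun p q hp hq e =>
    cw_inj 0 (B.inj (by rw [← hρc p hp, ← hρc q hq, e]))
  have hρ1 : ρ pone = 1 := Subtype.ext (by rw [hρc _ rfl, cw_one, map_one, OneMemClass.coe_one])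
  have hwPb : ∀ i, (wP 0 i).b = 0 := fun i => by simp [wP]
  have hexists : ∀ g : C, (g : G) ∈ B.ψ.range → ∃ p : CwP, p.b = 0 ∧ g = ρ p := by
    intro g hg
    obtain ⟨p, hp⟩ := exists_cw_of_mem hg (hCw _ g.2)
    have hb : p.b = 0 := (hmemC p).1 (hp ▸ g.2)
    exact ⟨p, hb, Subtype.ext (by rw [hρc p hb, hp])⟩
  set w : C := ρ (wP 0 1) with hwdef
  have hw : (w : G) = B.ψ (wEl 0) := by rw [hρc _ (hwPb 1), wEl_eq_wP]
  haveI := zpowers_normal B hw hCw
  set π := QuotientGroup.mk' (zpowers w) with hπdef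
  have hπw : ∀ i, π (ρ (wP 0 i)) = 1 := fun i =>
    (QuotientGroup.eq_one_iff _).2 ((mem_zpowers_wEl B hw).2 ⟨i, hρc _ (hwPb i)⟩)
  have hker : ∀ x, π x = 1 → ∃ i, x = ρ (wP 0 i) := fun x hx => by
    obtain ⟨i, hi⟩ := (mem_zpowers_wEl B hw).1 ((QuotientGroup.eq_one_iff x).1 hx)
    exact ⟨i, Subtype.ext (hi.trans (hρc _ (hwPb i)).symm)⟩
  have hrep : ∀ x y, π x = π y → ∃ i, x = y * ρ (wP 0 i) := fun x y h => by
    obtain ⟨i, hi⟩ := hker (y⁻¹ * x) (by rw [map_mul, map_inv, h, inv_mul_cancel])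
    exact ⟨i, by rw [← hi, mul_inv_cancel_left]⟩
  have hvb : ∀ v : V3, (vecY v).b = 0 := fun v => rfl
  let φ₀ : Multiplicative V3 →* C ⧸ zpowers w :=
    MonoidHom.mk' (fun v => π (ρ (vecY v.toAdd))) fun u v => by
      rw [← map_mul π, hρ _ _ (hvb _) (hvb _), vecY_mul, ← hρ _ _ (hvb _) (hwPb _), map_mul π, hπw,
        mul_one, toAdd_mul]
  have hφinj : Function.Injective φ₀ := by
    rw [injective_iff_map_eq_one]
    intro v hv
    obtain ⟨i, hi⟩ := hker _ hv
    exact Multiplicative.toAdd.injective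
      (by rw [toAdd_one]; exact vecY_ne _ ⟨i, hρinj _ _ (hvb _) (hwPb i) hi⟩)
  set J := φ₀.range with hJdef
  have hJmem : ∀ p : CwP, p.b = 0 → p.s = false → π (ρ p) ∈ J := by
    intro p hb hs
    refine ⟨Multiplicative.ofAdd ![p.c, p.d, p.h], ?_⟩
    show π (ρ (vecY ![p.c, p.d, p.h])) = π (ρ p)
    conv_rhs => rw [← vecY_mem p hs hb, ← hρ _ _ (hvb _) (hwPb _), map_mul, hπw, mul_one]
  have hactp : ∀ p : CwP, p.b = 0 → ∀ v, π (ρ p) * π (ρ (vecY v)) * (π (ρ p))⁻¹ =
      π (ρ (vecY (negMap (negIdx p) v))) := by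
    intro p hb v
    obtain ⟨i, hi⟩ := conj_vecY p hb v
    rw [mul_inv_eq_iff_eq_mul, ← map_mul, hρ _ _ hb (hvb _), hi,
      ← hρ _ _ (by rw [bHom_mul, hvb, hwPb, add_zero]) hb, map_mul, ← hρ _ _ (hvb _) (hwPb i),
      map_mul, hπw, mul_one]
  haveI : Finite (J : Set (C ⧸ zpowers w)) := inferInstanceAs (Finite J)
  have hJN : ∀ p : CwP, p.b = 0 → π (ρ p) ∈ normalizer (J : Set (C ⧸ zpowers w)) := by
    intro p hb
    refine mem_normalizer_fintype fun n hn => ?_
    obtain ⟨v, rfl⟩ := hn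
    exact ⟨Multiplicative.ofAdd (negMap (negIdx p) v.toAdd), (hactp p hb v.toAdd).symm⟩
  have hNmem : ∀ n ∈ normalizer (J : Set (C ⧸ zpowers w)), ∃ p : CwP, p.b = 0 ∧ n = π (ρ p) := by
    intro n hn
    obtain ⟨g, rfl⟩ := QuotientGroup.mk'_surjective _ n
    obtain ⟨v, hv⟩ := (mem_normalizer_iff.1 hn _).1
      (hJmem (mP 0 1 0 0) rfl rfl)
    change π (ρ (vecY v.toAdd)) = π g * π (ρ (mP 0 1 0 0)) * (π g)⁻¹ at hv
    rw [← map_inv, ← map_mul, ← map_mul] at hv
    obtain ⟨i, hi⟩ := hrep _ _ hv.symm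
    rw [hρ _ _ (hvb _) (hwPb i)] at hi
    have h1 := congrArg Subtype.val hi
    simp only [Subgroup.coe_mul, Subgroup.coe_inv, hρc _ (rfl : (mP 0 1 0 0).b = 0)] at h1
    rw [hρc _ (vecY_wP v.toAdd i).2] at h1
    have hg : (g : G) ∈ B.ψ.range := mem_range_of_conj_Em F (cw_mem_Em 0 0 1)
      (mP_ne_one 0 0 1 (Or.inr one_ne_zero)) ⟨_, cw_mem_Sm 0 (vecY_wP v.toAdd i).1, h1.symm⟩
    obtain ⟨p, hb, rfl⟩ := hexists g hg
    exact ⟨p, hb, rfl⟩
  have hJp : IsPGroup 3 J := by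
    rintro ⟨_, v, rfl⟩
    refine ⟨1, Subtype.ext ?_⟩
    show φ₀ v ^ 3 ^ 1 = 1
    rw [pow_one, ← map_pow]
    convert map_one φ₀
    refine Multiplicative.toAdd.injective ?_
    rw [toAdd_pow, toAdd_one, ← Nat.cast_smul_eq_nsmul (ZMod 3),
      show ((3 : ℕ) : ZMod 3) = 0 from rfl, zero_smul]
  have hJcomm : ∀ x ∈ J, ∀ y ∈ J, x * y = y * x := by
    rintro _ ⟨u, rfl⟩ _ ⟨v, rfl⟩
    rw [← map_mul, ← map_mul, mul_comm]
  -- centralisers
  have hcent : ∀ x : V3, x ≠ 0 →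
      centralizer ({π (ρ (vecY x))} : Set (C ⧸ zpowers w)) ≤ J := by
    intro x hx
    have hin : ∀ p : CwP, p.b = 0 →
        π (ρ p) ∈ centralizer ({π (ρ (vecY x))} : Set (C ⧸ zpowers w)) → π (ρ p) ∈ J := by
      intro p hb hp
      have h1 := mem_centralizer_singleton_iff.1 hp
      rw [← map_mul, ← map_mul] at h1
      obtain ⟨i, hi⟩ := hrep _ _ h1
      rw [hρ _ _ hb (hvb x), hρ _ _ (hvb x) hb] at hi
      have hb' : (pmul 0 (vecY x) p).b = 0 := by rw [bHom_mul, hvb, hb, add_zero]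
      rw [hρ _ _ hb' (hwPb i)] at hi
      have h2 := hρinj _ _ (by rw [bHom_mul, hb, hvb, add_zero])
        (by rw [bHom_mul, hb', hwPb, add_zero]) hi
      refine hJmem p hb (centY x hx p hb i ?_)
      rw [h2]
      refine cw_inj 0 ?_
      rw [← cw_mul, ← cw_mul, ← cw_mul, ← cw_mul, mul_assoc, mul_assoc]
      congr 1
      have := cw_comm_wEl 0 p
      rw [wEl_eq_wP] at this
      rcases z3_cases i with rfl | rfl | rfl
      · rw [wP_zero, cw_one, one_mul, mul_one]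
      · exact this
      · rw [wP_two, ← cw_mul, ← mul_assoc, this,
          mul_assoc, this, ← mul_assoc]
    let plane : Multiplicative V3 →* Multiplicative V3 :=
      MonoidHom.mk' (fun v => Multiplicative.ofAdd ![v.toAdd 0, v.toAdd 1, 0]) fun u v => by
        apply Multiplicative.toAdd.injective
        funext k
        fin_cases k <;> simp
    refine le_of_self_normalizing J _ (φ₀.comp plane).range ?_ hJp hJcomm ?_ ?_ ?_ ?_
    · intro y hy
      rw [mem_centralizer_singleton_iff]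
      exact hJcomm y hy _ ⟨Multiplicative.ofAdd x, rfl⟩
    · intro n hn hnJ
      obtain ⟨p, hb, rfl⟩ := hNmem n (mem_normalizer_fintype fun a ha => hnJ a ha)
      exact hin p hb hn
    · rintro _ ⟨v, rfl⟩
      exact ⟨plane v, rfl⟩
    · intro hcy
      obtain ⟨⟨_, u, rfl⟩, hgen⟩ := hcy.exists_generator
      obtain ⟨i, hi⟩ := mem_zpowers_iff.1
        (hgen ⟨_, Multiplicative.ofAdd ![1, 0, 0], rfl⟩)
      obtain ⟨j, hj⟩ := mem_zpowers_iff.1
        (hgen ⟨_, Multiplicative.ofAdd ![0, 1, 0], rfl⟩)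
      have hi' : φ₀ (plane u ^ i) = φ₀ (plane (Multiplicative.ofAdd ![1, 0, 0])) := by
        rw [map_zpow]; exact congrArg Subtype.val hi
      have hj' : φ₀ (plane u ^ j) = φ₀ (plane (Multiplicative.ofAdd ![0, 1, 0])) := by
        rw [map_zpow]; exact congrArg Subtype.val hj
      have a0 := congrFun (congrArg Multiplicative.toAdd (hφinj hi')) 0
      have a1 := congrFun (congrArg Multiplicative.toAdd (hφinj hi')) 1
      have b1 := congrFun (congrArg Multiplicative.toAdd (hφinj hj')) 1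
      simp [plane, toAdd_zpow] at a0 a1 b1
      rcases a1 with a1 | a1
      · rw [a1] at a0; simp at a0
      · rw [a1] at b1; simp at b1
    · rintro _ ⟨v, rfl⟩ hv1 n hn hnv
      obtain ⟨g, rfl⟩ := QuotientGroup.mk'_surjective _ n
      have hv' : ![v.toAdd 0, v.toAdd 1, 0] ≠ (0 : V3) := fun e => hv1 (by
        show φ₀ (Multiplicative.ofAdd ![v.toAdd 0, v.toAdd 1, 0]) = 1
        rw [e, ofAdd_zero, map_one])
      change π g * π (ρ (vecY ![v.toAdd 0, v.toAdd 1, 0])) =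
        π (ρ (vecY ![v.toAdd 0, v.toAdd 1, 0])) * π g at hnv
      set u : V3 := ![v.toAdd 0, v.toAdd 1, 0] with hu
      obtain ⟨i, hi⟩ := hrep (g * ρ (vecY u) * g⁻¹) (ρ (vecY u)) (by
        rw [map_mul, map_mul, hnv, map_inv, mul_inv_cancel_right])
      rw [hρ _ _ (hvb u) (hwPb i)] at hi
      have h1 := congrArg Subtype.val hi
      rw [Subgroup.coe_mul, Subgroup.coe_mul, Subgroup.coe_inv, hρc _ (hvb u),
        hρc _ (vecY_wP u i).2] at h1
      have hg : (g : G) ∈ B.ψ.range := mem_range_of_conj_M F (δ := 0) (b := 0) (c := u 0)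
        (d := u 1) (e := 0) (fun k hk => hv' (vecY_ne u ⟨k, by
          rw [← hk]; simp [vecY, mP, hu]⟩)) (hCw _ g.2) (vecY_wP u i).1 (by
          rw [show mP 0 (u 0) (u 1) 0 = vecY u by simp [vecY, mP, hu]]
          exact h1)
      obtain ⟨p, hb, rfl⟩ := hexists g hg
      exact hin p hb hn
  have hTI : TIThree J := by
    refine ⟨?_, hJcomm, ?_⟩
    · rintro _ ⟨v, rfl⟩
      rw [← map_pow]
      convert map_one φ₀
      refine Multiplicative.toAdd.injective ?_
      rw [toAdd_pow, toAdd_one, ← Nat.cast_smul_eq_nsmul (ZMod 3),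
        show ((3 : ℕ) : ZMod 3) = 0 from rfl, zero_smul]
    · rintro _ ⟨v, rfl⟩ hx n hn
      obtain ⟨q, hb, hq⟩ := hNmem _ hn
      -- the image lies in `J`
      have hy3 : (n * φ₀ v * n⁻¹) ^ 3 = 1 := by
        have h3 : φ₀ v ^ 3 = 1 := by
          rw [← map_pow]
          convert map_one φ₀
          refine Multiplicative.toAdd.injective ?_
          rw [toAdd_pow, toAdd_one, ← Nat.cast_smul_eq_nsmul (ZMod 3),
            show ((3 : ℕ) : ZMod 3) = 0 from rfl, zero_smul]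
        rw [conj_pow, h3, mul_one, mul_inv_cancel]
      rw [hq, ← map_pow] at hy3
      have hb2 : (pmul 0 q q).b = 0 := by rw [bHom_mul, hb, add_zero]
      have hb3 : (pmul 0 (pmul 0 q q) q).b = 0 := by rw [bHom_mul, hb2, hb, add_zero]
      rw [pow_succ, pow_two, hρ _ _ hb hb, hρ _ _ hb2 hb] at hy3
      obtain ⟨i, hi⟩ := hker _ hy3
      have hs : q.s = false := sgn_wP q i (hρinj _ _ hb3 (hwPb i) hi)
      obtain ⟨u, hu⟩ := hJmem q hb hs
      have hyu : n * φ₀ v * n⁻¹ = φ₀ u := hq.trans hu.symm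
      have hu0 : u.toAdd ≠ 0 := fun e => hx (by
        rw [show u = 1 from Multiplicative.toAdd.injective (e.trans toAdd_one.symm), map_one] at hyu
        exact conj_eq_one_iff.1 hyu)
      refine mem_normalizer_fintype fun a ha => hcent u.toAdd hu0 ?_
      rw [mem_centralizer_singleton_iff]
      show n * a * n⁻¹ * φ₀ u = φ₀ u * (n * a * n⁻¹)
      rw [← hyu, show n * a * n⁻¹ * (n * φ₀ v * n⁻¹) = n * (a * φ₀ v) * n⁻¹ by group,
        hJcomm a ha _ ⟨v, rfl⟩]
      group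
  let D : ExcCoord J 2 :=
    { φ := MonoidHom.ofInjective hφinj
      W := negMap
      injW := fun s t e => negMap_inj s t fun v => congrFun e v
      act := fun n hn => by
        obtain ⟨p, hb, rfl⟩ := hNmem n hn
        exact ⟨negIdx p, fun v => hactp p hb v⟩
      sur := fun s => by
        obtain ⟨p, hb, rfl⟩ := negIdx_surj s
        exact ⟨_, hJN p hb, fun v => hactp p hb v⟩
      faithful := fun n hn hfix => hcent ![1, 0, 0] e100_ne (by
        rw [mem_centralizer_singleton_iff]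
        exact mul_inv_eq_iff_eq_mul.1 (hfix _ ⟨Multiplicative.ofAdd ![1, 0, 0], rfl⟩)) }
  haveI := Fintype.ofFinite (C ⧸ zpowers w)
  obtain ⟨h1, h2, h3⟩ := tableY
  have htop := hTI.eq_top_of_table D (0 : Fin 13) formY coefY₁ coefY₂ coefY₃
    (by decide +kernel) (by decide +kernel) (by decide +kernel) h1 h2 h3 testY_nd
    (fun v hv _ => hJp.to_le (hcent v hv)) testY_R (by decide +kernel) (by norm_num)
  have hCle : C ≤ B.ψ.range := by
    intro g hg
    obtain ⟨p, hb, hp⟩ := hNmem (π ⟨g, hg⟩) (by rw [htop]; exact mem_top _)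
    obtain ⟨i, hi⟩ := hrep _ _ hp
    rw [hρ _ _ hb (hwPb i)] at hi
    rw [show g = _ from congrArg Subtype.val hi, hρc _ (by rw [bHom_mul, hb, hwPb, add_zero])]
    exact B.psi_mem_range _
  intro g hg
  set gC : C₀ := ⟨g, hg⟩
  obtain ⟨b, hb⟩ : ∃ b : ZMod 3,
      τ ⟨B.ψ (cw 0 (mP b 0 0 0)), cw_mem_centralizer B 0 _⟩ = τ gC := by
    let f : ZMod 3 → Multiplicative (ZMod 3) := fun b =>
      τ ⟨B.ψ (cw 0 (mP b 0 0 0)), cw_mem_centralizer B 0 _⟩
    have hf : Function.Injective f := by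
      intro b b' e
      have hm : (⟨B.ψ (cw 0 (mP b 0 0 0)), cw_mem_centralizer B 0 _⟩ : C₀) =
          ⟨B.ψ (cw 0 (mP b' 0 0 0)), cw_mem_centralizer B 0 _⟩ *
            ⟨B.ψ (cw 0 (mP (b - b') 0 0 0)), cw_mem_centralizer B 0 _⟩ := Subtype.ext (by
        show B.ψ (cw 0 (mP b 0 0 0)) = B.ψ (cw 0 (mP b' 0 0 0)) * B.ψ (cw 0 (mP (b - b') 0 0 0))
        rw [← map_mul, cw_mul]
        congr 2
        exact mP_sub b b')
      change τ _ = τ _ at e
      rw [hm, map_mul, mul_eq_left] at e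
      exact sub_eq_zero.1 ((hτ _).1 e)
    exact (Finite.injective_iff_surjective_of_equiv Multiplicative.ofAdd).1 hf (τ gC)
  have hmem : (B.ψ (cw 0 (mP b 0 0 0)))⁻¹ * g ∈ C := by
    refine ⟨(⟨B.ψ (cw 0 (mP b 0 0 0)), cw_mem_centralizer B 0 _⟩ : C₀)⁻¹ * gC, ?_, rfl⟩
    show τ _ = 1
    rw [map_mul, map_inv, hb, inv_mul_cancel]
  have := B.ψ.range.mul_mem (B.psi_mem_range (cw 0 (mP b 0 0 0))) (hCle hmem)
  rwa [mul_inv_cancel_left] at this

end CfsgLib.Recog.LFourThree
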