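import Cfsg.Agent.Lib.TISylow.Setting
import Cfsg.Agent.Lib.Char.TI
import Cfsg.Agent.Lib.Char.Misc
import Cfsg.Agent.Lib.Char.Linear

/-!
# A kernel from a family of norm three

A class function of a subgroup `H`, vanishing at the identity, of norm three and mean one, whose
support is controlled by `H`, gives a proper normal subgroup containing any element whose class
avoids the support and has no two members with product in the support.
-/

set_option autoImplicit false

namespace CfsgLib.Recog.LFourThree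

open Subgroup CfsgLib.TISylow
open scoped ComplexConjugate

variable {X : Type*} [Group X] [Fintype X]

theorem exists_kernel_of_norm_three (H : Subgroup X) (f : H → ℂ)
    (hgen : Cfsg.IsGeneralizedCharacter H f) [Fintype H] (hnorm : Cfsg.classInner f f = 3)
    (hone : Cfsg.classInner f (fun _ => (1 : ℂ)) = 1) (hf1 : f 1 = 0)
    (hti : ∀ h : H, f h ≠ 0 → ∀ g : X, g * (h : X) * g⁻¹ ∈ H → g ∈ H) (σ : X)
    (hσ0 : ∀ h : H, (∃ g : X, g * σ * g⁻¹ = h) → f h = 0)
    (hpair : ∀ h : H, f h ≠ 0 → ∀ g k : X, g * σ * g⁻¹ * (k * σ * k⁻¹) ≠ h) :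
    ∃ K : Subgroup X, K.Normal ∧ σ ∈ K ∧ K ≠ ⊤ := by
  classical
  haveI := Fintype.ofFinite (Cfsg.IrrCharacter X)
  have hcl := CfsgLib.Char.isGeneralized_isClassFunction hgen
  set U := Cfsg.indFun H f with hU
  have hUgen : Cfsg.IsGeneralizedCharacter X U := CfsgLib.Char.isGeneralized_indFun _ hgen
  have hUcl := CfsgLib.Char.isGeneralized_isClassFunction hUgen
  have hU1 : U 1 = 0 := by rw [hU, CfsgLib.Char.indFun_apply_one, hf1, mul_zero]
  have hUσ : U σ = 0 := by
    refine mul_eq_zero_of_right _ (Finset.sum_eq_zero fun x _ => ?_)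
    by_cases hx : x⁻¹ * σ * x ∈ H
    · rw [CfsgLib.Char.extendByZero_of_mem _ hx]
      exact hσ0 _ ⟨x⁻¹, by rw [inv_inv]⟩
    · exact CfsgLib.Char.extendByZero_of_not_mem _ hx
  have hH0 : (Nat.card H : ℂ) ≠ 0 := by exact_mod_cast Nat.card_pos.ne'
  have hUval : ∀ h : H, f h ≠ 0 → U h = f h := by
    intro h hh
    have hterm : ∀ x : X, Cfsg.extendByZero H f (x⁻¹ * (h : X) * x) = if x ∈ H then f h else 0 := by
      intro x
      split_ifs with hx
      · rw [show x⁻¹ * (h : X) * x = ((⟨x, hx⟩⁻¹ * h * ⟨x, hx⟩ : H) : X) from rfl,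
          CfsgLib.Char.extendByZero_coe]
        have h1 := hcl h (⟨x, hx⟩ : H)⁻¹
        rw [inv_inv] at h1
        exact h1
      · refine CfsgLib.Char.extendByZero_of_not_mem _ fun hm => hx ?_
        simpa using H.inv_mem (hti h hh x⁻¹ (by rwa [inv_inv]))
    rw [hU, CfsgLib.Char.indFun_def, Finset.sum_congr rfl fun x _ => hterm x, ← Finset.sum_filter,
      Finset.sum_const, nsmul_eq_mul, ← Fintype.card_subtype, ← Nat.card_eq_fintype_card,
      inv_mul_cancel_left₀ hH0]
  have hUU : Cfsg.classInner U U = 3 := by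
    rw [hU, CfsgLib.Char.frobenius_reciprocity H f _ (CfsgLib.Char.indFun_isClassFunction _ _),
      ← hnorm, CfsgLib.Char.classInner_def, CfsgLib.Char.classInner_def]
    congr 1
    refine Finset.sum_congr rfl fun h _ => ?_
    by_cases hh : f h = 0
    · rw [hh, zero_mul, zero_mul]
    · rw [← hU, hUval h hh]
  let one : Cfsg.IrrCharacter X := ⟨fun _ => 1, CfsgLib.Char.isIrrCharacter_one⟩
  choose k hk using fun χ : Cfsg.IrrCharacter X => CfsgLib.Char.classInner_isGeneralized_int hUgen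
    (CfsgLib.Char.isGeneralized_of_isCharacter (CfsgLib.Char.irr_isCharacter χ.2))
  have hkone : k one = 1 := by
    have h1 := hk one
    rw [hU, CfsgLib.Char.frobenius_reciprocity H f _ (fun g x => rfl), hone] at h1
    exact_mod_cast h1.symm
  have hsq : ∑ χ, k χ * k χ = 3 := by
    have h1 := CfsgLib.Char.classInner_eq_sum_mul hUcl U
    simp only [hk, map_intCast, hUU] at h1
    exact_mod_cast h1.symm
  set s := (Finset.univ : Finset (Cfsg.IrrCharacter X)).filter fun χ => k χ ≠ 0 with hs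
  have hall : ∀ χ ∈ s, k χ * k χ = 1 := by
    intro χ hχ
    have h0 : k χ ≠ 0 := (Finset.mem_filter.1 hχ).2
    have h1 : k χ * k χ ≤ 3 := hsq ▸ Finset.single_le_sum (fun η _ => mul_self_nonneg (k η))
      (Finset.mem_univ χ)
    have h2 : -1 ≤ k χ ∧ k χ ≤ 1 := ⟨by nlinarith, by nlinarith⟩
    obtain e | e : k χ = 1 ∨ k χ = -1 := by omega
    all_goals rw [e]; norm_num
  have hcard : (s.card : ℤ) = 3 := by
    rw [← hsq, ← Finset.sum_filter_of_ne (s := Finset.univ) (p := fun χ => k χ ≠ 0)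
      (f := fun χ => k χ * k χ) (fun χ _ h h0 => h (by rw [h0, zero_mul])), Finset.sum_congr rfl hall]
    simp [hs]
  have hs1 : one ∈ s := Finset.mem_filter.2 ⟨Finset.mem_univ _, by rw [hkone]; norm_num⟩
  have hcard2 : (s.erase one).card = 2 := by
    rw [Finset.card_erase_of_mem hs1]; omega
  obtain ⟨χ, η, hne, hse⟩ := Finset.card_eq_two.1 hcard2
  have hχs : χ ∈ s.erase one := by rw [hse]; simp
  have hηs : η ∈ s.erase one := by rw [hse]; simp
  have hexp : ∀ F : Cfsg.IrrCharacter X → ℂ, ∑ ξ, (k ξ : ℂ) * F ξ =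
      F one + ((k χ : ℂ) * F χ + (k η : ℂ) * F η) := by
    intro F
    rw [← Finset.sum_filter_of_ne (s := Finset.univ) (p := fun ξ => k ξ ≠ 0)
      (f := fun ξ => (k ξ : ℂ) * F ξ) (fun ξ _ h h0 => h (by rw [h0, Int.cast_zero, zero_mul])),
      ← hs, ← Finset.add_sum_erase _ _ hs1, hse, Finset.sum_pair hne, hkone, Int.cast_one, one_mul]
  have hUexp : ∀ g, U g = ∑ ξ, (k ξ : ℂ) * (ξ : X → ℂ) g := fun g => by
    rw [CfsgLib.Char.classFunction_apply_eq_sum hUcl g]
    simp only [hk]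
  -- the product equation
  have hprod : ∑ ξ, (k ξ : ℂ) * ((ξ : X → ℂ) σ * (ξ : X → ℂ) σ / (ξ : X → ℂ) 1) = 0 := by
    have hX0 : (Nat.card X : ℂ) ≠ 0 := by exact_mod_cast Nat.card_pos.ne'
    have hz : ∀ h : H, conj (f h) *
        ∑ ξ : Cfsg.IrrCharacter X, conj ((ξ : X → ℂ) σ * (ξ : X → ℂ) σ / (ξ : X → ℂ) 1) *
          (ξ : X → ℂ) (h : X) = 0 := by
      intro h
      by_cases hh : f h = 0
      · rw [hh, map_zero, zero_mul]
      have h1 := pairCount_eq_sum σ σ (h : X)
      have h2 : pairCount X σ σ (h : X) = 0 := by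
        haveI : IsEmpty {p : X × X // p.1 * σ * p.1⁻¹ * (p.2 * σ * p.2⁻¹) = (h : X)} :=
          ⟨fun p => hpair h hh p.1.1 p.1.2 p.2⟩
        exact Nat.card_of_isEmpty
      rw [h2, Nat.cast_zero] at h1
      rw [(mul_eq_zero.1 h1.symm).resolve_left hX0, mul_zero]
    have hsum : ∀ ξ : Cfsg.IrrCharacter X,
        ∑ h : H, conj (f h) * (ξ : X → ℂ) (h : X) = (Nat.card H : ℂ) * k ξ := by
      intro ξ
      have h1 := hk ξ
      rw [hU, CfsgLib.Char.frobenius_reciprocity H f _ (CfsgLib.Char.irr_isClassFunction ξ.2),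
        CfsgLib.Char.classInner_def] at h1
      rw [inv_mul_eq_iff_eq_mul₀ hH0] at h1
      have h2 := congrArg (starRingEnd ℂ) h1
      simpa only [map_sum, map_mul, map_intCast, map_natCast, Complex.conj_conj] using h2
    have h3 := Finset.sum_eq_zero (fun h (_ : h ∈ (Finset.univ : Finset H)) => hz h)
    simp only [Finset.mul_sum] at h3
    rw [Finset.sum_comm] at h3
    have h4 : ∑ ξ : Cfsg.IrrCharacter X,
        conj ((ξ : X → ℂ) σ * (ξ : X → ℂ) σ / (ξ : X → ℂ) 1) * ((Nat.card H : ℂ) * k ξ) = 0 := by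
      refine Eq.trans (Finset.sum_congr rfl fun ξ _ => ?_) h3
      rw [← hsum ξ, Finset.mul_sum]
      exact Finset.sum_congr rfl fun h _ => by ring
    have h5 := congrArg (starRingEnd ℂ) h4
    simp only [map_sum, map_mul, Complex.conj_conj, map_zero, map_natCast, map_intCast] at h5
    refine mul_left_cancel₀ hH0 ?_
    rw [mul_zero, Finset.mul_sum]
    refine Eq.trans (Finset.sum_congr rfl fun ξ _ => ?_) h5
    ring
  obtain ⟨a, -, ha⟩ := CfsgLib.Char.irr_apply_one_pos χ.2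
  have hχ1 := CfsgLib.Char.irr_apply_one_ne_zero χ.2
  have hη1 := CfsgLib.Char.irr_apply_one_ne_zero η.2
  rw [hexp] at hprod
  have e1 := hUexp σ
  rw [hUσ, hexp] at e1
  have e2 := hUexp 1
  rw [hU1, hexp] at e2
  have kχ : (k χ : ℂ) * k χ = 1 := by exact_mod_cast hall χ (Finset.mem_of_mem_erase hχs)
  have kη : (k η : ℂ) * k η = 1 := by exact_mod_cast hall η (Finset.mem_of_mem_erase hηs)
  simp only [one] at hprod e1 e2
  have hA : (χ : X → ℂ) σ = (χ : X → ℂ) 1 := by
    set A := (χ : X → ℂ) σ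
    set B := (η : X → ℂ) σ
    set a' := (χ : X → ℂ) 1
    set b' := (η : X → ℂ) 1
    have e3 : a' * b' + (k χ : ℂ) * A ^ 2 * b' + (k η : ℂ) * B ^ 2 * a' = 0 := by
      have := congrArg (fun z => z * (a' * b')) hprod
      field_simp at this
      linear_combination this
    have hB : B = -(k η : ℂ) * (1 + (k χ : ℂ) * A) := by
      linear_combination (-(k η : ℂ)) * e1 + (-B) * kη
    have hb : b' = -(k η : ℂ) * (1 + (k χ : ℂ) * a') := by
      linear_combination (-(k η : ℂ)) * e2 + (-b') * kη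
    have hsqz : ((k χ : ℂ) * A - (k χ : ℂ) * a') ^ 2 = 0 := by
      rw [hB, hb] at e3
      linear_combination (-(k χ : ℂ) * (k η : ℂ)) * e3 +
        ((1 + (k χ : ℂ) * A) ^ 2 * a' * (k χ : ℂ) * ((k η : ℂ) * (k η : ℂ) + 1) -
          a' * (1 + (k χ : ℂ) * a') * (k χ : ℂ) - (k χ : ℂ) ^ 2 * A ^ 2 * (1 + (k χ : ℂ) * a')) * kη +
        (A ^ 2 * (1 + (k χ : ℂ) * a') * 0) * kχ
    have := sub_eq_zero.1 (pow_eq_zero_iff (n := 2) (by norm_num) |>.1 hsqz)
    exact mul_left_cancel₀ (fun e => by rw [e, zero_mul] at kχ; exact zero_ne_one kχ) this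
  obtain ⟨⟨n, ρ, hρ, hρe⟩⟩ : Nonempty (Σ' (n : ℕ) (ρ : Representation ℂ X (Fin n → ℂ)),
      Σ' _ : ρ.IsIrreducible, (χ : X → ℂ) = ρ.character) := by
    obtain ⟨n, ρ, hρ, he⟩ := χ.2
    exact ⟨⟨n, ρ, hρ, by exact he.symm⟩⟩
  refine ⟨MonoidHom.ker ρ, inferInstance, ?_, fun htop => ?_⟩
  · rw [CfsgLib.Char.mem_ker_iff_char, ← hρe]; exact hA
  · have hconst : (χ : X → ℂ) = (χ : X → ℂ) 1 • (one : X → ℂ) := funext fun g => by
      have hg : g ∈ MonoidHom.ker ρ := htop ▸ mem_top g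
      rw [CfsgLib.Char.mem_ker_iff_char, ← hρe] at hg
      simp [one, hg]
    have h1 : Cfsg.classInner (χ : X → ℂ) (one : X → ℂ) = 0 := by
      rw [CfsgLib.Char.irr_classInner χ.2 one.2, if_neg]
      exact fun e => Finset.ne_of_mem_erase hχs (Subtype.ext e)
    rw [hconst, CfsgLib.Char.classInner_smul_left, CfsgLib.Char.irr_classInner one.2 one.2,
      if_pos rfl, mul_one] at h1
    exact hχ1 h1

end CfsgLib.Recog.LFourThree
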