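import Cfsg.Agent.Lib.Recog.LFourThree.OneModel

/-!
Parameters for the centraliser in `Pm` of the involution `tP`.
-/

set_option autoImplicit false

namespace CfsgLib.Recog.LFourThree

open Matrix

/-- Parameters of an element: a translation and a `2 × 2` block. -/
structure TP where
  /-- the entry `(0,3)` -/
  c : ZMod 3
  /-- the entry `(1,1)` -/
  p : ZMod 3
  /-- the entry `(1,2)` -/
  q : ZMod 3
  /-- the entry `(2,1)` -/
  r : ZMod 3
  /-- the entry `(2,2)` -/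
  s : ZMod 3
  deriving DecidableEq

/-- The parameters as a tuple. -/
def tpEquiv : TP ≃ ZMod 3 × ZMod 3 × ZMod 3 × ZMod 3 × ZMod 3 where
  toFun x := (x.c, x.p, x.q, x.r, x.s)
  invFun x := ⟨x.1, x.2.1, x.2.2.1, x.2.2.2.1, x.2.2.2.2⟩
  left_inv _ := rfl
  right_inv _ := rfl

instance : Fintype TP := Fintype.ofEquiv _ tpEquiv.symm

/-- The determinant of the block. -/
def TP.dt (x : TP) : ZMod 3 := x.p * x.s - x.q * x.r

/-- The valid parameters. -/
abbrev TQ := {x : TP // x.dt ≠ 0}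

/-- The product of parameters. -/
def tmul0 (x y : TP) : TP where
  c := y.c + x.c * y.dt
  p := x.p * y.p + x.q * y.r
  q := x.p * y.q + x.q * y.s
  r := x.r * y.p + x.s * y.r
  s := x.r * y.q + x.s * y.s

theorem dt_tmul0 (x y : TP) : (tmul0 x y).dt = x.dt * y.dt := by
  simp only [tmul0, TP.dt]; ring

theorem z3_mul_ne : ∀ a b : ZMod 3, a ≠ 0 → b ≠ 0 → a * b ≠ 0 := by decide +kernel

/-- The product of valid parameters. -/
def tmul (x y : TQ) : TQ :=
  ⟨tmul0 x.1 y.1, by rw [dt_tmul0]; exact z3_mul_ne _ _ x.2 y.2⟩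

/-- The inverse of parameters. -/
def tinv0 (x : TP) : TP := ⟨-(x.c * x.dt), x.dt * x.s, -(x.dt * x.q), -(x.dt * x.r), x.dt * x.p⟩

theorem tinv0_dt : ∀ x : TP, x.dt ≠ 0 → (tinv0 x).dt ≠ 0 := by decide +kernel

/-- The inverse of valid parameters. -/
def tinv (x : TQ) : TQ := ⟨tinv0 x.1, tinv0_dt x.1 x.2⟩

/-- The parameters of the identity. -/
def tone : TQ := ⟨⟨0, 1, 0, 0, 1⟩, by decide +kernel⟩

/-- The matrix with given parameters. -/
def tMat (x : TP) : Matrix (Fin 4) (Fin 4) (ZMod 3) :=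
  !![1, 0, 0, x.c; 0, x.p, x.q, 0; 0, x.r, x.s, 0; 0, 0, 0, x.dt]

theorem tMat_det : ∀ x : TP, x.dt ≠ 0 → (tMat x).det = 1 := by decide +kernel

/-- The element with given parameters. -/
def tm (x : TQ) : Pm :=
  ⟨⟨tMat x.1, tMat_det x.1 x.2⟩, mem_Pm.2 fun i => by fin_cases i <;> rfl⟩

theorem tm_mul (x y : TQ) : tm x * tm y = tm (tmul x y) := by
  apply Subtype.ext
  apply Subtype.ext
  show tMat x.1 * tMat y.1 = tMat (tmul0 x.1 y.1)
  ext i j
  fin_cases i <;> fin_cases j <;>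
    simp [tMat, tmul0, Matrix.mul_apply, Fin.sum_univ_four, TP.dt] <;> ring

theorem tm_one : tm tone = 1 := by
  apply Subtype.ext
  apply Subtype.ext
  show tMat tone.1 = 1
  decide +kernel

theorem tm_inj : Function.Injective tm := fun x y e => by
  have h : tMat x.1 = tMat y.1 :=
    congrArg (fun g : Pm => ((g : SL4) : Matrix (Fin 4) (Fin 4) (ZMod 3))) e
  obtain ⟨⟨c, p, q, r, s⟩, hx⟩ := x
  obtain ⟨⟨c', p', q', r', s'⟩, hy⟩ := y
  have h1 : c = c' := congrFun (congrFun h 0) 3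
  have h2 : p = p' := congrFun (congrFun h 1) 1
  have h3 : q = q' := congrFun (congrFun h 1) 2
  have h4 : r = r' := congrFun (congrFun h 2) 1
  have h5 : s = s' := congrFun (congrFun h 2) 2
  subst h1 h2 h3 h4 h5
  rfl

theorem tinv_tmul : ∀ x : TQ, tmul (tinv x) x = tone := by decide +kernel

theorem tm_inv (x : TQ) : (tm x)⁻¹ = tm (tinv x) :=
  (eq_inv_of_mul_eq_one_left (by rw [tm_mul, tinv_tmul, tm_one])).symm

/-- The parameters of `tP`. -/
def tT : TQ := ⟨⟨0, -1, 0, 0, -1⟩, by decide +kernel⟩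

theorem tP_eq : tP = tm tT := by
  apply Subtype.ext
  apply Subtype.ext
  show Matrix.diagonal ![1, -1, -1, 1] = tMat tT.1
  decide +kernel

theorem tmul_tT : ∀ x : TQ, tmul x tT = tmul tT x := by decide +kernel

theorem exists_tm {g : Pm} (hg : g * tP = tP * g) : ∃ x, g = tm x := by
  obtain ⟨⟨A, hdet⟩, hA⟩ := g
  have hcol := mem_Pm.1 hA
  have hm : A * Matrix.diagonal ![1, -1, -1, 1] = Matrix.diagonal ![1, -1, -1, 1] * A :=
    congrArg (fun x : Pm => ((x : SL4) : Matrix (Fin 4) (Fin 4) (ZMod 3))) hg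
  have hne : (1 : ZMod 3) ≠ -1 := by decide +kernel
  have E : ∀ i j, A i j * (![1, -1, -1, 1] : Fin 4 → ZMod 3) j = ![1, -1, -1, 1] i * A i j := fun i j => by
    have := congrFun (congrFun hm i) j
    rwa [Matrix.mul_diagonal, Matrix.diagonal_mul] at this
  have hz : ∀ i j, (![1, -1, -1, 1] : Fin 4 → ZMod 3) i ≠ ![1, -1, -1, 1] j → A i j = 0 :=
    fun i j h => by
      by_contra h0
      exact h (mul_right_cancel₀ h0 ((E i j).symm.trans (mul_comm _ _)))
  have h01 : A 0 1 = 0 := hz 0 1 hne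
  have h02 : A 0 2 = 0 := hz 0 2 hne
  have h13 : A 1 3 = 0 := hz 1 3 hne.symm
  have h23 : A 2 3 = 0 := hz 2 3 hne.symm
  have h31 : A 3 1 = 0 := hz 3 1 hne
  have h32 : A 3 2 = 0 := hz 3 2 hne
  have h00 : A 0 0 = 1 := hcol 0
  have h10 : A 1 0 = 0 := hcol 1
  have h20 : A 2 0 = 0 := hcol 2
  have h30 : A 3 0 = 0 := hcol 3
  set f := A 3 3 with hf
  set p := A 1 1
  set q := A 1 2
  set r := A 2 1
  set s := A 2 2
  have hAe : A = !![1, 0, 0, A 0 3; 0, p, q, 0; 0, r, s, 0; 0, 0, 0, f] := by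
    ext i j
    fin_cases i <;> fin_cases j <;>
      first
      | exact h00
      | exact h01
      | exact h02
      | exact h10
      | exact h13
      | exact h20
      | exact h23
      | exact h30
      | exact h31
      | exact h32
      | rfl
  have hval : ∀ c p q r s f : ZMod 3,
      (!![1, 0, 0, c; 0, p, q, 0; 0, r, s, 0; 0, 0, 0, f]).det = 1 →
      p * s - q * r ≠ 0 ∧ f = p * s - q * r := by decide +kernel
  rw [hAe] at hdet
  obtain ⟨h1, h2⟩ := hval _ _ _ _ _ _ hdet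
  refine ⟨⟨⟨A 0 3, p, q, r, s⟩, h1⟩, Subtype.ext (Subtype.ext ?_)⟩
  show A = tMat _
  rw [hAe, h2]
  rfl

/-- The parameters of `zP` to the power `c`. -/
def tZ (c : ZMod 3) : TQ := ⟨⟨c, 1, 0, 0, 1⟩, by revert c; decide +kernel⟩

/-- The parameters of `uP`. -/
def tU : TQ := ⟨⟨0, 1, 1, 0, 1⟩, by decide +kernel⟩

/-- The parameters of an element of order four with square `tP`. -/
def tSig : TQ := ⟨⟨0, 0, 1, -1, 0⟩, by decide +kernel⟩

/-- The conjugate. -/
def tconj (g x : TQ) : TQ := tmul (tmul g x) (tinv g)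

/-- The cube. -/
def tcube (x : TQ) : TQ := tmul (tmul x x) x

/-- The fourth power. -/
def tfour (x : TQ) : TQ := tmul (tmul x x) (tmul x x)

theorem tm_conj (g x : TQ) : tm g * tm x * (tm g)⁻¹ = tm (tconj g x) := by
  rw [tm_inv, tm_mul, tm_mul]; rfl

theorem tm_cube (x : TQ) : tm x ^ 3 = tm (tcube x) := by
  rw [pow_succ, pow_two, tm_mul, tm_mul]; rfl

theorem tm_four (x : TQ) : tm x ^ 4 = tm (tfour x) := by
  calc tm x ^ 4 = (tm x * tm x) * (tm x * tm x) := by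
        simp only [pow_succ, pow_zero, one_mul, mul_assoc]
    _ = tm (tfour x) := by rw [tm_mul, tm_mul]; rfl

theorem zP_eq_tm : zP = tm (tZ 1) := by
  rw [zP_eq_cw 0]
  apply Subtype.ext
  apply Subtype.ext
  show cwMat 0 _ = tMat _
  decide +kernel

theorem tm_mem_Cm : ∀ x : TQ, x.1.dt = 1 → tm x ∈ Cm := by
  intro x hx
  refine Subgroup.mem_subgroupOf.2 (mem_Pd.2 fun j => ?_)
  show tMat x.1 3 j = _
  fin_cases j <;> first | rfl | exact hx

theorem dt_of_cube : ∀ x : TQ, tcube x = tone → x.1.dt = 1 := by decide +kernel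

theorem four_of_supp : ∀ x : TQ, x.1.dt = 1 → x.1.c ≠ 0 →
    (tfour x).1.c ≠ 0 ∧ tcube (tfour x) = tone := by decide +kernel

theorem four_of_cube : ∀ x : TQ, tcube x = tone → tfour x = x := by decide +kernel

theorem tsplit_cube : ∀ y : TQ, tcube y = tone → y ≠ tone →
    (y = tZ 1 ∨ y = tZ 2) ∨ ∃ g : TQ, ∃ c : ZMod 3, tconj g y = ⟨⟨c, 1, 1, 0, 1⟩, by
      revert c; decide +kernel⟩ := by decide +kernel

/-- A monomial matrix exchanging the last two coordinates. -/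
def swapMat (d₁ d₂ d₃ : ZMod 3) : Matrix (Fin 4) (Fin 4) (ZMod 3) :=
  !![1, 0, 0, 0; 0, d₁, 0, 0; 0, 0, 0, d₂; 0, 0, d₃, 0]

theorem swap_fact : ∀ c : ZMod 3, ∃ d₁ d₂ d₃ δ : ZMod 3, (swapMat d₁ d₂ d₃).det = 1 ∧
    swapMat d₁ d₂ d₃ * tMat ⟨c, 1, 1, 0, 1⟩ =
      cwMat δ ⟨false, δ, 0, 0, 1, 0⟩ * swapMat d₁ d₂ d₃ := by decide +kernel

theorem sigma_no_invert : ∀ x : TQ, x.1.dt = 1 → x.1.c ≠ 0 → ∀ σ : TQ, tmul σ σ = tT →
    tmul (tconj σ x) x ≠ tone := by decide +kernel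

theorem tsplit_SL : ∀ y : TQ, y.1.dt = 1 →
    ∃ q : TQ, (q = tone ∨ q = tT ∨ ∃ h, tconj h tSig = q) ∧ ∃ j : Fin 3,
      y = tmul (tmul (tZ y.1.c) (if j = 0 then tone else if j = 1 then tU else tmul tU tU)) q := by
  decide +kernel

theorem commutator_hits_z : ∀ s : TQ, s.1.dt ≠ 1 →
    ∃ g : TQ, tmul (tconj s g) (tinv g) = tZ 1 := by decide +kernel

theorem commutator_hits_u : ∀ s : TQ, s.1.dt ≠ 1 → ∃ g : TQ, ∃ q : TQ,
    tfour q = tone ∧ q.1.dt = 1 ∧ q.1.c = 0 ∧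
      tmul (tmul (tconj s g) (tinv g)) q = tU := by decide +kernel

theorem tq_cases : ∀ q : TQ, tfour q = tone → q.1.dt = 1 → q.1.c = 0 →
    q = tone ∨ q = tT ∨ ∃ h, tconj h tSig = q := by decide +kernel

theorem tSig_sq : tmul tSig tSig = tT := by decide +kernel

theorem sig_conj_supp : ∀ x : TQ, tmul x x = tT → ¬ (x.1.dt = 1 ∧ x.1.c ≠ 0) := by decide +kernel

/-- Membership of the Sylow `3`-subgroup. -/
def inTP (x : TQ) : Prop := x.1.p = 1 ∧ x.1.r = 0 ∧ x.1.s = 1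

instance : DecidablePred inTP := fun x => inferInstanceAs (Decidable (_ ∧ _ ∧ _))

theorem norm_cent_P : ∀ g : TQ, g.1.dt = 1 → ∀ y : TQ, inTP y → inTP (tconj g y) →
    tconj g y = y := by decide +kernel

theorem inTP_mul : ∀ x y : TQ, inTP x → inTP y → inTP (tmul x y) := by decide +kernel

theorem inTP_inv : ∀ x : TQ, inTP x → inTP (tinv x) := by decide +kernel

theorem inTP_cube : ∀ x : TQ, inTP x → tcube x = tone ∧ x.1.dt = 1 := by decide +kernel

theorem inTP_comm : ∀ x y : TQ, inTP x → inTP y → tmul x y = tmul y x := by decide +kernel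

end CfsgLib.Recog.LFourThree
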