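import Cfsg.Agent.Lib.Recog.LFourThree.OneCentE
import Cfsg.Agent.Lib.Recog.LFourThree.OneCentY
import Cfsg.Agent.Lib.Recog.LFourThree.OneTModel
import Cfsg.Agent.Lib.Recog.LFourThree.OneTChar
import Cfsg.Agent.Lib.Transfer.Frobenius
import Mathlib.GroupTheory.Transfer

/-!
Case of one elementary group: the centraliser of the involution `tP` lies in the range.
-/

set_option autoImplicit false

namespace CfsgLib.Recog.LFourThree

open Subgroup
open scoped ComplexConjugate

universe u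

theorem tcube_inv_or : ∀ y : TQ, tcube y = tone → y ≠ tone → y ≠ tZ 1 → y = tZ 2 →
    tmul y y = tZ 1 := by decide +kernel

theorem tZ_comm : ∀ y : TQ, y.1.dt = 1 → tmul (tZ 1) y = tmul y (tZ 1) := by decide +kernel

theorem inTP_gen : ∀ y : TQ, inTP y → tcube y = tone ∧ ∃ j : Fin 3,
    y = tmul (tZ y.1.c) (if j = 0 then tone else if j = 1 then tU else tmul tU tU) := by
  decide +kernel

theorem tZ_pows : tZ 0 = tone ∧ tmul (tZ 1) (tZ 1) = tZ 2 := by decide +kernel

theorem dt_cases : ∀ y : TQ, y.1.dt = 1 ∨ ∀ s : TQ, s.1.dt ≠ 1 → (tmul y s).1.dt = 1 := by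
  decide +kernel

theorem inTP_card : ((Finset.univ : Finset TQ).filter inTP).card = 9 ∧ Fintype.card TQ = 144 := by
  decide +kernel

theorem inTP_tone : inTP tone := by decide +kernel

theorem inTP_tZ : inTP (tZ 1) ∧ tZ 1 ≠ tone := by decide +kernel

theorem inTP_tU : inTP tU := by decide +kernel

theorem tSig_dt : tSig.1.dt = 1 := by decide +kernel

theorem tconj_tinv : ∀ g h : TQ, tmul (tmul (tinv g) h) g = tconj (tinv g) h := by decide +kernel

theorem count_c : ∀ h : TQ, ((Finset.univ : Finset TQ).filter fun g =>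
    (tconj (tinv g) h).1.dt = 1 ∧ (tconj (tinv g) h).1.c = 0 ∨
      (tconj (tinv g) h).1.dt ≠ 1 ∧ (tconj (tinv g) h).1.c = 0).card =
    if h.1.dt ≠ 1 then 48 else if h.1.c = 0 then 144 else 0 := by decide +kernel

theorem count_d : ∀ h : TQ, ((Finset.univ : Finset TQ).filter fun g =>
    (tconj (tinv g) h).1.dt = 1).card = if h.1.dt ≠ 1 then 0 else 144 := by decide +kernel

theorem supp_card : ((Finset.univ : Finset TQ).filter fun x =>
    x.1.dt = 1 ∧ x.1.c ≠ 0).card = 48 := by decide +kernel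

theorem dt_closed : (∀ x y : TQ, x.1.dt = 1 → y.1.dt = 1 → (tmul x y).1.dt = 1) ∧
    (∀ x : TQ, x.1.dt = 1 → (tinv x).1.dt = 1) ∧ tone.1.dt = 1 ∧
    (∀ x y : TQ, x.1.c = 0 → y.1.c = 0 → (tmul x y).1.c = 0) ∧
    (∀ x : TQ, x.1.c = 0 → (tinv x).1.c = 0) ∧ tone.1.c = 0 ∧
    ((Finset.univ : Finset TQ).filter fun x => x.1.dt = 1).card = 72 ∧
    ((Finset.univ : Finset TQ).filter fun x => x.1.c = 0).card = 48 := by decide +kernel

theorem cent_sig_dt : ∀ y : TQ, (∀ h : TQ, tmul y (tconj h tSig) = tmul (tconj h tSig) y) →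
    y.1.dt = 1 := by decide +kernel

variable {G : Type u} [Group G] [Finite G] {B : Base G}

/-- Conjugating `zP` into the centraliser of `zP` stays in the range. -/
theorem mem_range_of_conj_zP (F : B.OnlyFacts) {g : G}
    (hg : g * B.ψ zP * g⁻¹ ∈ Cm.map B.ψ) : g ∈ B.ψ.range := by
  obtain ⟨y, hy, hy'⟩ := F.conj_z _ hg
  have hy1 : y ≠ 1 := by
    rintro rfl
    rw [map_one] at hy'
    exact zP_pow.2 (B.inj (by rw [map_one]; exact conj_eq_one_iff.1 hy'.symm))
  obtain ⟨k, hk⟩ := Em_conj hy hy1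
  have e2 : (B.ψ k)⁻¹ * g ∈ centralizer ({B.ψ zP} : Set G) := by
    rw [mem_centralizer_singleton_iff]
    have : g * B.ψ zP * g⁻¹ = B.ψ k * B.ψ zP * (B.ψ k)⁻¹ := by
      rw [← hy', ← hk, map_mul, map_mul, map_inv]
    calc (B.ψ k)⁻¹ * g * B.ψ zP = (B.ψ k)⁻¹ * (g * B.ψ zP * g⁻¹) * g := by group
      _ = B.ψ zP * ((B.ψ k)⁻¹ * g) := by rw [this]; group
  have h4 := B.ψ.range.mul_mem (B.psi_mem_range k) (cent_zP_le_range B e2)
  rwa [mul_inv_cancel_left] at h4

/-- The centralisers of all elements `wEl δ` lie in the range. -/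
theorem cent_wEl_all (F : B.OnlyFacts) (δ : ZMod 3) :
    centralizer ({B.ψ (wEl δ)} : Set G) ≤ B.ψ.range := by
  by_cases h : δ = 0
  · subst h; exact cent_wEl_zero_le F
  · exact cent_wEl_le F h

/-- The centralisers of the elements of order three commuting with `tP` lie in the range. -/
theorem cent_tm_le (F : B.OnlyFacts) {y : TQ} (hy : tcube y = tone) (hy1 : y ≠ tone) :
    centralizer ({B.ψ (tm y)} : Set G) ≤ B.ψ.range := by
  intro g hg
  rw [mem_centralizer_singleton_iff] at hg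
  rcases tsplit_cube y hy hy1 with (h1 | h2) | ⟨h, c, hc⟩
  · refine cent_zP_le_range B (mem_centralizer_singleton_iff.2 ?_)
    rw [zP_eq_tm, ← h1, hg]
  · refine cent_zP_le_range B (mem_centralizer_singleton_iff.2 ?_)
    by_cases h1 : y = tZ 1
    · rw [zP_eq_tm, ← h1, hg]
    · rw [zP_eq_tm, ← tcube_inv_or y hy hy1 h1 h2, ← tm_mul, map_mul, ← mul_assoc, hg, mul_assoc,
        hg, mul_assoc]
  · obtain ⟨d₁, d₂, d₃, δ, hdet, heq⟩ := swap_fact c
    obtain ⟨M, e1⟩ : ∃ M : Pm, M * tm (tconj h y) = wEl δ * M := by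
      rw [hc]
      exact ⟨⟨⟨swapMat d₁ d₂ d₃, hdet⟩, mem_Pm.2 fun i => by fin_cases i <;> rfl⟩,
        Subtype.ext (Subtype.ext heq)⟩
    have e1' : M * tm h * tm y * (M * tm h)⁻¹ = wEl δ := by
      rw [show M * tm h * tm y * (M * tm h)⁻¹ = M * (tm h * tm y * (tm h)⁻¹) * M⁻¹ by group,
        tm_conj, e1, mul_inv_cancel_right]
    obtain ⟨k, hkr, e2⟩ : ∃ k ∈ B.ψ.range, k * B.ψ (tm y) * k⁻¹ = B.ψ (wEl δ) := by
      refine ⟨B.ψ (M * tm h), B.psi_mem_range _, ?_⟩
      have h1 := congrArg (fun v => B.ψ v) e1'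
      simp only [map_mul, map_inv] at h1 ⊢
      exact h1
    have e3 : k * g * k⁻¹ ∈ centralizer ({B.ψ (wEl δ)} : Set G) := by
      rw [mem_centralizer_singleton_iff, ← e2]
      calc k * g * k⁻¹ * (k * B.ψ (tm y) * k⁻¹) = k * (g * B.ψ (tm y)) * k⁻¹ := by group
        _ = k * (B.ψ (tm y) * g) * k⁻¹ := by rw [hg]
        _ = k * B.ψ (tm y) * k⁻¹ * (k * g * k⁻¹) := by group
    have h5 := B.ψ.range.mul_mem
      (B.ψ.range.mul_mem (B.ψ.range.inv_mem hkr) (cent_wEl_all F δ e3)) hkr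
    rwa [show k⁻¹ * (k * g * k⁻¹) * k = g by group] at h5

/-- An element commuting with `tP` moving an element of order three into the range lies in it. -/
theorem ti_three (F : B.OnlyFacts) {g : G} (hgt : g * B.ψ tP = B.ψ tP * g) {y y' : TQ}
    (hy : tcube y = tone) (hy1 : y ≠ tone) (hg : g * B.ψ (tm y) * g⁻¹ = B.ψ (tm y')) :
    g ∈ B.ψ.range := by
  have hy' : tcube y' = tone := by
    refine tm_inj (B.inj ?_)
    rw [← tm_cube, map_pow, ← hg, conj_pow, ← map_pow, tm_cube, hy, tm_one, map_one, mul_one,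
      mul_inv_cancel]
  have hzy : B.ψ zP * B.ψ (tm y') = B.ψ (tm y') * B.ψ zP := by
    rw [← map_mul, ← map_mul, zP_eq_tm, tm_mul, tm_mul, tZ_comm y' (dt_of_cube y' hy')]
  have hy'' : B.ψ (tm y) = g⁻¹ * B.ψ (tm y') * g := by rw [← hg]; group
  have hc : g⁻¹ * B.ψ zP * g ∈ B.ψ.range := by
    refine cent_tm_le F hy hy1 (mem_centralizer_singleton_iff.2 ?_)
    rw [hy'']
    calc g⁻¹ * B.ψ zP * g * (g⁻¹ * B.ψ (tm y') * g) = g⁻¹ * (B.ψ zP * B.ψ (tm y')) * g := by group
      _ = g⁻¹ * (B.ψ (tm y') * B.ψ zP) * g := by rw [hzy]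
      _ = g⁻¹ * B.ψ (tm y') * g * (g⁻¹ * B.ψ zP * g) := by group
  obtain ⟨x, hx⟩ := hc
  have hxt : x * tP = tP * x := by
    refine B.inj ?_
    rw [map_mul, map_mul, hx]
    have hzt : B.ψ zP * B.ψ tP = B.ψ tP * B.ψ zP := by
      rw [← map_mul, ← map_mul, zP_eq_tm, tP_eq, tm_mul, tm_mul, tmul_tT]
    have hg' : g⁻¹ * B.ψ tP = B.ψ tP * g⁻¹ := by
      rw [inv_mul_eq_iff_eq_mul, ← mul_assoc, hgt, mul_inv_cancel_right]
    calc g⁻¹ * B.ψ zP * g * B.ψ tP = g⁻¹ * B.ψ zP * (g * B.ψ tP) := by group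
      _ = g⁻¹ * (B.ψ zP * B.ψ tP) * g := by rw [hgt]; group
      _ = g⁻¹ * B.ψ tP * B.ψ zP * g := by rw [hzt]; group
      _ = B.ψ tP * (g⁻¹ * B.ψ zP * g) := by rw [hg']; group
  obtain ⟨w, rfl⟩ := exists_tm hxt
  have hw : tcube w = tone := by
    refine tm_inj (B.inj ?_)
    rw [← tm_cube, map_pow, hx, show g⁻¹ * B.ψ zP * g = g⁻¹ * B.ψ zP * (g⁻¹)⁻¹ by rw [inv_inv],
      conj_pow, ← map_pow, zP_pow.1, map_one, tm_one, map_one, mul_one, mul_inv_cancel]
  have h1 := mem_range_of_conj_zP F (g := g⁻¹) (by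
    rw [inv_inv, ← hx]; exact mem_map_of_mem _ (tm_mem_Cm w (dt_of_cube w hw)))
  simpa using B.ψ.range.inv_mem h1

/-- The centraliser of `tP` lies in the range. -/
theorem cent_tP_le (F : B.OnlyFacts) : centralizer ({B.ψ tP} : Set G) ≤ B.ψ.range := by
  classical
  haveI : Fact (Nat.Prime 3) := ⟨Nat.prime_three⟩
  set X := centralizer ({B.ψ tP} : Set G) with hX
  haveI := Fintype.ofFinite X
  have hmemX : ∀ x : TQ, B.ψ (tm x) ∈ X := fun x => by
    rw [mem_centralizer_singleton_iff, ← map_mul, ← map_mul, tP_eq, tm_mul, tm_mul, tmul_tT]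
  have hXt : ∀ g : X, (g : G) * B.ψ tP = B.ψ tP * g := fun g =>
    mem_centralizer_singleton_iff.1 g.2
  let ρ : TQ → X := fun x => ⟨B.ψ (tm x), hmemX x⟩
  have hρ : ∀ x y, ρ x * ρ y = ρ (tmul x y) := fun x y => Subtype.ext (by
    show B.ψ (tm x) * B.ψ (tm y) = B.ψ _
    rw [← map_mul, tm_mul])
  have hρinj : Function.Injective ρ := fun x y e => tm_inj (B.inj (congrArg Subtype.val e))
  have hρ1 : ρ tone = 1 := Subtype.ext (by show B.ψ (tm tone) = 1; rw [tm_one, map_one])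
  have hρinv : ∀ x, (ρ x)⁻¹ = ρ (tinv x) := fun x => Subtype.ext (by
    show (B.ψ (tm x))⁻¹ = B.ψ _
    rw [← map_inv, tm_inv])
  have hρconj : ∀ g x, ρ g * ρ x * (ρ g)⁻¹ = ρ (tconj g x) := fun g x => by
    rw [hρinv, hρ, hρ]; rfl
  have hρcube : ∀ x, ρ x ^ 3 = ρ (tcube x) := fun x => by
    rw [pow_succ, pow_two, hρ, hρ]; rfl
  set H : Subgroup X := B.ψ.range.subgroupOf X with hH
  have hex : ∀ g ∈ H, ∃ x, g = ρ x := by
    intro g hg
    obtain ⟨p, hp⟩ := mem_subgroupOf.1 hg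
    obtain ⟨x, rfl⟩ := exists_tm (g := p) (B.inj (by rw [map_mul, map_mul, hp]; exact hXt g))
    exact ⟨x, Subtype.ext hp.symm⟩
  have hρH : ∀ x, ρ x ∈ H := fun x => mem_subgroupOf.2 (B.psi_mem_range _)
  have hti : ∀ y, tcube y = tone → y ≠ tone → ∀ g : X, g * ρ y * g⁻¹ ∈ H → g ∈ H := by
    intro y hy hy1 g hg
    obtain ⟨y', hy'⟩ := hex _ hg
    exact mem_subgroupOf.2 (ti_three F (hXt g) hy hy1 (congrArg Subtype.val hy'))
  -- the Sylow subgroup
  let P : Subgroup X :=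
    { carrier := {g | ∃ x : TQ, inTP x ∧ g = ρ x}
      one_mem' := ⟨tone, inTP_tone, hρ1.symm⟩
      mul_mem' := by
        rintro a b ⟨x, hx, rfl⟩ ⟨y, hy, rfl⟩
        exact ⟨tmul x y, inTP_mul x y hx hy, hρ x y⟩
      inv_mem' := by
        rintro a ⟨x, hx, rfl⟩
        exact ⟨tinv x, inTP_inv x hx, hρinv x⟩ }
  have hPH : P ≤ H := by rintro _ ⟨x, -, rfl⟩; exact hρH x
  let e : TQ ≃ H := Equiv.ofBijective (fun x => ⟨ρ x, hρH x⟩) ⟨fun x y h => hρinj
    (congrArg Subtype.val h), fun g => (hex g g.2).imp fun x hx => Subtype.ext hx.symm⟩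
  have hcardH : Nat.card H = 144 := by
    rw [← Nat.card_congr e, Nat.card_eq_fintype_card, inTP_card.2]
  have hcardP : Nat.card P = 9 := by
    let eP : {x : TQ // inTP x} ≃ P := Equiv.ofBijective (fun x => ⟨ρ x.1, x.1, x.2, rfl⟩)
      ⟨fun x y h => Subtype.ext (hρinj (congrArg Subtype.val h)),
        fun ⟨g, x, hx, hg⟩ => ⟨⟨x, hx⟩, Subtype.ext hg.symm⟩⟩
    rw [← Nat.card_congr eP, Nat.card_eq_fintype_card, Fintype.card_subtype, inTP_card.1]
  have hPp : IsPGroup 3 P := IsPGroup.of_card (n := 2) (by rw [hcardP]; rfl)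
  obtain ⟨Q, hQ⟩ := hPp.exists_le_sylow
  have hQP : (Q : Subgroup X) = P := by
    refine le_antisymm (fun x hx => ?_) hQ
    haveI := Q.isPGroup'.isNilpotent
    by_contra hxP
    set K : Subgroup (Q : Subgroup X) := P.subgroupOf Q with hK
    have hlt : K < ⊤ := lt_top_iff_ne_top.2 fun e => hxP (subgroupOf_eq_top.1 e hx)
    have hgr : K < normalizer (K : Set (Q : Subgroup X)) :=
      Group.normalizerCondition_of_isNilpotent K hlt
    obtain ⟨q, hq, hqK⟩ := SetLike.exists_of_lt hgr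
    have hqH : (q : X) ∈ H := hti (tZ 1) (inTP_cube _ inTP_tZ.1).1 inTP_tZ.2 q (hPH
      (mem_subgroupOf.1 ((mem_normalizer_iff.1 hq ⟨ρ (tZ 1), hQ ⟨_, inTP_tZ.1, rfl⟩⟩).1
        (mem_subgroupOf.2 ⟨_, inTP_tZ.1, rfl⟩))))
    set W := P ⊔ zpowers (q : X) with hW
    have hWH : W ≤ H := sup_le hPH (zpowers_le.2 hqH)
    have hWQ : W ≤ (Q : Subgroup X) := sup_le hQ (zpowers_le.2 q.2)
    obtain ⟨n, hn⟩ := (Q.isPGroup'.to_le hWQ).exists_card_eq
    have hdvd : 3 ^ n ∣ 144 := by rw [← hn, ← hcardH]; exact card_dvd_of_le hWH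
    have hn2 : n ≤ 2 := by
      by_contra h
      exact absurd ((pow_dvd_pow 3 (show 3 ≤ n by omega)).trans hdvd) (by norm_num)
    have hWP : W = P := (eq_of_le_of_card_ge le_sup_left (by
      rw [hn, hcardP]; exact (Nat.pow_le_pow_right (by norm_num) hn2).trans (by norm_num))).symm
    exact hqK (mem_subgroupOf.2 (hWP ▸ mem_sup_right (mem_zpowers _)))
  -- normal subgroups meeting `H` in elements of determinant one
  have hnormal : ∀ L : Subgroup X, L.Normal → (∀ y, ρ y ∈ L → y.1.dt = 1) → L ≤ H := by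
    intro L hL hdt
    haveI := hL
    obtain ⟨S, hS⟩ := CfsgLib.Transfer.exists_sylow_eq_subgroupOf Q L
    rw [hQP] at hS
    have hcen : normalizer ((S : Subgroup L) : Set L) ≤ centralizer ((S : Subgroup L) : Set L) := by
      intro n hn a ha
      refine Subtype.ext ?_
      show (a : X) * (n : X) = (n : X) * (a : X)
      by_cases ha1 : a = 1
      · rw [ha1]; simp
      have h1 := ha
      have h2 := (mem_normalizer_iff.1 hn a).1 ha
      rw [hS] at h1 h2
      obtain ⟨y, hy, hay⟩ := mem_subgroupOf.1 h1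
      obtain ⟨y', hy', hy'e⟩ := mem_subgroupOf.1 h2
      change (n : X) * (a : X) * (n : X)⁻¹ = ρ y' at hy'e
      have hy1 : y ≠ tone := fun e => ha1 (Subtype.ext (by rw [hay, e, hρ1]; rfl))
      have hnH : (n : X) ∈ H := hti y (inTP_cube y hy).1 hy1 _ (by rw [← hay, hy'e]; exact hρH y')
      obtain ⟨g, hg⟩ := hex _ hnH
      rw [hg, hay, hρconj] at hy'e
      have h3 := norm_cent_P g (hdt g (hg ▸ n.2)) y hy (by rw [hρinj hy'e]; exact hy')
      rw [hg, hay]
      calc ρ y * ρ g = ρ (tconj g y) * ρ g := by rw [h3]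
        _ = ρ g * ρ y := by rw [← hρconj]; group
    have hcomp := MonoidHom.ker_transferSylow_isComplement' S hcen
    set τ := MonoidHom.transferSylow S hcen with hτ
    have hDcop : ¬ 3 ∣ Nat.card τ.ker := by
      intro hd
      refine S.not_dvd_index ?_
      rw [hcomp.index_eq_card]
      exact hd
    set D : Subgroup X := τ.ker.map L.subtype with hD
    have hmemD : ∀ x : L, x ∈ τ.ker ↔ Nat.Coprime 3 (orderOf x) := by
      intro x
      constructor
      · intro hx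
        refine (Nat.prime_three.coprime_iff_not_dvd).2 fun h => hDcop (h.trans ?_)
        have h2 := orderOf_dvd_natCard (⟨x, hx⟩ : τ.ker)
        rwa [orderOf_mk] at h2
      · intro hx
        obtain ⟨n, hn⟩ := S.isPGroup' (τ x)
        refine MonoidHom.mem_ker.2 (orderOf_eq_one_iff.1 (Nat.eq_one_of_dvd_coprimes
          (Nat.Coprime.pow_left n hx) ?_ (orderOf_map_dvd τ x)))
        exact orderOf_dvd_of_pow_eq_one hn
    have hDnorm : ∀ g : X, ∀ x ∈ D, g * x * g⁻¹ ∈ D := by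
      rintro g _ ⟨x, hx, rfl⟩
      refine ⟨⟨g * (x : X) * g⁻¹, hL.conj_mem _ x.2 g⟩, (hmemD _).2 ?_, rfl⟩
      have h1 := (hmemD x).1 hx
      rw [← orderOf_coe] at h1
      rw [← orderOf_coe]
      show Nat.Coprime 3 (orderOf (g * (x : X) * g⁻¹))
      rwa [show orderOf (g * (x : X) * g⁻¹) = orderOf (x : X) from
        orderOf_injective (MulAut.conj g).toMonoidHom (MulAut.conj g).injective _]
    have hDH : D ≤ H := by
      have hDP : P ≤ normalizer (D : Set X) := fun g _ => mem_normalizer_iff.2 fun x =>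
        ⟨hDnorm g x, fun h => by simpa [mul_assoc] using hDnorm g⁻¹ _ h⟩
      have hPc : IsMulCommutative P := ⟨⟨fun a b => Subtype.ext (by
        obtain ⟨x, hx, hax⟩ := a.2
        obtain ⟨y, hy, hby⟩ := b.2
        rw [Subgroup.coe_mul, Subgroup.coe_mul, hax, hby, hρ, hρ, inTP_comm x y hx hy])⟩⟩
      have hnc : ¬ IsCyclic P := by
        intro hcy
        haveI := hcy
        obtain ⟨⟨g, x, hx, rfl⟩, hg⟩ := IsCyclic.exists_ofOrder_eq_natCard (α := P)
        rw [hcardP] at hg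
        have : orderOf (⟨ρ x, x, hx, rfl⟩ : P) ∣ 3 := orderOf_dvd_of_pow_eq_one (Subtype.ext (by
          rw [SubmonoidClass.coe_pow, hρcube, (inTP_cube x hx).1, hρ1]; rfl))
        rw [hg] at this
        norm_num at this
      have hcop : (Nat.card P).Coprime (Nat.card D) := by
        rw [hcardP, show (9 : ℕ) = 3 ^ 2 from rfl]
        refine Nat.Coprime.pow_left 2 ((Nat.prime_three.coprime_iff_not_dvd).2 fun hd => hDcop ?_)
        rwa [hD, ← Nat.card_congr (τ.ker.equivMapOfInjective _ L.subtype_injective).toEquiv] at hd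
      rw [← CfsgLib.Coprime.iSup_centralizer_eq hPc hnc hDP hcop]
      refine iSup_le fun a => ?_
      intro x hx
      obtain ⟨-, hxa⟩ := mem_inf.1 hx
      obtain ⟨y, hy, hay⟩ := a.2.1
      refine hti y (inTP_cube y hy).1 (fun e => a.2.2 (by rw [hay, e, hρ1])) x ?_
      rw [← hay, mem_centralizer_singleton_iff.1 hxa, mul_inv_cancel_right, hay]
      exact hρH y
    intro x hx
    have h1 : (⟨x, hx⟩ : L) ∈ τ.ker ⊔ (S : Subgroup L) := by rw [hcomp.sup_eq_top]; exact mem_top _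
    have h2 : x ∈ (τ.ker ⊔ (S : Subgroup L)).map L.subtype := ⟨_, h1, rfl⟩
    rw [Subgroup.map_sup] at h2
    refine (sup_le hDH ?_ : _ ≤ H) h2
    rintro _ ⟨a, ha, rfl⟩
    rw [SetLike.mem_coe, hS] at ha
    exact hPH (mem_subgroupOf.1 ha)
  -- the character family
  haveI := Fintype.ofFinite H
  have hemul : ∀ x y, e (tmul x y) = e x * e y := fun x y => Subtype.ext (hρ x y).symm
  have heinv : ∀ x, e (tinv x) = (e x)⁻¹ := fun x => Subtype.ext (hρinv x).symm
  have heone : e tone = 1 := Subtype.ext hρ1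
  let fv : TQ → ℂ := fun x => if x.1.dt = 1 ∧ x.1.c ≠ 0 then 3 else 0
  let f : H → ℂ := fun h => fv (e.symm h)
  have hfe : ∀ x, f (e x) = fv x := fun x => by show fv _ = _; rw [e.symm_apply_apply]
  obtain ⟨cm, ci, c1, am, ai, a1, hd72, hc48⟩ := dt_closed
  let mkK : ∀ p : TQ → Prop, (∀ x y, p x → p y → p (tmul x y)) → (∀ x, p x → p (tinv x)) → p tone →
      Subgroup H := fun p pm pi p1 =>
    { carrier := {h | p (e.symm h)}
      one_mem' := by show p _; rw [← heone, e.symm_apply_apply]; exact p1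
      mul_mem' := fun {a b} ha hb => by
        show p _
        rw [← e.apply_symm_apply a, ← e.apply_symm_apply b, ← hemul, e.symm_apply_apply]
        exact pm _ _ ha hb
      inv_mem' := fun {a} ha => by
        show p _
        rw [← e.apply_symm_apply a, ← heinv, e.symm_apply_apply]
        exact pi _ ha }
  let K1 := mkK (fun x => x.1.dt = 1) cm ci c1
  let K0 := mkK (fun x => x.1.c = 0) am ai a1
  have hind : ∀ (p : TQ → Prop) [DecidablePred p] pm pi p1 (x : TQ),
      Cfsg.indFun (mkK p pm pi p1) (fun _ => (1 : ℂ)) (e x) =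
        (((Finset.univ : Finset TQ).filter p).card : ℂ)⁻¹ *
          (((Finset.univ : Finset TQ).filter fun g => p (tconj (tinv g) x)).card : ℂ) := by
    intro p _ pm pi p1 x
    have hcard : Nat.card (mkK p pm pi p1) = ((Finset.univ : Finset TQ).filter p).card := by
      rw [← Fintype.card_subtype, ← Nat.card_eq_fintype_card]
      exact Nat.card_congr (Equiv.subtypeEquiv e.symm fun h => Iff.rfl)
    rw [CfsgLib.Char.indFun_def, hcard, ← Fintype.sum_equiv e
      (fun g => if p (tconj (tinv g) x) then (1 : ℂ) else 0) _ (fun g => ?_), Finset.sum_boole]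
    have hm : (e g)⁻¹ * e x * e g ∈ mkK p pm pi p1 ↔ p (tconj (tinv g) x) := by
      show p _ ↔ _
      rw [← heinv, ← hemul, ← hemul, e.symm_apply_apply, tconj_tinv]
    split_ifs with h
    · rw [CfsgLib.Char.extendByZero_of_mem _ (hm.2 h)]
    · rw [CfsgLib.Char.extendByZero_of_not_mem _ fun h' => h (hm.1 h')]
  have hgen : Cfsg.IsGeneralizedCharacter H f := by
    have hfeq : f = Cfsg.indFun K1 (fun _ => (1 : ℂ)) - Cfsg.indFun K0 (fun _ => (1 : ℂ)) +
        fun _ => (1 : ℂ) := by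
      funext h
      obtain ⟨x, rfl⟩ := e.surjective h
      rw [hfe, Pi.add_apply, Pi.sub_apply, hind _ cm ci c1 x, hind _ am ai a1 x, hd72, hc48,
        count_d x]
      have hc : ((Finset.univ : Finset TQ).filter fun g => (tconj (tinv g) x).1.c = 0).card =
          if x.1.dt ≠ 1 then 48 else if x.1.c = 0 then 144 else 0 := by
        rw [← count_c x]
        congr 1
        exact Finset.filter_congr fun g _ => ⟨fun h => (Decidable.em _).imp (fun hd => ⟨hd, h⟩)
          (fun hd => ⟨hd, h⟩), fun h => h.elim And.right And.right⟩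
      rw [hc]
      simp only [fv]
      by_cases h1 : x.1.dt = 1 <;> by_cases h2 : x.1.c = 0 <;> simp [h1, h2] <;> norm_num
    rw [hfeq]
    have h1 : ∀ K : Subgroup H, Cfsg.IsGeneralizedCharacter H (Cfsg.indFun K fun _ => (1 : ℂ)) :=
      fun K => CfsgLib.Char.isGeneralized_of_isCharacter
        (CfsgLib.Char.isCharacter_indFun _ CfsgLib.Char.isCharacter_one)
    exact CfsgLib.Char.isGeneralized_add (CfsgLib.Char.isGeneralized_sub (h1 K1) (h1 K0))
      (CfsgLib.Char.isGeneralized_of_isCharacter CfsgLib.Char.isCharacter_one)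
  have hnorm : Cfsg.classInner f f = 3 := by
    rw [CfsgLib.Char.classInner_def, hcardH, ← Fintype.sum_equiv e
      (fun x => if x.1.dt = 1 ∧ x.1.c ≠ 0 then (9 : ℂ) else 0) _ (fun x => by
        rw [hfe]; simp only [fv]; split_ifs <;> norm_num [Complex.conj_ofNat]),
      ← Finset.sum_filter, Finset.sum_const, supp_card]
    norm_num
  have hmean : Cfsg.classInner f (fun _ => (1 : ℂ)) = 1 := by
    rw [CfsgLib.Char.classInner_def, hcardH, ← Fintype.sum_equiv e
      (fun x => if x.1.dt = 1 ∧ x.1.c ≠ 0 then (3 : ℂ) else 0) _ (fun x => by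
        rw [hfe]; simp only [fv]; simp),
      ← Finset.sum_filter, Finset.sum_const, supp_card]
    norm_num
  have hsupp : ∀ h : H, f h ≠ 0 → ∃ x : TQ, (h : X) = ρ x ∧ x.1.dt = 1 ∧ x.1.c ≠ 0 := by
    intro h hh
    obtain ⟨x, rfl⟩ := e.surjective h
    rw [hfe] at hh
    simp only [fv] at hh
    by_cases hx : x.1.dt = 1 ∧ x.1.c ≠ 0
    · exact ⟨x, rfl, hx⟩
    · exact absurd (if_neg hx) hh
  have htis : ∀ x : TQ, x.1.dt = 1 → x.1.c ≠ 0 → ∀ g : X, g * ρ x * g⁻¹ ∈ H → g ∈ H := by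
    intro x hd hc g hg
    obtain ⟨h4, h3⟩ := four_of_supp x hd hc
    refine hti (tfour x) h3 (fun e => h4 (by rw [e]; exact a1)) g ?_
    have e4 : ρ (tfour x) = ρ x ^ 4 := by
      show ρ (tmul (tmul x x) (tmul x x)) = _
      rw [← hρ, ← hρ]; simp only [pow_succ, pow_zero, one_mul, mul_assoc]
    rw [e4, ← conj_pow]
    exact H.pow_mem hg 4
  have hsq : ∀ (g : X) (w : TQ), g * ρ tSig * g⁻¹ = ρ w → tmul w w = tT := by
    intro g w hw
    have ht : g * ρ tT * g⁻¹ = ρ tT := by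
      have : g * ρ tT = ρ tT * g := Subtype.ext (by
        show (g : G) * B.ψ (tm tT) = B.ψ (tm tT) * (g : G)
        rw [← tP_eq]; exact hXt g)
      rw [this, mul_inv_cancel_right]
    refine hρinj ?_
    rw [← hρ, ← hw, show g * ρ tSig * g⁻¹ * (g * ρ tSig * g⁻¹) = g * (ρ tSig * ρ tSig) * g⁻¹ by
      group, hρ, tSig_sq, ht]
  obtain ⟨K, hKn, hσK, hKtop⟩ := exists_kernel_of_norm_three H f hgen hnorm hmean
    (by rw [← heone, hfe]; simp [fv, a1])
    (fun h hh g hg => by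
      obtain ⟨x, hx, hd, hc⟩ := hsupp h hh
      exact htis x hd hc g (hx ▸ hg))
    (ρ tSig)
    (fun h ⟨g, hg⟩ => by
      by_contra hh
      obtain ⟨x, hx, hd, hc⟩ := hsupp h hh
      exact sig_conj_supp x (hsq g x (hg.trans hx)) ⟨hd, hc⟩)
    (fun h hh g k hgk => by
      obtain ⟨x, hx, hd, hc⟩ := hsupp h hh
      rw [hx] at hgk
      set a := g * ρ tSig * g⁻¹ with ha
      set b := k * ρ tSig * k⁻¹ with hb
      have hsqX : ∀ g : X, g * ρ tSig * g⁻¹ * (g * ρ tSig * g⁻¹) = ρ tT := fun g => by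
        rw [show g * ρ tSig * g⁻¹ * (g * ρ tSig * g⁻¹) = g * (ρ tSig * ρ tSig) * g⁻¹ by group,
          hρ, tSig_sq]
        have : g * ρ tT = ρ tT * g := Subtype.ext (by
          show (g : G) * B.ψ (tm tT) = B.ψ (tm tT) * (g : G)
          rw [← tP_eq]; exact hXt g)
        rw [this, mul_inv_cancel_right]
      have haa : a * a = ρ tT := hsqX g
      have hbb : b * b = ρ tT := hsqX k
      have hinv : a * ρ x * a⁻¹ = (ρ x)⁻¹ := by
        rw [← hgk, show a * (a * b) * a⁻¹ = (a * a) * b * a⁻¹ by group, haa, ← hbb,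
          eq_inv_iff_mul_eq_one, show b * b * b * a⁻¹ * (a * b) = (b * b) * (b * b) by group, hbb,
          hρ, show tmul tT tT = tone by decide +kernel, hρ1]
      have haH : a ∈ H := htis x hd hc a (hinv ▸ H.inv_mem (hρH x))
      obtain ⟨w, hw⟩ := hex a haH
      refine sigma_no_invert x hd hc w (hsq g w hw) (hρinj ?_)
      rw [← hρ, ← hρconj, ← hw, hinv, inv_mul_cancel, hρ1])
  haveI := hKn
  have hconjK : ∀ h : TQ, ρ (tconj h tSig) ∈ K := fun h => by
    rw [← hρconj]; exact hKn.conj_mem _ hσK _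
  have htTK : ρ tT ∈ K := by rw [← tSig_sq, ← hρ]; exact K.mul_mem hσK hσK
  have hqK : ∀ q : TQ, (q = tone ∨ q = tT ∨ ∃ h, tconj h tSig = q) → ρ q ∈ K := by
    rintro q (rfl | rfl | ⟨h, rfl⟩)
    exacts [hρ1 ▸ K.one_mem, htTK, hconjK h]
  by_cases hdtK : ∀ y, ρ y ∈ K → y.1.dt = 1
  · have hKH : K ≤ H := hnormal K hKn hdtK
    set V := normalClosure ({ρ tSig} : Set X) with hV
    have hVK : V ≤ K := normalClosure_le_normal (Set.singleton_subset_iff.2 hσK)
    haveI : V.Normal := normalClosure_normal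
    set L := centralizer (V : Set X) with hL
    have hLn : L.Normal := ⟨fun a ha g => by
      refine mem_centralizer_iff.2 fun v hv => ?_
      have h1 := mem_centralizer_iff.1 ha (g⁻¹ * v * g) (by
        simpa using (normalClosure_normal (s := ({ρ tSig} : Set X))).conj_mem v hv g⁻¹)
      calc v * (g * a * g⁻¹) = g * (g⁻¹ * v * g * a) * g⁻¹ := by group
        _ = g * (a * (g⁻¹ * v * g)) * g⁻¹ := by rw [h1]
        _ = g * a * g⁻¹ * v := by group⟩
    have hLH : L ≤ H := by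
      refine hnormal L hLn fun y hy => cent_sig_dt y fun h => hρinj ?_
      rw [← hρ, ← hρ]
      refine (mem_centralizer_iff.1 hy _ ?_).symm
      rw [← hρconj]
      exact (normalClosure_normal (s := ({ρ tSig} : Set X))).conj_mem _
        (subset_normalClosure (Set.mem_singleton _)) _
    have hzL : ρ (tZ 1) ∈ L := by
      refine mem_centralizer_iff.2 fun v hv => ?_
      obtain ⟨w, rfl⟩ := hex v (hKH (hVK hv))
      rw [hρ, hρ, tZ_comm w (hdtK w (hVK hv))]
    intro g hg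
    have hgz : (⟨g, hg⟩ : X) * ρ (tZ 1) * (⟨g, hg⟩ : X)⁻¹ ∈ H :=
      hLH (hLn.conj_mem _ hzL _)
    exact mem_subgroupOf.1 (hti (tZ 1) (inTP_cube _ inTP_tZ.1).1 inTP_tZ.2 _ hgz)
  · exfalso
    push Not at hdtK
    obtain ⟨s, hsK, hs⟩ := hdtK
    have hcomm : ∀ g, ρ (tmul (tconj s g) (tinv g)) ∈ K := fun g => by
      rw [← hρ, ← hρconj, ← hρinv, show ρ s * ρ g * (ρ s)⁻¹ * (ρ g)⁻¹ =
        ρ s * (ρ g * (ρ s)⁻¹ * (ρ g)⁻¹) by group]
      exact K.mul_mem hsK (hKn.conj_mem _ (K.inv_mem hsK) _)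
    have hzK : ρ (tZ 1) ∈ K := by
      obtain ⟨g, hg⟩ := commutator_hits_z s hs
      exact hg ▸ hcomm g
    have huK : ρ tU ∈ K := by
      obtain ⟨g, q, h4, hd, hc, hgq⟩ := commutator_hits_u s hs
      rw [← hgq, ← hρ]
      exact K.mul_mem (hcomm g) (hqK q (tq_cases q h4 hd hc))
    have hcz : ∀ c, ρ (tZ c) ∈ K := by
      intro c
      rcases z3_cases c with rfl | rfl | rfl
      · rw [tZ_pows.1, hρ1]; exact K.one_mem
      · exact hzK
      · rw [← tZ_pows.2, ← hρ]; exact K.mul_mem hzK hzK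
    have hj : ∀ j : Fin 3, ρ (if j = 0 then tone else if j = 1 then tU else tmul tU tU) ∈ K := by
      intro j
      split_ifs
      · rw [hρ1]; exact K.one_mem
      · exact huK
      · rw [← hρ]; exact K.mul_mem huK huK
    have hd1 : ∀ y : TQ, y.1.dt = 1 → ρ y ∈ K := by
      intro y hy
      obtain ⟨q, hq, j, hyq⟩ := tsplit_SL y hy
      rw [hyq, ← hρ, ← hρ]
      exact K.mul_mem (K.mul_mem (hcz _) (hj j)) (hqK q hq)
    have hHK : H ≤ K := by
      intro g hg
      obtain ⟨y, rfl⟩ := hex g hg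
      rcases dt_cases y with hy | hy
      · exact hd1 y hy
      · have := K.mul_mem (hd1 _ (hy s hs)) (K.inv_mem hsK)
        rwa [← hρ, mul_inv_cancel_right] at this
    have hN : normalizer ((Q : Subgroup X) : Set X) ≤ H := by
      intro g hg
      rw [hQP] at hg
      exact hti (tZ 1) (inTP_cube _ inTP_tZ.1).1 inTP_tZ.2 g
        (hPH ((mem_normalizer_iff.1 hg _).1 ⟨_, inTP_tZ.1, rfl⟩))
    have htop := Sylow.normalizer_sup_eq_top' Q (N := K) (hQP ▸ hPH.trans hHK)
    exact hKtop (top_le_iff.1 (htop ▸ sup_le (hN.trans hHK) le_rfl))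

end CfsgLib.Recog.LFourThree
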