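import Cfsg.Agent.Lib.Recog.LFourThree.OneModel
import Cfsg.Agent.Lib.Recog.LFourThree.ClassSpec
import Cfsg.Agent.Lib.Coprime.Generation

/-!
Case of one elementary group: the local facts behind the centralisers of the elements `wEl δ`.
-/

set_option autoImplicit false

namespace CfsgLib.Recog.LFourThree

open Subgroup

universe u

variable {G : Type u} [Group G]

/-- An abelian `3`-subgroup `A` of `K`, self-normalising in `K`, containing a noncyclic subgroup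
whose nontrivial elements have centralisers in `K` inside `A`, is the whole of `K`. -/
theorem le_of_self_normalizing [Finite G] (A K V : Subgroup G) (hAK : A ≤ K)
    (hA : IsPGroup 3 A) (hcomm : ∀ x ∈ A, ∀ y ∈ A, x * y = y * x)
    (hN : ∀ g ∈ K, (∀ a ∈ A, g * a * g⁻¹ ∈ A) → g ∈ A)
    (hVA : V ≤ A) (hnc : ¬ IsCyclic V)
    (hV : ∀ v ∈ V, v ≠ 1 → ∀ g ∈ K, g * v = v * g → g ∈ A) : K ≤ A := by
  classical
  haveI : Fact (Nat.Prime 3) := ⟨Nat.prime_three⟩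
  set A' : Subgroup K := A.subgroupOf K with hA'
  have hA'p : IsPGroup 3 A' := hA.of_equiv (subgroupOfEquivOfLe hAK).symm
  have hNle : normalizer (A' : Set K) ≤ A' := fun g hg => mem_subgroupOf.2 (hN g g.2 fun a ha =>
    mem_subgroupOf.1 ((mem_normalizer_iff.1 hg ⟨a, hAK ha⟩).1 (mem_subgroupOf.2 ha)))
  obtain ⟨P, hP⟩ := hA'p.exists_le_sylow
  have hPA : (P : Subgroup K) = A' := by
    refine le_antisymm (fun x hx => ?_) hP
    haveI := P.isPGroup'.isNilpotent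
    by_contra hxA
    set H : Subgroup (P : Subgroup K) := A'.subgroupOf P with hH
    have hlt : H < ⊤ := lt_top_iff_ne_top.2 fun e => hxA (subgroupOf_eq_top.1 e hx)
    have hgr : H < normalizer (H : Set (P : Subgroup K)) :=
      Group.normalizerCondition_of_isNilpotent H hlt
    obtain ⟨g, hg, hgH⟩ := SetLike.exists_of_lt hgr
    refine hgH (mem_subgroupOf.2 (mem_subgroupOf.2 (hN g g.1.2 fun a ha => ?_)))
    exact mem_subgroupOf.1 (mem_subgroupOf.1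
      ((mem_normalizer_iff.1 hg ⟨⟨a, hAK ha⟩, hP (mem_subgroupOf.2 ha)⟩).1
        (mem_subgroupOf.2 (mem_subgroupOf.2 ha))))
  have hcen : normalizer ((P : Subgroup K) : Set K) ≤ centralizer ((P : Subgroup K) : Set K) := by
    rw [hPA]
    intro g hg x hx
    exact Subtype.ext (hcomm _ (mem_subgroupOf.1 hx) _ (mem_subgroupOf.1 (hNle hg)))
  have hcomp := MonoidHom.ker_transferSylow_isComplement' P hcen
  set D := (MonoidHom.transferSylow P hcen).ker with hD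
  set V' : Subgroup K := V.subgroupOf K with hV'
  have hV'P : V' ≤ P := by
    rw [hPA]
    exact fun x hx => mem_subgroupOf.2 (hVA (mem_subgroupOf.1 hx))
  have e := subgroupOfEquivOfLe (hVA.trans hAK)
  have hVc : IsMulCommutative V' := ⟨⟨fun x y => Subtype.ext (Subtype.ext
    (hcomm _ (hVA (mem_subgroupOf.1 x.2)) _ (hVA (mem_subgroupOf.1 y.2))))⟩⟩
  have hVnc : ¬ IsCyclic V' := fun h => hnc (e.isCyclic.1 h)
  have hVn : V' ≤ normalizer (D : Set K) := fun x _ => by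
    rw [normalizer_eq_top]; trivial
  have hcopV : (Nat.card V').Coprime (Nat.card D) := by
    obtain ⟨n, hn⟩ := (P.isPGroup'.to_le hV'P).exists_card_eq
    rw [hn]
    refine Nat.Coprime.pow_left n (Nat.prime_three.coprime_iff_not_dvd.2 fun hd => ?_)
    refine P.not_dvd_index ?_
    rw [hcomp.index_eq_card]
    exact hd
  have hD1 : D = ⊥ := by
    rw [eq_bot_iff, ← CfsgLib.Coprime.iSup_centralizer_eq hVc hVnc hVn hcopV]
    refine iSup_le fun v g hg => ?_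
    obtain ⟨hgD, hgv⟩ := mem_inf.1 hg
    have hgA : (g : G) ∈ A := hV _ (mem_subgroupOf.1 v.2.1) (fun h => v.2.2 (Subtype.ext h)) g g.2
      (congrArg Subtype.val (mem_centralizer_singleton_iff.1 hgv))
    have hgP : g ∈ (P : Subgroup K) := by rw [hPA]; exact mem_subgroupOf.2 hgA
    have h1 := hcomp.disjoint.le_bot (mem_inf.2 ⟨hgD, hgP⟩)
    exact h1
  have htop : (P : Subgroup K) = ⊤ := by
    have h1 := hcomp.sup_eq_top
    rwa [hD1, bot_sup_eq] at h1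
  intro x hx
  have : (⟨x, hx⟩ : K) ∈ A' := by rw [← hPA, htop]; trivial
  exact mem_subgroupOf.1 this

variable {B : Base G}

theorem Base.psi_mem_range (B : Base G) (x : Pm) : B.ψ x ∈ B.ψ.range := ⟨x, rfl⟩

theorem Cm_map_le_range (B : Base G) : Cm.map B.ψ ≤ B.ψ.range := map_le_range _ _

theorem cent_zP_le_range (B : Base G) : centralizer ({B.ψ zP} : Set G) ≤ B.ψ.range :=
  B.cent_z.le.trans (Cm_map_le_range B)

theorem Sm_le_Cm : Sm ≤ Cm := by
  intro g hg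
  refine mem_subgroupOf.2 (mem_Pd.2 fun j => ?_)
  have h := mem_patGroup.1 (mem_subgroupOf.1 hg) 3 j (by revert j; decide +kernel)
  rw [h]
  fin_cases j <;> rfl

/-- A matrix with prescribed last row moving `zP` onto an element of `Em`. -/
def moveMat (k : Fin 3) (d a b c : ZMod 3) : Matrix (Fin 4) (Fin 4) (ZMod 3) :=
  if k = 0 then !![1, 0, 0, 0; 0, d, 0, 0; 0, 0, 1, 0; 0, a, b, c]
  else if k = 1 then !![1, 0, 0, 0; 0, d, 0, 0; 0, 0, 0, 1; 0, a, b, c]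
  else !![1, 0, 0, 0; 0, 0, d, 0; 0, 0, 0, 1; 0, a, b, c]

theorem move_eq : ∀ k d a b c,
    Matrix.transvection (0 : Fin 4) 3 (1 : ZMod 3) * moveMat k d a b c =
      moveMat k d a b c * !![1, a, b, c; 0, 1, 0, 0; 0, 0, 1, 0; 0, 0, 0, 1] := by
  decide +kernel

/-- The nontrivial elements of `Em` as conjugates of `zP`. -/
theorem Em_conj {x : Pm} (hx : x ∈ Em) (hx1 : x ≠ 1) : ∃ h : Pm, h * zP * h⁻¹ = x := by
  obtain ⟨⟨A, hdet⟩, hA⟩ := x
  have hp := mem_patGroup.1 (mem_subgroupOf.1 hx)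
  set a := A 0 1 with ha
  set b := A 0 2 with hb
  set c := A 0 3 with hc
  have hne : a ≠ 0 ∨ b ≠ 0 ∨ c ≠ 0 := by
    by_contra hh
    push Not at hh
    refine hx1 (Subtype.ext (Subtype.ext ?_))
    show A = 1
    ext i j
    fin_cases i <;> fin_cases j <;> first
      | exact hh.1
      | exact hh.2.1
      | exact hh.2.2
      | exact (hp _ _ rfl).trans (by rfl)
  have hAe : A = !![1, a, b, c; 0, 1, 0, 0; 0, 0, 1, 0; 0, 0, 0, 1] := by
    ext i j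
    fin_cases i <;> fin_cases j <;> first
      | rfl
      | exact (hp _ _ rfl).trans (by rfl)
  have key : ∀ a b c : ZMod 3, a ≠ 0 ∨ b ≠ 0 ∨ c ≠ 0 →
      ∃ k : Fin 3, ∃ d : ZMod 3, (moveMat k d a b c).det = 1 := by decide +kernel
  obtain ⟨k, d, hdet'⟩ := key a b c hne
  have hcol : ∀ k d a b c i, moveMat k d a b c i 0 = if i = 0 then 1 else 0 := by decide +kernel
  refine ⟨(⟨⟨moveMat k d a b c, hdet'⟩, mem_Pm.2 fun i => hcol k d a b c i⟩ : Pm)⁻¹, ?_⟩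
  rw [inv_inv, mul_assoc, inv_mul_eq_iff_eq_mul]
  refine Subtype.ext (Subtype.ext ?_)
  show Matrix.transvection (0 : Fin 4) 3 (1 : ZMod 3) * moveMat k d a b c = moveMat k d a b c * A
  rw [hAe]
  exact move_eq k d a b c

variable [Finite G]

/-- An element moving a nontrivial element of `Em` into the Sylow group lies in the range. -/
theorem mem_range_of_conj_Em (F : B.OnlyFacts) {x : Pm} (hx : x ∈ Em) (hx1 : x ≠ 1) {g : G}
    (hg : g * B.ψ x * g⁻¹ ∈ Sm.map B.ψ) : g ∈ B.ψ.range := by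
  obtain ⟨h, hh⟩ := Em_conj hx hx1
  have e1 : g * B.ψ x * g⁻¹ = g * B.ψ h * B.ψ zP * (g * B.ψ h)⁻¹ := by
    rw [← hh, map_mul, map_mul, map_inv]; group
  rw [e1] at hg
  obtain ⟨y, hy, hy'⟩ := F.conj_z _ (map_mono Sm_le_Cm hg)
  have hy1 : y ≠ 1 := by
    rintro rfl
    rw [map_one] at hy'
    exact zP_pow.2 (B.inj (by rw [map_one]; exact conj_eq_one_iff.1 hy'.symm))
  obtain ⟨k, hk⟩ := Em_conj hy hy1
  have e2 : (B.ψ k)⁻¹ * (g * B.ψ h) ∈ centralizer ({B.ψ zP} : Set G) := by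
    rw [mem_centralizer_singleton_iff]
    have : g * B.ψ h * B.ψ zP * (g * B.ψ h)⁻¹ = B.ψ k * B.ψ zP * (B.ψ k)⁻¹ := by
      rw [← hy', ← hk, map_mul, map_mul, map_inv]
    calc (B.ψ k)⁻¹ * (g * B.ψ h) * B.ψ zP
        = (B.ψ k)⁻¹ * (g * B.ψ h * B.ψ zP * (g * B.ψ h)⁻¹) * (g * B.ψ h) := by group
      _ = B.ψ zP * ((B.ψ k)⁻¹ * (g * B.ψ h)) := by rw [this]; group
  have h3 := cent_zP_le_range B e2
  have h4 := B.ψ.range.mul_mem (B.ψ.range.mul_mem (B.psi_mem_range k) h3) (B.psi_mem_range h⁻¹)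
  rw [map_inv] at h4
  convert h4 using 1
  group

theorem mP_ne_one (δ b c : ZMod 3) (h : b ≠ 0 ∨ c ≠ 0) : cw δ (mP b c 0 0) ≠ 1 := fun e => by
  have := cw_inj δ (e.trans (cw_one δ).symm)
  simp only [mP, pone, CwP.mk.injEq] at this
  tauto

/-- The normaliser of the image of `Mm` is in the range. -/
theorem norm_M_le (F : B.OnlyFacts) {g : G}
    (hg : ∀ x ∈ Mm, g * B.ψ x * g⁻¹ ∈ Mm.map B.ψ) : g ∈ B.ψ.range := by
  have hz : cw 0 (mP 0 1 0 0) ∈ Mm := (mem_Mm_iff 0).2 ⟨_, _, _, _, rfl⟩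
  refine mem_range_of_conj_Em F (cw_mem_Em 0 0 1) (mP_ne_one 0 0 1 (Or.inr one_ne_zero)) ?_
  obtain ⟨y, hy, hy'⟩ := hg _ hz
  obtain ⟨b, c, d, e, rfl⟩ := (mem_Mm_iff 0).1 hy
  exact ⟨_, cw_mem_Sm 0 rfl, hy'⟩

/-- The centraliser of `wEl δ` in the range. -/
theorem exists_cw_of_mem {δ : ZMod 3} {g : G} (hg : g ∈ B.ψ.range)
    (hc : g * B.ψ (wEl δ) = B.ψ (wEl δ) * g) : ∃ p, g = B.ψ (cw δ p) := by
  obtain ⟨x, rfl⟩ := hg
  obtain ⟨p, rfl⟩ := exists_cw δ (B.inj (by rw [map_mul, map_mul]; exact hc) :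
    x * wEl δ = wEl δ * x)
  exact ⟨p, rfl⟩

theorem psi_cw_pow_three (δ : ZMod 3) (b c d e : ZMod 3) : cw δ (mP b c d e) ^ 3 = 1 := by
  rw [pow_succ, pow_two, cw_mul, cw_mul, ← cw_one δ]
  congr 1
  revert δ b c d e
  decide +kernel

theorem Mm_comm {x y : Pm} (hx : x ∈ Mm) (hy : y ∈ Mm) : x * y = y * x := by
  obtain ⟨b, c, d, e, rfl⟩ := (mem_Mm_iff 0).1 hx
  obtain ⟨b', c', d', e', rfl⟩ := (mem_Mm_iff 0).1 hy
  rw [cw_mul, cw_mul]
  congr 1
  exact (by decide +kernel : ∀ b c d e b' c' d' e' : ZMod 3,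
    pmul 0 (mP b c d e) (mP b' c' d' e') = pmul 0 (mP b' c' d' e') (mP b c d e)) b c d e b' c' d' e'

theorem comm_mP_cases : ∀ (δ b c d e : ZMod 3), d ≠ 0 → ∀ p : CwP,
    pmul δ p (mP b c d e) = pmul δ (mP b c d e) p → p.s = false ∧ p.h = 0 := by
  decide +kernel

/-- The centraliser of `wEl δ` and of an element of `Mm` outside `⟨Em, wEl δ⟩`. -/
theorem cent_pair_le (F : B.OnlyFacts) {δ b c d e : ZMod 3} (hd : d ≠ 0) :
    centralizer ({B.ψ (cw δ (mP b c d e)), B.ψ (wEl δ)} : Set G) ≤ Mm.map B.ψ := by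
  haveI : Fact (Nat.Prime 3) := ⟨Nat.prime_three⟩
  set K := centralizer ({B.ψ (cw δ (mP b c d e)), B.ψ (wEl δ)} : Set G) with hK
  have hq : cw δ (mP b c d e) ∈ Mm := (mem_Mm_iff δ).2 ⟨_, _, _, _, rfl⟩
  have hw : wEl δ ∈ Mm := (mem_Mm_iff δ).2 ⟨δ, 0, 0, 1, rfl⟩
  have hfin := comm_mP_cases δ b c d e hd
  have hin : ∀ g ∈ K, g ∈ B.ψ.range → g ∈ Mm.map B.ψ := by
    intro g hg hgr
    obtain ⟨p, rfl⟩ := exists_cw_of_mem hgr (δ := δ) (mem_centralizer_iff.1 hg _ (by simp)).symm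
    have h1 := (mem_centralizer_iff.1 hg _ (Set.mem_insert _ _)).symm
    rw [← map_mul, ← map_mul, cw_mul, cw_mul] at h1
    obtain ⟨hs, hh⟩ := hfin p (cw_inj δ (B.inj h1))
    exact ⟨cw δ p, (mem_Mm_iff δ).2 ⟨p.b, p.c, p.d, p.e, by
      congr 1; cases p; simp_all [mP]⟩, rfl⟩
  refine le_of_self_normalizing _ K
    (closure {B.ψ (cw δ (mP 0 1 0 0)), B.ψ (cw δ (mP 1 0 0 0))}) ?_ ?_ ?_ ?_ ?_ ?_ ?_
  · rintro _ ⟨x, hx, rfl⟩
    refine mem_centralizer_iff.2 fun y hy => ?_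
    rcases hy with rfl | rfl <;> rw [← map_mul, ← map_mul]
    exacts [congrArg _ (Mm_comm hq hx), congrArg _ (Mm_comm hw hx)]
  · rintro ⟨_, x, hx, rfl⟩
    obtain ⟨b', c', d', e', rfl⟩ := (mem_Mm_iff δ).1 hx
    exact ⟨1, Subtype.ext (by show _ ^ 3 ^ 1 = 1; rw [pow_one, ← map_pow, psi_cw_pow_three, map_one])⟩
  · rintro _ ⟨x, hx, rfl⟩ _ ⟨y, hy, rfl⟩
    rw [← map_mul, ← map_mul, Mm_comm hx hy]
  · exact fun g hg hn => hin g hg (norm_M_le F fun x hx => hn _ (mem_map_of_mem _ hx))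
  · rw [closure_le]
    rintro _ (rfl | rfl) <;> exact mem_map_of_mem _ ((mem_Mm_iff δ).2 ⟨_, _, _, _, rfl⟩)
  · intro hcy
    obtain ⟨⟨w, hw'⟩, hgen⟩ := hcy.exists_generator
    obtain ⟨i, hi⟩ := mem_zpowers_iff.1 (hgen ⟨_, subset_closure (Set.mem_insert _ _)⟩)
    obtain ⟨j, hj⟩ := mem_zpowers_iff.1 (hgen ⟨_, subset_closure (Or.inr rfl)⟩)
    have hYle : closure {B.ψ (cw δ (mP 0 1 0 0)), B.ψ (cw δ (mP 1 0 0 0))} ≤ Mm.map B.ψ := by
      rw [closure_le]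
      rintro _ (rfl | rfl) <;> exact mem_map_of_mem _ ((mem_Mm_iff δ).2 ⟨_, _, _, _, rfl⟩)
    obtain ⟨x, hx, rfl⟩ := hYle hw'
    obtain ⟨b', c', d', e', rfl⟩ := (mem_Mm_iff δ).1 hx
    have hpow : ∀ i : ℤ, B.ψ (cw δ (mP b' c' d' e')) ^ i =
        B.ψ (cw δ (mP (i * b') (i * c') (i * d') (i * e'))) := by
      intro i
      induction i using Int.induction_on with
      | zero => simp only [zpow_zero, Int.cast_zero, zero_mul]; rw [show mP 0 0 0 0 = pone from rfl, cw_one, map_one]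
      | succ n ih =>
        rw [zpow_add_one, ih, ← map_mul, cw_mul]
        congr 2
        simp [mP, pmul, sgn3]
        refine ⟨?_, ?_, ?_, ?_⟩ <;> ring
      | pred n ih =>
        rw [zpow_sub_one, ih, mul_inv_eq_iff_eq_mul, ← map_mul, cw_mul]
        congr 2
        simp [mP, pmul, sgn3]
        refine ⟨?_, ?_, ?_, ?_⟩ <;> ring
    have hi' : B.ψ (cw δ (mP b' c' d' e')) ^ i = _ := congrArg Subtype.val hi
    have hj' : B.ψ (cw δ (mP b' c' d' e')) ^ j = _ := congrArg Subtype.val hj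
    rw [hpow] at hi' hj'
    have h1 := cw_inj δ (B.inj hi')
    have h2 := cw_inj δ (B.inj hj')
    simp only [mP, CwP.mk.injEq] at h1 h2
    obtain ⟨-, a1, a2, -⟩ := h1
    obtain ⟨-, b1, b2, -⟩ := h2
    have hi0 : (i : ZMod 3) ≠ 0 := fun e => by rw [e, zero_mul] at a2; exact zero_ne_one a2
    exact one_ne_zero (b1.symm.trans (by rw [(mul_eq_zero.1 a1).resolve_left hi0, mul_zero]))
  · intro v hv hv1 g hg hgv
    refine hin g hg ?_
    have hYE : closure {B.ψ (cw δ (mP 0 1 0 0)), B.ψ (cw δ (mP 1 0 0 0))} ≤ Em.map B.ψ := by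
      rw [closure_le]
      rintro _ (rfl | rfl) <;> exact mem_map_of_mem _ (cw_mem_Em δ _ _)
    obtain ⟨x, hx, rfl⟩ := hYE hv
    refine mem_range_of_conj_Em F hx (fun e => hv1 (by rw [e, map_one])) ?_
    rw [hgv, mul_inv_cancel_right]
    have hxM : B.ψ x ∈ Mm.map B.ψ := (by
      rw [closure_le]
      rintro _ (rfl | rfl) <;> exact mem_map_of_mem _ ((mem_Mm_iff δ).2 ⟨_, _, _, _, rfl⟩) :
      closure {B.ψ (cw δ (mP 0 1 0 0)), B.ψ (cw δ (mP 1 0 0 0))} ≤ Mm.map B.ψ) hv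
    obtain ⟨y, hy, hy'⟩ := hxM
    obtain ⟨b', c', d', e', rfl⟩ := (mem_Mm_iff δ).1 hy
    exact hy' ▸ mem_map_of_mem _ (cw_mem_Sm δ rfl)

/-- An element centralising `wEl δ` and moving an element of `Mm` outside `⟨wEl δ⟩` into the
Sylow group of the centraliser lies in the range. -/
theorem mem_range_of_conj_M (F : B.OnlyFacts) {δ b c d e : ZMod 3}
    (hne : ∀ i, mP b c d e ≠ wP δ i) {g : G} (hgw : g * B.ψ (wEl δ) = B.ψ (wEl δ) * g) {r : CwP}
    (hr : r.s = false) (hg : g * B.ψ (cw δ (mP b c d e)) * g⁻¹ = B.ψ (cw δ r)) :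
    g ∈ B.ψ.range := by
  by_cases hd : d = 0
  · subst hd
    have hfin : ∀ δ b c e : ZMod 3, (∀ i, mP b c 0 e ≠ wP δ i) →
        (b - δ * e ≠ 0 ∨ c ≠ 0) ∧ pmul δ (mP (b - δ * e) c 0 0) (wP δ e) = mP b c 0 e := by
      decide +kernel
    obtain ⟨hne', hsplit⟩ := hfin δ b c e hne
    refine mem_range_of_conj_Em F (cw_mem_Em δ (b - δ * e) c) (mP_ne_one δ _ _ hne') ?_
    have hwp : ∀ e : ZMod 3, B.ψ (cw δ (wP δ e)) * g = g * B.ψ (cw δ (wP δ e)) := by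
      intro i
      have hi : i = 0 ∨ i = 1 ∨ i = 2 := by revert i; decide +kernel
      have h1 : cw δ (wP δ 1) = wEl δ := by simp [wP, wEl]
      rcases hi with rfl | rfl | rfl
      · rw [show wP δ 0 = pone by simp [wP, pone], cw_one, map_one, one_mul, mul_one]
      · rw [h1, hgw]
      · rw [(by decide +kernel : ∀ δ : ZMod 3, wP δ 2 = pmul δ (wP δ 1) (wP δ 1)) δ, ← cw_mul, h1, map_mul,
          mul_assoc, ← hgw, ← mul_assoc, ← hgw, mul_assoc]
    have hE : B.ψ (cw δ (mP (b - δ * e) c 0 0)) =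
        B.ψ (cw δ (mP b c 0 e)) * B.ψ (cw δ (wP δ (-e))) := by
      rw [← map_mul, cw_mul]
      congr 2
      exact (by decide +kernel : ∀ δ b c e : ZMod 3,
        mP (b - δ * e) c 0 0 = pmul δ (mP b c 0 e) (wP δ (-e))) δ b c e
    rw [hE, show g * (B.ψ (cw δ (mP b c 0 e)) * B.ψ (cw δ (wP δ (-e)))) * g⁻¹ =
      g * B.ψ (cw δ (mP b c 0 e)) * g⁻¹ * (g * B.ψ (cw δ (wP δ (-e))) * g⁻¹) by group, hg,
      ← hwp, mul_inv_cancel_right, ← map_mul, cw_mul]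
    exact mem_map_of_mem _ (cw_mem_Sm δ (by simp [pmul, wP, hr]))
  · have hz : g⁻¹ * B.ψ zP * g ∈ Mm.map B.ψ := by
      refine cent_pair_le F hd (b := b) (c := c) (e := e) (δ := δ) ?_
      refine mem_centralizer_iff.2 fun y hy => ?_
      have hz1 : B.ψ zP * B.ψ (cw δ r) = B.ψ (cw δ r) * B.ψ zP := by
        rw [← map_mul, ← map_mul, cw_comm_zP δ hr]
      have hz2 : B.ψ zP * B.ψ (wEl δ) = B.ψ (wEl δ) * B.ψ zP := by
        rw [← map_mul, ← map_mul]; exact congrArg _ (cw_comm_zP δ rfl).symm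
      rcases hy with rfl | rfl
      · rw [show B.ψ (cw δ (mP b c d e)) = g⁻¹ * B.ψ (cw δ r) * g by rw [← hg]; group]
        calc g⁻¹ * B.ψ (cw δ r) * g * (g⁻¹ * B.ψ zP * g)
            = g⁻¹ * (B.ψ (cw δ r) * B.ψ zP) * g := by group
          _ = g⁻¹ * B.ψ zP * g * (g⁻¹ * B.ψ (cw δ r) * g) := by rw [← hz1]; group
      · have hw' : g⁻¹ * B.ψ (wEl δ) * g = B.ψ (wEl δ) := by
          rw [mul_assoc, ← hgw, inv_mul_cancel_left]
        rw [← hw']
        calc g⁻¹ * B.ψ (wEl δ) * g * (g⁻¹ * B.ψ zP * g)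
            = g⁻¹ * (B.ψ (wEl δ) * B.ψ zP) * g := by group
          _ = g⁻¹ * B.ψ zP * g * (g⁻¹ * B.ψ (wEl δ) * g) := by rw [← hz2]; group
    have hzE : zP ∈ Em := zP_eq_cw δ ▸ cw_mem_Em δ 0 1
    obtain ⟨y, hy, hy'⟩ := hz
    obtain ⟨b', c', d', e', rfl⟩ := (mem_Mm_iff δ).1 hy
    have h1 := mem_range_of_conj_Em F hzE zP_pow.2 (g := g⁻¹) (by
      rw [inv_inv, ← hy']
      exact mem_map_of_mem _ (cw_mem_Sm δ rfl))
    simpa using B.ψ.range.inv_mem h1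

end CfsgLib.Recog.LFourThree
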