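import Cfsg.Agent.Lib.Recog.LFourThree.Base

/-!
Parameters for the centraliser in `Pm` of the elements `w δ = 1 + δ E₀₂ + E₁₃`, and their
multiplication.
-/

set_option autoImplicit false

namespace CfsgLib.Recog.LFourThree

open Matrix

/-- Parameters of an element of the centraliser. -/
structure CwP where
  /-- the sign -/
  s : Bool
  /-- the entry `(0,2)` -/
  b : ZMod 3
  /-- the entry `(0,3)` -/
  c : ZMod 3
  /-- the entry `(1,2)` -/
  d : ZMod 3
  /-- the entry `(1,3)` -/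
  e : ZMod 3
  /-- the entry `(2,3)` -/
  h : ZMod 3
  deriving DecidableEq

/-- The parameters as a tuple. -/
def cwEquiv : CwP ≃ Bool × ZMod 3 × ZMod 3 × ZMod 3 × ZMod 3 × ZMod 3 where
  toFun p := (p.s, p.b, p.c, p.d, p.e, p.h)
  invFun x := ⟨x.1, x.2.1, x.2.2.1, x.2.2.2.1, x.2.2.2.2.1, x.2.2.2.2.2⟩
  left_inv _ := rfl
  right_inv _ := rfl

instance : Fintype CwP := Fintype.ofEquiv _ cwEquiv.symm

/-- The diagonal sign. -/
def sgn3 (s : Bool) : ZMod 3 := if s then -1 else 1

/-- The matrix with given parameters. -/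
def cwMat (δ : ZMod 3) (p : CwP) : Matrix (Fin 4) (Fin 4) (ZMod 3) :=
  !![1, δ * p.h, p.b, p.c; 0, sgn3 p.s, p.d, p.e; 0, 0, 1, p.h; 0, 0, 0, sgn3 p.s]

theorem cwMat_det (δ : ZMod 3) (p : CwP) : (cwMat δ p).det = 1 := by
  rw [Matrix.det_of_upperTriangular (by
    intro i j hij
    fin_cases i <;> fin_cases j <;> first | rfl | exact absurd hij (by decide))]
  simp only [Fin.prod_univ_four, cwMat, sgn3]
  cases p.s <;> simp [cwMat]

/-- The element with given parameters. -/
def cw (δ : ZMod 3) (p : CwP) : Pm :=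
  ⟨⟨cwMat δ p, cwMat_det δ p⟩, mem_Pm.2 fun i => by fin_cases i <;> rfl⟩

/-- The product of parameters. -/
def pmul (δ : ZMod 3) (p q : CwP) : CwP where
  s := xor p.s q.s
  b := p.b + q.b + δ * p.h * q.d
  c := q.c + δ * p.h * q.e + p.b * q.h + p.c * sgn3 q.s
  d := sgn3 p.s * q.d + p.d
  e := sgn3 p.s * q.e + p.d * q.h + p.e * sgn3 q.s
  h := q.h + p.h * sgn3 q.s

/-- The parameters of the identity. -/
def pone : CwP := ⟨false, 0, 0, 0, 0, 0⟩

theorem cw_mul (δ : ZMod 3) (p q : CwP) : cw δ p * cw δ q = cw δ (pmul δ p q) := by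
  apply Subtype.ext
  apply Subtype.ext
  show cwMat δ p * cwMat δ q = cwMat δ (pmul δ p q)
  obtain ⟨s, b, c, d, e', h'⟩ := p
  obtain ⟨s2, b2, c2, d2, e2, h2⟩ := q
  ext i j
  cases s <;> cases s2 <;> fin_cases i <;> fin_cases j <;>
    simp [cwMat, pmul, sgn3, Matrix.mul_apply, Fin.sum_univ_four] <;> ring

theorem cw_one (δ : ZMod 3) : cw δ pone = 1 := by
  apply Subtype.ext
  apply Subtype.ext
  show cwMat δ pone = 1
  ext i j
  fin_cases i <;> fin_cases j <;> simp [cwMat, pone, sgn3]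

theorem cw_inj (δ : ZMod 3) : Function.Injective (cw δ) := fun p q e => by
  have h : cwMat δ p = cwMat δ q := congrArg (fun g : Pm => ((g : SL4) : Matrix (Fin 4) (Fin 4) (ZMod 3))) e
  obtain ⟨s, b, c, d, e', h'⟩ := p
  obtain ⟨s2, b2, c2, d2, e2, h2⟩ := q
  have h11 : sgn3 s = sgn3 s2 := congrFun (congrFun h 1) 1
  have hb : b = b2 := congrFun (congrFun h 0) 2
  have hc : c = c2 := congrFun (congrFun h 0) 3
  have hd : d = d2 := congrFun (congrFun h 1) 2
  have he : e' = e2 := congrFun (congrFun h 1) 3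
  have hh : h' = h2 := congrFun (congrFun h 2) 3
  have hs : s = s2 := (by decide +kernel : ∀ x y : Bool, sgn3 x = sgn3 y → x = y) s s2 h11
  subst hs hb hc hd he hh
  rfl

/-- The element `1 + δ E₀₂ + E₁₃`. -/
def wEl (δ : ZMod 3) : Pm := cw δ ⟨false, δ, 0, 0, 1, 0⟩

/-- The parameters of the powers of `wEl`. -/
def wP (δ i : ZMod 3) : CwP := ⟨false, δ * i, 0, 0, i, 0⟩

theorem cw_comm_wEl (δ : ZMod 3) (p : CwP) : cw δ p * wEl δ = wEl δ * cw δ p := by
  rw [wEl, cw_mul, cw_mul]
  congr 1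
  revert p δ
  decide +kernel

theorem exists_cw (δ : ZMod 3) {g : Pm} (hg : g * wEl δ = wEl δ * g) : ∃ p, g = cw δ p := by
  obtain ⟨⟨A, hdet⟩, hA⟩ := g
  have hcol := mem_Pm.1 hA
  have h00 : A 0 0 = 1 := hcol 0
  have h10 : A 1 0 = 0 := hcol 1
  have h20 : A 2 0 = 0 := hcol 2
  have h30 : A 3 0 = 0 := hcol 3
  have hm : A * cwMat δ ⟨false, δ, 0, 0, 1, 0⟩ = cwMat δ ⟨false, δ, 0, 0, 1, 0⟩ * A :=
    congrArg (fun x : Pm => ((x : SL4) : Matrix (Fin 4) (Fin 4) (ZMod 3))) hg
  have E := fun i j => congrFun (congrFun hm i) j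
  simp only [Matrix.mul_apply, Fin.sum_univ_four, cwMat, sgn3] at E
  have e03 : A 0 1 = δ * A 2 3 := by
    have := E 0 3; simp at this; linear_combination this
  have e11 : A 1 1 = A 3 3 := by
    have := E 1 3; simp at this; linear_combination this
  have e21 : A 2 1 = 0 := by
    have := E 2 3; simpa using this
  have e31 : A 3 1 = 0 := by
    have := E 3 3; simpa using this
  have e32 : A 3 2 = 0 := by
    have := E 1 2; simp [h10] at this; exact this
  have hdet' : A 1 1 * A 2 2 * A 3 3 = 1 := by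
    rw [Matrix.det_of_upperTriangular (by
      intro i j hij
      fin_cases i <;> fin_cases j <;>
        first
        | exact h10
        | exact h20
        | exact h30
        | exact e21
        | exact e31
        | exact e32
        | exact absurd hij (by decide))] at hdet
    simpa [Fin.prod_univ_four, h00] using hdet
  rw [← e11] at hdet'
  have hsq : ∀ a f : ZMod 3, a * f * a = 1 → f = 1 ∧ (a = 1 ∨ a = -1) := by decide +kernel
  obtain ⟨h22, ha⟩ := hsq _ _ hdet'
  refine ⟨⟨decide (A 1 1 = -1), A 0 2, A 0 3, A 1 2, A 1 3, A 2 3⟩, Subtype.ext (Subtype.ext ?_)⟩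
  show A = cwMat δ _
  have hs : sgn3 (decide (A 1 1 = -1)) = A 1 1 := by
    rcases ha with e | e <;> rw [e] <;> decide +kernel
  ext i j
  fin_cases i <;> fin_cases j <;>
    first
    | exact h00
    | exact h10
    | exact h20
    | exact h30
    | exact e03
    | exact e21
    | exact e31
    | exact e32
    | exact h22
    | exact hs.symm
    | exact e11.symm.trans hs.symm
    | rfl

/-- The parameters of `Mm`. -/
def mP (b c d e : ZMod 3) : CwP := ⟨false, b, c, d, e, 0⟩

theorem mem_Mm_iff (δ : ZMod 3) {g : Pm} : g ∈ Mm ↔ ∃ b c d e, g = cw δ (mP b c d e) := by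
  constructor
  · intro hg
    have h := mem_patGroup.1 (Subgroup.mem_subgroupOf.1 hg)
    refine ⟨((g : SL4) : Matrix (Fin 4) (Fin 4) (ZMod 3)) 0 2, ((g : SL4) : Matrix (Fin 4) (Fin 4) (ZMod 3)) 0 3,
      ((g : SL4) : Matrix (Fin 4) (Fin 4) (ZMod 3)) 1 2, ((g : SL4) : Matrix (Fin 4) (Fin 4) (ZMod 3)) 1 3,
      Subtype.ext (Subtype.ext ?_)⟩
    show ((g : SL4) : Matrix (Fin 4) (Fin 4) (ZMod 3)) = cwMat δ _
    ext i j
    fin_cases i <;> fin_cases j <;>
      first
      | rfl
      | (refine (h _ _ (by rfl)).trans ?_; simp [cwMat, mP, sgn3])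
  · rintro ⟨b, c, d, e, rfl⟩
    refine Subgroup.mem_subgroupOf.2 (mem_patGroup.2 fun i j hij => ?_)
    show cwMat δ _ i j = _
    fin_cases i <;> fin_cases j <;>
      first | (simp [patM] at hij; done) | simp [cwMat, mP, sgn3]

theorem cw_mem_Sm (δ : ZMod 3) {p : CwP} (hp : p.s = false) : cw δ p ∈ Sm := by
  refine Subgroup.mem_subgroupOf.2 (mem_patGroup.2 fun i j hij => ?_)
  show cwMat δ p i j = _
  fin_cases i <;> fin_cases j <;>
    first | (simp [patS] at hij; done) | simp [cwMat, sgn3, hp]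

theorem cw_mem_Em (δ : ZMod 3) (b c : ZMod 3) : cw δ (mP b c 0 0) ∈ Em := by
  refine Subgroup.mem_subgroupOf.2 (mem_patGroup.2 fun i j hij => ?_)
  show cwMat δ _ i j = _
  fin_cases i <;> fin_cases j <;>
    first | (simp [patE] at hij; done) | simp [cwMat, mP, sgn3]

theorem zP_eq_cw (δ : ZMod 3) : zP = cw δ (mP 0 1 0 0) := by
  apply Subtype.ext
  apply Subtype.ext
  show Matrix.transvection (0 : Fin 4) 3 (1 : ZMod 3) = cwMat δ _
  ext i j
  fin_cases i <;> fin_cases j <;>
    simp [cwMat, mP, sgn3, Matrix.transvection, Matrix.single_apply]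

theorem cw_comm_zP (δ : ZMod 3) {p : CwP} (hp : p.s = false) : cw δ p * zP = zP * cw δ p := by
  rw [zP_eq_cw δ, cw_mul, cw_mul]
  congr 1
  revert p δ
  decide +kernel

theorem y2P_eq_wEl : y2P = wEl 0 := by
  apply Subtype.ext
  apply Subtype.ext
  show Matrix.transvection (1 : Fin 4) 3 (1 : ZMod 3) = cwMat 0 _
  ext i j
  fin_cases i <;> fin_cases j <;> simp [cwMat, sgn3, Matrix.transvection, Matrix.single_apply]

end CfsgLib.Recog.LFourThree
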