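import Cfsg.Agent.Lib.Recog.LFourThree.OneLocal

/-!
Quotients of subgroups of the centraliser of `wEl δ` by the subgroup it generates.
-/

set_option autoImplicit false

namespace CfsgLib.Recog.LFourThree

open Subgroup

universe u

variable {G : Type u} [Group G] (B : Base G) {δ : ZMod 3} (C : Subgroup G)

theorem wEl_eq_wP (δ : ZMod 3) : wEl δ = cw δ (wP δ 1) := by simp [wEl, wP]

theorem wP_zero (δ : ZMod 3) : wP δ 0 = pone := by simp [wP, pone]

theorem pmul_wP : ∀ δ i j : ZMod 3, pmul δ (wP δ i) (wP δ j) = wP δ (i + j) := by decide +kernel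

theorem wEl_pow (δ : ZMod 3) (n : ℕ) : wEl δ ^ n = cw δ (wP δ n) := by
  induction n with
  | zero => rw [pow_zero, Nat.cast_zero, wP_zero, cw_one]
  | succ n ih => rw [pow_succ, ih, wEl_eq_wP, cw_mul, pmul_wP, Nat.cast_succ]

variable {C} [Finite G]

theorem mem_zpowers_wEl {w : C} (hw : (w : G) = B.ψ (wEl δ)) {x : C} :
    x ∈ zpowers w ↔ ∃ i, (x : G) = B.ψ (cw δ (wP δ i)) := by
  constructor
  · intro hx
    obtain ⟨n, hn⟩ := mem_powers_iff_mem_zpowers.2 hx
    refine ⟨n, ?_⟩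
    rw [← hn, SubmonoidClass.coe_pow, hw, ← map_pow, wEl_pow]
  · rintro ⟨i, hi⟩
    refine mem_zpowers_iff.2 ⟨(i.val : ℤ), Subtype.ext ?_⟩
    rw [zpow_natCast, SubmonoidClass.coe_pow, hw, ← map_pow, wEl_pow, hi, ZMod.natCast_rightInverse i]

omit [Finite G] in
theorem zpowers_normal {w : C} (hw : (w : G) = B.ψ (wEl δ))
    (hC : ∀ g ∈ C, g * B.ψ (wEl δ) = B.ψ (wEl δ) * g) : (zpowers w).Normal := by
  refine ⟨fun x hx g => ?_⟩
  have hc : Commute g w := Subtype.ext (by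
    show (g : G) * (w : G) = (w : G) * (g : G)
    rw [hw]; exact hC g g.2)
  obtain ⟨n, rfl⟩ := mem_zpowers_iff.1 hx
  rwa [(hc.zpow_right n).eq, mul_inv_cancel_right]

omit [Finite G] in
theorem cw_mem_centralizer (δ : ZMod 3) (p : CwP) :
    B.ψ (cw δ p) ∈ centralizer ({B.ψ (wEl δ)} : Set G) := by
  rw [mem_centralizer_singleton_iff, ← map_mul, ← map_mul, cw_comm_wEl]

end CfsgLib.Recog.LFourThree
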