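import Cfsg.Agent.Lib.Recog.LFourThree.OneCentT
import Cfsg.Agent.Lib.Recog.LFourThree.IdentPoint
import Cfsg.Agent.Lib.Recog.McLInv.Endgame
import Cfsg.Agent.Lib.Invol.PSLThreeCent

/-!
Case of one elementary group: the parabolic is the whole group. Otherwise it would be strongly
embedded, and some coset would give an odd subgroup meeting `Em` trivially and too large.
-/

set_option autoImplicit false

namespace CfsgLib.Recog.LFourThree

open Subgroup Ident

universe u

theorem ord_conj {M : Type*} [Group M] (g x : M) : orderOf (g * x * g⁻¹) = orderOf x :=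
  orderOf_injective (MulAut.conj g).toMonoidHom (MulAut.conj g).injective x

theorem tone_ne : tT ≠ tone ∧ tmul tT tT = tone := by decide +kernel

theorem tP_invol : orderOf tP = 2 := by
  rw [orderOf_eq_prime_iff, tP_eq, pow_two, tm_mul, tone_ne.2, tm_one]
  exact ⟨rfl, fun h => tone_ne.1 (tm_inj (h.trans tm_one.symm))⟩

theorem lin_tP : lin tP = (CfsgLib.Invol.invol3 : Matrix.SpecialLinearGroup (Fin 3) (ZMod 3)) := by
  apply Subtype.ext
  rw [lin_coe]
  ext i j
  fin_cases i <;> fin_cases j <;>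
    simp [block, tP, tD, CfsgLib.Invol.invol3, Matrix.diagonal]

theorem Em_cube {e : Pm} (he : e ∈ Em) : e ^ 3 = 1 := by
  obtain rfl | he1 := eq_or_ne e 1
  · simp
  obtain ⟨h, rfl⟩ := Em_conj he he1
  rw [conj_pow, zP_pow.1, mul_one, mul_inv_cancel]

/-- The involutions of `Pm` are conjugate. -/
theorem invol_conj {x : Pm} (hx : orderOf x = 2) : ∃ g : Pm, g * tP * g⁻¹ = x := by
  haveI : Fact (Nat.Prime 3) := ⟨Nat.prime_three⟩
  have hxx : x * x = 1 := by rw [← pow_two, ← hx, pow_orderOf_eq_one]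
  have hl1 : lin x ≠ 1 := fun h => by
    have h3 := orderOf_dvd_of_pow_eq_one (Em_cube (mem_Em_iff.2 h))
    rw [hx] at h3
    norm_num at h3
  obtain ⟨g, hg⟩ := CfsgLib.Invol.sl_three_involution_conj two_ne_zero_z3
    (s := lin x) (by rw [← map_mul, hxx, map_one]) hl1
  obtain ⟨m, rfl⟩ := lin_surjective g
  rw [← lin_tP] at hg
  set e := m⁻¹ * x * m * tP⁻¹ with he
  have heE : e ∈ Em := mem_Em_iff.2 (by
    rw [he, map_mul, map_mul, map_mul, map_inv, map_inv, hg]; group)
  have htt : tP * tP = 1 := by rw [← pow_two, ← tP_invol, pow_orderOf_eq_one]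
  have hti : tP⁻¹ = tP := inv_eq_of_mul_eq_one_right htt
  have hinv : tP * e * tP = e⁻¹ := by
    have h1 : e * tP * (e * tP) = 1 := by
      rw [he, show m⁻¹ * x * m * tP⁻¹ * tP * (m⁻¹ * x * m * tP⁻¹ * tP) = m⁻¹ * (x * x) * m by group,
        hxx]
      group
    exact (inv_eq_of_mul_eq_one_right (by rw [← h1]; group)).symm
  have h3 : e * e * e = 1 := by
    have h4 := Em_cube heE
    rwa [pow_succ, pow_two] at h4
  refine ⟨m * (e * e), ?_⟩
  have h2 : e * e * tP * (e * e)⁻¹ = e * tP := by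
    have e1 : tP * (e * e)⁻¹ = e * e * tP := by
      have e2 : tP * e⁻¹ = e * tP := by
        rw [← hinv, ← mul_assoc, ← mul_assoc, htt, one_mul]
      rw [mul_inv_rev, ← mul_assoc, e2, mul_assoc, e2, ← mul_assoc]
    rw [mul_assoc (e * e) tP, e1, ← mul_assoc, ← mul_assoc (e * e) e, h3, one_mul]
  rw [show m * (e * e) * tP * (m * (e * e))⁻¹ = m * (e * e * tP * (e * e)⁻¹) * m⁻¹ by group, h2, he]
  group

variable {G : Type u} [Group G] [Finite G]

/-- With one elementary group the parabolic is everything. -/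
theorem Base.eq_top_of_only (B : Base G) (_hO : B.Only) (F : B.OnlyFacts) : B.ψ.range = ⊤ := by
  classical
  haveI : Fintype G := Fintype.ofFinite G
  haveI : Fact (Nat.Prime 2) := ⟨Nat.prime_two⟩
  haveI : Fact (Nat.Prime 3) := ⟨Nat.prime_three⟩
  set H := B.ψ.range with hH
  set t := B.ψ tP with htdef
  have ht : orderOf t = 2 := by rw [htdef, orderOf_injective B.ψ B.inj, tP_invol]
  have hC : centralizer ({t} : Set G) ≤ H := cent_tP_le F
  have hone : ∀ x ∈ H, orderOf x = 2 → ∃ g ∈ H, g * t * g⁻¹ = x := by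
    rintro _ ⟨p, rfl⟩ hp
    rw [orderOf_injective B.ψ B.inj] at hp
    obtain ⟨g, rfl⟩ := invol_conj hp
    exact ⟨B.ψ g, B.psi_mem_range g, by rw [map_mul, map_mul, map_inv]⟩
  have hcent : ∀ z ∈ H, orderOf z = 2 → ∀ g : G, g * z = z * g → g ∈ H := by
    intro z hz hz2 g hg
    obtain ⟨h, hh, rfl⟩ := hone z hz hz2
    have : h⁻¹ * g * h ∈ H := hC (mem_centralizer_singleton_iff.2 (by
      calc h⁻¹ * g * h * t = h⁻¹ * (g * (h * t * h⁻¹)) * h := by group
        _ = t * (h⁻¹ * g * h) := by rw [hg]; group))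
    have := H.mul_mem (H.mul_mem hh this) (H.inv_mem hh)
    rwa [show h * (h⁻¹ * g * h) * h⁻¹ = g by group] at this
  have hfus : ∀ j ∈ H, orderOf j = 2 → ∀ g : G, g * j * g⁻¹ ∈ H → g ∈ H := by
    intro j hj hj2 g hg
    obtain ⟨a, ha, hae⟩ := hone j hj hj2
    obtain ⟨b, hb, hbe⟩ := hone _ hg (by rw [ord_conj, hj2])
    have h1 : b⁻¹ * g * a ∈ H := hC (mem_centralizer_singleton_iff.2 (by
      calc b⁻¹ * g * a * t = b⁻¹ * g * (a * t * a⁻¹) * a := by group
        _ = b⁻¹ * (g * j * g⁻¹) * (g * a) := by rw [hae]; group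
        _ = b⁻¹ * (b * t * b⁻¹) * (g * a) := by rw [hbe]
        _ = t * (b⁻¹ * g * a) := by group))
    have := H.mul_mem (H.mul_mem hb h1) (H.inv_mem ha)
    rwa [show b * (b⁻¹ * g * a) * a⁻¹ = g by group] at this
  by_contra htop
  -- orders
  have hcardC : Nat.card (centralizer ({t} : Set G)) = 144 := by
    have hm : ∀ x : TQ, B.ψ (tm x) ∈ centralizer ({t} : Set G) := fun x => by
      rw [mem_centralizer_singleton_iff, htdef, ← map_mul, ← map_mul, tP_eq, tm_mul, tm_mul, tmul_tT]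
    rw [← inTP_card.2, ← Nat.card_eq_fintype_card]
    refine (Nat.card_congr (Equiv.ofBijective (fun x => ⟨B.ψ (tm x), hm x⟩) ⟨fun x y h =>
      tm_inj (B.inj (congrArg Subtype.val h)), fun g => ?_⟩)).symm
    obtain ⟨p, hp⟩ := hC g.2
    obtain ⟨x, rfl⟩ := exists_tm (g := p) (B.inj (by
      rw [map_mul, map_mul, hp]
      exact mem_centralizer_singleton_iff.1 g.2))
    exact ⟨x, Subtype.ext hp⟩
  set s := Nat.card SL3 with hs
  have hcardH : Nat.card H = 27 * s := by
    have h0 := card_mul_index lin.ker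
    rw [index_ker, Nat.card_congr (MulEquiv.subgroupCongr ker_lin).toEquiv, card_Em,
      MonoidHom.range_eq_top.2 lin_surjective, card_top] at h0
    rw [h0]
    exact Nat.card_congr (MonoidHom.ofInjective B.inj).symm.toEquiv
  set I := ((fun g => g * t * g⁻¹) '' (H : Set G)).ncard with hI
  have hHI : I * 144 = 27 * s := by
    have := CfsgLib.Recog.McLInv.ncard_conj_mul H t
    rwa [Nat.card_congr (subgroupOfEquivOfLe hC).toEquiv, hcardC, hcardH] at this
  obtain ⟨K, hK⟩ : ∃ K : Finset G, ∀ x, x ∈ K ↔ ∃ g : G, g * t * g⁻¹ = x :=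
    ⟨Finset.univ.image fun g => g * t * g⁻¹, fun x => by simp⟩
  have horder : ∀ x ∈ K, orderOf x = 2 := fun x hx => by
    obtain ⟨g, rfl⟩ := (hK x).1 hx
    rw [ord_conj, ht]
  haveI : Fintype (G ⧸ H) := Fintype.ofFinite _
  have hKcard : K.card = Fintype.card (G ⧸ H) * I := by
    have h := CfsgLib.Recog.McLInv.ncard_conj_mul (⊤ : Subgroup G) t
    rw [Nat.card_congr (subgroupOfEquivOfLe (le_top : centralizer ({t} : Set G) ≤ ⊤)).toEquiv,
      hcardC, card_top, card_eq_card_quotient_mul_card_subgroup H, hcardH, ← hHI,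
      Nat.card_eq_fintype_card] at h
    have e : ((fun g => g * t * g⁻¹) '' ((⊤ : Subgroup G) : Set G)).ncard = K.card := by
      rw [← Set.ncard_coe_finset]
      congr 1
      ext x
      simp [hK]
    rw [e, ← mul_assoc] at h
    exact Nat.eq_of_mul_eq_mul_right (by norm_num) h
  have hone' : (K.filter fun x : G => (x : G ⧸ H) = ((1 : G) : G ⧸ H)).card ≤ I := by
    rw [← Set.ncard_coe_finset]
    refine Set.ncard_le_ncard ?_ (Set.toFinite _)
    intro x hx
    rw [Finset.coe_filter] at hx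
    obtain ⟨hxK, hx⟩ := hx
    rw [QuotientGroup.eq, mul_one] at hx
    obtain ⟨g, hg, e⟩ := hone x (by simpa using H.inv_mem hx) (horder x hxK)
    exact ⟨g, hg, e⟩
  obtain ⟨q, hq1, hq⟩ : ∃ q : G ⧸ H, q ≠ ((1 : G) : G ⧸ H) ∧
      I ≤ (K.filter fun x : G => (x : G ⧸ H) = q).card := by
    by_contra hno
    push Not at hno
    obtain ⟨g, hg⟩ : ∃ g : G, g ∉ H := by
      by_contra hh
      push Not at hh
      exact htop (eq_top_iff.2 fun g _ => hh g)
    have hlt : ∑ q : G ⧸ H, (K.filter fun x : G => (x : G ⧸ H) = q).card < ∑ _q : G ⧸ H, I := by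
      refine Finset.sum_lt_sum (fun q _ => ?_) ⟨(g : G ⧸ H), Finset.mem_univ _, hno _ fun e => hg ?_⟩
      · rcases eq_or_ne q ((1 : G) : G ⧸ H) with rfl | hne
        · exact hone'
        · exact (hno q hne).le
      · rw [QuotientGroup.eq, mul_one] at e
        simpa using H.inv_mem e
    rw [← Finset.card_eq_sum_card_fiberwise fun x _ => Finset.mem_univ _, hKcard, Finset.sum_const,
      Finset.card_univ, smul_eq_mul] at hlt
    exact lt_irrefl _ hlt
  have hIpos : 0 < I := by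
    rw [hI, Set.ncard_pos]
    exact ⟨t, 1, H.one_mem, by simp⟩
  obtain ⟨u, hu⟩ := Finset.card_pos.1 (lt_of_lt_of_le hIpos hq)
  rw [Finset.mem_filter] at hu
  obtain ⟨huK, rfl⟩ := hu
  have hu2 := horder u huK
  have huu : u * u = 1 := by rw [← pow_two, ← hu2, pow_orderOf_eq_one]
  have huH : u ∉ H := fun h => hq1 (by rw [QuotientGroup.eq, mul_one]; exact H.inv_mem h)
  obtain ⟨X, hX⟩ : ∃ X, X = H ⊓ H.comap (MulAut.conj u).toMonoidHom := ⟨_, rfl⟩
  have hmemX : ∀ {y}, y ∈ X ↔ y ∈ H ∧ u * y * u⁻¹ ∈ H := fun {y} => by rw [hX]; rfl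
  have hodd : ¬ 2 ∣ Nat.card X := by
    intro h2
    obtain ⟨j, hj⟩ := exists_prime_orderOf_dvd_card' 2 h2
    obtain ⟨hjH, hju⟩ := hmemX.1 j.2
    exact huH (hfus j hjH (by rw [orderOf_coe, hj]) u hju)
  -- the coset gives many elements
  have hbig : I ≤ Nat.card X := by
    refine hq.trans ?_
    rw [← Set.ncard_coe_finset, show Nat.card X = (X : Set G).ncard from Nat.card_coe_set_eq _]
    refine Set.ncard_le_ncard_of_injOn (fun x => u * x) (fun x hx => ?_)
      (fun x _ y _ e => mul_left_cancel e) (Set.toFinite _)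
    rw [Finset.coe_filter] at hx
    obtain ⟨hxK, hx⟩ := hx
    have hxx : x * x = 1 := by rw [← pow_two, ← horder x hxK, pow_orderOf_eq_one]
    have h1 : u⁻¹ * x ∈ H := QuotientGroup.eq.1 hx.symm
    rw [inv_eq_of_mul_eq_one_right huu] at h1
    refine hmemX.2 ⟨h1, ?_⟩
    have h2 : u * (u * x) * u⁻¹ = (u * x)⁻¹ := by
      rw [mul_inv_rev, inv_eq_of_mul_eq_one_right hxx, ← mul_assoc u u x, huu, one_mul]
    rw [h2]
    exact H.inv_mem h1
  -- it embeds in `SL(3,3)`
  set Y : Subgroup Pm := X.comap B.ψ with hY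
  have hYX : Nat.card Y = Nat.card X := by
    refine Nat.card_congr (Equiv.ofBijective (fun y : Y => (⟨B.ψ y.1, y.2⟩ : X))
      ⟨fun a b e => Subtype.ext (B.inj (congrArg Subtype.val e)), fun x => ?_⟩)
    obtain ⟨p, hp⟩ := (hmemX.1 x.2).1
    exact ⟨⟨p, by show B.ψ p ∈ X; rw [hp]; exact x.2⟩, Subtype.ext hp⟩
  have hYinj : Function.Injective (lin.comp Y.subtype) := by
    rw [injective_iff_map_eq_one]
    intro y hy
    by_contra hy1
    have hyE : (y : Pm) ∈ Em := mem_Em_iff.2 hy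
    have hy1' : (y : Pm) ≠ 1 := fun e => hy1 (Subtype.ext e)
    obtain ⟨hyH, q, hq'⟩ := hmemX.1 (y.2 : B.ψ (y : Pm) ∈ X)
    change B.ψ q = u * B.ψ (y : Pm) * u⁻¹ at hq'
    obtain ⟨S, hS⟩ := B.exists_sylow
    have hq3 : q ^ 3 = 1 := B.inj (by
      rw [map_pow, hq', conj_pow, ← map_pow, Em_cube hyE, map_one, mul_one, mul_inv_cancel])
    have hz3 : IsPGroup 3 (zpowers (⟨B.ψ q, B.psi_mem_range q⟩ : H)) := by
      refine IsPGroup.of_card (n := if orderOf (⟨B.ψ q, B.psi_mem_range q⟩ : H) = 1 then 0 else 1) ?_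
      rw [Nat.card_zpowers]
      have hd : orderOf (⟨B.ψ q, B.psi_mem_range q⟩ : H) ∣ 3 := orderOf_dvd_of_pow_eq_one
        (Subtype.ext (by rw [SubmonoidClass.coe_pow, ← map_pow, hq3, map_one]; rfl))
      rcases (Nat.dvd_prime Nat.prime_three).1 hd with e | e <;> simp [e]
    have hSH : (S : Subgroup G) ≤ H := by rw [hS]; exact map_le_range _ _
    let S' : Sylow 3 H := S.subtype hSH
    obtain ⟨T, hT⟩ := hz3.exists_le_sylow
    obtain ⟨h, hh⟩ := MulAction.exists_smul_eq H T S'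
    have hmem : (h : G) * B.ψ q * (h : G)⁻¹ ∈ Sm.map B.ψ := by
      rw [← hS]
      have h2 : MulAut.conj h (⟨B.ψ q, B.psi_mem_range q⟩ : H) ∈ (S' : Subgroup H) := by
        rw [← hh, Sylow.coe_subgroup_smul]
        exact smul_mem_pointwise_smul _ _ _ (hT (mem_zpowers _))
      exact mem_subgroupOf.1 (by simpa [S', Sylow.coe_subtype] using h2)
    have h3 := mem_range_of_conj_Em F hyE hy1' (g := (h : G) * u) (by
      rw [show (h : G) * u * B.ψ (y : Pm) * ((h : G) * u)⁻¹ =
        (h : G) * (u * B.ψ (y : Pm) * u⁻¹) * (h : G)⁻¹ by group, ← hq']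
      exact hmem)
    exact huH (by simpa using H.mul_mem (H.inv_mem h.2) h3)
  have hdvd : Nat.card X ∣ s := hYX ▸ card_dvd_of_injective _ hYinj
  have h16 : 16 ∣ s := by
    have h : 16 ∣ 27 * s := ⟨9 * I, by omega⟩
    exact (Nat.Coprime.dvd_of_dvd_mul_left (by norm_num) h)
  have hmul : Nat.card X * 16 ∣ s := by
    refine Nat.Coprime.mul_dvd_of_dvd_of_dvd ?_ hdvd h16
    rw [show (16 : ℕ) = 2 ^ 4 from rfl]
    exact Nat.Coprime.pow_right 4 ((Nat.prime_two.coprime_iff_not_dvd).2 hodd).symm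
  have hspos : 0 < s := Nat.card_pos
  have := Nat.le_of_dvd hspos hmul
  omega

end CfsgLib.Recog.LFourThree
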