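import Cfsg.Agent.Lib.Recog.LFourThree.TwoModel
import Cfsg.Agent.Lib.Coprime.Generation

/-!
The second case of the recognition: interface, lifts, fusion of transvections, signalizers.
-/

set_option autoImplicit false

namespace CfsgLib.Recog.LFourThree.Both

open Subgroup
open CfsgLib.Recog.LFourThree.Ident (T4 mE mE_mem mE_add mE_zero mE_inj)

universe u

/-- the standing hypotheses of the second case -/
structure Setup (G : Type u) [Group G] where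
  /-- the homomorphism -/
  Ψ : SL4 →* G
  ker : ∀ u, Ψ u = 1 ↔ u = 1 ∨ u = neg1
  cent_z : ∀ g, Commute g (Ψ z4) → ∃ c, c ∈ Pm ∧ c ∈ Pd ∧ Ψ c = g
  conj_z : ∀ (g : G) (x : SL4), x ∈ Pm → x ∈ Pd → g * Ψ z4 * g⁻¹ = Ψ x → Tv x
  sylow : ∃ S : Sylow 3 G, (S : Subgroup G) = (patGroup patS closed_patS).map Ψ
  norm_M : ∀ g, (∀ v, ∃ w, g * Ψ (mE v) * g⁻¹ = Ψ (mE w)) → g ∈ Ψ.range

variable {G : Type u} [Group G] {T : Setup G}

theorem Setup.eq_iff (T : Setup G) {u v : SL4} : T.Ψ u = T.Ψ v ↔ u = v ∨ u = neg1 * v := by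
  rw [← mul_inv_eq_one, ← map_inv, ← map_mul, T.ker, mul_inv_eq_one, mul_inv_eq_iff_eq_mul]

theorem Setup.eq_of_cube (T : Setup G) {u v : SL4} (hu : u ^ 3 = 1) (hv : v ^ 3 = 1)
    (h : T.Ψ u = T.Ψ v) : u = v := by
  rcases T.eq_iff.1 h with e | e
  · exact e
  · rw [e, (neg1_comm v).mul_pow, hv, mul_one, neg1_cube] at hu
    exact absurd hu z4_facts.2.2.2.1

theorem Setup.map_ne_one (T : Setup G) {u : SL4} (hu : u ^ 3 = 1) (h1 : u ≠ 1) : T.Ψ u ≠ 1 :=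
  fun h => h1 (T.eq_of_cube hu (one_pow 3) (h.trans (map_one T.Ψ).symm))

theorem Setup.exists_lift (T : Setup G) {g : G} (hg : g ∈ T.Ψ.range) (h3 : g ^ 3 = 1) :
    ∃ u, u ^ 3 = 1 ∧ T.Ψ u = g := by
  obtain ⟨u, rfl⟩ := hg
  rw [← map_pow, T.ker] at h3
  rcases h3 with h | h
  · exact ⟨u, h, rfl⟩
  · exact ⟨neg1 * u, by rw [(neg1_comm u).mul_pow, neg1_cube, h, z4_facts.2.2.2.2],
      by rw [map_mul, (T.ker neg1).2 (Or.inr rfl), one_mul]⟩

/-- elements of order three of the image are conjugate into the Sylow group -/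
theorem Setup.to_sylow [Finite G] (T : Setup G) {u : SL4} (hu : u ^ 3 = 1) :
    ∃ h, h * u * h⁻¹ ∈ patGroup patS closed_patS := by
  haveI : Fact (Nat.Prime 3) := ⟨Nat.prime_three⟩
  obtain ⟨S, hS⟩ := T.sylow
  have hle : (S : Subgroup G) ≤ T.Ψ.range := hS ▸ map_le_range _ _
  let S' : Sylow 3 T.Ψ.range := S.subtype hle
  set y : T.Ψ.range := ⟨T.Ψ u, u, rfl⟩ with hy
  have hp : IsPGroup 3 (zpowers y) := by
    have hy3 : y ^ (3 ^ 1) = 1 := Subtype.ext (by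
      show T.Ψ u ^ (3 ^ 1) = 1
      rw [pow_one, ← map_pow, hu, map_one])
    obtain ⟨k, -, hk⟩ := (Nat.dvd_prime_pow Nat.prime_three).mp (orderOf_dvd_of_pow_eq_one hy3)
    exact IsPGroup.of_card (n := k) (by rw [Nat.card_zpowers, hk])
  obtain ⟨P, hP⟩ := hp.exists_le_sylow
  obtain ⟨⟨_, h, rfl⟩, hh⟩ := MulAction.exists_smul_eq T.Ψ.range P S'
  have hmem : (⟨T.Ψ h, h, rfl⟩ : T.Ψ.range) * y * (⟨T.Ψ h, h, rfl⟩ : T.Ψ.range)⁻¹ ∈
      (S' : Subgroup T.Ψ.range) := by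
    rw [← hh]
    exact smul_mem_pointwise_smul _ (MulAut.conj _) _ (hP (mem_zpowers y))
  have hmem' : T.Ψ h * T.Ψ u * (T.Ψ h)⁻¹ ∈ (S : Subgroup G) := hmem
  rw [hS] at hmem'
  obtain ⟨s, hs, he⟩ := hmem'
  rw [← map_inv, ← map_mul, ← map_mul] at he
  refine ⟨h, ?_⟩
  have hc : (h * u * h⁻¹) ^ 3 = 1 := by rw [conj_pow, hu, mul_one, mul_inv_cancel]
  have hs3 : s ^ 3 = 1 := by
    rcases (T.ker (s ^ 3)).1 (by rw [map_pow, he, ← map_pow, hc, map_one]) with e | e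
    · exact e
    · exact absurd (e ▸ pow_mem hs 3) neg1_not_patS
  rw [← T.eq_of_cube hs3 hc he]
  exact hs

/-- only elements of the image carry a transvection into the image -/
theorem Setup.fuse_tv [Finite G] (T : Setup G) {u : SL4} (hu : IsConj z4 u) {g : G}
    (hg : g * T.Ψ u * g⁻¹ ∈ T.Ψ.range) : g ∈ T.Ψ.range := by
  obtain ⟨k, rfl⟩ := isConj_iff.1 hu
  obtain ⟨hz, hz1, -, -, -⟩ := z4_facts
  have hk3 : (k * z4 * k⁻¹) ^ 3 = 1 := by rw [conj_pow, hz, mul_one, mul_inv_cancel]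
  have hk1 : k * z4 * k⁻¹ ≠ 1 := fun e => hz1 (conj_eq_one_iff.1 e)
  obtain ⟨v, hv3, hv⟩ := T.exists_lift hg (by
    rw [conj_pow, ← map_pow, hk3, map_one, mul_one, mul_inv_cancel])
  obtain ⟨h, hh⟩ := T.to_sylow hv3
  set x := h * v * h⁻¹ with hx
  have e : (T.Ψ h * g * T.Ψ k) * T.Ψ z4 * (T.Ψ h * g * T.Ψ k)⁻¹ = T.Ψ x := by
    rw [hx, map_mul, map_mul, map_inv, hv, map_mul, map_mul, map_inv]; group
  have hx1 : x ≠ 1 := fun ex => by
    rw [hx, conj_eq_one_iff] at ex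
    rw [ex, map_one, eq_comm, conj_eq_one_iff] at hv
    exact T.map_ne_one hk3 hk1 hv
  obtain ⟨m, hm⟩ := isConj_iff.1
    (isConj_of_tv hh (T.conj_z _ x (patS_le hh).1 (patS_le hh).2 e) hx1)
  have hc : Commute ((T.Ψ m)⁻¹ * (T.Ψ h * g * T.Ψ k)) (T.Ψ z4) := by
    refine mul_inv_eq_iff_eq_mul.1 ?_
    rw [show (T.Ψ m)⁻¹ * (T.Ψ h * g * T.Ψ k) * T.Ψ z4 * ((T.Ψ m)⁻¹ * (T.Ψ h * g * T.Ψ k))⁻¹ =
      (T.Ψ m)⁻¹ * ((T.Ψ h * g * T.Ψ k) * T.Ψ z4 * (T.Ψ h * g * T.Ψ k)⁻¹) * T.Ψ m by group, e, ← hm,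
      map_mul, map_mul, map_inv]
    group
  obtain ⟨c, -, -, hc'⟩ := T.cent_z _ hc
  have : g = T.Ψ (h⁻¹ * m * c * k⁻¹) := by
    rw [map_mul, map_mul, map_mul, map_inv, map_inv, hc']; group
  exact this ▸ ⟨_, rfl⟩

theorem Setup.cent_z_le (T : Setup G) {g : G} (hg : Commute g (T.Ψ z4)) : g ∈ T.Ψ.range := by
  obtain ⟨c, -, -, rfl⟩ := T.cent_z g hg
  exact ⟨c, rfl⟩

theorem Setup.cent_tv [Finite G] (T : Setup G) {u : SL4} (hu : IsConj z4 u) {g : G}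
    (hg : Commute g (T.Ψ u)) : g ∈ T.Ψ.range :=
  T.fuse_tv hu (by rw [hg.eq, mul_inv_cancel_right]; exact ⟨u, rfl⟩)

/-- an element of order three whose centraliser lies in the image fixes one coset -/
theorem Setup.fuse_three [Finite G] (T : Setup G) {u : SL4} (hu : u ^ 3 = 1)
    (hc : ∀ c, Commute c (T.Ψ u) → c ∈ T.Ψ.range) {g : G} (hg : g * T.Ψ u * g⁻¹ ∈ T.Ψ.range) :
    g ∈ T.Ψ.range := by
  obtain ⟨v, hv3, hv⟩ := T.exists_lift hg (by
    rw [conj_pow, ← map_pow, hu, map_one, mul_one, mul_inv_cancel])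
  obtain ⟨h, hh⟩ := T.to_sylow hv3
  have hw : Commute (h⁻¹ * z4 * h) v := by
    have := ((z4_comm (patS_le hh).1 (patS_le hh).2).symm).map (MulAut.conj h⁻¹).toMonoidHom
    simp only [MulEquiv.coe_toMonoidHom, MulAut.conj_apply, inv_inv] at this
    rwa [show h⁻¹ * (h * v * h⁻¹) * h = v by group] at this
  have h2 := (hw.map T.Ψ).map (MulAut.conj g⁻¹).toMonoidHom
  simp only [MulEquiv.coe_toMonoidHom, MulAut.conj_apply, inv_inv] at h2
  rw [hv, show g⁻¹ * (g * T.Ψ u * g⁻¹) * g = T.Ψ u by group] at h2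
  have h3 : g⁻¹ * T.Ψ (h⁻¹ * z4 * h) * g⁻¹⁻¹ ∈ T.Ψ.range := by rw [inv_inv]; exact hc _ h2
  simpa using inv_mem (T.fuse_tv (isConj_iff.2 ⟨h⁻¹, by rw [inv_inv]⟩) h3)

theorem Setup.sig_z (T : Setup G) {K : Subgroup G} (h3 : ¬ 3 ∣ Nat.card K)
    (hn : ∀ v, ∀ k ∈ K, T.Ψ (mE v) * k * (T.Ψ (mE v))⁻¹ ∈ K) {k : G} (hk : k ∈ K)
    (hz : Commute k (T.Ψ z4)) : k = 1 := by
  haveI : Fact (Nat.Prime 3) := ⟨Nat.prime_three⟩
  obtain ⟨S, hS⟩ := T.sylow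
  have hone : ∀ g ∈ K, g ∈ (S : Subgroup G) → g = 1 := fun g hgK hgS => by
    obtain ⟨n, hn'⟩ := S.isPGroup' ⟨g, hgS⟩
    have hn'' : g ^ 3 ^ n = 1 := by simpa using congrArg Subtype.val hn'
    obtain ⟨i, -, hi⟩ := (Nat.dvd_prime_pow Nat.prime_three).mp (orderOf_dvd_of_pow_eq_one hn'')
    cases i with
    | zero => exact orderOf_eq_one_iff.1 (by rw [hi, pow_zero])
    | succ i =>
      refine absurd ?_ h3
      have := orderOf_dvd_natCard (⟨g, hgK⟩ : K)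
      rw [← Subgroup.orderOf_coe] at this
      exact (dvd_pow_self 3 (Nat.succ_ne_zero i)).trans (hi ▸ this)
  obtain ⟨c, hcm, hcd, rfl⟩ := T.cent_z k hz
  have key : ∀ a b d : ZMod 3, c * mE (a, b, 0, d) = mE (a, b, 0, d) * c := fun a b d => by
    set q := mE (a, b, 0, d) with hq
    have hs : c * q * c⁻¹ * q⁻¹ ∈ patGroup patS closed_patS :=
      patQ_le_patS (mul_mem (conj_patQ hcm hcd (mE_patQ a b d)) (inv_mem (mE_patQ a b d)))
    have e1 : T.Ψ (c * q * c⁻¹ * q⁻¹) = 1 := by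
      refine hone _ ?_ (hS ▸ mem_map_of_mem _ hs)
      rw [map_mul, map_mul, map_mul, map_inv, map_inv,
        show T.Ψ c * T.Ψ q * (T.Ψ c)⁻¹ * (T.Ψ q)⁻¹ =
          T.Ψ c * (T.Ψ q * (T.Ψ c)⁻¹ * (T.Ψ q)⁻¹) by group]
      exact mul_mem hk (hn _ _ (inv_mem hk))
    rcases (T.ker _).1 e1 with e | e
    · rw [mul_inv_eq_one, mul_inv_eq_iff_eq_mul] at e
      exact e
    · exact absurd (e ▸ hs) neg1_not_patS
  obtain ⟨v, rfl⟩ := eq_mE_of_two hcm hcd (key 1 0 0) (key 0 0 1)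
  exact hone _ hk (hS ▸ mem_map_of_mem _ (mE_patS v))

/-- the abelian group of order 81 normalises no nontrivial `3'`-subgroup -/
theorem Setup.signalizer [Finite G] (T : Setup G) {K : Subgroup G} (h3 : ¬ 3 ∣ Nat.card K)
    (hn : ∀ v, ∀ k ∈ K, T.Ψ (mE v) * k * (T.Ψ (mE v))⁻¹ ∈ K) : K = ⊥ := by
  haveI : Fact (Nat.Prime 3) := ⟨Nat.prime_three⟩
  let f : Multiplicative (ZMod 3 × ZMod 3) →* G := MonoidHom.mk'
    (fun p => T.Ψ (mE (p.toAdd.1, p.toAdd.2, 0, 0))) (fun p q => by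
      rw [← map_mul, ← mE_add]; simp)
  have hinj : Function.Injective f := fun p q h => by
    have e := mE_inj (T.eq_of_cube (mE_cube _) (mE_cube _) h)
    simp only [Prod.mk.injEq, and_true] at e
    exact Multiplicative.toAdd.injective (Prod.ext e.1 e.2)
  have hcard : Nat.card f.range = 9 := by
    rw [← Nat.card_congr (MonoidHom.ofInjective hinj).toEquiv]; simp
  have hcomm : IsMulCommutative f.range := ⟨⟨fun a b => Subtype.ext (by
    obtain ⟨p, hp⟩ := a.2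
    obtain ⟨q, hq⟩ := b.2
    show (a : G) * b = b * a
    rw [← hp, ← hq, ← map_mul, ← map_mul, mul_comm])⟩⟩
  have hnc : ¬ IsCyclic f.range := fun h => by
    obtain ⟨⟨a, p, rfl⟩, ha⟩ := h.exists_ofOrder_eq_natCard (α := f.range)
    rw [hcard] at ha
    have : (⟨f p, p, rfl⟩ : f.range) ^ 3 = 1 := Subtype.ext (by
      show f p ^ 3 = 1
      show T.Ψ _ ^ 3 = 1
      rw [← map_pow, mE_cube, map_one])
    have h9 := Nat.le_of_dvd three_pos (orderOf_dvd_of_pow_eq_one this)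
    rw [ha] at h9
    norm_num at h9
  have hA : f.range ≤ normalizer (K : Set G) := by
    rintro _ ⟨p, rfl⟩
    rw [mem_normalizer_iff]
    refine fun k => ⟨fun hk => hn _ k hk, fun hk => ?_⟩
    have h2 := hn (-(p.toAdd.1, p.toAdd.2, (0 : ZMod 3), (0 : ZMod 3))) _ hk
    have e : T.Ψ (mE (-(p.toAdd.1, p.toAdd.2, (0 : ZMod 3), (0 : ZMod 3)))) = (f p)⁻¹ :=
      eq_inv_of_mul_eq_one_left (by
        show _ * T.Ψ _ = 1
        rw [← map_mul, ← mE_add, neg_add_cancel, mE_zero, map_one])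
    rw [e, show (f p)⁻¹ * (f p * k * (f p)⁻¹) * (f p)⁻¹⁻¹ = k by group] at h2
    exact h2
  have hcop : (Nat.card f.range).Coprime (Nat.card K) := by
    rw [hcard, show (9 : ℕ) = 3 ^ 2 from rfl]
    exact ((Nat.prime_three.coprime_iff_not_dvd).2 h3).pow_left 2
  rw [← CfsgLib.Coprime.iSup_centralizer_eq hcomm hnc hA hcop, iSup_eq_bot]
  rintro ⟨a, ⟨p, rfl⟩, ha⟩
  refine (Subgroup.eq_bot_iff_forall _).2 fun k hk => ?_
  obtain ⟨hkK, hkc⟩ := hk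
  have hne : (p.toAdd.1, p.toAdd.2) ≠ (0 : ZMod 3 × ZMod 3) := fun e => ha (by
    show T.Ψ _ = 1
    rw [(Prod.mk.injEq _ _ _ _ ▸ e : p.toAdd.1 = 0 ∧ p.toAdd.2 = 0).1,
      (Prod.mk.injEq _ _ _ _ ▸ e : p.toAdd.1 = 0 ∧ p.toAdd.2 = 0).2,
      show ((0, 0, 0, 0) : T4) = 0 from rfl, mE_zero, map_one])
  obtain ⟨q, hq⟩ := row_move _ _ hne
  set h := T.Ψ (Ident.s34 q) with hh
  have hhz : h * T.Ψ z4 = f p * h := by rw [hh, ← map_mul, hq, map_mul]; rfl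
  set K' := K.map (MulAut.conj h⁻¹).toMonoidHom with hK'
  have hK'card : Nat.card K' = Nat.card K := card_map_of_injective (MulAut.conj h⁻¹).injective
  have hk' : h⁻¹ * k * h = 1 := by
    refine T.sig_z (K := K') (hK'card ▸ h3) (fun v x hx => ?_) ⟨k, hkK, by simp⟩ ?_
    · obtain ⟨y, hy, rfl⟩ := hx
      obtain ⟨w, hw⟩ := normM_s34 q v
      refine ⟨T.Ψ (mE w) * y * (T.Ψ (mE w))⁻¹, hn w y hy, ?_⟩
      simp only [MulEquiv.coe_toMonoidHom, MulAut.conj_apply, inv_inv]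
      rw [← hw, map_mul, map_mul, map_inv, ← hh]
      group
    · have hc : Commute k (f p) := mem_centralizer_singleton_iff.1 hkc
      have := hc.map (MulAut.conj h⁻¹).toMonoidHom
      simp only [MulEquiv.coe_toMonoidHom, MulAut.conj_apply, inv_inv] at this
      rwa [show h⁻¹ * f p * h = T.Ψ z4 by rw [mul_assoc, ← hhz]; group] at this
  calc k = h * (h⁻¹ * k * h) * h⁻¹ := by group
    _ = 1 := by rw [hk']; group

end CfsgLib.Recog.LFourThree.Both
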