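import Cfsg.Agent.Lib.Recog.LFourThree.TwoE
import Cfsg.Agent.Lib.Recog.LFourThree.TwoBase

/-!
The case of two classes: the centraliser of `[[1, X], [0, 1]]` with `X` invertible lies in the image.
-/

set_option autoImplicit false

namespace CfsgLib.Recog.LFourThree.Both

open Subgroup
open CfsgLib.Recog.LFourThree.Ident (T4 mE mE_add mE_zero)
open CfsgLib.Recog.LFourThree.CentEModel (T1 L0 mHom tmul tdet tinv shapeMat)

/-- the diagonal matrix `diag(1,1,1,-1)` -/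
def dFlip : M4 := Matrix.diagonal ![1, 1, 1, -1]

theorem dFlip_facts : dFlip * dFlip = 1 ∧ dFlip.det * dFlip.det = 1 := by decide +kernel

/-- conjugation by `diag(1,1,1,-1)` -/
def flipHom : SL4 →* SL4 :=
  MonoidHom.mk' (fun g => ⟨dFlip * g.1 * dFlip, by
      rw [Matrix.det_mul, Matrix.det_mul, g.2, mul_one, dFlip_facts.2]⟩) fun g h => Subtype.ext (by
    show dFlip * (g * h).1 * dFlip = (dFlip * g.1 * dFlip) * (dFlip * h.1 * dFlip)
    rw [Matrix.SpecialLinearGroup.coe_mul, show (dFlip * g.1 * dFlip) * (dFlip * h.1 * dFlip) =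
      dFlip * g.1 * (dFlip * dFlip) * h.1 * dFlip by noncomm_ring, dFlip_facts.1, mul_one,
      mul_assoc dFlip g.1])

theorem flipHom_sq (g : SL4) : flipHom (flipHom g) = g := Subtype.ext (by
  show dFlip * (dFlip * g.1 * dFlip) * dFlip = g.1
  rw [show dFlip * (dFlip * g.1 * dFlip) * dFlip = (dFlip * dFlip) * g.1 * (dFlip * dFlip) by
    noncomm_ring, dFlip_facts.1, one_mul, mul_one])

theorem flip_facts : flipHom neg1 = neg1 ∧ flipHom T1 = mE (1, 0, 0, -1) ∧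
    flipHom (mE (0, 1, 0, 0)) = z4⁻¹ := by decide +kernel

theorem flip_mE : ∀ v : T4, flipHom (mE v) = mE (v.1, -v.2.1, v.2.2.1, -v.2.2.2) := by decide +kernel

theorem lifts_not_tv_aux : ∀ k : Fin 3,
    ((∀ i, (L0 * T1 ^ (k : ℕ)).1 i 0 = if i = 0 then 1 else 0) ∧
      (∀ j, (L0 * T1 ^ (k : ℕ)).1 3 j = if j = 3 then 1 else 0) ∧
      ¬ ∀ i j p q, ((L0 * T1 ^ (k : ℕ)).1 - 1) i j * ((L0 * T1 ^ (k : ℕ)).1 - 1) p q =
        ((L0 * T1 ^ (k : ℕ)).1 - 1) i q * ((L0 * T1 ^ (k : ℕ)).1 - 1) p j) ∧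
    ((∀ i, (flipHom (L0 * T1 ^ (k : ℕ)))⁻¹.1 i 0 = if i = 0 then 1 else 0) ∧
      (∀ j, (flipHom (L0 * T1 ^ (k : ℕ)))⁻¹.1 3 j = if j = 3 then 1 else 0) ∧
      ¬ ∀ i j p q, ((flipHom (L0 * T1 ^ (k : ℕ)))⁻¹.1 - 1) i j *
          ((flipHom (L0 * T1 ^ (k : ℕ)))⁻¹.1 - 1) p q =
        ((flipHom (L0 * T1 ^ (k : ℕ)))⁻¹.1 - 1) i q * ((flipHom (L0 * T1 ^ (k : ℕ)))⁻¹.1 - 1) p j) := by
  decide +kernel

theorem lifts_not_tv : ∀ k : Fin 3,
    (L0 * T1 ^ (k : ℕ) ∈ Pm ∧ L0 * T1 ^ (k : ℕ) ∈ Pd ∧ ¬ Tv (L0 * T1 ^ (k : ℕ))) ∧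
    ((flipHom (L0 * T1 ^ (k : ℕ)))⁻¹ ∈ Pm ∧ (flipHom (L0 * T1 ^ (k : ℕ)))⁻¹ ∈ Pd ∧
      ¬ Tv (flipHom (L0 * T1 ^ (k : ℕ)))⁻¹) := fun k =>
  ⟨⟨mem_Pm.2 (lifts_not_tv_aux k).1.1, mem_Pd.2 (lifts_not_tv_aux k).1.2.1,
    (lifts_not_tv_aux k).1.2.2⟩,
    mem_Pm.2 (lifts_not_tv_aux k).2.1, mem_Pd.2 (lifts_not_tv_aux k).2.2.1,
    (lifts_not_tv_aux k).2.2.2⟩

/-- the matrix moving `diag(1, ±1)` to an invertible matrix -/
def moveMat (x : T4) : M4 :=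
  let a := tmul x (1, 0, 0, tdet x)
  !![a.1, a.2.1, 0, 0; a.2.2.1, a.2.2.2, 0, 0; 0, 0, 1, 0; 0, 0, 0, 1]

theorem move_facts : ∀ x, tdet x ≠ 0 → (moveMat x).det = 1 ∧
    moveMat x * (mE (1, 0, 0, tdet x)).1 = (mE x).1 * moveMat x := by decide +kernel

universe u

variable {G : Type u} [Group G] [Finite G]

theorem Setup.coprime_sig (T : Setup G) {K : Subgroup G} (h : (Nat.card K).Coprime 3)
    (hn : ∀ v, ∀ k ∈ K, T.Ψ (mE v) * k * (T.Ψ (mE v))⁻¹ ∈ K) : K = ⊥ :=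
  T.signalizer (Nat.prime_three.coprime_iff_not_dvd.1 h.symm) hn

theorem Setup.cent_one (T : Setup G) : centralizer {T.Ψ T1} ≤ T.Ψ.range := by
  refine CentEModel.centralizer_le T.Ψ ?_ ?_ (fun K => T.coprime_sig) ?_
  · exact Subgroup.ext fun u => by rw [MonoidHom.mem_ker, T.ker, mem_center_iff]
  · refine fun g hg => T.norm_M g fun v => ?_
    obtain ⟨w, hw⟩ := (mem_normalizer_iff.1 hg (T.Ψ (mE v))).1 ⟨Multiplicative.ofAdd v, rfl⟩
    exact ⟨w.toAdd, hw.symm⟩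
  · intro k hc
    obtain ⟨g, hg⟩ := isConj_iff.1 hc
    rw [← z4_eq] at hg
    exact (lifts_not_tv k).1.2.2 (T.conj_z g _ (lifts_not_tv k).1.1 (lifts_not_tv k).1.2.1 hg)

theorem Setup.cent_flip (T : Setup G) : centralizer {T.Ψ (mE (1, 0, 0, -1))} ≤ T.Ψ.range := by
  obtain ⟨f0, f1, f2⟩ := flip_facts
  rw [← f1]
  have hr : (T.Ψ.comp flipHom).range ≤ T.Ψ.range := by rintro _ ⟨u, rfl⟩; exact ⟨_, rfl⟩
  refine (CentEModel.centralizer_le (T.Ψ.comp flipHom) ?_ ?_ (fun K hK hn => ?_) ?_).trans hr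
  · refine Subgroup.ext fun u => ?_
    rw [MonoidHom.mem_ker, MonoidHom.comp_apply, T.ker, mem_center_iff]
    constructor <;> rintro (h | h)
    · exact Or.inl (by rw [← flipHom_sq u, h, map_one])
    · exact Or.inr (by rw [← flipHom_sq u, h, f0])
    · exact Or.inl (by rw [h, map_one])
    · exact Or.inr (by rw [h, f0])
  · intro g hg
    obtain ⟨u, hu⟩ := T.norm_M g fun v => by
      obtain ⟨w, hw⟩ := (mem_normalizer_iff.1 hg (T.Ψ (mE v))).1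
        ⟨Multiplicative.ofAdd (v.1, -v.2.1, v.2.2.1, -v.2.2.2), by
          show T.Ψ (flipHom (mE _)) = _
          rw [flip_mE]; simp⟩
      refine ⟨(w.toAdd.1, -w.toAdd.2.1, w.toAdd.2.2.1, -w.toAdd.2.2.2), hw.symm.trans ?_⟩
      show T.Ψ (flipHom (mE w.toAdd)) = _
      rw [flip_mE]
    exact ⟨flipHom u, by rw [MonoidHom.comp_apply, flipHom_sq, hu]⟩
  · refine T.coprime_sig hK fun v k hk => ?_
    have := hn (v.1, -v.2.1, v.2.2.1, -v.2.2.2) k hk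
    rw [MonoidHom.comp_apply, flip_mE] at this
    simpa using this
  · intro k hc
    obtain ⟨g, hg⟩ := isConj_iff.1 hc
    rw [MonoidHom.comp_apply, MonoidHom.comp_apply, f2] at hg
    refine (lifts_not_tv k).2.2.2 (T.conj_z g _ (lifts_not_tv k).2.1 (lifts_not_tv k).2.2.1 ?_)
    rw [map_inv T.Ψ] at hg ⊢
    rw [← hg]; group

/-- **The centraliser of an element `[[1, X], [0, 1]]` with `X` invertible.** -/
theorem Setup.cent_e (T : Setup G) (v : T4) (hv : v.1 * v.2.2.2 - v.2.1 * v.2.2.1 ≠ 0) {g : G}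
    (hg : Commute g (T.Ψ (mE v))) : g ∈ T.Ψ.range := by
  obtain ⟨hdet, hcomm⟩ := move_facts v hv
  set h : SL4 := ⟨moveMat v, hdet⟩ with hh
  have e : h * mE (1, 0, 0, tdet v) = mE v * h := Subtype.ext hcomm
  have hg' : (T.Ψ h)⁻¹ * g * T.Ψ h ∈ centralizer {T.Ψ (mE (1, 0, 0, tdet v))} := by
    refine mem_centralizer_singleton_iff.2 ?_
    have e' : T.Ψ (mE (1, 0, 0, tdet v)) = (T.Ψ h)⁻¹ * T.Ψ (mE v) * T.Ψ h := by
      rw [mul_assoc, ← map_mul, ← e, map_mul, inv_mul_cancel_left]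
    have := hg.map (MulAut.conj (T.Ψ h)⁻¹).toMonoidHom
    simp only [MulEquiv.coe_toMonoidHom, MulAut.conj_apply, inv_inv] at this
    rw [← e'] at this
    exact this.eq
  have hd : tdet v = 1 ∨ tdet v = -1 := (show ∀ d : ZMod 3, d ≠ 0 → d = 1 ∨ d = -1 by decide) _ hv
  have hmem : (T.Ψ h)⁻¹ * g * T.Ψ h ∈ T.Ψ.range := by
    rcases hd with hd | hd <;> rw [hd] at hg'
    · exact T.cent_one hg'
    · exact T.cent_flip hg'
  simpa [mul_assoc] using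
    mul_mem (mul_mem (MonoidHom.mem_range.2 ⟨h, rfl⟩) hmem) (inv_mem (MonoidHom.mem_range.2 ⟨h, rfl⟩))

end CfsgLib.Recog.LFourThree.Both
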