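import Cfsg.Agent.Lib.Recog.LFourThree.TwoInvol

/-!
The scalar of order eight of `GL(2,9)` inside `SL(4,3)`: its centraliser in coordinates over the field with
nine elements.
-/

set_option autoImplicit false
set_option maxRecDepth 100000
set_option linter.unusedSimpArgs false
set_option synthInstance.maxSize 4000

namespace CfsgLib.Recog.LFourThree.Both

open Matrix
open CfsgLib.Recog.LFourThree.Ident (T4 mE)

/-- the field with nine elements -/
abbrev F9 := ZMod 3 × ZMod 3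

/-- product in the field -/
def fm (a b : F9) : F9 := (a.1 * b.1 - a.2 * b.2, a.1 * b.2 + a.2 * b.1)

/-- the powers of the generator -/
def fpw : Fin 8 → F9 := ![(1, 0), (1, 1), (0, 2), (1, 2), (2, 0), (2, 2), (0, 1), (2, 1)]

/-- two-by-two matrices over the field -/
abbrev N9 := F9 × F9 × F9 × F9

/-- product of matrices over the field -/
def nm (M N : N9) : N9 :=
  (fm M.1 N.1 + fm M.2.1 N.2.2.1, fm M.1 N.2.1 + fm M.2.1 N.2.2.2,
    fm M.2.2.1 N.1 + fm M.2.2.2 N.2.2.1, fm M.2.2.1 N.2.1 + fm M.2.2.2 N.2.2.2)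

/-- a scalar matrix -/
def nsc (k : Fin 8) : N9 := (fpw k, (0, 0), (0, 0), fpw k)

/-- the norm of the determinant -/
def ndet (M : N9) : ZMod 3 :=
  let d := fm M.1 M.2.2.2 - fm M.2.1 M.2.2.1
  d.1 * d.1 + d.2 * d.2

/-- the real matrix of a matrix over the field -/
def m4 (M : N9) : M4 :=
  !![M.1.1, M.1.2, M.2.1.1, M.2.1.2; -M.1.2, M.1.1, -M.2.1.2, M.2.1.1;
    M.2.2.1.1, M.2.2.1.2, M.2.2.2.1, M.2.2.2.2; -M.2.2.1.2, M.2.2.1.1, -M.2.2.2.2, M.2.2.2.1]

theorem m4_det (M : N9) : (m4 M).det = ndet M := by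
  simp [m4, ndet, fm, Matrix.det_succ_row_zero, Fin.sum_univ_succ, Fin.succAbove]
  ring

theorem m4_mul (M N : N9) : m4 M * m4 N = m4 (nm M N) := by
  ext i j
  fin_cases i <;> fin_cases j <;> simp [m4, nm, fm, Matrix.mul_apply, Fin.sum_univ_four] <;> ring

theorem m4_inj {M N : N9} (e : m4 M = m4 N) : M = N := by
  have f := fun i j => congrFun (congrFun e i) j
  exact Prod.ext (Prod.ext (f 0 0) (f 0 1)) (Prod.ext (Prod.ext (f 0 2) (f 0 3))
    (Prod.ext (Prod.ext (f 2 0) (f 2 1)) (Prod.ext (f 2 2) (f 2 3))))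

theorem det_zeta : (bSM qP qP).det = 1 := by rw [bSM_det]; decide +kernel

/-- the scalar of order eight -/
def zeta : SL4 := ⟨bSM qP qP, det_zeta⟩

theorem det_sig : (bSM qR qR).det = 1 := by rw [bSM_det]; decide +kernel

/-- the field automorphism -/
def sig : SL4 := ⟨bSM qR qR, det_sig⟩

theorem zeta_base : (zeta : M4) = m4 (nsc 1) ∧ (b4 : M4) = m4 (nsc 6) ∧ True ∧
    (neg1 : M4) = m4 (nsc 4) ∧ (1 : M4) = m4 (nsc 0) ∧
    Matrix.trace (zeta : M4) ≠ Matrix.trace (-(zeta : M4)) := by decide +kernel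

theorem nsc_step : ∀ a b : Fin 8, nm (nsc a) (nsc b) = nsc (a + b) := by decide +kernel

theorem zeta_pow (n : ℕ) : ((zeta ^ n : SL4) : M4) = m4 (nsc ⟨n % 8, Nat.mod_lt _ (by norm_num)⟩) := by
  induction n with
  | zero => rw [pow_zero, Matrix.SpecialLinearGroup.coe_one]; exact zeta_base.2.2.2.2.1
  | succ n ih =>
    rw [pow_succ, Matrix.SpecialLinearGroup.coe_mul, ih, zeta_base.1, m4_mul, nsc_step]
    congr 2
    exact Fin.ext (by simp [Fin.val_add])

theorem sig_base : (sig : M4) * (zeta : M4) = m4 (nsc 3) * (sig : M4) := by decide +kernel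

attribute [local irreducible] zeta sig b4 neg1 m4 nsc in
theorem zeta_facts : zeta * zeta = neg1 * b4 ∧ sig * zeta * sig⁻¹ = zeta * zeta * zeta ∧
    zeta ^ 8 = 1 ∧ zeta ^ 4 = neg1 ∧ (∀ k : Fin 8, ((zeta ^ k.val : SL4) : M4) = m4 (nsc k)) ∧
    Matrix.trace (zeta : M4) ≠ Matrix.trace ((neg1 * zeta : SL4) : M4) := by
  obtain ⟨hz, hb, -, hn, h1, ht⟩ := zeta_base
  refine ⟨Subtype.ext ?_, ?_, Subtype.ext ?_, Subtype.ext ?_, fun k => ?_, ?_⟩
  · rw [Matrix.SpecialLinearGroup.coe_mul, Matrix.SpecialLinearGroup.coe_mul, hz, hb, hn, m4_mul, m4_mul,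
      nsc_step, nsc_step]
    rfl
  · rw [mul_inv_eq_iff_eq_mul]
    apply Subtype.ext
    rw [Matrix.SpecialLinearGroup.coe_mul, sig_base]
    simp only [Matrix.SpecialLinearGroup.coe_mul, hz, m4_mul, nsc_step]
    rfl
  · rw [zeta_pow, Matrix.SpecialLinearGroup.coe_one, h1]; rfl
  · rw [zeta_pow, hn]; rfl
  · rw [zeta_pow]
    congr 2
    exact Fin.ext (Nat.mod_eq_of_lt k.isLt)
  · rw [neg1_mul]; exact ht

theorem b4_facts : ((1 : M4) + (b4 : M4)).det = 1 ∧ ((1 : M4) - (b4 : M4)).det = 1 ∧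
    (zeta : M4) = 1 + (b4 : M4) ∧ ((zeta ^ 3 : SL4) : M4) = 1 - (b4 : M4) := by
  rw [zeta_pow]; decide +kernel

theorem comm_b4 {c : SL4} (h : c * b4 = b4 * c) : ∃ M, (c : M4) = m4 M := by
  have f := fun i j => congrFun (congrFun (congrArg (fun g : SL4 => (g : M4)) h) i) j
  simp only [Matrix.SpecialLinearGroup.coe_mul] at f
  have f00 := f 0 0; have f01 := f 0 1; have f02 := f 0 2; have f03 := f 0 3
  have f20 := f 2 0; have f21 := f 2 1; have f22 := f 2 2; have f23 := f 2 3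
  simp [b4, bSM, qJ, Matrix.mul_apply, Fin.sum_univ_four, show (2 : ZMod 3) = -1 by decide] at f00 f01 f02 f03 f20 f21 f22 f23
  refine ⟨((c.1 0 0, c.1 0 1), (c.1 0 2, c.1 0 3), (c.1 2 0, c.1 2 1), (c.1 2 2, c.1 2 3)), ?_⟩
  ext i j
  fin_cases i <;> fin_cases j <;> simp [m4] <;>
    first
    | linear_combination f00 | linear_combination -f00
    | linear_combination f01 | linear_combination -f01
    | linear_combination f02 | linear_combination -f02
    | linear_combination f03 | linear_combination -f03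
    | linear_combination f20 | linear_combination -f20
    | linear_combination f21 | linear_combination -f21
    | linear_combination f22 | linear_combination -f22
    | linear_combination f23 | linear_combination -f23

/-- the centraliser of the scalar -/
def Cz : Subgroup SL4 := Subgroup.centralizer ({zeta} : Set SL4)

theorem mem_Cz {c : SL4} : c ∈ Cz ↔ c * zeta = zeta * c := Subgroup.mem_centralizer_singleton_iff

theorem Cz_b4 {c : SL4} (h : c ∈ Cz) : c * b4 = b4 * c := by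
  have h' : Commute c (neg1 * (zeta * zeta)) :=
    ((neg1_comm c).symm).mul_right ((show Commute c zeta from mem_Cz.1 h).mul_right (mem_Cz.1 h))
  rwa [zeta_facts.1, ← mul_assoc, z4_facts.2.2.2.2, one_mul] at h'

theorem scalar_comm : ∀ M : N9, nm M (nsc 1) = nm (nsc 1) M := by decide +kernel

theorem mem_Cz_of {c : SL4} {M : N9} (h : (c : M4) = m4 M) : c ∈ Cz := by
  refine mem_Cz.2 (Subtype.ext ?_)
  have hz : (zeta : M4) = m4 (nsc 1) := zeta_base.1
  rw [Matrix.SpecialLinearGroup.coe_mul, Matrix.SpecialLinearGroup.coe_mul, h, hz, m4_mul, m4_mul,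
    scalar_comm]

theorem fm_zero : ∀ a b d : F9, d ≠ -a → (fm a b + fm b d = 0 → b = 0) ∧ (fm b a + fm d b = 0 → b = 0) ∧
    (fm a a = fm d d → d = a) := by decide +kernel

theorem scalar_norm : ∀ a : F9, ndet (a, (0, 0), (0, 0), a) = 1 → ∃ k : Fin 8, fpw k = a := by decide +kernel

theorem traceless_root : ∀ a b c : F9, ndet (a, b, c, -a) = 1 →
    ∃ k : Fin 8, nm (nm (nsc k) (a, b, c, -a)) (nm (nsc k) (a, b, c, -a)) = nsc 0 := by decide +kernel

theorem fm_zero_left : ∀ a : F9, fm 0 a = 0 ∧ fm a 0 = 0 := by decide +kernel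

/-- a nonscalar square root of a scalar is a scalar multiple of an involution -/
theorem root_scalar (M : N9) (hd : ndet M = 1) (hj : ∃ j : Fin 8, nm M M = nsc j) :
    (∃ k : Fin 8, M = nsc k) ∨ ∃ k : Fin 8, nm (nm (nsc k) M) (nm (nsc k) M) = nsc 0 := by
  obtain ⟨a, b, c, d⟩ := M
  by_cases h : d = -a
  · subst h
    exact Or.inr (traceless_root a b c hd)
  obtain ⟨j, hj⟩ := hj
  simp only [nm, nsc, Prod.mk.injEq] at hj
  obtain ⟨e1, e2, e3, e4⟩ := hj
  have hb : b = 0 := (fm_zero a b d h).1 e2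
  have hc : c = 0 := (fm_zero a c d h).2.1 e3
  subst hb hc
  rw [(fm_zero_left _).1, add_zero] at e1
  rw [(fm_zero_left _).1, zero_add] at e4
  have hda : d = a := (fm_zero a 0 d h).2.2 (e1.trans e4.symm)
  subst hda
  obtain ⟨k, hk⟩ := scalar_norm d hd
  exact Or.inl ⟨k, by simp only [nsc, hk]; rfl⟩

theorem count_Cz' : (Finset.univ.filter fun M : N9 => ndet M = 1).card = 2880 := by decide +kernel

theorem card_ndet : Nat.card {M : N9 // ndet M = 1} = 2880 := by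
  rw [Nat.card_eq_fintype_card, Fintype.card_subtype]
  exact count_Cz'

/-- the element of a matrix over the field of norm one -/
def toCz (M : {M : N9 // ndet M = 1}) : Cz :=
  ⟨(⟨m4 M.1, (m4_det M.1).trans M.2⟩ : SL4), mem_Cz_of (M := M.1) rfl⟩

attribute [local irreducible] m4 ndet in
theorem card_Cz : Nat.card Cz = 2880 := by
  rw [← card_ndet]
  refine (Nat.card_congr (Equiv.ofBijective toCz ⟨?_, ?_⟩)).symm
  · intro M N e
    exact Subtype.ext (m4_inj (congrArg (fun x : Cz => ((x : SL4) : M4)) e))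
  · rintro ⟨c, hc⟩
    obtain ⟨M, hM⟩ := comm_b4 (Cz_b4 hc)
    exact ⟨⟨M, by rw [← m4_det, ← hM]; exact c.2⟩, Subtype.ext (Subtype.ext hM.symm)⟩

theorem U_mem : ∀ x y : ZMod 3, mE (x, y, -y, x) * zeta = zeta * mE (x, y, -y, x) := by decide +kernel

theorem U_det : ∀ x y : ZMod 3, (x, y) ≠ 0 → x * x - y * (-y) ≠ 0 := by decide +kernel

/-- nine involutions of the centraliser -/
def nInv (x : F9) : N9 := ((1, 0), x, (0, 0), (2, 0))

theorem nInv_facts : ∀ x : F9, ndet (nInv x) = 1 ∧ nm (nInv x) (nInv x) = nsc 0 ∧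
    ∀ k : Fin 8, nInv x ≠ nsc k ∧ ∀ y : F9, nm (nsc k) (nInv x) = nInv y → x = y := by decide +kernel

theorem det_tau2 : (!![0, 0, 1, 0; 0, 0, 0, 1; 1, 0, 0, 0; 0, 1, 0, 0] : M4).det = 1 := by
  decide +kernel

theorem det_tau1 : (Matrix.diagonal ![1, 1, -1, -1] : M4).det = 1 := by decide +kernel

/-- commuting involutions modulo the centre, first -/
def tau1 : SL4 := ⟨Matrix.diagonal ![1, 1, -1, -1], det_tau1⟩
/-- second -/
def tau2 : SL4 := ⟨!![0, 0, 1, 0; 0, 0, 0, 1; 1, 0, 0, 0; 0, 1, 0, 0], det_tau2⟩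

/-- the first in coordinates -/
def nt1 : N9 := ((1, 0), (0, 0), (0, 0), (2, 0))
/-- the second in coordinates -/
def nt2 : N9 := ((0, 0), (1, 0), (1, 0), (0, 0))

theorem tau_base : (tau1 : M4) = m4 nt1 ∧ (tau2 : M4) = m4 nt2 := by decide +kernel

theorem tau_tables : nm nt1 nt1 = nsc 0 ∧ nm nt2 nt2 = nsc 0 ∧ nm nt1 nt2 = nm (nsc 4) (nm nt2 nt1) ∧
    nm nt1 (nsc 6) = nm (nsc 6) nt1 ∧ nm nt2 (nsc 6) = nm (nsc 6) nt2 ∧
    nm (nm (nsc 6) (nm nt1 nt2)) (nm (nsc 6) (nm nt1 nt2)) = nsc 0 ∧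
    ∀ k : Fin 8, nt1 ≠ nsc k ∧ nt2 ≠ nsc k ∧ nm (nsc 6) (nm nt1 nt2) ≠ nsc k ∧ nm nt1 nt2 ≠ nsc k := by
  decide +kernel

theorem tau_facts : tau1 * tau1 = 1 ∧ tau2 * tau2 = 1 ∧ tau1 * tau2 = neg1 * (tau2 * tau1) ∧
    tau1 * b4 = b4 * tau1 ∧ tau2 * b4 = b4 * tau2 ∧ (b4 * (tau1 * tau2)) * (b4 * (tau1 * tau2)) = 1 ∧
    (∀ x ∈ [tau1, tau2, b4 * (tau1 * tau2)], x ≠ 1 ∧ x ≠ neg1) ∧
    (∀ x ∈ [tau1, tau2, tau1 * tau2], x ≠ 1 ∧ x ≠ neg1 ∧ x ≠ b4 ∧ x ≠ neg1 * b4) := by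
  obtain ⟨e1, e2⟩ := tau_base
  obtain ⟨-, hb, -, hn, h1, -⟩ := zeta_base
  obtain ⟨t1, t2, t3, t4, t5, t6, t7⟩ := tau_tables
  have hne : ∀ {x : SL4} {M : N9}, (x : M4) = m4 M → (∀ k, M ≠ nsc k) →
      x ≠ 1 ∧ x ≠ neg1 ∧ x ≠ b4 ∧ x ≠ neg1 * b4 := fun {x M} hx h => by
    refine ⟨fun e => h 0 (m4_inj ?_), fun e => h 4 (m4_inj ?_), fun e => h 6 (m4_inj ?_),
      fun e => h (4 + 6) (m4_inj ?_)⟩ <;> rw [← hx, e]
    · rw [Matrix.SpecialLinearGroup.coe_one, h1]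
    · exact hn
    · exact hb
    · rw [Matrix.SpecialLinearGroup.coe_mul, hn, hb, m4_mul, nsc_step]
  have e3 : ((tau1 * tau2 : SL4) : M4) = m4 (nm nt1 nt2) := by
    rw [Matrix.SpecialLinearGroup.coe_mul, e1, e2, m4_mul]
  have e4 : ((b4 * (tau1 * tau2) : SL4) : M4) = m4 (nm (nsc 6) (nm nt1 nt2)) := by
    rw [Matrix.SpecialLinearGroup.coe_mul, hb, e3, m4_mul]
  refine ⟨Subtype.ext ?_, Subtype.ext ?_, Subtype.ext ?_, Subtype.ext ?_, Subtype.ext ?_, Subtype.ext ?_,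
    fun x hx => ?_, fun x hx => ?_⟩
  · rw [Matrix.SpecialLinearGroup.coe_mul, e1, m4_mul, t1, Matrix.SpecialLinearGroup.coe_one, h1]
  · rw [Matrix.SpecialLinearGroup.coe_mul, e2, m4_mul, t2, Matrix.SpecialLinearGroup.coe_one, h1]
  · simp only [Matrix.SpecialLinearGroup.coe_mul, e1, e2, hn, m4_mul]; rw [t3]
  · simp only [Matrix.SpecialLinearGroup.coe_mul, e1, hb, m4_mul]; rw [t4]
  · simp only [Matrix.SpecialLinearGroup.coe_mul, e2, hb, m4_mul]; rw [t5]
  · rw [Matrix.SpecialLinearGroup.coe_mul, e4, m4_mul, t6, Matrix.SpecialLinearGroup.coe_one, h1]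
  · simp only [List.mem_cons, List.not_mem_nil, or_false] at hx
    rcases hx with rfl | rfl | rfl
    exacts [⟨(hne e1 fun k => (t7 k).1).1, (hne e1 fun k => (t7 k).1).2.1⟩,
      ⟨(hne e2 fun k => (t7 k).2.1).1, (hne e2 fun k => (t7 k).2.1).2.1⟩,
      ⟨(hne e4 fun k => (t7 k).2.2.1).1, (hne e4 fun k => (t7 k).2.2.1).2.1⟩]
  · simp only [List.mem_cons, List.not_mem_nil, or_false] at hx
    rcases hx with rfl | rfl | rfl
    exacts [hne e1 fun k => (t7 k).1, hne e2 fun k => (t7 k).2.1, hne e3 fun k => (t7 k).2.2.2]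

end CfsgLib.Recog.LFourThree.Both
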