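import Cfsg.Agent.Lib.Recog.LFourThree.TwoCentT
import Cfsg.Agent.Lib.Recog.LFourThree.TwoCentE
import Cfsg.Agent.Lib.Recog.LFourThree.TwoZModel
import Cfsg.Agent.Lib.Invol.Strong
import Cfsg.Agent.Lib.Invol.BrauerSuzuki

/-!
The second class of involutions: the centralisers of the scalar of order four and of its square lie in the
image, by strong embedding and the Z*-theorem.
-/

set_option autoImplicit false
set_option linter.unusedSectionVars false
set_option linter.style.haveILetI false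
set_option maxRecDepth 20000
set_option linter.deprecated false

namespace CfsgLib.Recog.LFourThree.Both

open Subgroup
open CfsgLib.Recog.LFourThree.Ident (T4 mE mE_add mE_zero mE_inj)

universe u

variable {G : Type u} [Group G]

/-- the powers of an element inside its centraliser -/
abbrev cyc (a : G) : Subgroup (centralizer ({a} : Set G)) := (zpowers a).subgroupOf _

theorem cyc_center (a : G) : cyc a ≤ center (centralizer ({a} : Set G)) := by
  intro x hx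
  rw [Subgroup.mem_center_iff]
  intro y
  apply Subtype.ext
  obtain ⟨n, hn⟩ := mem_subgroupOf.1 hx
  show (y : G) * x = x * y
  rw [← hn]
  exact ((show Commute (y : G) a from mem_centralizer_singleton_iff.1 y.2).zpow_right n).eq

instance cyc_normal (a : G) : (cyc a).Normal :=
  ⟨fun x hx y => by rw [Subgroup.mem_center_iff.1 (cyc_center a hx) y, mul_inv_cancel_right]; exact hx⟩

theorem mem_image_iff {R : Subgroup G} {a : G} (ha : a ∈ R) (x : centralizer ({a} : Set G)) :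
    QuotientGroup.mk' (cyc a) x ∈ (R.subgroupOf _).map (QuotientGroup.mk' (cyc a)) ↔ (x : G) ∈ R := by
  refine ⟨?_, fun h => mem_map_of_mem _ (mem_subgroupOf.2 h)⟩
  rintro ⟨y, hy, e⟩
  obtain ⟨z, hz, hyz⟩ := (QuotientGroup.mk'_eq_mk' _).1 e
  rw [← hyz]
  exact mul_mem (mem_subgroupOf.1 hy) ((zpowers_le.2 ha) (mem_subgroupOf.1 hz))

theorem quot_eq_one_iff {a : G} (x : centralizer ({a} : Set G)) :
    QuotientGroup.mk' (cyc a) x = 1 ↔ (x : G) ∈ zpowers a := by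
  rw [← MonoidHom.mem_ker, QuotientGroup.ker_mk', mem_subgroupOf]

variable [Finite G] (T : Setup G)

attribute [local irreducible] mE bd tD zeta b4 sig tau1 tau2 neg1 m4

theorem Setup.centE : T.CentE := fun v hv _ hg => T.cent_e v hv hg

theorem Setup.psi_neg1 : T.Ψ neg1 = 1 := (T.ker neg1).2 (Or.inr rfl)

theorem Setup.invol_cases {y : G} (hy : y ∈ T.Ψ.range) (h2 : y * y = 1) (h1 : y ≠ 1) :
    ∃ k, y = T.Ψ k * T.Ψ tD * (T.Ψ k)⁻¹ ∨ y = T.Ψ k * T.Ψ b4 * (T.Ψ k)⁻¹ := by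
  obtain ⟨u, rfl⟩ := hy
  rcases (T.ker (u * u)).1 (by rw [map_mul, h2]) with e | e
  · obtain ⟨k, hk⟩ := isConj_iff.1 (isConj_tD e (fun h => h1 (by rw [h, map_one]))
      (fun h => h1 (by rw [h, T.psi_neg1])))
    exact ⟨k, Or.inl (by rw [← hk, map_mul, map_mul, map_inv])⟩
  · obtain ⟨k, hk⟩ := isConj_iff.1 (isConj_b4 e)
    exact ⟨k, Or.inr (by rw [← hk, map_mul, map_mul, map_inv])⟩

theorem eU_facts : mE (1, 0, 0, 1) * b4 = b4 * mE (1, 0, 0, 1) ∧ tD * tD = 1 ∧ b4 * b4 ≠ 1 ∧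
    neg1 * b4 * (neg1 * b4) ≠ 1 ∧ tD ≠ 1 ∧ tD ≠ neg1 ∧ b4 ≠ 1 ∧ b4 ≠ neg1 := by decide +kernel

theorem Setup.t_not_b (k : SL4) : T.Ψ k * T.Ψ tD * (T.Ψ k)⁻¹ ≠ T.Ψ b4 := fun h => by
  obtain ⟨-, ht, hb, hnb, -⟩ := eU_facts
  rw [← map_inv, ← map_mul, ← map_mul] at h
  have hsq : k * tD * k⁻¹ * (k * tD * k⁻¹) = 1 := by
    rw [show k * tD * k⁻¹ * (k * tD * k⁻¹) = k * (tD * tD) * k⁻¹ by group, ht, mul_one, mul_inv_cancel]
  rcases T.eq_iff.1 h with e | e
  · exact hb (e ▸ hsq)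
  · exact hnb (e ▸ hsq)

/-- an involution of the first class fixes one coset -/
theorem Setup.fuse_t {g : G} (hg : g * T.Ψ tD * g⁻¹ ∈ T.Ψ.range) : g ∈ T.Ψ.range := by
  obtain ⟨he, ht, -, -, ht1, htn, -, -⟩ := eU_facts
  have h2 : g * T.Ψ tD * g⁻¹ * (g * T.Ψ tD * g⁻¹) = 1 := by
    rw [show g * T.Ψ tD * g⁻¹ * (g * T.Ψ tD * g⁻¹) = g * (T.Ψ tD * T.Ψ tD) * g⁻¹ by group, ← map_mul,
      ht, map_one, mul_one, mul_inv_cancel]
  have h1 : g * T.Ψ tD * g⁻¹ ≠ 1 := fun h => by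
    rcases (T.ker _).1 (conj_eq_one_iff.1 h) with e | e
    exacts [ht1 e, htn e]
  obtain ⟨k, hk | hk⟩ := T.invol_cases hg h2 h1
  · have hc : Commute ((T.Ψ k)⁻¹ * g) (T.Ψ tD) := by
      refine mul_inv_eq_iff_eq_mul.1 ?_
      rw [show (T.Ψ k)⁻¹ * g * T.Ψ tD * ((T.Ψ k)⁻¹ * g)⁻¹ = (T.Ψ k)⁻¹ * (g * T.Ψ tD * g⁻¹) * T.Ψ k by group,
        hk]
      group
    have := mul_mem (show T.Ψ k ∈ T.Ψ.range from ⟨_, rfl⟩) (T.cent_t T.centE hc)
    rwa [mul_inv_cancel_left] at this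
  · exfalso
    set w := T.Ψ (mE (1, 0, 0, 1))
    have hw : Commute w (T.Ψ b4) := by rw [Commute, SemiconjBy, ← map_mul, ← map_mul, he]
    have hc : Commute (g⁻¹ * T.Ψ k * w * (g⁻¹ * T.Ψ k)⁻¹) (T.Ψ tD) := by
      have := hw.map (MulAut.conj (g⁻¹ * T.Ψ k)).toMonoidHom
      simp only [MulEquiv.coe_toMonoidHom, MulAut.conj_apply] at this
      rwa [show g⁻¹ * T.Ψ k * T.Ψ b4 * (g⁻¹ * T.Ψ k)⁻¹ = g⁻¹ * (T.Ψ k * T.Ψ b4 * (T.Ψ k)⁻¹) * g by group,
        ← hk, show g⁻¹ * (g * T.Ψ tD * g⁻¹) * g = T.Ψ tD by group] at this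
    obtain ⟨m, hm⟩ := T.fuse_three (mE_cube _) (fun _ hc => T.cent_e (1, 0, 0, 1) (by decide +kernel) hc)
      (T.cent_t T.centE hc)
    refine T.t_not_b m⁻¹ ?_
    rw [map_inv, hm, show (g⁻¹ * T.Ψ k)⁻¹ * T.Ψ tD * (g⁻¹ * T.Ψ k)⁻¹⁻¹ =
      (T.Ψ k)⁻¹ * (g * T.Ψ tD * g⁻¹) * T.Ψ k by group, hk]
    group

theorem Setup.fuse_t' {u : SL4} (h2 : u * u = 1) (h1 : u ≠ 1) (hn : u ≠ neg1) {g : G}
    (hg : g * T.Ψ u * g⁻¹ ∈ T.Ψ.range) : g ∈ T.Ψ.range := by
  obtain ⟨k, hk⟩ := isConj_iff.1 (isConj_tD h2 h1 hn)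
  have h := T.fuse_t (g := g * T.Ψ k) (by
    rw [show g * T.Ψ k * T.Ψ tD * (g * T.Ψ k)⁻¹ = g * (T.Ψ k * T.Ψ tD * (T.Ψ k)⁻¹) * g⁻¹ by group,
      ← map_inv, ← map_mul, ← map_mul, hk]
    exact hg)
  simpa using mul_mem h (inv_mem (show T.Ψ k ∈ T.Ψ.range from ⟨_, rfl⟩))

/-- the centraliser of the scalar of order four -/
abbrev Setup.Kz : Subgroup G := centralizer ({T.Ψ zeta} : Set G)

/-- the map of the matrices into the quotient -/
noncomputable def Setup.fz : Cz →* T.Kz ⧸ cyc (T.Ψ zeta) :=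
  (QuotientGroup.mk' (cyc (T.Ψ zeta))).comp (MonoidHom.mk'
    (fun c => (⟨T.Ψ (c : SL4), mem_centralizer_singleton_iff.2 (by
      rw [← map_mul, ← map_mul, mem_Cz.1 c.2])⟩ : T.Kz))
    (fun a b => Subtype.ext (map_mul T.Ψ (a : SL4) b)))

/-- its image -/
noncomputable def Setup.Lz : Subgroup (T.Kz ⧸ cyc (T.Ψ zeta)) :=
  (T.Ψ.range.subgroupOf T.Kz).map (QuotientGroup.mk' (cyc (T.Ψ zeta)))

theorem Setup.lift_Cz {u : SL4} (h : Commute (T.Ψ u) (T.Ψ zeta)) : u ∈ Cz := by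
  have e : T.Ψ (u * zeta) = T.Ψ (zeta * u) := by rw [map_mul, map_mul, h.eq]
  rcases T.eq_iff.1 e with e | e
  · exact mem_Cz.2 e
  · exfalso
    refine zeta_facts.2.2.2.2.2 ?_
    have e' : u⁻¹ * (u * zeta) = u⁻¹ * (neg1 * (zeta * u)) := congrArg _ e
    rw [inv_mul_cancel_left] at e'
    conv_lhs => rw [e']
    rw [Matrix.SpecialLinearGroup.coe_mul, Matrix.trace_mul_comm, ← Matrix.SpecialLinearGroup.coe_mul,
      show neg1 * (zeta * u) * u⁻¹ = neg1 * zeta by group]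

theorem Setup.fz_range : T.fz.range = T.Lz := by
  ext x
  constructor
  · rintro ⟨c, rfl⟩
    exact mem_map_of_mem _ (mem_subgroupOf.2 ⟨_, rfl⟩)
  · rintro ⟨y, hy, rfl⟩
    obtain ⟨u, hu⟩ := mem_subgroupOf.1 hy
    exact ⟨⟨u, T.lift_Cz (hu ▸ mem_centralizer_singleton_iff.1 y.2)⟩,
      congrArg (QuotientGroup.mk' (cyc (T.Ψ zeta))) (Subtype.ext hu)⟩

theorem Setup.fz_ker {c : Cz} : T.fz c = 1 ↔ ∃ k : Fin 8, (c : SL4) = zeta ^ k.val := by
  obtain ⟨-, -, h8, h4, -, -⟩ := zeta_facts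
  have hpow : ∀ n : ℕ, zeta ^ n = zeta ^ (n % 8) := fun n => pow_eq_pow_mod n h8
  show QuotientGroup.mk' (cyc (T.Ψ zeta)) _ = 1 ↔ _
  rw [quot_eq_one_iff]
  constructor
  · intro hc
    obtain ⟨n, hn⟩ := mem_powers_iff_mem_zpowers.2 hc
    have hn' : T.Ψ (c : SL4) = T.Ψ (zeta ^ n) := by rw [map_pow]; exact hn.symm
    rcases T.eq_iff.1 hn' with e | e
    · exact ⟨⟨n % 8, Nat.mod_lt _ (by norm_num)⟩, by rw [e]; exact hpow n⟩
    · exact ⟨⟨(4 + n) % 8, Nat.mod_lt _ (by norm_num)⟩, by rw [e, ← h4, ← pow_add]; exact hpow _⟩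
  · rintro ⟨k, hk⟩
    exact ⟨(k.val : ℤ), by show T.Ψ zeta ^ ((k.val : ℕ) : ℤ) = T.Ψ (c : SL4); rw [hk, map_pow, zpow_natCast]⟩

theorem zeta_mem : zeta ∈ Cz := mem_Cz.2 rfl

theorem Setup.card_Lz : Nat.card T.Lz = 360 := by
  have hk : T.fz.ker = zpowers (⟨zeta, zeta_mem⟩ : Cz) := by
    ext c
    rw [MonoidHom.mem_ker, T.fz_ker]
    refine ⟨fun ⟨k, hk⟩ => ⟨(k.val : ℤ), Subtype.ext (by rw [hk]; simp)⟩, fun hc => ?_⟩
    obtain ⟨n, rfl⟩ := mem_powers_iff_mem_zpowers.2 hc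
    exact ⟨⟨n % 8, Nat.mod_lt _ (by norm_num)⟩, by
      show ((⟨zeta, zeta_mem⟩ : Cz) ^ n : Cz).1 = _
      rw [SubmonoidClass.coe_pow]
      exact pow_eq_pow_mod n zeta_facts.2.2.1⟩
  have h8 : orderOf (zeta : SL4) = 2 ^ (2 + 1) :=
    orderOf_eq_prime_pow (by
      show ¬ zeta ^ (2 ^ 2) = 1
      rw [show (2 : ℕ) ^ 2 = 4 from rfl, zeta_facts.2.2.2.1]
      exact z4_facts.2.2.2.1) zeta_facts.2.2.1
  have h := Subgroup.card_mul_index T.fz.ker
  rw [Subgroup.index_ker, T.fz_range, hk, Nat.card_zpowers, ← Subgroup.orderOf_coe, h8, card_Cz] at h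
  omega

/-- lifts of involutions of the quotient -/
theorem Setup.invol_lift {c : Cz} (hc : T.fz c ≠ 1) (h2 : T.fz c * T.fz c = 1) :
    ∃ u : Cz, T.fz u = T.fz c ∧ (u : SL4) * u = 1 ∧ (u : SL4) ≠ 1 ∧ (u : SL4) ≠ neg1 := by
  obtain ⟨M, hM⟩ := comm_b4 (Cz_b4 c.2)
  obtain ⟨j, hj⟩ := T.fz_ker.1 (show T.fz (c * c) = 1 by rw [map_mul, h2])
  obtain ⟨-, -, -, h4, hp, -⟩ := zeta_facts
  have hd : ndet M = 1 := by rw [← m4_det, ← hM]; exact (c : SL4).2
  have hMM : nm M M = nsc j := m4_inj (by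
    rw [← m4_mul, ← hM, ← hp j, ← Matrix.SpecialLinearGroup.coe_mul]
    exact congrArg (fun x : SL4 => (x : M4)) hj)
  rcases root_scalar M hd ⟨j, hMM⟩ with ⟨k, hk⟩ | ⟨k, hk⟩
  · exact absurd (T.fz_ker.2 ⟨k, Subtype.ext (by rw [hM, hk, hp k])⟩) hc
  have hzk : zeta ^ k.val ∈ Cz := pow_mem zeta_mem _
  set u : Cz := ⟨zeta ^ k.val, hzk⟩ * c with hu
  have hfu : T.fz u = T.fz c := by rw [hu, map_mul, T.fz_ker.2 ⟨k, rfl⟩, one_mul]
  have huM : ((u : SL4) : M4) = m4 (nm (nsc k) M) := by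
    show ((zeta ^ k.val * (c : SL4) : SL4) : M4) = _
    rw [Matrix.SpecialLinearGroup.coe_mul, hp k, hM, m4_mul]
  refine ⟨u, hfu, Subtype.ext ?_, fun e => ?_, fun e => ?_⟩
  · rw [Matrix.SpecialLinearGroup.coe_mul, huM, m4_mul, hk, Matrix.SpecialLinearGroup.coe_one]
    exact zeta_base.2.2.2.2.1.symm
  · exact hc (hfu ▸ T.fz_ker.2 ⟨0, by rw [e]; simp⟩)
  · exact hc (hfu ▸ T.fz_ker.2 ⟨4, by rw [e, ← h4]; rfl⟩)

/-- the unipotent group of the centraliser -/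
def uz : Multiplicative (ZMod 3 × ZMod 3) →* Cz :=
  MonoidHom.mk' (fun p => ⟨mE (p.toAdd.1, p.toAdd.2, -p.toAdd.2, p.toAdd.1), mem_Cz.2 (U_mem _ _)⟩)
    (fun p q => Subtype.ext (by
      show mE _ = mE _ * mE _
      rw [← mE_add]
      simp [add_comm]))

/-- elements of order three of the image fix one coset -/
theorem Setup.fuse_z3 {c : Cz} (h1 : T.fz c ≠ 1) (h3 : T.fz c ^ 3 = 1) {g : G}
    (hg : g * T.Ψ (c : SL4) * g⁻¹ ∈ T.Ψ.range) : g ∈ T.Ψ.range := by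
  haveI : Fact (Nat.Prime 3) := ⟨Nat.prime_three⟩
  obtain ⟨j, hj⟩ := T.fz_ker.1 (show T.fz (c ^ 3) = 1 by rw [map_pow, h3])
  set d := c ^ 8 with hd
  have hd3 : d ^ 3 = 1 := Subtype.ext (by
    rw [hd, ← pow_mul, show 8 * 3 = 3 * 8 from rfl, pow_mul, SubmonoidClass.coe_pow, hj, ← pow_mul,
      mul_comm, pow_mul, zeta_facts.2.2.1, one_pow]
    rfl)
  have hd1 : d ≠ 1 := fun e => h1 (by
    have e' : T.fz c ^ 8 = 1 := by rw [← map_pow, ← hd, e, map_one]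
    have := pow_gcd_eq_one.2 ⟨e', h3⟩
    rwa [show Nat.gcd 8 3 = 1 from rfl, pow_one] at this)
  have hinj : Function.Injective uz := fun p q h => by
    have e := mE_inj (congrArg Subtype.val h)
    simp only [Prod.mk.injEq] at e
    exact Multiplicative.toAdd.injective (Prod.ext e.1 e.2.1)
  have hcard : Nat.card uz.range = 3 ^ (Nat.card Cz).factorization 3 := by
    have h9 : (Nat.card Cz).factorization 3 = 2 := by
      rw [card_Cz, show (2880 : ℕ) = 3 ^ 2 * 320 from rfl,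
        Nat.factorization_mul (by norm_num) (by norm_num), Finsupp.add_apply,
        Nat.prime_three.factorization_pow, Finsupp.single_eq_same,
        Nat.factorization_eq_zero_of_not_dvd (by norm_num)]
    rw [h9, ← Nat.card_congr (MonoidHom.ofInjective hinj).toEquiv]
    simp
  let P0 : Sylow 3 Cz := Sylow.ofCard uz.range hcard
  have hp : IsPGroup 3 (zpowers d) := IsPGroup.of_card (n := 1) (by
    rw [Nat.card_zpowers, orderOf_eq_prime hd3 hd1, pow_one])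
  obtain ⟨P, hP⟩ := hp.exists_le_sylow
  obtain ⟨h, hh⟩ := MulAction.exists_smul_eq Cz P P0
  have hmem : h * d * h⁻¹ ∈ (P0 : Subgroup Cz) := by
    rw [← hh]
    exact smul_mem_pointwise_smul _ (MulAut.conj _) _ (hP (mem_zpowers d))
  obtain ⟨p, hp'⟩ : h * d * h⁻¹ ∈ uz.range := hmem
  have hp1 : (p.toAdd.1, p.toAdd.2) ≠ (0 : ZMod 3 × ZMod 3) := fun e => hd1 (by
    rw [show p = 1 from Multiplicative.toAdd.injective e, map_one] at hp'
    exact conj_eq_one_iff.1 hp'.symm)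
  set v : T4 := (p.toAdd.1, p.toAdd.2, -p.toAdd.2, p.toAdd.1) with hv
  have hu : T.Ψ (mE v) = T.Ψ (h : SL4) * T.Ψ (d : SL4) * (T.Ψ (h : SL4))⁻¹ := by
    rw [← map_inv, ← map_mul, ← map_mul]
    exact congrArg (fun x : Cz => T.Ψ (x : SL4)) hp'
  have hgd : g * T.Ψ (d : SL4) * g⁻¹ ∈ T.Ψ.range := by
    rw [hd, SubmonoidClass.coe_pow, map_pow, ← conj_pow]
    exact pow_mem hg 8
  have := T.fuse_three (mE_cube v) (fun _ hc => T.cent_e v (U_det _ _ hp1) hc)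
    (g := g * (T.Ψ (h : SL4))⁻¹) (by
      rw [hu, show g * (T.Ψ (h : SL4))⁻¹ * (T.Ψ (h : SL4) * T.Ψ (d : SL4) * (T.Ψ (h : SL4))⁻¹) *
        (g * (T.Ψ (h : SL4))⁻¹)⁻¹ = g * T.Ψ (d : SL4) * g⁻¹ by group]
      exact hgd)
  simpa using mul_mem this (show T.Ψ (h : SL4) ∈ T.Ψ.range from ⟨_, rfl⟩)

theorem ndet_one {x : F9} : ndet (nInv x) = 1 := (nInv_facts x).1

/-- the nine involutions as matrices -/
def invEl (x : F9) : Cz :=
  ⟨(⟨m4 (nInv x), (m4_det _).trans ndet_one⟩ : SL4), mem_Cz_of (M := nInv x) rfl⟩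

/-- the centraliser of the scalar of order four lies in the image -/
theorem Setup.cent_zeta {g : G} (hg : Commute g (T.Ψ zeta)) : g ∈ T.Ψ.range := by
  classical
  by_contra hgR
  set L := T.Kz ⧸ cyc (T.Ψ zeta)
  set q := QuotientGroup.mk' (cyc (T.Ψ zeta))
  have hzR : T.Ψ zeta ∈ T.Ψ.range := ⟨_, rfl⟩
  obtain ⟨-, -, -, -, hp, -⟩ := zeta_facts
  have hpre : ∀ {s : L}, s ∈ T.Lz → ∃ c, T.fz c = s := fun hs => by
    rw [← T.fz_range] at hs; exact hs
  -- an element carrying a lift into the image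
  have carry : ∀ (c : Cz) (a : T.Kz), q a * T.fz c * (q a)⁻¹ ∈ T.Lz →
      (a : G) * T.Ψ (c : SL4) * (a : G)⁻¹ ∈ T.Ψ.range := fun c a h => by
    have e : q a * T.fz c * (q a)⁻¹ = q (a * ⟨T.Ψ (c : SL4), mem_centralizer_singleton_iff.2 (by
      rw [← map_mul, ← map_mul, mem_Cz.1 c.2])⟩ * a⁻¹) := by
      rw [map_mul, map_mul, map_inv]; rfl
    rw [e] at h
    exact (mem_image_iff hzR _).1 h
  let g0 : T.Kz := ⟨g, mem_centralizer_singleton_iff.2 hg⟩
  have hg0 : q g0 ∉ T.Lz := fun h => hgR ((mem_image_iff hzR g0).1 h)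
  have hodd : ∀ a : L, a ∉ T.Lz → Odd (Nat.card ↥(T.Lz ⊓ T.Lz.map (MulAut.conj a).toMonoidHom)) := by
    intro a ha
    rw [← Nat.not_even_iff_odd]
    intro heven
    obtain ⟨s, ⟨hs, hs'⟩, hs2⟩ := CfsgLib.Invol.exists_invol_mem heven
    obtain ⟨c, rfl⟩ := hpre hs
    obtain ⟨u, hu, hu2, hu1, hun⟩ := T.invol_lift (CfsgLib.Invol.invol_ne_one hs2)
      (CfsgLib.Invol.invol_mul_self hs2)
    obtain ⟨a0, rfl⟩ := QuotientGroup.mk'_surjective _ a
    refine ha ((mem_image_iff hzR a0).2 ?_)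
    have hm : q a0⁻¹ * T.fz u * (q a0⁻¹)⁻¹ ∈ T.Lz := by
      obtain ⟨y, hy, he⟩ := hs'
      have he' : q a0 * y * (q a0)⁻¹ = T.fz c := he
      rw [hu, ← he', map_inv, show (q a0)⁻¹ * (q a0 * y * (q a0)⁻¹) * (q a0)⁻¹⁻¹ = y by group]
      exact hy
    simpa using inv_mem (T.fuse_t' hu2 hu1 hun (carry u a0⁻¹ hm))
  have hH : Cfsg.IsStronglyEmbedded T.Lz :=
    ⟨fun h => hg0 (h ▸ mem_top _), by rw [T.card_Lz]; decide, hodd⟩
  set D : Subgroup L := T.Lz ⊓ T.Lz.map (MulAut.conj (q g0)).toMonoidHom with hD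
  have hD3 : ¬ 3 ∣ Nat.card D := fun h => by
    haveI : Fact (Nat.Prime 3) := ⟨Nat.prime_three⟩
    obtain ⟨x, hx⟩ := exists_prime_orderOf_dvd_card' 3 h
    obtain ⟨hx1, hx2⟩ := x.2
    obtain ⟨c, hc⟩ := hpre hx1
    have hc3 : T.fz c ^ 3 = 1 := by
      have e := pow_orderOf_eq_one (x : L)
      rwa [Subgroup.orderOf_coe, hx, ← hc] at e
    have hc1 : T.fz c ≠ 1 := fun e => by
      rw [← Subgroup.orderOf_coe, ← hc, e, orderOf_one] at hx; omega
    have hm : q g0⁻¹ * T.fz c * (q g0⁻¹)⁻¹ ∈ T.Lz := by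
      obtain ⟨y, hy, he⟩ := hx2
      have he' : q g0 * y * (q g0)⁻¹ = (x : L) := he
      rw [hc, ← he', map_inv, show (q g0)⁻¹ * (q g0 * y * (q g0)⁻¹) * (q g0)⁻¹⁻¹ = y by group]
      exact hy
    exact hgR (by simpa using inv_mem (T.fuse_z3 hc1 hc3 (carry c g0⁻¹ hm)))
  have hD5 : Nat.card D ≤ 5 := by
    refine Nat.le_of_dvd (by norm_num) ?_
    have hdvd : Nat.card D ∣ 5 * 72 := by
      rw [show 5 * 72 = Nat.card T.Lz by rw [T.card_Lz]]
      exact card_dvd_of_le inf_le_left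
    refine Nat.Coprime.dvd_of_dvd_mul_right ?_ hdvd
    rw [show 72 = 2 ^ 3 * 3 ^ 2 from rfl]
    exact Nat.Coprime.mul_right ((Nat.coprime_two_right.2 (hodd _ hg0)).pow_right 3)
      (((Nat.prime_three.coprime_iff_not_dvd).2 hD3).symm.pow_right 2)
  -- count
  have hxy : ((1 : L) : L ⧸ T.Lz) ≠ ((q g0 : L) : L ⧸ T.Lz) := fun h => hg0 (by
    have := QuotientGroup.eq.1 h
    simpa using this)
  have hswap := CfsgLib.Invol.se_card_swap hH hxy
  have hnine : 9 ≤ Nat.card {t : L // orderOf t = 2 ∧ t ∈ T.Lz} := by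
    have hne : ∀ x, T.fz (invEl x) ≠ 1 := fun x e => by
      obtain ⟨k, hk⟩ := T.fz_ker.1 e
      refine ((nInv_facts x).2.2 k).1 (m4_inj ?_)
      rw [← hp k, ← hk]
      rfl
    have hsq : ∀ x, T.fz (invEl x) * T.fz (invEl x) = 1 := fun x => by
      rw [← map_mul, T.fz_ker]
      refine ⟨0, Subtype.ext ?_⟩
      rw [show ((invEl x * invEl x : Cz) : SL4) = (invEl x : SL4) * invEl x from rfl,
        Matrix.SpecialLinearGroup.coe_mul, hp 0]
      show m4 (nInv x) * m4 (nInv x) = _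
      rw [m4_mul, (nInv_facts x).2.1]
    let F : F9 → {t : L // orderOf t = 2 ∧ t ∈ T.Lz} := fun x =>
      ⟨T.fz (invEl x), CfsgLib.Invol.invol_of_mul_self (hsq x) (hne x), T.fz_range ▸ ⟨_, rfl⟩⟩
    have hF : Function.Injective F := fun x y e => by
      have e' : T.fz (invEl x) = T.fz (invEl y) := congrArg Subtype.val e
      obtain ⟨k, hk⟩ := T.fz_ker.1 (show T.fz (invEl y * (invEl x)⁻¹) = 1 by
        rw [map_mul, map_inv, e', mul_inv_cancel])
      refine ((nInv_facts x).2.2 k).2 y (m4_inj ?_)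
      have hy : (invEl y : SL4) = zeta ^ k.val * (invEl x : SL4) := by
        rw [← hk]
        show (invEl y : SL4) = (invEl y : SL4) * (invEl x : SL4)⁻¹ * (invEl x : SL4)
        rw [inv_mul_cancel_right]
      rw [← m4_mul, ← hp k]
      exact (congrArg (fun z : SL4 => (z : M4)) hy).symm.trans rfl
    have := Nat.card_le_card_of_injective F hF
    simpa using this
  have hnine' : 9 ≤ Nat.card {i : L // orderOf i = 2 ∧ i • ((1 : L) : L ⧸ T.Lz) = (q g0 : L)} :=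
    hnine.trans hswap.ge
  obtain ⟨⟨i0, hi0, hi0x⟩⟩ : Nonempty {i : L // orderOf i = 2 ∧ i • ((1 : L) : L ⧸ T.Lz) = (q g0 : L)} :=
    (Nat.card_pos_iff.1 (lt_of_lt_of_le (by norm_num : 0 < 9) hnine')).1
  have hmap : ∀ i : {i : L // orderOf i = 2 ∧ i • ((1 : L) : L ⧸ T.Lz) = (q g0 : L)}, i0 * i.1 ∈ D := by
    rintro ⟨i, hi, hix⟩
    have hx : (i0 * i) • ((1 : L) : L ⧸ T.Lz) = ((1 : L) : L ⧸ T.Lz) := by
      rw [mul_smul, hix, CfsgLib.Invol.invol_smul_swap hi0 hi0x]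
    have hy : (i0 * i) • ((q g0 : L) : L ⧸ T.Lz) = ((q g0 : L) : L ⧸ T.Lz) := by
      rw [mul_smul, CfsgLib.Invol.invol_smul_swap hi hix, hi0x]
    rw [CfsgLib.Invol.fix_coset_iff] at hx hy
    refine ⟨by simpa using hx, _, hy, ?_⟩
    simp [mul_assoc]
  have hle : Nat.card {i : L // orderOf i = 2 ∧ i • ((1 : L) : L ⧸ T.Lz) = (q g0 : L)} ≤ Nat.card D :=
    Nat.card_le_card_of_injective (fun i => (⟨_, hmap i⟩ : D)) fun i j e =>
      Subtype.ext (mul_left_cancel (congrArg Subtype.val e))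
  exact absurd ((hnine'.trans hle).trans hD5) (by norm_num)

theorem zeta_psi : (zeta * zeta * (zeta * zeta) = neg1) ∧ zeta ≠ 1 ∧ zeta ≠ neg1 ∧
    zeta * zeta = neg1 * b4 := by
  refine ⟨?_, ?_, ?_, zeta_facts.1⟩
  · rw [← zeta_facts.2.2.2.1, pow_succ, pow_succ, pow_two, mul_assoc (zeta * zeta)]
  · intro e
    have h4 := zeta_facts.2.2.2.1
    rw [e, one_pow] at h4
    exact z4_facts.2.2.2.1 h4.symm
  · intro e
    have h := zeta_facts.1
    rw [e, z4_facts.2.2.2.2] at h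
    exact eU_facts.2.2.2.1 (by rw [← h, one_mul])

theorem Setup.psi_sq : T.Ψ zeta * T.Ψ zeta = T.Ψ b4 := by
  rw [← map_mul, zeta_psi.2.2.2, map_mul, T.psi_neg1, one_mul]

theorem Setup.b4_sq' : T.Ψ b4 * T.Ψ b4 = 1 := by rw [← map_mul, b4_sq, T.psi_neg1]

theorem Setup.b4_ne : T.Ψ b4 ≠ 1 := fun h => by
  rcases (T.ker b4).1 h with e | e
  exacts [eU_facts.2.2.2.2.2.2.1 e, eU_facts.2.2.2.2.2.2.2 e]

/-- normalising the scalar group -/
theorem Setup.norm_zeta {g : G} (h : g * T.Ψ zeta * g⁻¹ = T.Ψ zeta ∨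
    g * T.Ψ zeta * g⁻¹ = T.Ψ zeta * T.Ψ b4) : g ∈ T.Ψ.range := by
  rcases h with h | h
  · exact T.cent_zeta (mul_inv_eq_iff_eq_mul.1 h)
  · have hs : T.Ψ sig * T.Ψ zeta * (T.Ψ sig)⁻¹ = T.Ψ zeta * T.Ψ b4 := by
      rw [← T.psi_sq, ← map_inv, ← map_mul, ← map_mul, zeta_facts.2.1, map_mul, map_mul, mul_assoc]
    have hc : Commute ((T.Ψ sig)⁻¹ * g) (T.Ψ zeta) := by
      refine mul_inv_eq_iff_eq_mul.1 ?_
      rw [show (T.Ψ sig)⁻¹ * g * T.Ψ zeta * ((T.Ψ sig)⁻¹ * g)⁻¹ =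
        (T.Ψ sig)⁻¹ * (g * T.Ψ zeta * g⁻¹) * T.Ψ sig by group, h, ← hs]
      group
    have := mul_mem (show T.Ψ sig ∈ T.Ψ.range from ⟨_, rfl⟩) (T.cent_zeta hc)
    rwa [mul_inv_cancel_left] at this

/-- a conjugate of the scalar inside the image is conjugate there -/
theorem Setup.root {g : G} (hb : Commute g (T.Ψ b4)) (hx : g * T.Ψ zeta * g⁻¹ ∈ T.Ψ.range) :
    g ∈ T.Ψ.range := by
  obtain ⟨u, hu⟩ := hx
  obtain ⟨hb1, hb2, hz1, hz3⟩ := b4_facts
  obtain ⟨h4, -, -, hzz⟩ := zeta_psi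
  have hu2 : T.Ψ (u * u) = T.Ψ b4 := by
    rw [map_mul, hu, show g * T.Ψ zeta * g⁻¹ * (g * T.Ψ zeta * g⁻¹) = g * (T.Ψ zeta * T.Ψ zeta) * g⁻¹ by group,
      T.psi_sq, hb.eq, mul_inv_cancel_right]
  have hucz : u ∈ Cz := by
    have hub : u * b4 = b4 * u := by
      rcases T.eq_iff.1 hu2 with e | e
      · rw [← e]; group
      · have e' : b4 = neg1 * (u * u) := by rw [e, ← mul_assoc, z4_facts.2.2.2.2, one_mul]
        rw [e', ← mul_assoc u, ← (neg1_comm u).eq]; group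
    refine mem_Cz.2 (Subtype.ext ?_)
    rw [Matrix.SpecialLinearGroup.coe_mul, Matrix.SpecialLinearGroup.coe_mul, hz1, mul_add, add_mul,
      mul_one, one_mul, ← Matrix.SpecialLinearGroup.coe_mul, hub, Matrix.SpecialLinearGroup.coe_mul]
  have hcu : Commute u zeta := mem_Cz.1 hucz
  -- the product with a power of the scalar of square one
  obtain ⟨j, hj⟩ : ∃ j : ℕ, u * zeta ^ j * (u * zeta ^ j) = 1 := by
    rcases T.eq_iff.1 hu2 with e | e
    · refine ⟨1, ?_⟩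
      rw [pow_one, show u * zeta * (u * zeta) = u * (zeta * u) * zeta by group, ← hcu.eq,
        show u * (u * zeta) * zeta = u * u * (zeta * zeta) by group, e, hzz, ← mul_assoc,
        ← (neg1_comm b4).eq, mul_assoc, b4_sq, z4_facts.2.2.2.2]
    · refine ⟨3, ?_⟩
      rw [← hzz] at e
      have hc3 : zeta ^ 3 * u = u * zeta ^ 3 := ((hcu.pow_right 3).eq).symm
      rw [show u * zeta ^ 3 * (u * zeta ^ 3) = u * (zeta ^ 3 * u) * zeta ^ 3 by group, hc3,
        show u * (u * zeta ^ 3) * zeta ^ 3 = u * u * (zeta ^ 3 * zeta ^ 3) by group, e, ← pow_two, ← pow_add,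
        ← pow_add]
      exact zeta_facts.2.2.1
  by_cases hS : u * zeta ^ j ≠ 1 ∧ u * zeta ^ j ≠ neg1
  · have hc : Commute (T.Ψ (u * zeta ^ j)) (g * T.Ψ zeta * g⁻¹) := by
      rw [← hu]
      exact ((Commute.refl u).mul_left (hcu.symm.pow_left j)).map T.Ψ
    have hc' : Commute (g⁻¹ * T.Ψ (u * zeta ^ j) * g⁻¹⁻¹) (T.Ψ zeta) := by
      have := hc.map (MulAut.conj g⁻¹).toMonoidHom
      simp only [MulEquiv.coe_toMonoidHom, MulAut.conj_apply] at this
      rwa [show g⁻¹ * (g * T.Ψ zeta * g⁻¹) * g⁻¹⁻¹ = T.Ψ zeta by group] at this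
    simpa using inv_mem (T.fuse_t' hj hS.1 hS.2 (T.cent_zeta hc'))
  · -- a power of the scalar
    have hone : T.Ψ (u * zeta ^ j) = 1 := by
      rcases not_and_or.1 hS with h | h <;> rw [not_not] at h <;> rw [h]
      exacts [map_one _, T.psi_neg1]
    have hx : g * T.Ψ zeta * g⁻¹ = ((T.Ψ zeta) ^ j)⁻¹ := by
      rw [← hu]
      rw [map_mul, map_pow] at hone
      exact eq_inv_of_mul_eq_one_left hone
    have h4' : T.Ψ zeta ^ 4 = 1 := by rw [← map_pow, zeta_facts.2.2.2.1, T.psi_neg1]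
    obtain ⟨n, hn, hxn⟩ : ∃ n : ℕ, n < 4 ∧ g * T.Ψ zeta * g⁻¹ = T.Ψ zeta ^ n := by
      refine ⟨(3 * j) % 4, Nat.mod_lt _ (by norm_num), ?_⟩
      rw [hx, ← pow_eq_pow_mod _ h4']
      refine inv_eq_of_mul_eq_one_right ?_
      rw [← pow_add, show j + 3 * j = 4 * j by ring, pow_mul, h4', one_pow]
    interval_cases n
    · rw [pow_zero, conj_eq_one_iff] at hxn
      exfalso
      have := T.psi_sq
      rw [hxn, one_mul] at this
      exact T.b4_ne this.symm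
    · rw [pow_one] at hxn; exact T.norm_zeta (Or.inl hxn)
    · exfalso
      rw [pow_two, T.psi_sq] at hxn
      have hz : T.Ψ zeta = g⁻¹ * T.Ψ b4 * g := by rw [← hxn]; group
      rw [mul_assoc, ← hb.eq, inv_mul_cancel_left] at hz
      have := T.psi_sq
      rw [hz, T.b4_sq'] at this
      exact T.b4_ne this.symm
    · refine T.norm_zeta (Or.inr ?_)
      rw [hxn, ← T.psi_sq, pow_succ, pow_two, mul_assoc]

/-- the centraliser of the second class -/
abbrev Setup.Kb : Subgroup G := centralizer ({T.Ψ b4} : Set G)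

/-- the centraliser of the second class lies in the image -/
theorem Setup.cent_b {g : G} (hg : Commute g (T.Ψ b4)) : g ∈ T.Ψ.range := by
  set q := QuotientGroup.mk' (cyc (T.Ψ b4))
  have hbR : T.Ψ b4 ∈ T.Ψ.range := ⟨_, rfl⟩
  have hpow : ∀ x ∈ zpowers (T.Ψ b4), x = 1 ∨ x = T.Ψ b4 := by
    intro x hx
    obtain ⟨n, rfl⟩ := mem_powers_iff_mem_zpowers.2 hx
    rcases Nat.even_or_odd' n with ⟨k, rfl | rfl⟩
    · exact Or.inl (by show T.Ψ b4 ^ (2 * k) = 1; rw [pow_mul, pow_two, T.b4_sq', one_pow])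
    · exact Or.inr (by show T.Ψ b4 ^ (2 * k + 1) = _; rw [pow_succ, pow_mul, pow_two, T.b4_sq', one_pow, one_mul])
  have heq : ∀ {a b : T.Kb}, q a = q b → (a : G) = b ∨ (a : G) = (b : G) * T.Ψ b4 := fun {a b} e => by
    have h : (b : G)⁻¹ * a ∈ zpowers (T.Ψ b4) := by
      have := (quot_eq_one_iff (b⁻¹ * a)).1 (by rw [map_mul, map_inv, e, inv_mul_cancel])
      exact this
    rcases hpow _ h with e' | e'
    · exact Or.inl (inv_mul_eq_one.1 e').symm
    · exact Or.inr (by rw [← e', mul_inv_cancel_left])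
  let z0 : T.Kb := ⟨T.Ψ zeta, mem_centralizer_singleton_iff.2 (by rw [← T.psi_sq, mul_assoc])⟩
  have hz1 : q z0 ≠ 1 := fun e => by
    have e' : T.Ψ zeta = 1 ∨ T.Ψ zeta = T.Ψ b4 := hpow _ ((quot_eq_one_iff z0).1 e)
    have := T.psi_sq
    rcases e' with e' | e' <;> rw [e'] at this
    · rw [one_mul] at this; exact T.b4_ne this.symm
    · rw [T.b4_sq'] at this; exact T.b4_ne this.symm
  have hz2 : q z0 * q z0 = 1 := by
    rw [← map_mul, quot_eq_one_iff]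
    show T.Ψ zeta * T.Ψ zeta ∈ _
    rw [T.psi_sq]
    exact mem_zpowers _
  have hiso : Cfsg.IsIsolatedInvolution (q z0) := by
    refine ⟨CfsgLib.Invol.invol_of_mul_self hz2 hz1, fun a ha => ?_⟩
    obtain ⟨k, rfl⟩ := QuotientGroup.mk'_surjective _ a
    rw [← map_inv, ← map_mul, ← map_mul] at ha ⊢
    set x : G := (k : G) * T.Ψ zeta * (k : G)⁻¹ with hx
    have hkb : Commute (k : G) (T.Ψ b4) := mem_centralizer_singleton_iff.1 k.2
    have hzb : Commute (T.Ψ b4) (T.Ψ zeta) := by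
      rw [← T.psi_sq]; exact (Commute.refl _).mul_left (Commute.refl _)
    have hcase : x * T.Ψ zeta * x⁻¹ = T.Ψ zeta ∨ x * T.Ψ zeta * x⁻¹ = T.Ψ zeta * T.Ψ b4 := by
      have e : q ((k * z0 * k⁻¹) * z0) = q (z0 * (k * z0 * k⁻¹)) := by rw [map_mul, map_mul]; exact ha.eq.symm
      rcases heq e with e' | e'
      · left
        have e'' : x * T.Ψ zeta = T.Ψ zeta * x := e'
        rw [e'', mul_inv_cancel_right]
      · right
        have e'' : x * T.Ψ zeta = T.Ψ zeta * x * T.Ψ b4 := e'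
        have hxb : Commute x (T.Ψ b4) := (hkb.mul_left hzb.symm).mul_left hkb.inv_left
        rw [e'', mul_assoc (T.Ψ zeta) x, hxb.eq, ← mul_assoc, mul_inv_cancel_right]
    obtain ⟨c, hc⟩ := T.root hkb (T.norm_zeta hcase)
    -- inside the image the scalar goes to itself or its inverse
    have hcb : c * b4 = b4 * c ∨ c * b4 = neg1 * (b4 * c) := by
      refine T.eq_iff.1 ?_
      rw [map_mul, map_mul, hc, hkb.eq]
    obtain ⟨-, -, hzM, hz3M⟩ := b4_facts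
    have hconj : c * zeta = zeta * c ∨ c * zeta = zeta ^ 3 * c := by
      rcases hcb with e | e
      · left
        apply Subtype.ext
        rw [Matrix.SpecialLinearGroup.coe_mul, Matrix.SpecialLinearGroup.coe_mul, hzM, mul_add, add_mul,
          mul_one, one_mul, ← Matrix.SpecialLinearGroup.coe_mul, e, Matrix.SpecialLinearGroup.coe_mul]
      · right
        apply Subtype.ext
        rw [Matrix.SpecialLinearGroup.coe_mul, Matrix.SpecialLinearGroup.coe_mul, hzM, hz3M, mul_add,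
          sub_mul, mul_one, one_mul, ← Matrix.SpecialLinearGroup.coe_mul, e, neg1_mul,
          Matrix.SpecialLinearGroup.coe_mul, sub_eq_add_neg]
    refine (eq_inv_mul_iff_mul_eq.1 ?_).symm.trans (mul_one _) |>.symm.symm
    rw [eq_comm, ← map_inv, ← map_mul, quot_eq_one_iff]
    show (T.Ψ zeta)⁻¹ * ((k : G) * T.Ψ zeta * (k : G)⁻¹) ∈ zpowers (T.Ψ b4)
    rcases hconj with e | e
    · rw [← hc, ← map_mul, e, map_mul, mul_inv_cancel_right, inv_mul_cancel]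
      exact one_mem _
    · rw [← hc, ← map_mul, e, map_mul, mul_inv_cancel_right, map_pow, pow_succ, pow_two, mul_assoc,
        inv_mul_cancel_left, T.psi_sq]
      exact mem_zpowers _
  -- the odd core lies in the image
  set O := Cfsg.oddCore (T.Kb ⧸ cyc (T.Ψ b4)) with hO
  have hOn : O.Normal := CfsgLib.Solvable.pPrimeCore_normal 2 _
  obtain ⟨t1, t2, t3, t4, t5, t6, t7, t8⟩ := tau_facts
  let a1 : T.Kb := ⟨T.Ψ tau1, mem_centralizer_singleton_iff.2 (by rw [← map_mul, ← map_mul, t4])⟩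
  let a2 : T.Kb := ⟨T.Ψ tau2, mem_centralizer_singleton_iff.2 (by rw [← map_mul, ← map_mul, t5])⟩
  have hmul : T.Ψ tau1 * T.Ψ tau2 = T.Ψ tau2 * T.Ψ tau1 := by
    rw [← map_mul, t3, map_mul, T.psi_neg1, one_mul, map_mul]
  have hsq : ∀ u : SL4, u * u = 1 → T.Ψ u * T.Ψ u = 1 := fun u h => by rw [← map_mul, h, map_one]
  have h11 : q a1 * q a1 = 1 := by
    rw [← map_mul, show a1 * a1 = 1 from Subtype.ext (hsq _ t1), map_one]
  have h22 : q a2 * q a2 = 1 := by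
    rw [← map_mul, show a2 * a2 = 1 from Subtype.ext (hsq _ t2), map_one]
  have h12 : q a1 * q a2 = q a2 * q a1 := by
    rw [← map_mul, ← map_mul]; exact congrArg q (Subtype.ext hmul)
  let A : Subgroup (T.Kb ⧸ cyc (T.Ψ b4)) :=
    { carrier := {x | x = 1 ∨ x = q a1 ∨ x = q a2 ∨ x = q a1 * q a2}
      one_mem' := Or.inl rfl
      mul_mem' := by
        have e3 : q a2 * (q a1 * q a2) = q a1 := by rw [h12, ← mul_assoc, h22, one_mul]
        have e4 : q a1 * q a2 * q a1 = q a2 := by rw [mul_assoc, ← h12, ← mul_assoc, h11, one_mul]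
        have e5 : q a1 * q a2 * q a2 = q a1 := by rw [mul_assoc, h22, mul_one]
        have e6 : q a1 * (q a1 * q a2) = q a2 := by rw [← mul_assoc, h11, one_mul]
        have e7 : q a1 * q a2 * (q a1 * q a2) = 1 := by rw [← mul_assoc, e4, h22]
        rintro x y (rfl | rfl | rfl | rfl) (rfl | rfl | rfl | rfl) <;>
          simp only [Set.mem_setOf_eq, one_mul, mul_one, h11, h22, e3, e4, e5, e6, e7, ← h12, true_or, or_true]
      inv_mem' := by
        rintro x (rfl | rfl | rfl | rfl)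
        · exact Or.inl inv_one
        · exact Or.inr (Or.inl (inv_eq_of_mul_eq_one_right h11))
        · exact Or.inr (Or.inr (Or.inl (inv_eq_of_mul_eq_one_right h22)))
        · exact Or.inr (Or.inr (Or.inr (inv_eq_of_mul_eq_one_right (by
            rw [show q a1 * q a2 * (q a1 * q a2) = q a1 * (q a2 * q a1) * q a2 by group, ← h12,
              show q a1 * (q a1 * q a2) * q a2 = (q a1 * q a1) * (q a2 * q a2) by group, h11, h22, mul_one])))) }
  have hne : ∀ u ∈ [tau1, tau2, tau1 * tau2], T.Ψ u ∉ zpowers (T.Ψ b4) := fun u hu h => by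
    obtain ⟨n1, n2, n3, n4⟩ := t8 u hu
    rcases hpow _ h with e | e
    · rcases (T.ker u).1 e with e' | e'
      exacts [n1 e', n2 e']
    · rcases T.eq_iff.1 e with e' | e'
      exacts [n3 e', n4 e']
  have hq1 : q a1 ≠ 1 := fun e => hne tau1 (by simp) ((quot_eq_one_iff a1).1 e)
  have hq2 : q a2 ≠ 1 := fun e => hne tau2 (by simp) ((quot_eq_one_iff a2).1 e)
  have hq3 : q a1 * q a2 ≠ 1 := fun e => hne (tau1 * tau2) (by simp) (by
    rw [map_mul]
    rw [← map_mul] at e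
    exact (quot_eq_one_iff (a1 * a2)).1 e)
  have hAsq : ∀ x : A, x * x = 1 := by
    rintro ⟨x, rfl | rfl | rfl | rfl⟩ <;> apply Subtype.ext
    · exact one_mul 1
    · exact h11
    · exact h22
    · show q a1 * q a2 * (q a1 * q a2) = 1
      rw [show q a1 * q a2 * (q a1 * q a2) = q a1 * (q a2 * q a1) * q a2 by group, ← h12,
        show q a1 * (q a1 * q a2) * q a2 = (q a1 * q a1) * (q a2 * q a2) by group, h11, h22, mul_one]
  have hAc : IsMulCommutative A := ⟨⟨fun x y => by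
    have hi : ∀ z : A, z⁻¹ = z := fun z => inv_eq_of_mul_eq_one_right (hAsq z)
    rw [← hi (x * y), mul_inv_rev, hi, hi]⟩⟩
  have hA2 : IsPGroup 2 A := fun x => ⟨1, by rw [pow_one, pow_two, hAsq x]⟩
  have hAnc : ¬ IsCyclic A := fun h => by
    obtain ⟨x, hx⟩ := h.exists_generator
    have hcase : ∀ y : A, y = 1 ∨ y = x := fun y => by
      obtain ⟨n, rfl⟩ := mem_powers_iff_mem_zpowers.2 (hx y)
      rcases Nat.even_or_odd' n with ⟨k, rfl | rfl⟩
      · exact Or.inl (by show x ^ (2 * k) = 1; rw [pow_mul, pow_two, hAsq x, one_pow])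
      · exact Or.inr (by show x ^ (2 * k + 1) = x; rw [pow_succ, pow_mul, pow_two, hAsq x, one_pow, one_mul])
    rcases hcase ⟨q a1, Or.inr (Or.inl rfl)⟩ with e | e
    · exact hq1 (congrArg Subtype.val e)
    rcases hcase ⟨q a2, Or.inr (Or.inr (Or.inl rfl))⟩ with e' | e'
    · exact hq2 (congrArg Subtype.val e')
    have e12 : q a1 = q a2 := congrArg Subtype.val (e.trans e'.symm)
    exact hq3 (by rw [← e12, h11])
  have hAN : A ≤ normalizer (O : Set (T.Kb ⧸ cyc (T.Ψ b4))) := by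
    rw [normalizer_eq_top]; exact le_top
  have hcop : (Nat.card A).Coprime (Nat.card O) := by
    obtain ⟨n, hn⟩ := IsPGroup.iff_card.1 hA2
    rw [hn]
    exact (Nat.coprime_two_left.2 (CfsgLib.Invol.odd_card_oddCore _)).pow_left n
  have hOle : O ≤ (T.Ψ.range.subgroupOf T.Kb).map q := by
    rw [← CfsgLib.Coprime.iSup_centralizer_eq hAc hAnc hAN hcop, iSup_le_iff]
    rintro ⟨a, ha, ha1⟩ x ⟨-, hx⟩
    obtain ⟨k, rfl⟩ := QuotientGroup.mk'_surjective _ x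
    refine (mem_image_iff hbR k).2 ?_
    have key : ∀ (u : SL4) (hu : u * u = 1) (h1 : u ≠ 1) (hn : u ≠ neg1) (w : T.Kb), (w : G) = T.Ψ u →
        q k * q w = q w * q k → (k : G) ∈ T.Ψ.range := fun u hu h1 hn w hw e => by
      rw [← map_mul, ← map_mul] at e
      refine T.fuse_t' hu h1 hn ?_
      rcases heq e with e' | e'
      · have e'' : (k : G) * T.Ψ u = T.Ψ u * k := hw ▸ e'
        rw [e'', mul_inv_cancel_right]
        exact ⟨u, rfl⟩
      · have e'' : (k : G) * T.Ψ u = T.Ψ u * k * T.Ψ b4 := hw ▸ e'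
        have hkb : Commute (k : G) (T.Ψ b4) := mem_centralizer_singleton_iff.1 k.2
        rw [e'', mul_assoc (T.Ψ u) (k : G), hkb.eq, ← mul_assoc, mul_inv_cancel_right]
        exact mul_mem ⟨u, rfl⟩ hbR
    have hx' : q k * a = a * q k := mem_centralizer_singleton_iff.1 hx
    rcases ha with rfl | rfl | rfl | rfl
    · exact absurd rfl ha1
    · exact key tau1 t1 (t7 _ (by simp)).1 (t7 _ (by simp)).2 a1 rfl hx'
    · exact key tau2 t2 (t7 _ (by simp)).1 (t7 _ (by simp)).2 a2 rfl hx'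
    · let b0 : T.Kb := ⟨T.Ψ b4, mem_centralizer_singleton_iff.2 rfl⟩
      have hb0 : q b0 = 1 := (quot_eq_one_iff b0).2 (mem_zpowers _)
      refine key (b4 * (tau1 * tau2)) t6 (t7 _ (by simp)).1 (t7 _ (by simp)).2 (b0 * (a1 * a2))
        (by show T.Ψ b4 * (T.Ψ tau1 * T.Ψ tau2) = _; rw [map_mul, map_mul]) ?_
      rw [map_mul, hb0, one_mul, map_mul]
      exact hx'
  -- the theorem of Glauberman
  let g0 : T.Kb := ⟨g, mem_centralizer_singleton_iff.2 hg⟩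
  have hz := CfsgLib.Invol.zstar _ hiso (q g0)
  have hzm : q z0 ∈ (T.Ψ.range.subgroupOf T.Kb).map q := (mem_image_iff hbR z0).2 ⟨_, rfl⟩
  have h1 : q g0 * q z0 * (q g0)⁻¹ ∈ (T.Ψ.range.subgroupOf T.Kb).map q := by
    have hzi : (q z0)⁻¹ = q z0 := inv_eq_of_mul_eq_one_right hz2
    have e : q g0 * q z0 * (q g0)⁻¹ = (q z0)⁻¹ * (q z0 * q g0 * (q z0)⁻¹ * (q g0)⁻¹) := by
      rw [hzi, show q z0 * (q z0 * q g0 * q z0 * (q g0)⁻¹) = q z0 * q z0 * (q g0 * q z0 * (q g0)⁻¹) by group,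
        hz2, one_mul]
    rw [e]
    exact mul_mem (inv_mem hzm) (hOle hz)
  refine T.root hg ?_
  have e : q g0 * q z0 * (q g0)⁻¹ = q (g0 * z0 * g0⁻¹) := by rw [map_mul, map_mul, map_inv]
  rw [e] at h1
  exact (mem_image_iff hbR _).1 h1

end CfsgLib.Recog.LFourThree.Both
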