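import Cfsg.Agent.Lib.BlockB.GaloisDegree
import Cfsg.Agent.Lib.Perm.PermChar
import Cfsg.Agent.Lib.TISylow.Setting

/-!
A strongly `3`-embedded subgroup with a quotient `S₃` and a class no two members of which multiply to a
`3`-singular element: that class lies in the kernel of two irreducible characters.
-/

set_option autoImplicit false
set_option linter.unusedSectionVars false

namespace CfsgLib.Recog.LFourThree.Both

open CfsgLib.Char
open scoped ComplexConjugate

universe u

section Fibre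

variable {A B : Type*} [Group A] [Group B]

theorem sum_comp_surjective [Fintype A] [Fintype B] (f : A →* B) (hf : Function.Surjective f) (F : B → ℂ) :
    ∑ a, F (f a) = (Nat.card f.ker : ℂ) * ∑ b, F b := by
  classical
  rw [← Finset.sum_fiberwise Finset.univ f, Finset.mul_sum]
  refine Finset.sum_congr rfl fun b _ => ?_
  rw [Finset.sum_congr rfl (g := fun _ => F b) fun a ha => by rw [(Finset.mem_filter.mp ha).2],
    Finset.sum_const, nsmul_eq_mul]
  congr 2
  obtain ⟨a, rfl⟩ := hf b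
  rw [← Fintype.card_subtype, ← Nat.card_eq_fintype_card]
  exact Nat.card_congr
    { toFun := fun x => ⟨a⁻¹ * x.1, by rw [MonoidHom.mem_ker, map_mul, map_inv, x.2, inv_mul_cancel]⟩
      invFun := fun k => ⟨a * k.1, by rw [map_mul, MonoidHom.mem_ker.1 k.2, mul_one]⟩
      left_inv := fun x => Subtype.ext (mul_inv_cancel_left a x.1)
      right_inv := fun k => Subtype.ext (inv_mul_cancel_left a k.1) }

end Fibre

/-- three times the indicator of the three-cycles -/
def cycInd (p : Equiv.Perm (Fin 3)) : ℕ := if p ≠ 1 ∧ p * p * p = 1 then 3 else 0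

theorem cycInd_formula : ∀ p : Equiv.Perm (Fin 3),
    (cycInd p : ℤ) = 2 + (Equiv.Perm.sign p : ℤ) - ((Finset.univ.filter fun x => p x = x).card : ℤ) := by
  decide +kernel

theorem cycInd_sums : ∑ p : Equiv.Perm (Fin 3), cycInd p = 6 ∧
    ∑ p : Equiv.Perm (Fin 3), cycInd p * cycInd p = 18 := by decide +kernel

variable {R : Type u} [Group R]

/-- the class function attached to a map onto `S₃` -/
noncomputable def cycFun {H : Subgroup R} (η : H →* Equiv.Perm (Fin 3)) : H → ℂ := fun x => (cycInd (η x) : ℂ)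

theorem cycFun_isGeneralized {H : Subgroup R} (η : H →* Equiv.Perm (Fin 3)) :
    Cfsg.IsGeneralizedCharacter H (cycFun η) := by
  let sg : Equiv.Perm (Fin 3) →* ℂˣ :=
    (Units.map (Int.castRingHom ℂ).toMonoidHom).comp Equiv.Perm.sign
  have hs := isCharacter_comp (irr_isCharacter (isIrrCharacter_linear sg)) η
  have hf := isCharacter_comp (CfsgLib.Perm.isCharacter_permChar (G := Equiv.Perm (Fin 3)) (Ω := Fin 3)) η
  have h1 := isCharacter_add (isCharacter_one (G := H)) (isCharacter_one (G := H))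
  refine ⟨_, _, isCharacter_add h1 hs, hf, funext fun x => ?_⟩
  have e := congrArg (fun n : ℤ => (n : ℂ)) (cycInd_formula (η x))
  push_cast at e
  have hfix : Nat.card (MulAction.fixedBy (Fin 3) (η x)) =
      (Finset.univ.filter fun i => η x i = i).card := by
    rw [← Fintype.card_subtype, ← Nat.card_eq_fintype_card]
    exact Nat.card_congr (Equiv.subtypeEquivRight fun i => Iff.rfl)
  simp only [Pi.add_apply, Pi.sub_apply, cycFun, Function.comp_apply, sg, MonoidHom.coe_comp,
    CfsgLib.Perm.permChar, hfix, e]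
  simp [one_add_one_eq_two]

theorem cycFun_eq_zero {H : Subgroup R} [Finite H] (η : H →* Equiv.Perm (Fin 3)) {x : H}
    (hx : ¬ 3 ∣ orderOf (x : R)) : cycFun η x = 0 := by
  have : ¬ (η x ≠ 1 ∧ η x * η x * η x = 1) := fun ⟨h1, h3⟩ => hx (by
    haveI : Fact (Nat.Prime 3) := ⟨Nat.prime_three⟩
    rw [Subgroup.orderOf_coe]
    exact (orderOf_eq_prime (x := η x) (p := 3) (by rw [pow_succ, pow_two]; exact h3) h1) ▸
      orderOf_map_dvd η x)
  simp [cycFun, cycInd, this]

theorem cycFun_inner {H : Subgroup R} [Fintype H] (η : H →* Equiv.Perm (Fin 3))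
    (hη : Function.Surjective η) :
    Cfsg.classInner (cycFun η) (cycFun η) = 3 ∧ Cfsg.classInner (cycFun η) (fun _ => 1) = 1 := by
  have hcard : (Nat.card H : ℂ) = (Nat.card η.ker : ℂ) * 6 := by
    have h := sum_comp_surjective η hη (fun _ => (1 : ℂ))
    simpa [Nat.card_eq_fintype_card, Fintype.card_perm, Nat.factorial] using h
  have hk : (Nat.card η.ker : ℂ) ≠ 0 := by exact_mod_cast Nat.card_pos.ne'
  constructor
  · rw [classInner_def, show (∑ x, cycFun η x * conj (cycFun η x)) =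
      ∑ x, ((cycInd (η x) * cycInd (η x) : ℕ) : ℂ) by simp [cycFun],
      sum_comp_surjective η hη (fun p => ((cycInd p * cycInd p : ℕ) : ℂ)), hcard, ← Nat.cast_sum,
      cycInd_sums.2]
    field_simp
    norm_num
  · rw [classInner_def, show (∑ x, cycFun η x * conj ((fun _ => 1 : H → ℂ) x)) =
      ∑ x, (cycInd (η x) : ℂ) by simp [cycFun],
      sum_comp_surjective η hη (fun p => (cycInd p : ℂ)), hcard, ← Nat.cast_sum, cycInd_sums.1]
    field_simp
    norm_num

/-- the two signed characters: equal values at `1` and at `v` -/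
theorem two_terms {e1 e2 x x' y y' : ℂ} (h1 : e1 * e1 = 1) (h2 : e2 * e2 = 1) (hx : x ≠ 0) (hy : y ≠ 0)
    (hd : 1 + e1 * x + e2 * y = 0) (hv : 1 + e1 * x' + e2 * y' = 0)
    (hq : 1 + e1 * (x' * x' / x) + e2 * (y' * y' / y) = 0) : x' = x ∧ y' = y := by
  have hy_eq : y = -e2 * (1 + e1 * x) := by linear_combination e2 * hd - y * h2
  have hy'_eq : y' = -e2 * (1 + e1 * x') := by linear_combination e2 * hv - y' * h2
  have hq' : x * y + e1 * (x' * x') * y + e2 * (y' * y') * x = 0 := by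
    field_simp at hq
    linear_combination hq
  rw [hy_eq, hy'_eq] at hq'
  have key : e2 * e1 * (x' - x) ^ 2 = 0 := by
    linear_combination -hq' + (e2 * x * (1 + e1 * x') ^ 2) * h2
  have hne : e2 * e1 ≠ 0 := fun h => by
    have := congrArg (fun z => z * (e2 * e1)) h
    simp only [zero_mul] at this
    have e : e2 * e1 * (e2 * e1) = 1 := by linear_combination (e1 * e1) * h2 + h1
    exact one_ne_zero (e.symm.trans this)
  have hxx : x' = x := sub_eq_zero.1 (pow_eq_zero_iff (two_ne_zero) |>.1 ((mul_eq_zero.1 key).resolve_left hne))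
  exact ⟨hxx, by rw [hy'_eq, hy_eq, hxx]⟩

variable [Fintype R]

theorem indFun_singular (H : Subgroup R) (φ : H → ℂ) (hφ : Cfsg.IsClassFunction H φ)
    (h0 : ∀ x : H, ¬ 3 ∣ orderOf (x : R) → φ x = 0)
    (hTI : ∀ x ∈ H, 3 ∣ orderOf x → ∀ g, g * x * g⁻¹ ∈ H → g ∈ H) (t : H) (ht : 3 ∣ orderOf (t : R)) :
    Cfsg.indFun H φ t = φ t := by
  classical
  have hterm : ∀ x : R, Cfsg.extendByZero H φ (x⁻¹ * (t : R) * x) = if x ∈ H then φ t else 0 := by
    intro x
    split_ifs with hx
    · rw [show x⁻¹ * (t : R) * x = ((⟨x, hx⟩⁻¹ * t * ⟨x, hx⟩ : H) : R) from rfl, extendByZero_coe]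
      have h := hφ t (⟨x, hx⟩ : H)⁻¹
      rw [inv_inv] at h
      exact h
    · refine extendByZero_of_not_mem _ fun hm => hx ?_
      simpa using H.inv_mem (hTI t t.2 ht x⁻¹ (by simpa using hm))
  rw [indFun_def, Finset.sum_congr rfl fun x _ => hterm x, ← Finset.sum_filter, Finset.sum_const,
    nsmul_eq_mul, ← Fintype.card_subtype, ← Nat.card_eq_fintype_card,
    inv_mul_cancel_left₀ (by exact_mod_cast Nat.card_pos.ne')]

theorem indFun_regular (H : Subgroup R) (φ : H → ℂ)
    (h0 : ∀ x : H, ¬ 3 ∣ orderOf (x : R) → φ x = 0) {t : R} (ht : ¬ 3 ∣ orderOf t) :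
    Cfsg.indFun H φ t = 0 := by
  rw [indFun_def, Finset.sum_eq_zero fun x _ => ?_, mul_zero]
  by_cases hm : x⁻¹ * t * x ∈ H
  · rw [extendByZero_of_mem _ hm]
    refine h0 _ fun h => ht ?_
    have h' : 3 ∣ orderOf (x⁻¹ * t * x⁻¹⁻¹) := by
      simp only [inv_inv]; exact h
    rwa [show orderOf (x⁻¹ * t * x⁻¹⁻¹) = orderOf t from (MulAut.conj x⁻¹).orderOf_eq t] at h'
  · exact extendByZero_of_not_mem _ hm

open scoped Classical in
/-- the kernel -/
theorem exists_normal_kernel (H : Subgroup R) (η : H →* Equiv.Perm (Fin 3)) (hη : Function.Surjective η)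
    (hTI : ∀ x ∈ H, 3 ∣ orderOf x → ∀ g, g * x * g⁻¹ ∈ H → g ∈ H) (v : R)
    (hv : ∀ a b : R, ¬ 3 ∣ orderOf (a * v * a⁻¹ * (b * v * b⁻¹))) :
    ∃ N : Subgroup R, N.Normal ∧ v ∈ N ∧
      ∀ x : H, (x : R) ∈ N → η x = 1 ∨ η x * η x * η x ≠ 1 := by
  cases nonempty_fintype (Cfsg.IrrCharacter R)
  set φ := cycFun η with hφdef
  have hgen := cycFun_isGeneralized η
  have hcl := isGeneralized_isClassFunction hgen
  have h0 : ∀ x : H, ¬ 3 ∣ orderOf (x : R) → φ x = 0 := fun x => cycFun_eq_zero η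
  set F := Cfsg.indFun H φ with hF
  have hFgen : Cfsg.IsGeneralizedCharacter R F := isGeneralized_indFun H hgen
  have hFcl : Cfsg.IsClassFunction R F := indFun_isClassFunction H φ
  obtain ⟨hn3, hn1⟩ := cycFun_inner η hη
  have hFF : Cfsg.classInner F F = 3 := by
    rw [hF, frobenius_reciprocity H φ _ hFcl, ← hn3, classInner_def, classInner_def]
    congr 1
    refine Finset.sum_congr rfl fun x _ => ?_
    by_cases hx : 3 ∣ orderOf (x : R)
    · rw [hF, indFun_singular H φ hcl h0 hTI x hx]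
    · simp [show cycFun η x = 0 from h0 x hx, hφdef]
  let one : Cfsg.IrrCharacter R := ⟨fun _ => 1, isIrrCharacter_one⟩
  have hF1 : Cfsg.classInner F (one : R → ℂ) = 1 := by
    rw [hF, frobenius_reciprocity H φ _ (fun _ _ => rfl)]
    exact hn1
  choose c hc using fun χ : Cfsg.IrrCharacter R =>
    classInner_isGeneralized_int hFgen (isGeneralized_of_isCharacter (irr_isCharacter χ.2))
  have hc1 : c one = 1 := by exact_mod_cast (hc one).symm.trans hF1
  have hsq : ∑ χ, c χ * c χ = 3 := by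
    rw [classInner_eq_sum_mul hFcl F] at hFF
    simp only [hc, map_intCast] at hFF
    exact_mod_cast hFF
  set s := (Finset.univ : Finset (Cfsg.IrrCharacter R)).filter fun χ => c χ ≠ 0 ∧ χ ≠ one with hs
  have hsplit : ∀ f : Cfsg.IrrCharacter R → ℂ, ∑ χ, (c χ : ℂ) * f χ = f one + ∑ χ ∈ s, (c χ : ℂ) * f χ := by
    intro f
    rw [← Finset.add_sum_erase Finset.univ _ (Finset.mem_univ one), hc1, Int.cast_one, one_mul]
    congr 1
    symm
    refine Finset.sum_subset (fun χ hχ => Finset.mem_erase.2 ⟨(Finset.mem_filter.1 hχ).2.2, Finset.mem_univ _⟩)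
      fun χ hχ hχs => ?_
    have : c χ = 0 := by
      by_contra hne
      exact hχs (Finset.mem_filter.2 ⟨Finset.mem_univ _, hne, (Finset.mem_erase.1 hχ).1⟩)
    rw [this, Int.cast_zero, zero_mul]
  have hs2 : ∑ χ ∈ s, c χ * c χ = 2 := by
    have h := hsplit fun χ => (c χ : ℂ)
    rw [hc1] at h
    have h' : ((∑ χ, c χ * c χ : ℤ) : ℂ) = ((1 + ∑ χ ∈ s, c χ * c χ : ℤ) : ℂ) := by push_cast; exact_mod_cast h
    have h'' : ∑ χ, c χ * c χ = 1 + ∑ χ ∈ s, c χ * c χ := by exact_mod_cast h'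
    omega
  have hone : ∀ χ ∈ s, 1 ≤ c χ * c χ := fun χ hχ => by
    have := mul_self_pos.mpr (Finset.mem_filter.mp hχ).2.1
    omega
  have hFsum : ∀ g : R, F g = 1 + ∑ χ ∈ s, (c χ : ℂ) * (χ : R → ℂ) g := fun g => by
    rw [classFunction_apply_eq_sum hFcl g]
    simp only [hc]
    exact hsplit fun χ => (χ : R → ℂ) g
  have hd : ∀ t : R, ¬ 3 ∣ orderOf t → 1 + ∑ χ ∈ s, (c χ : ℂ) * (χ : R → ℂ) t = 0 := fun t ht => by
    rw [← hFsum, hF, indFun_regular H φ h0 ht]
  have hone3 : ¬ 3 ∣ orderOf (1 : R) := by rw [orderOf_one]; norm_num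
  have hcard : s.card = 2 := by
    have hle : (s.card : ℤ) ≤ 2 := by
      have h := Finset.sum_le_sum hone
      rw [Finset.sum_const, hs2] at h
      simpa using h
    have hle' : s.card < 3 := by omega
    interval_cases h : s.card
    · rw [Finset.card_eq_zero.1 h] at hs2; simp at hs2
    · obtain ⟨a, ha⟩ := Finset.card_eq_one.1 h
      rw [ha, Finset.sum_singleton] at hs2
      have h1 : c a < 2 := by nlinarith
      have h2 : -2 < c a := by nlinarith
      interval_cases c a <;> omega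
    · rfl
  obtain ⟨X, Y, hXY, hsXY⟩ := Finset.card_eq_two.1 hcard
  simp only [hsXY, Finset.sum_pair hXY] at hs2 hd hFsum
  have hX := hone X (by simp [hsXY])
  have hY := hone Y (by simp [hsXY])
  have hv3 : ¬ 3 ∣ orderOf v := fun h => by
    have h1 := hv 1 1
    rw [one_mul, inv_one, mul_one] at h1
    have h2 := orderOf_dvd_of_pow_eq_one (show v ^ (2 * orderOf (v * v)) = 1 by
      rw [pow_mul, pow_two, pow_orderOf_eq_one])
    rcases (Nat.prime_three.dvd_mul).1 (h.trans h2) with e | e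
    · norm_num at e
    · exact h1 e
  have hcount : ∀ y : R, F y ≠ 0 → CfsgLib.TISylow.pairCount R v v y = 0 := by
    intro y hy
    rw [CfsgLib.TISylow.pairCount, Nat.card_eq_zero]
    left
    refine ⟨fun ⟨p, hp⟩ => hv p.1 p.2 ?_⟩
    rw [hp]
    by_contra h
    exact hy (indFun_regular H φ h0 h)
  have hq : 1 + ((c X : ℂ) * ((X : R → ℂ) v * (X : R → ℂ) v / (X : R → ℂ) 1) +
      (c Y : ℂ) * ((Y : R → ℂ) v * (Y : R → ℂ) v / (Y : R → ℂ) 1)) = 0 := by
    set A : Cfsg.IrrCharacter R → ℂ := fun χ => (χ : R → ℂ) v * (χ : R → ℂ) v / (χ : R → ℂ) 1 with hA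
    have h := hsplit A
    rw [hsXY, Finset.sum_pair hXY] at h
    have hA1 : A one = 1 := by simp [hA, one]
    rw [hA1] at h
    rw [← h]
    have hz : ∑ y : R, F y * conj ((CfsgLib.TISylow.pairCount R v v y : ℕ) : ℂ) = 0 :=
      Finset.sum_eq_zero fun y _ => by
        by_cases hy : F y = 0
        · rw [hy, zero_mul]
        · rw [hcount y hy, Nat.cast_zero, map_zero, mul_zero]
    have hexp : ∀ y : R, F y * conj ((CfsgLib.TISylow.pairCount R v v y : ℕ) : ℂ) =
        (Nat.card R : ℂ) * ∑ χ : Cfsg.IrrCharacter R, A χ * (F y * conj ((χ : R → ℂ) y)) := fun y => by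
      rw [CfsgLib.TISylow.pairCount_eq_sum, map_mul, map_natCast, map_sum, Finset.mul_sum,
        Finset.mul_sum, Finset.mul_sum]
      refine Finset.sum_congr rfl fun χ _ => ?_
      rw [map_mul, Complex.conj_conj]
      simp only [hA]
      ring
    rw [Finset.sum_congr rfl fun y _ => hexp y, ← Finset.mul_sum, mul_eq_zero, Finset.sum_comm] at hz
    have hz' := hz.resolve_left natCard_ne_zero
    have hin : ∀ χ : Cfsg.IrrCharacter R,
        ∑ y, F y * conj ((χ : R → ℂ) y) = (Nat.card R : ℂ) * (c χ : ℂ) := fun χ => by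
      have hh := hc χ
      rw [classInner_def, inv_mul_eq_iff_eq_mul₀ natCard_ne_zero] at hh
      exact hh
    simp only [← Finset.mul_sum, hin] at hz'
    rw [show (∑ χ : Cfsg.IrrCharacter R, A χ * ((Nat.card R : ℂ) * (c χ : ℂ))) =
      (Nat.card R : ℂ) * ∑ χ : Cfsg.IrrCharacter R, (c χ : ℂ) * A χ by
        rw [Finset.mul_sum]; exact Finset.sum_congr rfl fun χ _ => by ring] at hz'
    exact (mul_eq_zero.1 hz').resolve_left natCard_ne_zero
  have eX : (c X : ℂ) * c X = 1 := by exact_mod_cast (show c X * c X = 1 by omega)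
  have eY : (c Y : ℂ) * c Y = 1 := by exact_mod_cast (show c Y * c Y = 1 by omega)
  obtain ⟨kX, kY⟩ := two_terms (x' := (X : R → ℂ) v) (y' := (Y : R → ℂ) v) eX eY (irr_apply_one_ne_zero X.2) (irr_apply_one_ne_zero Y.2)
    (by linear_combination hd 1 hone3) (by linear_combination hd v hv3) (by linear_combination hq)
  refine ⟨CfsgLib.BlockB.GaloisDegree.ker X ⊓ CfsgLib.BlockB.GaloisDegree.ker Y, inferInstance,
    ⟨kX, kY⟩, fun x ⟨hxX, hxY⟩ => ?_⟩
  by_contra hcon
  push Not at hcon
  have hord : 3 ∣ orderOf (x : R) := by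
    by_contra h
    have := h0 x h
    simp [hφdef, cycFun, cycInd, hcon.1, hcon.2] at this
  have hv2 := indFun_singular H φ hcl h0 hTI x hord
  rw [← hF, hFsum, hxX, hxY] at hv2
  have := hd 1 hone3
  rw [this] at hv2
  simp [hφdef, cycFun, cycInd, hcon.1, hcon.2] at hv2

end CfsgLib.Recog.LFourThree.Both
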