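import Cfsg.Agent.Lib.Recog.LFourThree.TwoModel

/-!
The centraliser of the involution `diag(1,-1,-1,1)` in `SL(4,3)` modulo signs: two blocks and their
exchange, the two maps onto `S₃`, and the twelve square roots of the involution.
-/

set_option autoImplicit false
set_option maxRecDepth 50000
set_option linter.unusedSimpArgs false
set_option synthInstance.maxSize 4000

namespace CfsgLib.Recog.LFourThree.Both

open Matrix
open CfsgLib.Recog.LFourThree.Ident (T4 mE mE_coe)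

/-- product of two-by-two matrices in coordinates -/
def qm (p q : T4) : T4 :=
  (p.1 * q.1 + p.2.1 * q.2.2.1, p.1 * q.2.1 + p.2.1 * q.2.2.2,
    p.2.2.1 * q.1 + p.2.2.2 * q.2.2.1, p.2.2.1 * q.2.1 + p.2.2.2 * q.2.2.2)

/-- determinant in coordinates -/
def qd (p : T4) : ZMod 3 := p.1 * p.2.2.2 - p.2.1 * p.2.2.1

/-- the identity -/
def q1 : T4 := (1, 0, 0, 1)
/-- an element of order four -/
def qJ : T4 := (0, 1, 2, 0)
/-- an element of order four -/
def qK : T4 := (1, 1, 1, 2)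
/-- an element of order four -/
def qK2 : T4 := qm qJ qK
/-- an element of order eight -/
def qP : T4 := (1, 1, 2, 1)
/-- its inverse -/
def qPi : T4 := (2, 1, 2, 2)
/-- a reflection -/
def qR : T4 := (1, 0, 0, 2)
/-- the six elements of order four -/
def six : List T4 := [qJ, qK, qK2, -qJ, -qK, -qK2]

theorem qd_mul (p q : T4) : qd (qm p q) = qd p * qd q := by simp only [qm, qd]; ring

theorem qd_neg (p : T4) : qd (-p) = qd p := by simp [qd]

/-- a block diagonal matrix on the positions `{0,3}` and `{1,2}` -/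
def bdM (A C : T4) : M4 :=
  !![A.1, 0, 0, A.2.1; 0, C.1, C.2.1, 0; 0, C.2.2.1, C.2.2.2, 0; A.2.2.1, 0, 0, A.2.2.2]

theorem bdM_det (A C : T4) : (bdM A C).det = qd A * qd C := by
  simp [bdM, qd, Matrix.det_succ_row_zero, Fin.sum_univ_succ, Fin.succAbove]
  ring

theorem bdM_mul (A C A' C' : T4) : bdM A C * bdM A' C' = bdM (qm A A') (qm C C') := by
  ext i j
  fin_cases i <;> fin_cases j <;> simp [bdM, qm, Matrix.mul_apply, Fin.sum_univ_four]

/-- the block diagonal element -/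
def bd (A C : T4) : SL4 :=
  if h : qd A * qd C = 1 then (⟨bdM A C, (bdM_det A C).trans h⟩ : SL4) else 1

theorem bd_coe {A C : T4} (h : qd A * qd C = 1) : ((bd A C : SL4) : M4) = bdM A C := by
  exact congrArg Subtype.val (dif_pos h : bd A C = ⟨bdM A C, (bdM_det A C).trans h⟩)

theorem bd_mul {A C A' C' : T4} (h : qd A * qd C = 1) (h' : qd A' * qd C' = 1) :
    bd A C * bd A' C' = bd (qm A A') (qm C C') := by
  have h'' : qd (qm A A') * qd (qm C C') = 1 := by
    rw [qd_mul, qd_mul]; linear_combination (qd A' * qd C') * h + h'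
  apply Subtype.ext
  rw [Matrix.SpecialLinearGroup.coe_mul, bd_coe h, bd_coe h', bd_coe h'', bdM_mul]

theorem bd_inj {A C A' C' : T4} (h : qd A * qd C = 1) (h' : qd A' * qd C' = 1) (e : bd A C = bd A' C') :
    A = A' ∧ C = C' := by
  have e' := congrArg (fun g : SL4 => (g : M4)) e
  simp only [bd_coe h, bd_coe h'] at e'
  have f := fun i j => congrFun (congrFun e' i) j
  exact ⟨Prod.ext (f 0 0) (Prod.ext (f 0 3) (Prod.ext (f 3 0) (f 3 3))),
    Prod.ext (f 1 1) (Prod.ext (f 1 2) (Prod.ext (f 2 1) (f 2 2)))⟩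

theorem neg1_bd {A C : T4} (h : qd A * qd C = 1) : neg1 * bd A C = bd (-A) (-C) := by
  apply Subtype.ext
  rw [neg1_mul, bd_coe h, bd_coe (by rw [qd_neg, qd_neg, h])]
  ext i j
  fin_cases i <;> fin_cases j <;> simp [bdM]

theorem bd_facts : tD = bd q1 (-q1) ∧ bd q1 q1 = 1 := by decide +kernel

theorem det_swap : (!![0, 1, 0, 0; 1, 0, 0, 0; 0, 0, 0, 1; 0, 0, 1, 0] : M4).det = 1 := by
  decide +kernel

/-- the exchange of the two blocks -/
def w0 : SL4 := ⟨!![0, 1, 0, 0; 1, 0, 0, 0; 0, 0, 0, 1; 0, 0, 1, 0], det_swap⟩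

theorem w0_sq : w0 * w0 = 1 := by decide +kernel

theorem w0_bd {A C : T4} (h : qd A * qd C = 1) : w0 * bd A C = bd C A * w0 := by
  apply Subtype.ext
  rw [Matrix.SpecialLinearGroup.coe_mul, Matrix.SpecialLinearGroup.coe_mul, bd_coe h,
    bd_coe (by rw [mul_comm, h])]
  ext i j
  fin_cases i <;> fin_cases j <;> simp [w0, bdM, Matrix.mul_apply, Fin.sum_univ_four]

theorem w0_t : w0 * tD = neg1 * (tD * w0) := by decide +kernel

/-- commuting with the involution up to sign -/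
def Ct : Subgroup SL4 where
  carrier := {g | g * tD = tD * g ∨ g * tD = neg1 * (tD * g)}
  one_mem' := Or.inl (by rw [one_mul, mul_one])
  mul_mem' := by
    intro a b ha hb
    simp only [Set.mem_setOf_eq] at *
    rcases ha with ha | ha <;> rcases hb with hb | hb
    · left; rw [mul_assoc, hb, ← mul_assoc, ha, mul_assoc]
    · right; rw [mul_assoc, hb, ← mul_assoc a, ← (neg1_comm a).eq, mul_assoc neg1, ← mul_assoc a, ha,
        mul_assoc tD]
    · right; rw [mul_assoc, hb, ← mul_assoc, ha, mul_assoc neg1, mul_assoc tD]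
    · left; rw [mul_assoc, hb, ← mul_assoc a, ← (neg1_comm a).eq, mul_assoc neg1, ← mul_assoc a, ha,
        mul_assoc neg1, ← mul_assoc neg1 neg1, z4_facts.2.2.2.2, one_mul, mul_assoc tD]
  inv_mem' := by
    intro a ha
    simp only [Set.mem_setOf_eq] at *
    rcases ha with ha | ha
    · left
      calc a⁻¹ * tD = a⁻¹ * (tD * a) * a⁻¹ := by group
        _ = tD * a⁻¹ := by rw [← ha]; group
    · right
      have e : tD * a = neg1 * (a * tD) := by
        rw [ha, ← mul_assoc, z4_facts.2.2.2.2, one_mul]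
      calc a⁻¹ * tD = a⁻¹ * (tD * a) * a⁻¹ := by group
        _ = neg1 * (tD * a⁻¹) := by rw [e, ← mul_assoc a⁻¹, ← (neg1_comm a⁻¹).eq]; group

/-- the two kinds of elements commuting with the involution up to sign -/
theorem Ct_cases {g : SL4} (hg : g ∈ Ct) : ∃ A C, qd A * qd C = 1 ∧ (g = bd A C ∨ g = bd A C * w0) := by
  have key : ∀ k : SL4, k * tD = tD * k → ∃ A C, qd A * qd C = 1 ∧ k = bd A C := by
    intro k hk
    have f := fun i j => congrFun (congrFun (congrArg (fun g : SL4 => (g : M4)) hk) i) j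
    simp only [Matrix.SpecialLinearGroup.coe_mul] at f
    have f01 := f 0 1; have f02 := f 0 2; have f10 := f 1 0; have f13 := f 1 3
    have f20 := f 2 0; have f23 := f 2 3; have f31 := f 3 1; have f32 := f 3 2
    simp [tD, Matrix.mul_apply, Fin.sum_univ_four] at f01 f02 f10 f13 f20 f23 f31 f32
    have z : ∀ x : ZMod 3, (-x = x → x = 0) ∧ (x = -x → x = 0) := by decide
    have hM : (k : M4) = bdM (k.1 0 0, k.1 0 3, k.1 3 0, k.1 3 3) (k.1 1 1, k.1 1 2, k.1 2 1, k.1 2 2) := by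
      ext i j
      fin_cases i <;> fin_cases j <;>
        simp [bdM, (z _).1 f01, (z _).1 f02, (z _).2 f10, (z _).2 f13, (z _).2 f20, (z _).2 f23,
          (z _).1 f31, (z _).1 f32]
    refine ⟨(k.1 0 0, k.1 0 3, k.1 3 0, k.1 3 3), (k.1 1 1, k.1 1 2, k.1 2 1, k.1 2 2), ?_,
      Subtype.ext ?_⟩
    · rw [← bdM_det, ← hM]; exact k.2
    · rw [bd_coe (by rw [← bdM_det, ← hM]; exact k.2)]; exact hM
  rcases hg with hg | hg
  · obtain ⟨A, C, h, e⟩ := key g hg
    exact ⟨A, C, h, Or.inl e⟩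
  · obtain ⟨A, C, h, e⟩ := key (g * w0) (by
      rw [mul_assoc, w0_t, ← mul_assoc g, ← (neg1_comm g).eq, mul_assoc neg1, ← mul_assoc g, hg,
        mul_assoc neg1, ← mul_assoc neg1 neg1, z4_facts.2.2.2.2, one_mul, mul_assoc])
    exact ⟨A, C, h, Or.inr (by rw [← e, mul_assoc, w0_sq, mul_one])⟩

/-- an affine permutation of three points -/
def affP (e c : ZMod 3) : Equiv.Perm (Fin 3) :=
  (Equiv.addLeft c : Equiv.Perm (ZMod 3)) * (if e = 1 then 1 else Equiv.neg (ZMod 3))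

theorem affP_mul : ∀ e e' c c' : ZMod 3, e ≠ 0 → e' ≠ 0 →
    affP e c * affP e' c' = affP (e * e') (c + e * c') := by decide +kernel

/-- the translation part of the action on the three lines -/
def cQ (A : T4) : ZMod 3 :=
  if qm A qJ = qm qJ A ∨ qm A qJ = -qm qJ A then 0
  else if qm A qJ = qm qK A ∨ qm A qJ = -qm qK A then 1 else 2

theorem cQ_mul : ∀ A A' : T4, qd A ≠ 0 → qd A' ≠ 0 → cQ (qm A A') = cQ A + qd A * cQ A' := by
  decide +kernel

/-- the permutation of a block diagonal element -/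
def affQ (s : ZMod 3) (A C : T4) : Equiv.Perm (Fin 3) := affP (qd A) (cQ A + s * cQ C)

/-- the map onto `S₃` on matrices -/
def etaM (s : ZMod 3) (g : SL4) : Equiv.Perm (Fin 3) :=
  if g.1 0 0 ≠ 0 ∨ g.1 0 3 ≠ 0 then
    affQ s (g.1 0 0, g.1 0 3, g.1 3 0, g.1 3 3) (g.1 1 1, g.1 1 2, g.1 2 1, g.1 2 2)
  else
    affQ s (g.1 0 1, g.1 0 2, g.1 3 1, g.1 3 2) (g.1 1 0, g.1 1 3, g.1 2 0, g.1 2 3) * affP s 0

theorem qd_row : ∀ A : T4, qd A ≠ 0 → A.1 ≠ 0 ∨ A.2.1 ≠ 0 := by decide +kernel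

theorem qd_ne {A C : T4} (h : qd A * qd C = 1) : qd A ≠ 0 ∧ qd C ≠ 0 ∧ qd A = qd C := by
  have : ∀ a c : ZMod 3, a * c = 1 → a ≠ 0 ∧ c ≠ 0 ∧ a = c := by decide
  exact this _ _ h

theorem etaM_bd (s : ZMod 3) {A C : T4} (h : qd A * qd C = 1) : etaM s (bd A C) = affQ s A C := by
  have hr := qd_row A (qd_ne h).1
  simp only [etaM, bd_coe h]
  simp [bdM, hr]

theorem etaM_bdw (s : ZMod 3) {A C : T4} (h : qd A * qd C = 1) :
    etaM s (bd A C * w0) = affQ s A C * affP s 0 := by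
  simp only [etaM, Matrix.SpecialLinearGroup.coe_mul, bd_coe h]
  simp [w0, bdM, Matrix.mul_apply, Fin.sum_univ_four]

theorem affQ_mul (s : ZMod 3) {A C A' C' : T4} (h : qd A * qd C = 1) (h' : qd A' * qd C' = 1) :
    affQ s A C * affQ s A' C' = affQ s (qm A A') (qm C C') := by
  obtain ⟨a1, c1, e1⟩ := qd_ne h
  obtain ⟨a2, c2, -⟩ := qd_ne h'
  rw [affQ, affQ, affQ, affP_mul _ _ _ _ a1 a2, qd_mul, cQ_mul A A' a1 a2, cQ_mul C C' c1 c2, ← e1]
  congr 1
  ring

theorem aff_flip : ∀ s e c c' : ZMod 3, s ≠ 0 → e ≠ 0 →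
    affP s 0 * affP e (c + s * c') = affP e (c' + s * c) * affP s 0 ∧ affP s 0 * affP s 0 = 1 := by
  decide +kernel

theorem flip_affQ (s : ZMod 3) (hs : s ≠ 0) {A C : T4} (h : qd A * qd C = 1) :
    affP s 0 * affQ s A C = affQ s C A * affP s 0 := by
  obtain ⟨a1, -, e1⟩ := qd_ne h
  rw [affQ, affQ, (aff_flip s _ _ _ hs a1).1, e1]

theorem etaM_mul (s : ZMod 3) (hs : s ≠ 0) {g k : SL4} (hg : g ∈ Ct) (hk : k ∈ Ct) :
    etaM s (g * k) = etaM s g * etaM s k := by
  obtain ⟨A, C, h, rfl | rfl⟩ := Ct_cases hg <;> obtain ⟨A', C', h', rfl | rfl⟩ := Ct_cases hk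
  · have h'' : qd (qm A A') * qd (qm C C') = 1 := by
      rw [qd_mul, qd_mul]; linear_combination (qd A' * qd C') * h + h'
    rw [bd_mul h h', etaM_bd s h'', etaM_bd s h, etaM_bd s h', affQ_mul s h h']
  · have h'' : qd (qm A A') * qd (qm C C') = 1 := by
      rw [qd_mul, qd_mul]; linear_combination (qd A' * qd C') * h + h'
    rw [← mul_assoc, bd_mul h h', etaM_bdw s h'', etaM_bd s h, etaM_bdw s h', ← mul_assoc, affQ_mul s h h']
  · have h'r : qd C' * qd A' = 1 := by rw [mul_comm, h']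
    have h'' : qd (qm A C') * qd (qm C A') = 1 := by
      rw [qd_mul, qd_mul]; linear_combination (qd A' * qd C') * h + h'
    rw [mul_assoc, w0_bd h', ← mul_assoc, bd_mul h h'r, etaM_bdw s h'', etaM_bdw s h, etaM_bd s h',
      mul_assoc, flip_affQ s hs h', ← mul_assoc, affQ_mul s h h'r]
  · have h'r : qd C' * qd A' = 1 := by rw [mul_comm, h']
    have h'' : qd (qm A C') * qd (qm C A') = 1 := by
      rw [qd_mul, qd_mul]; linear_combination (qd A' * qd C') * h + h'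
    rw [mul_assoc, ← mul_assoc w0, w0_bd h', mul_assoc, w0_sq, mul_one, bd_mul h h'r, etaM_bd s h'',
      etaM_bdw s h, etaM_bdw s h', mul_assoc (affQ s A C), ← mul_assoc (affP s 0), flip_affQ s hs h',
      mul_assoc (affQ s C' A'), (aff_flip s 1 0 0 hs (by decide)).2, mul_one, affQ_mul s h h'r]

instance : DecidablePred (· ∈ Ct) := fun g =>
  inferInstanceAs (Decidable (g * tD = tD * g ∨ g * tD = neg1 * (tD * g)))

theorem etaM_neg1 : ∀ s : ZMod 3, etaM s neg1 = 1 ∧ neg1 ∈ Ct := by decide +kernel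

theorem eta_surj : ∀ s : ZMod 3, s ≠ 0 → ∀ p : Equiv.Perm (Fin 3), ∃ a : ZMod 3, ∃ e : Fin 2,
    etaM s (mE (0, a, 0, 0) * (![1, bd qR qR] e)) = p := by decide +kernel

theorem eta_W : ∀ a b : ZMod 3, (a, b) ≠ 0 →
    etaM 1 (mE (0, a, b, 0)) ≠ 1 ∨ etaM 2 (mE (0, a, b, 0)) ≠ 1 := by decide +kernel

/-- elements of order three of one block normalising the unipotent group lie in it -/
theorem three_block : ∀ A : T4, qm A (qm A A) = q1 →
    (∃ b : ZMod 3, qm A (1, 1, 0, 1) = qm (1, b, 0, 1) A) → A = (1, A.2.1, 0, 1) := by decide +kernel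

theorem three_block' : ∀ A : T4, qm A (qm A A) = q1 →
    (∃ b : ZMod 3, qm A (1, 1, 0, 1) = qm (1, b, 0, 1) A) →
      ∀ a : ZMod 3, qm A (1, a, 0, 1) = qm (1, a, 0, 1) A := by decide +kernel

/-- squares of blocks -/
theorem sq_block : ∀ A : T4, qd A ≠ 0 → (qm A A = -q1 → qd A = 1 ∧ A ∈ six) ∧
    (qm A A = q1 → qd A = 1 → A = q1 ∨ A = -q1) := by decide +kernel

theorem cross_block : ∀ A C : T4, qm A C = q1 → qm C A ≠ -q1 := by decide +kernel

theorem six_facts : ∀ q ∈ six, qd q = 1 ∧ -q ∈ six ∧ qd q1 = 1 ∧ qd (-q1) = 1 := by decide +kernel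

/-- no square root of the involution inverts an element of order three -/
theorem not_invert : ∀ q ∈ six, ∀ a b : ZMod 3, (a, b) ≠ 0 →
    bd q q1 * mE (0, a, b, 0) ≠ mE (0, -a, -b, 0) * bd q q1 ∧
      bd q1 q * mE (0, a, b, 0) ≠ mE (0, -a, -b, 0) * bd q1 q := by decide +kernel

/-- elements of one block moving the first root to any other -/
theorem six_trans : ∀ q ∈ six, ∃ A ∈ [q1, qK, (1, 1, 0, 1), (1, 2, 0, 1), qm (1, 1, 0, 1) qK,
    qm (1, 2, 0, 1) qK], qd A = 1 ∧ qm A qJ = qm q A := by decide +kernel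

/-- the stabiliser of a root is transitive on the four others -/
theorem four_trans : ∀ q ∈ six, q ≠ qJ → q ≠ -qJ → ∃ A ∈ [q1, qJ, qP, qm qP qJ],
    ∃ C ∈ [q1, qR], qd A * qd C = 1 ∧ qm A qJ = qm qJ A ∧ qm A qK = qm q A := by decide +kernel

theorem six_comm : ∀ p ∈ six, ∀ q ∈ six, (qm p q = qm q p ↔ (p = q ∨ p = -q)) ∧
    (qm p q = qm q p ∨ qm p q = -qm q p) ∧ q ≠ q1 ∧ q ≠ -q1 := by decide +kernel

/-- conjugation by the element of order eight -/
def cjP (q : T4) : T4 := qm (qm qP q) qPi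

theorem cjP_facts : (∀ q ∈ six, cjP q ∈ six) ∧ qm qP qPi = q1 ∧ qm qPi qP = q1 ∧
    (∀ p ∈ q1 :: (-q1) :: six, ∀ q ∈ q1 :: (-q1) :: six, cjP (qm p q) = qm (cjP p) (cjP q)) ∧
    cjP qJ = qJ ∧ (cjP qK = qK2 ∨ cjP qK = -qK2) ∧ qd (cjP (1, 1, 0, 1)) = 1 := by decide +kernel

theorem qm_assoc (p q r : T4) : qm (qm p q) r = qm p (qm q r) := by
  simp only [qm, Prod.mk.injEq]
  refine ⟨?_, ?_, ?_, ?_⟩ <;> ring

theorem qm_one : ∀ p : T4, qm p q1 = p ∧ qm q1 p = p := by decide +kernel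

theorem six_gen : qK2 = qm qJ qK ∧ -qJ = qm (qm qJ qJ) qJ ∧ -qK = qm (qm qJ qJ) qK ∧
    -qK2 = qm (qm qJ qJ) qK2 ∧ qm qJ qJ = -q1 := by decide +kernel

theorem mE_block : ∀ a b : ZMod 3, mE (0, a, b, 0) = bd (1, a, 0, 1) (1, b, 0, 1) := by decide +kernel

theorem tv_W : ∀ a : ZMod 3, a ≠ 0 → Tv (mE (0, a, 0, 0)) ∧ Tv (mE (0, 0, a, 0)) := by
  unfold Tv; decide +kernel

end CfsgLib.Recog.LFourThree.Both
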