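import Cfsg.Agent.Lib.Recog.LFourThree.TwoBase
import Cfsg.Agent.Lib.Recog.LFourThree.TwoTModel
import Cfsg.Agent.Lib.Recog.LFourThree.TwoChar

/-!
The centraliser of the involution `diag(1,-1,-1,1)` lies in the image: a normal subgroup of order prime to
three contains the twelve square roots of the involution, which pins their permutations.
-/

set_option autoImplicit false
set_option linter.unusedSectionVars false
set_option linter.style.haveILetI false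
set_option maxRecDepth 20000

namespace CfsgLib.Recog.LFourThree.Both

open Subgroup
open CfsgLib.Recog.LFourThree.Ident (T4 mE mE_mem mE_add mE_zero mE_inj)

universe u

variable {G : Type u} [Group G]

/-- the centralisers of the rank two unipotent elements lie in the image -/
def Setup.CentE (T : Setup G) : Prop :=
  ∀ (v : T4), v.1 * v.2.2.2 - v.2.1 * v.2.2.1 ≠ 0 → ∀ g, Commute g (T.Ψ (mE v)) → g ∈ T.Ψ.range

theorem mem_Ct_of (T : Setup G) {c : SL4} (h : Commute (T.Ψ c) (T.Ψ tD)) : c ∈ Ct := by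
  have e : T.Ψ (c * tD) = T.Ψ (tD * c) := by rw [map_mul, map_mul, h.eq]
  exact T.eq_iff.1 e

theorem commute_of_Ct (T : Setup G) {c : SL4} (h : c ∈ Ct) : Commute (T.Ψ c) (T.Ψ tD) := by
  have e : T.Ψ (c * tD) = T.Ψ (tD * c) := T.eq_iff.2 h
  rwa [map_mul, map_mul] at e

theorem bd_mem_Ct {A C : T4} (h : qd A * qd C = 1) : bd A C ∈ Ct := by
  left
  obtain ⟨e, -⟩ := bd_facts
  have h1 : qd q1 * qd (-q1) = 1 := by decide +kernel
  rw [e, bd_mul h h1, bd_mul h1 h]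
  have : ∀ P : T4, qm P q1 = qm q1 P ∧ qm P (-q1) = qm (-q1) P := by decide +kernel
  rw [(this A).1, (this C).2]

theorem w0_mem_Ct : w0 ∈ Ct := Or.inr w0_t

theorem mE_mem_Ct : ∀ a b : ZMod 3, mE (0, a, b, 0) ∈ Ct := fun a b => by
  rw [mE_block]
  exact bd_mem_Ct (by simp [qd])

theorem norm_U : ∀ A : T4, qd A ≠ 0 → (∃ a : ZMod 3, qm A (1, 1, 0, 1) = qm (1, a, 0, 1) A) →
    ∃ a : ZMod 3, qm A A = (1, a, 0, 1) := by decide +kernel

theorem twelve_moved : ∀ a b : ZMod 3, (a, b) ≠ 0 → ∃ q ∈ six,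
    (bd q q1 * mE (0, a, b, 0) ≠ mE (0, a, b, 0) * bd q q1 ∧
      bd q q1 * mE (0, a, b, 0) ≠ neg1 * (mE (0, a, b, 0) * bd q q1)) ∨
    (bd q1 q * mE (0, a, b, 0) ≠ mE (0, a, b, 0) * bd q1 q ∧
      bd q1 q * mE (0, a, b, 0) ≠ neg1 * (mE (0, a, b, 0) * bd q1 q)) := by decide +kernel

theorem cjP_x : ∀ q ∈ six, qm (cjP (1, 1, 0, 1)) (cjP q) =
    qm (cjP (qm (qm (1, 1, 0, 1) q) (1, 2, 0, 1))) (cjP (1, 1, 0, 1)) ∧
    qm (qm (1, 1, 0, 1) q) (1, 2, 0, 1) ∈ six ∧ qm (1, 1, 0, 1) q = qm (qm (qm (1, 1, 0, 1) q) (1, 2, 0, 1)) (1, 1, 0, 1) ∧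
    ∃ p ∈ six, cjP p = q := by decide +kernel

theorem k_fix : ∀ q ∈ six, q ≠ qJ → q ≠ -qJ → ∃ C ∈ [q1, qJ], qd C = 1 ∧ qm C qJ = qm qJ C ∧
    (qm C qK = qm q C ∨ qm C (cjP qK) = qm q C) := by decide +kernel

variable [Finite G] (T : Setup G)

attribute [local irreducible] mE bd etaM tD w0

theorem isConj_W {a b : ZMod 3} (h : (a, b) ≠ 0) (hab : a = 0 ∨ b = 0) :
    IsConj z4 (mE (0, a, b, 0)) := by
  refine isConj_of_tv (mE_patS _) ?_ fun e => h ?_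
  · rcases hab with rfl | rfl
    · exact (tv_W b fun e => h (by rw [e]; rfl)).2
    · exact (tv_W a fun e => h (by rw [e]; rfl)).1
  · have := mE_inj (e.trans mE_zero.symm)
    simp only [Prod.mk_eq_zero, true_and, and_true] at this
    rw [this.1, this.2]; rfl

theorem Setup.cent_W (hE : T.CentE) {a b : ZMod 3} (h : (a, b) ≠ 0) {g : G}
    (hg : Commute g (T.Ψ (mE (0, a, b, 0)))) : g ∈ T.Ψ.range := by
  by_cases hab : a = 0 ∨ b = 0
  · exact T.cent_tv (isConj_W h hab) hg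
  · refine hE _ ?_ g hg
    push Not at hab
    show (0 : ZMod 3) * 0 - a * b ≠ 0
    simp [hab.1, hab.2]

theorem Setup.fuse_W (hE : T.CentE) {a b : ZMod 3} (h : (a, b) ≠ 0) {g : G}
    (hg : g * T.Ψ (mE (0, a, b, 0)) * g⁻¹ ∈ T.Ψ.range) : g ∈ T.Ψ.range :=
  T.fuse_three (mE_cube _) (fun _ hc => T.cent_W hE h hc) hg

/-- the centraliser of the involution -/
def Setup.Kt : Subgroup G := centralizer ({T.Ψ tD} : Set G)

theorem Setup.mem_Kt {g : G} : g ∈ T.Kt ↔ Commute g (T.Ψ tD) := mem_centralizer_singleton_iff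

/-- its part inside the image -/
def Setup.Ht : Subgroup T.Kt := T.Ψ.range.subgroupOf T.Kt

/-- the Sylow group of the centraliser -/
def Setup.Wt : Multiplicative (ZMod 3 × ZMod 3) →* T.Kt :=
  MonoidHom.mk' (fun p => ⟨T.Ψ (mE (0, p.toAdd.1, p.toAdd.2, 0)), T.mem_Kt.2 (commute_of_Ct T (mE_mem_Ct _ _))⟩)
    (fun p q => Subtype.ext (by
      show T.Ψ _ = T.Ψ _ * T.Ψ _
      rw [← map_mul, ← mE_add]; simp))

theorem Setup.Wt_cube (p : Multiplicative (ZMod 3 × ZMod 3)) : T.Wt p ^ 3 = 1 := Subtype.ext (by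
  show T.Ψ _ ^ 3 = 1
  rw [← map_pow, mE_cube, map_one])

theorem Setup.Wt_inj : Function.Injective T.Wt := fun p q h => by
  have e := mE_inj (T.eq_of_cube (mE_cube _) (mE_cube _) (congrArg Subtype.val h))
  simp only [Prod.mk.injEq, true_and, and_true] at e
  exact Multiplicative.toAdd.injective (Prod.ext e.1 e.2)

theorem Setup.Wt_ne {p : Multiplicative (ZMod 3 × ZMod 3)} (h : T.Wt p ≠ 1) :
    (p.toAdd.1, p.toAdd.2) ≠ (0 : ZMod 3 × ZMod 3) := fun e => h (by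
  rw [show p = 1 from Multiplicative.toAdd.injective e, map_one])

theorem block_sq {u : SL4} (hu : u ∈ Ct) : ∃ A C, qd A * qd C = 1 ∧ u * u = bd A C := by
  obtain ⟨A, C, h, rfl | rfl⟩ := Ct_cases hu
  · exact ⟨_, _, by rw [qd_mul, qd_mul]; linear_combination (qd A * qd C) * h + h, bd_mul h h⟩
  · have hr : qd C * qd A = 1 := by rw [mul_comm, h]
    refine ⟨qm A C, qm C A, by rw [qd_mul, qd_mul]; linear_combination (qd A * qd C) * h + h, ?_⟩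
    rw [mul_assoc, ← mul_assoc w0, w0_bd h, mul_assoc, w0_sq, mul_one, bd_mul h hr]

theorem Setup.sylow_W (hE : T.CentE) : ∃ P : Sylow 3 T.Kt, (P : Subgroup T.Kt) = T.Wt.range := by
  haveI : Fact (Nat.Prime 3) := ⟨Nat.prime_three⟩
  have hW : IsPGroup 3 T.Wt.range := fun ⟨x, p, hp⟩ => ⟨1, Subtype.ext (by
    show x ^ 3 ^ 1 = 1
    rw [← hp, pow_one, T.Wt_cube])⟩
  obtain ⟨P, hP⟩ := hW.exists_le_sylow
  refine ⟨P, le_antisymm ?_ hP⟩
  haveI := P.isPGroup'.isNilpotent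
  have htop : (T.Wt.range).subgroupOf P = ⊤ := by
    by_contra hne
    obtain ⟨y, hy, hy'⟩ := SetLike.exists_of_lt
      (Group.normalizerCondition_of_isNilpotent _ (lt_top_iff_ne_top.mpr hne))
    refine hy' (mem_subgroupOf.2 ?_)
    -- images of the two generators
    have img : ∀ z : P, z ∈ normalizer ((T.Wt.range.subgroupOf P : Subgroup P) : Set P) →
        ∀ a b : ZMod 3, ∃ a' b' : ZMod 3, ((z : T.Kt) : G) * T.Ψ (mE (0, a, b, 0)) * ((z : T.Kt) : G)⁻¹ =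
          T.Ψ (mE (0, a', b', 0)) := fun z hz a b => by
      obtain ⟨p, hp⟩ := mem_subgroupOf.1
        ((mem_normalizer_iff.1 hz ⟨T.Wt (Multiplicative.ofAdd (a, b)), hP ⟨_, rfl⟩⟩).1
          (mem_subgroupOf.2 ⟨_, rfl⟩))
      exact ⟨p.toAdd.1, p.toAdd.2, (congrArg Subtype.val hp).symm⟩
    obtain ⟨a0, b0, h0⟩ := img y hy 1 0
    obtain ⟨c, hc⟩ := T.fuse_W hE (a := 1) (b := 0) (by simp) (g := ((y : T.Kt) : G))
      (h0 ▸ ⟨_, rfl⟩)
    have huC : c ∈ Ct := mem_Ct_of T (by rw [hc]; exact T.mem_Kt.1 (y : T.Kt).2)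
    obtain ⟨A, C, hAC, hsq⟩ := block_sq huC
    have key : ∀ a b : ZMod 3, ∃ a' b' : ZMod 3,
        bd A C * mE (0, a, b, 0) = mE (0, a', b', 0) * bd A C := fun a b => by
      obtain ⟨a', b', e⟩ := img (y * y) (mul_mem hy hy) a b
      refine ⟨a', b', mul_inv_eq_iff_eq_mul.1
        (T.eq_of_cube (by rw [conj_pow, mE_cube, mul_one, mul_inv_cancel]) (mE_cube _) ?_)⟩
      rw [← e, ← hsq, map_mul, map_mul, map_inv, map_mul, hc]
      rfl
    obtain ⟨a1, b1, e1⟩ := key 1 0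
    obtain ⟨a2, b2, e2⟩ := key 0 1
    have hx : ∀ a b : ZMod 3, qd ((1, a, 0, 1) : T4) * qd ((1, b, 0, 1) : T4) = 1 := fun a b => by
      simp [qd]
    rw [mE_block, mE_block, bd_mul hAC (hx _ _), bd_mul (hx _ _) hAC] at e1 e2
    have hd : ∀ P Q : T4, qd P * qd Q = 1 → qd (qm A P) * qd (qm C Q) = 1 ∧
        qd (qm P A) * qd (qm Q C) = 1 := fun P Q h => by
      constructor <;> rw [qd_mul, qd_mul] <;> linear_combination (qd A * qd C) * h + hAC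
    obtain ⟨hA, -⟩ := bd_inj (hd _ _ (hx _ _)).1 (hd _ _ (hx _ _)).2 e1
    obtain ⟨-, hC⟩ := bd_inj (hd _ _ (hx _ _)).1 (hd _ _ (hx _ _)).2 e2
    obtain ⟨a, ha⟩ := norm_U A (qd_ne hAC).1 ⟨_, hA⟩
    obtain ⟨b, hb⟩ := norm_U C (qd_ne hAC).2.1 ⟨_, hC⟩
    have h4 : (y : T.Kt) ^ 4 ∈ T.Wt.range := ⟨Multiplicative.ofAdd (a, b), Subtype.ext (by
      show T.Ψ (mE (0, a, b, 0)) = ((y : T.Kt) : G) ^ 4
      rw [mE_block, ← ha, ← hb, ← bd_mul hAC hAC, ← hsq, ← hc, map_mul, map_mul, pow_succ, pow_succ,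
        pow_two]
      group)⟩
    obtain ⟨k, hk⟩ := P.isPGroup' y
    have hcop : Nat.Coprime 4 (orderOf (y : T.Kt)) := by
      obtain ⟨i, -, hi⟩ := (Nat.dvd_prime_pow Nat.prime_three).mp
        (orderOf_dvd_of_pow_eq_one (congrArg Subtype.val hk : (y : T.Kt) ^ 3 ^ k = 1))
      rw [hi]
      exact Nat.Coprime.pow_right i (by norm_num)
    obtain ⟨m, hm⟩ := exists_pow_eq_self_of_coprime hcop
    rw [← hm]
    exact pow_mem h4 m
  exact subgroupOf_eq_top.1 htop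

theorem Setup.exists_conj_W (hE : T.CentE) {y : T.Kt} (h3 : y ^ 3 = 1) (h1 : y ≠ 1) :
    ∃ (h : T.Kt) (p : Multiplicative (ZMod 3 × ZMod 3)), T.Wt p ≠ 1 ∧ h * y * h⁻¹ = T.Wt p := by
  haveI : Fact (Nat.Prime 3) := ⟨Nat.prime_three⟩
  obtain ⟨W, hW⟩ := T.sylow_W hE
  have hp : IsPGroup 3 (zpowers y) := IsPGroup.of_card (n := 1) (by
    rw [Nat.card_zpowers, orderOf_eq_prime h3 h1, pow_one])
  obtain ⟨P, hP⟩ := hp.exists_le_sylow
  obtain ⟨h, hh⟩ := MulAction.exists_smul_eq T.Kt P W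
  have hmem : h * y * h⁻¹ ∈ (W : Subgroup T.Kt) := by
    rw [← hh]
    exact smul_mem_pointwise_smul _ (MulAut.conj _) _ (hP (mem_zpowers y))
  rw [hW] at hmem
  obtain ⟨p, hp'⟩ := hmem
  exact ⟨h, p, fun e => h1 (conj_eq_one_iff.1 (hp'.symm.trans e)), hp'.symm⟩

theorem Setup.three_prime_le (hE : T.CentE) (N : Subgroup T.Kt) [hN : N.Normal]
    (h : ∀ p, T.Wt p ∈ N → T.Wt p = 1) : N ≤ T.Ht := by
  haveI : Fact (Nat.Prime 3) := ⟨Nat.prime_three⟩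
  have h3 : ¬ 3 ∣ Nat.card N := fun hd => by
    obtain ⟨x, hx⟩ := exists_prime_orderOf_dvd_card' 3 hd
    have hx3 : (x : T.Kt) ^ 3 = 1 := by
      rw [← hx, ← Subgroup.orderOf_coe]; exact pow_orderOf_eq_one _
    have hx1 : (x : T.Kt) ≠ 1 := fun e => by
      rw [← Subgroup.orderOf_coe, e, orderOf_one] at hx; omega
    obtain ⟨k, p, hp1, hp⟩ := T.exists_conj_W hE hx3 hx1
    exact hp1 (h p (hp ▸ hN.conj_mem _ x.2 k))
  have hcomm : IsMulCommutative T.Wt.range := ⟨⟨fun a b => Subtype.ext (by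
    obtain ⟨p, hp⟩ := a.2
    obtain ⟨q, hq⟩ := b.2
    show (a : T.Kt) * b = b * a
    rw [← hp, ← hq, ← map_mul, ← map_mul, mul_comm])⟩⟩
  have hcard : Nat.card T.Wt.range = 9 := by
    rw [← Nat.card_congr (MonoidHom.ofInjective T.Wt_inj).toEquiv]; simp
  have hnc : ¬ IsCyclic T.Wt.range := fun hc => by
    obtain ⟨⟨a, p, rfl⟩, ha⟩ := hc.exists_ofOrder_eq_natCard (α := T.Wt.range)
    rw [hcard] at ha
    have h9 := Nat.le_of_dvd three_pos (orderOf_dvd_of_pow_eq_one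
      (show (⟨T.Wt p, p, rfl⟩ : T.Wt.range) ^ 3 = 1 from Subtype.ext (T.Wt_cube p)))
    rw [ha] at h9
    norm_num at h9
  have hA : T.Wt.range ≤ normalizer (N : Set T.Kt) := by
    rw [normalizer_eq_top]; exact le_top
  have hcop : (Nat.card T.Wt.range).Coprime (Nat.card N) := by
    rw [hcard, show (9 : ℕ) = 3 ^ 2 from rfl]
    exact ((Nat.prime_three.coprime_iff_not_dvd).2 h3).pow_left 2
  rw [← CfsgLib.Coprime.iSup_centralizer_eq hcomm hnc hA hcop, iSup_le_iff]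
  rintro ⟨a, ⟨p, rfl⟩, ha⟩ k ⟨-, hk⟩
  exact T.cent_W hE (T.Wt_ne ha)
    (show Commute (k : G) (T.Wt p : T.Kt) from congrArg Subtype.val (mem_centralizer_singleton_iff.1 hk))

theorem Setup.ti_Ht (hE : T.CentE) : ∀ x ∈ T.Ht, 3 ∣ orderOf x → ∀ g, g * x * g⁻¹ ∈ T.Ht → g ∈ T.Ht := by
  intro x hx h3 g hg
  obtain ⟨k, hk⟩ := h3
  have hk0 : 0 < k := by have := orderOf_pos x; rw [hk] at this; omega
  have h3' : (x ^ k) ^ 3 = 1 := by rw [← pow_mul, mul_comm, ← hk, pow_orderOf_eq_one]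
  have h1 : x ^ k ≠ 1 := fun e => by
    have := Nat.le_of_dvd hk0 (orderOf_dvd_of_pow_eq_one e)
    omega
  obtain ⟨h, p, hp1, hp⟩ := T.exists_conj_W hE h3' h1
  have hy : ∀ a : T.Kt, a * x ^ k * a⁻¹ ∈ T.Ht → (a * h⁻¹ : T.Kt) ∈ T.Ht := fun a ha => by
    refine mem_subgroupOf.2 (T.fuse_W hE (T.Wt_ne hp1) ?_)
    have e : (a * h⁻¹) * T.Wt p * (a * h⁻¹)⁻¹ = a * x ^ k * a⁻¹ := by rw [← hp]; group
    have e' := mem_subgroupOf.1 (e ▸ ha)
    exact e'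
  have hh : h⁻¹ ∈ T.Ht := by
    simpa using hy 1 (by simpa using pow_mem hx k)
  have hgk : g * x ^ k * g⁻¹ ∈ T.Ht := by rw [← conj_pow]; exact pow_mem hg k
  simpa using mul_mem (hy g hgk) (inv_mem hh)

/-- the elements of the centraliser coming from the matrix group -/
def Setup.piT : Ct →* T.Ht where
  toFun c := ⟨⟨T.Ψ c, T.mem_Kt.2 (commute_of_Ct T c.2)⟩, mem_subgroupOf.2 ⟨c, rfl⟩⟩
  map_one' := Subtype.ext (Subtype.ext (map_one T.Ψ))
  map_mul' a b := Subtype.ext (Subtype.ext (map_mul T.Ψ (a : SL4) b))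

theorem Setup.piT_surj : Function.Surjective T.piT := fun x => by
  obtain ⟨c, hc⟩ := mem_subgroupOf.1 x.2
  exact ⟨⟨c, mem_Ct_of T (by rw [hc]; exact T.mem_Kt.1 (x : T.Kt).2)⟩, Subtype.ext (Subtype.ext hc)⟩

/-- the map onto `S₃` on the matrix side -/
def etaC (s : ZMod 3) (hs : s ≠ 0) : Ct →* Equiv.Perm (Fin 3) :=
  MonoidHom.mk' (fun c => etaM s c) (fun a b => etaM_mul s hs a.2 b.2)

theorem Setup.exists_eta (s : ZMod 3) (hs : s ≠ 0) : ∃ η : T.Ht →* Equiv.Perm (Fin 3),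
    Function.Surjective η ∧ ∀ c : Ct, η (T.piT c) = etaM s c := by
  have hker : T.piT.ker ≤ (etaC s hs).ker := fun c hc => by
    rw [MonoidHom.mem_ker] at hc ⊢
    have e : T.Ψ (c : SL4) = 1 := congrArg (fun z : T.Ht => ((z : T.Kt) : G)) hc
    rcases (T.ker _).1 e with e' | e'
    · rw [show c = 1 from Subtype.ext e', map_one]
    · show etaM s c = 1
      rw [e', (etaM_neg1 s).1]
  have happ : ∀ c : Ct, (T.piT.liftOfSurjective T.piT_surj ⟨etaC s hs, hker⟩) (T.piT c) = etaM s c :=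
    fun c => MonoidHom.liftOfRightInverse_comp_apply _ _ _ ⟨etaC s hs, hker⟩ c
  refine ⟨_, fun q => ?_, happ⟩
  obtain ⟨a, e, he⟩ := eta_surj s hs q
  have hmem : mE (0, a, 0, 0) * (![1, bd qR qR] e) ∈ Ct := by
    refine mul_mem (mE_mem_Ct a 0) ?_
    fin_cases e
    · exact one_mem _
    · exact bd_mem_Ct (by decide +kernel)
  exact ⟨T.piT ⟨_, hmem⟩, (happ _).trans he⟩

/-- the twelve square roots of the involution -/
def Setup.Tw (x : G) : Prop := ∃ q ∈ six, x = T.Ψ (bd q q1) ∨ x = T.Ψ (bd q1 q)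

theorem bd_six {q : T4} (hq : q ∈ six) : qd q * qd q1 = 1 ∧ qd q1 * qd q = 1 := by
  obtain ⟨h1, -, h2, -⟩ := six_facts q hq
  rw [h1, h2]; exact ⟨one_mul _, one_mul _⟩

theorem six_sq : ∀ q ∈ six, qm q q = -q1 := by decide +kernel

theorem Setup.Tw_sq {x : G} (hx : T.Tw x) : x * x = T.Ψ tD := by
  obtain ⟨q, hq, rfl | rfl⟩ := hx
  · rw [← map_mul, bd_mul (bd_six hq).1 (bd_six hq).1, six_sq q hq, (qm_one q1).1]
    refine T.eq_iff.2 (Or.inr ?_)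
    rw [bd_facts.1, neg1_bd (A := q1) (C := -q1) (by decide +kernel), neg_neg]
  · rw [← map_mul, bd_mul (bd_six hq).2 (bd_six hq).2, six_sq q hq, (qm_one q1).1, bd_facts.1]

theorem Setup.Tw_range {x : G} (hx : T.Tw x) : x ∈ T.Ψ.range := by
  obtain ⟨q, -, rfl | rfl⟩ := hx <;> exact ⟨_, rfl⟩

theorem Setup.Tw_Kt {x : G} (hx : T.Tw x) : x ∈ T.Kt := by
  refine T.mem_Kt.2 ?_
  rw [← T.Tw_sq hx]
  exact (Commute.refl x).mul_right (Commute.refl x)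

theorem Setup.Tw_of_sq {x : G} (hx : x ∈ T.Ψ.range) (h2 : x * x = T.Ψ tD) : T.Tw x := by
  obtain ⟨u, rfl⟩ := hx
  have huC : u ∈ Ct := mem_Ct_of T (h2 ▸ (Commute.refl _).mul_right (Commute.refl _))
  have hne : ∀ q : T4, qm q q = q1 ∧ qm q q = -q1 → False := by decide +kernel
  rw [← map_mul] at h2
  have hcases : u * u = bd q1 (-q1) ∨ u * u = bd (-q1) q1 := by
    rcases T.eq_iff.1 h2 with e | e
    · exact Or.inl (e.trans bd_facts.1)
    · refine Or.inr ?_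
      rw [e, bd_facts.1, neg1_bd (A := q1) (C := -q1) (by decide +kernel), neg_neg]
  have hd1 : qd q1 * qd (-q1) = 1 ∧ qd (-q1) * qd q1 = 1 := by decide +kernel
  obtain ⟨A, C, h, rfl | rfl⟩ := Ct_cases huC
  · obtain ⟨hA, hC, hAC⟩ := qd_ne h
    have hq : qd (qm A A) * qd (qm C C) = 1 := by rw [qd_mul, qd_mul]; linear_combination (qd A * qd C) * h + h
    rw [bd_mul h h] at hcases
    rcases hcases with e | e
    · obtain ⟨eA, eC⟩ := bd_inj hq hd1.1 e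
      obtain ⟨dC, mC⟩ := (sq_block C hC).1 eC
      rcases (sq_block A hA).2 eA (hAC.trans dC) with rfl | rfl
      · exact ⟨C, mC, Or.inr rfl⟩
      · refine ⟨-C, (six_facts C mC).2.1, Or.inr (T.eq_iff.2 (Or.inr ?_))⟩
        rw [neg1_bd (bd_six (six_facts C mC).2.1).2, neg_neg]
    · obtain ⟨eA, eC⟩ := bd_inj hq hd1.2 e
      obtain ⟨dA, mA⟩ := (sq_block A hA).1 eA
      rcases (sq_block C hC).2 eC (hAC.symm.trans dA) with rfl | rfl
      · exact ⟨A, mA, Or.inl rfl⟩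
      · refine ⟨-A, (six_facts A mA).2.1, Or.inl (T.eq_iff.2 (Or.inr ?_))⟩
        rw [neg1_bd (bd_six (six_facts A mA).2.1).1, neg_neg]
  · exfalso
    have hr : qd C * qd A = 1 := by rw [mul_comm, h]
    have hq : qd (qm A C) * qd (qm C A) = 1 := by rw [qd_mul, qd_mul]; linear_combination (qd A * qd C) * h + h
    rw [mul_assoc, ← mul_assoc w0, w0_bd h, mul_assoc, w0_sq, mul_one, bd_mul h hr] at hcases
    rcases hcases with e | e
    · obtain ⟨e1, e2⟩ := bd_inj hq hd1.1 e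
      exact cross_block A C e1 e2
    · obtain ⟨e1, e2⟩ := bd_inj hq hd1.2 e
      exact cross_block C A e2 e1

/-- no two conjugates of a root multiply to an element of order divisible by three -/
theorem Setup.products (hE : T.CentE) (v : T.Kt) (hv : (v : G) * v = T.Ψ tD) (a b : T.Kt) :
    ¬ 3 ∣ orderOf (a * v * a⁻¹ * (b * v * b⁻¹)) := by
  intro h
  set c1 := a * v * a⁻¹ with hc1
  set c2 := b * v * b⁻¹ with hc2
  set tt : T.Kt := ⟨T.Ψ tD, T.mem_Kt.2 (Commute.refl _)⟩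
  have hcen : ∀ k : T.Kt, k * tt = tt * k := fun k => Subtype.ext (T.mem_Kt.1 k.2).eq
  have hsq : ∀ k : T.Kt, (k * v * k⁻¹) * (k * v * k⁻¹) = tt := fun k => by
    rw [show (k * v * k⁻¹) * (k * v * k⁻¹) = k * (v * v) * k⁻¹ by group,
      show v * v = tt from Subtype.ext hv, hcen k, mul_inv_cancel_right]
  have ht2 : tt * tt = 1 := Subtype.ext (by
    show T.Ψ tD * T.Ψ tD = 1
    rw [← map_mul, show tD * tD = 1 by decide +kernel, map_one])
  set p := c1 * c2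
  have hinv : c1 * p * c1⁻¹ = p⁻¹ := by
    have e1 : c1 * c1 = tt := hsq a
    have e2 : c2⁻¹ = c2 * tt := inv_eq_of_mul_eq_one_right (by rw [← mul_assoc, hsq b, ht2])
    calc c1 * p * c1⁻¹ = (c1 * c1) * c2 * c1⁻¹ := by simp only [p]; group
      _ = c2⁻¹ * c1⁻¹ := by rw [e1, ← hcen c2, e2]
      _ = p⁻¹ := by simp only [p]; group
  obtain ⟨k, hk⟩ := h
  have hk0 : 0 < k := by have := orderOf_pos p; rw [hk] at this; omega
  have h3 : (p ^ k) ^ 3 = 1 := by rw [← pow_mul, mul_comm, ← hk, pow_orderOf_eq_one]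
  have h1 : p ^ k ≠ 1 := fun e => by
    have := Nat.le_of_dvd hk0 (orderOf_dvd_of_pow_eq_one e)
    omega
  obtain ⟨g, q, hq1, hq⟩ := T.exists_conj_W hE h3 h1
  set c := g * c1 * g⁻¹
  have hcw : c * T.Wt q * c⁻¹ = (T.Wt q)⁻¹ := by
    rw [← hq, show c * (g * p ^ k * g⁻¹) * c⁻¹ = g * (c1 * p ^ k * c1⁻¹) * g⁻¹ by simp only [c]; group,
      ← conj_pow, hinv, inv_pow]
    group
  have hcw' : (c : G) * T.Ψ (mE (0, q.toAdd.1, q.toAdd.2, 0)) * (c : G)⁻¹ =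
      T.Ψ (mE (0, -q.toAdd.1, -q.toAdd.2, 0)) := by
    have e := congrArg Subtype.val hcw
    rw [← map_inv] at e
    exact e
  have hc : (c : G) ∈ T.Ψ.range :=
    T.fuse_W hE (T.Wt_ne hq1) (hcw' ▸ ⟨_, rfl⟩)
  have hc2 : (c : G) * c = T.Ψ tD := by
    have e : c * c = tt := by
      rw [show c * c = g * (c1 * c1) * g⁻¹ by simp only [c]; group, hsq a, hcen g, mul_inv_cancel_right]
    exact congrArg Subtype.val e
  obtain ⟨r, hr, e | e⟩ := T.Tw_of_sq hc hc2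
  all_goals
    rw [e, ← map_inv, ← map_mul, ← map_mul] at hcw'
    have e' := T.eq_of_cube (by rw [conj_pow, mE_cube, mul_one, mul_inv_cancel]) (mE_cube _) hcw'
    rw [mul_inv_eq_iff_eq_mul] at e'
  · exact (not_invert r hr _ _ (T.Wt_ne hq1)).1 e'
  · exact (not_invert r hr _ _ (T.Wt_ne hq1)).2 e'

theorem Setup.Tw_conj (hE : T.CentE) {g x : G} (hg : Commute g (T.Ψ tD)) (hx : T.Tw x) :
    T.Tw (g * x * g⁻¹) := by
  cases nonempty_fintype T.Kt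
  let v : T.Kt := ⟨x, T.Tw_Kt hx⟩
  have hv := T.products hE v (T.Tw_sq hx)
  obtain ⟨η₁, hs₁, he₁⟩ := T.exists_eta 1 (by decide)
  obtain ⟨η₂, hs₂, he₂⟩ := T.exists_eta 2 (by decide)
  obtain ⟨N₁, hn₁, hv₁, hx₁⟩ := exists_normal_kernel T.Ht η₁ hs₁ (T.ti_Ht hE) v hv
  obtain ⟨N₂, hn₂, hv₂, hx₂⟩ := exists_normal_kernel T.Ht η₂ hs₂ (T.ti_Ht hE) v hv
  have hle : N₁ ⊓ N₂ ≤ T.Ht := by
    refine T.three_prime_le hE _ fun p hp => ?_
    by_contra hne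
    set c : Ct := ⟨mE (0, p.toAdd.1, p.toAdd.2, 0), mE_mem_Ct _ _⟩
    have hc : ((T.piT c : T.Ht) : T.Kt) = T.Wt p := rfl
    have hc3 : c * c * c = 1 := Subtype.ext (by
      show (c : SL4) * c * c = 1
      have := mE_cube (0, p.toAdd.1, p.toAdd.2, 0)
      rwa [pow_succ, pow_two] at this)
    have k1 : ∀ (η : T.Ht →* Equiv.Perm (Fin 3)) (N : Subgroup T.Kt),
        (∀ z : T.Ht, (z : T.Kt) ∈ N → η z = 1 ∨ η z * η z * η z ≠ 1) →
        T.Wt p ∈ N → η (T.piT c) = 1 := fun η N hN hp => by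
      refine ((hN _ (hc ▸ hp))).resolve_right fun h => h ?_
      rw [← map_mul, ← map_mul, ← map_mul, ← map_mul, hc3, map_one, map_one]
    rcases eta_W p.toAdd.1 p.toAdd.2 (T.Wt_ne hne) with h | h
    · exact h ((he₁ c).symm.trans (k1 η₁ N₁ hx₁ hp.1))
    · exact h ((he₂ c).symm.trans (k1 η₂ N₂ hx₂ hp.2))
  let k : T.Kt := ⟨g, T.mem_Kt.2 hg⟩
  have hmem : k * v * k⁻¹ ∈ T.Ht := hle ⟨hn₁.conj_mem _ hv₁ k, hn₂.conj_mem _ hv₂ k⟩
  refine T.Tw_of_sq (mem_subgroupOf.1 hmem) ?_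
  rw [show g * x * g⁻¹ * (g * x * g⁻¹) = g * (x * x) * g⁻¹ by group, T.Tw_sq hx, hg.eq,
    mul_inv_cancel_right]

theorem six_conj_eq (T : Setup G) {A C p q : T4} (h : qd A * qd C = 1) (hp : qd p * qd q = 1) {p' q' : T4}
    (hp' : qd p' * qd q' = 1) (e1 : qm A p = qm p' A) (e2 : qm C q = qm q' C) :
    T.Ψ (bd A C) * T.Ψ (bd p q) * (T.Ψ (bd A C))⁻¹ = T.Ψ (bd p' q') := by
  rw [← map_inv, ← map_mul, ← map_mul]
  refine congrArg T.Ψ ?_
  rw [mul_inv_eq_iff_eq_mul, bd_mul h hp, bd_mul hp' h, e1, e2]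

theorem six_commute (T : Setup G) {p q : T4} (hp : p ∈ six) (hq : q ∈ six) :
    (Commute (T.Ψ (bd p q1)) (T.Ψ (bd q q1)) ↔ (p = q ∨ p = -q)) ∧
    (Commute (T.Ψ (bd q1 p)) (T.Ψ (bd q1 q)) ↔ (p = q ∨ p = -q)) ∧
    Commute (T.Ψ (bd p q1)) (T.Ψ (bd q1 q)) := by
  obtain ⟨hc, -, -, -⟩ := six_comm p hp q hq
  have hne : ∀ p ∈ six, ∀ q ∈ six, qm p q ≠ -qm q p → (p = q ∨ p = -q) := by decide +kernel
  have hqq : qd q1 * qd q1 = 1 ∧ -q1 ≠ q1 := by decide +kernel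
  have k : ∀ {A C A' C' : T4}, qd A * qd C = 1 → qd A' * qd C' = 1 →
      (Commute (T.Ψ (bd A C)) (T.Ψ (bd A' C')) ↔ bd (qm A A') (qm C C') = bd (qm A' A) (qm C' C) ∨
        bd (qm A A') (qm C C') = neg1 * bd (qm A' A) (qm C' C)) := fun h h' => by
    rw [Commute, SemiconjBy, ← map_mul, ← map_mul, bd_mul h h', bd_mul h' h, T.eq_iff]
  have hd : ∀ {A C A' C' : T4}, qd A * qd C = 1 → qd A' * qd C' = 1 →
      qd (qm A A') * qd (qm C C') = 1 := fun {A C A' C'} h h' => by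
    rw [qd_mul, qd_mul]; linear_combination (qd A' * qd C') * h + h'
  obtain ⟨p1, p2⟩ := bd_six hp
  obtain ⟨r1, r2⟩ := bd_six hq
  refine ⟨(k p1 r1).trans ⟨?_, fun e => Or.inl ?_⟩, (k p2 r2).trans ⟨?_, fun e => Or.inl ?_⟩, ?_⟩
  · rintro (e | e)
    · exact hc.1 (bd_inj (hd p1 r1) (hd r1 p1) e).1
    · rw [neg1_bd (hd r1 p1)] at e
      have := (bd_inj (hd p1 r1) (by rw [qd_neg, qd_neg]; exact hd r1 p1) e).2
      rw [(qm_one q1).1] at this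
      exact absurd this.symm hqq.2
  · rw [hc.2 e]
  · rintro (e | e)
    · exact hc.1 (bd_inj (hd p2 r2) (hd r2 p2) e).2
    · rw [neg1_bd (hd r2 p2)] at e
      have := (bd_inj (hd p2 r2) (by rw [qd_neg, qd_neg]; exact hd r2 p2) e).1
      rw [(qm_one q1).1] at this
      exact absurd this.symm hqq.2
  · rw [hc.2 e]
  · exact (k p1 r2).2 (Or.inl (by rw [(qm_one p).1, (qm_one p).2, (qm_one q).1, (qm_one q).2]))

/-- fixing the twelve roots forces membership -/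
theorem Setup.fix_le (hE : T.CentE) {e : G} (he : Commute e (T.Ψ tD))
    (hfix : ∀ x, T.Tw x → Commute e x) : e ∈ T.Ψ.range := by
  let F : Subgroup T.Kt :=
    { carrier := {k | ∀ x, T.Tw x → Commute (k : G) x}
      one_mem' := fun x _ => Commute.one_left x
      mul_mem' := fun ha hb x hx => (ha x hx).mul_left (hb x hx)
      inv_mem' := fun ha x hx => (ha x hx).inv_left }
  haveI : F.Normal := ⟨fun n hn k x hx => by
    have h1 : T.Tw ((k : G)⁻¹ * x * ((k : G)⁻¹)⁻¹) := T.Tw_conj hE (T.mem_Kt.1 k.2).inv_left hx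
    have h2 := (hn _ h1).map (MulAut.conj (k : G)).toMonoidHom
    simp only [MulEquiv.coe_toMonoidHom, MulAut.conj_apply] at h2
    rwa [show (k : G) * ((k : G)⁻¹ * x * ((k : G)⁻¹)⁻¹) * (k : G)⁻¹ = x by group] at h2⟩
  refine mem_subgroupOf.1 (T.three_prime_le hE F (fun p hp => ?_) (show ⟨e, T.mem_Kt.2 he⟩ ∈ F from hfix))
  by_contra hne
  obtain ⟨q, hq, hmove⟩ := twelve_moved p.toAdd.1 p.toAdd.2 (T.Wt_ne hne)
  rcases hmove with ⟨h1, h2⟩ | ⟨h1, h2⟩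
  · have h := (hp _ ⟨q, hq, Or.inl rfl⟩).symm.eq
    rw [show ((T.Wt p : T.Kt) : G) = T.Ψ (mE (0, p.toAdd.1, p.toAdd.2, 0)) from rfl, ← map_mul, ← map_mul] at h
    rcases T.eq_iff.1 h with e | e
    exacts [h1 e, h2 e]
  · have h := (hp _ ⟨q, hq, Or.inr rfl⟩).symm.eq
    rw [show ((T.Wt p : T.Kt) : G) = T.Ψ (mE (0, p.toAdd.1, p.toAdd.2, 0)) from rfl, ← map_mul, ← map_mul] at h
    rcases T.eq_iff.1 h with e | e
    exacts [h1 e, h2 e]

theorem conj_bd_mul (g : G) {A C A' C' : T4} (h : qd A * qd C = 1) (h' : qd A' * qd C' = 1) :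
    g * T.Ψ (bd (qm A A') (qm C C')) * g⁻¹ = (g * T.Ψ (bd A C) * g⁻¹) * (g * T.Ψ (bd A' C') * g⁻¹) := by
  rw [← bd_mul h h', map_mul]; group

theorem Setup.cent_t_fixed (hE : T.CentE) {g : G} (hg : Commute g (T.Ψ tD))
    (h1 : ∀ q ∈ [qJ, qK], g * T.Ψ (bd q q1) * g⁻¹ = T.Ψ (bd q q1))
    (h2 : ∀ q ∈ [qJ, qK], g * T.Ψ (bd q1 q) * g⁻¹ = T.Ψ (bd q1 q) ∨
      g * T.Ψ (bd q1 q) * g⁻¹ = T.Ψ (bd q1 (cjP q)))
    (h3 : g * T.Ψ (bd q1 qK) * g⁻¹ = T.Ψ (bd q1 qK) ∨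
      g * T.Ψ (bd q1 qK) * g⁻¹ = T.Ψ (bd q1 (cjP qK))) : g ∈ T.Ψ.range := by
  -- closure under products
  have hsix : ∀ P : T4 → Prop, P qJ → P qK → (∀ p q, qd p = 1 → qd q = 1 → P p → P q → P (qm p q)) →
      ∀ q ∈ six, P q := by
    intro P hJ hK hm
    obtain ⟨e1, e2, e3, e4, -⟩ := six_gen
    have dJ : qd qJ = 1 ∧ qd qK = 1 ∧ qd (qm qJ qJ) = 1 ∧ qd qK2 = 1 := by decide +kernel
    have h2 : P qK2 := e1 ▸ hm _ _ dJ.1 dJ.2.1 hJ hK
    have hn := hm _ _ dJ.1 dJ.1 hJ hJ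
    intro q hq
    simp only [six, List.mem_cons, List.not_mem_nil, or_false] at hq
    rcases hq with rfl | rfl | rfl | rfl | rfl | rfl
    exacts [hJ, hK, h2, e2 ▸ hm _ _ dJ.2.2.1 dJ.1 hn hJ, e3 ▸ hm _ _ dJ.2.2.1 dJ.2.1 hn hK,
      e4 ▸ hm _ _ dJ.2.2.1 dJ.2.2.2 hn h2]
  have hq1 : qd q1 = 1 ∧ qm q1 q1 = q1 := by decide +kernel
  have hB1 : ∀ q ∈ six, g * T.Ψ (bd q q1) * g⁻¹ = T.Ψ (bd q q1) := by
    refine hsix _ (h1 _ (by simp)) (h1 _ (by simp)) fun p q hp hq ep eq => ?_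
    have hp' : qd p * qd q1 = 1 := by rw [hp, hq1.1, one_mul]
    have hq' : qd q * qd q1 = 1 := by rw [hq, hq1.1, one_mul]
    conv_lhs => rw [← hq1.2]
    rw [conj_bd_mul T g hp' hq', ep, eq, ← map_mul, bd_mul hp' hq', hq1.2]
  have hcjd : ∀ q : T4, qd q = 1 → qd (cjP q) = 1 := by decide +kernel
  have hcjm : ∀ p q : T4, qd p = 1 → qd q = 1 → cjP (qm p q) = qm (cjP p) (cjP q) := by decide +kernel
  obtain ⟨-, -, -, -, hcJ, -, -⟩ := cjP_facts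
  have h2J : g * T.Ψ (bd q1 qJ) * g⁻¹ = T.Ψ (bd q1 qJ) := by
    rcases h2 qJ (by simp) with e | e
    · exact e
    · rwa [hcJ] at e
  rcases h3 with h3 | h3
  · -- all twelve fixed
    have hB2 : ∀ q ∈ six, g * T.Ψ (bd q1 q) * g⁻¹ = T.Ψ (bd q1 q) := by
      refine hsix _ h2J h3 fun p q hp hq ep eq => ?_
      have hp' : qd q1 * qd p = 1 := by rw [hp, hq1.1, one_mul]
      have hq' : qd q1 * qd q = 1 := by rw [hq, hq1.1, one_mul]
      conv_lhs => rw [← hq1.2]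
      rw [conj_bd_mul T g hp' hq', ep, eq, ← map_mul, bd_mul hp' hq', hq1.2]
    refine T.fix_le hE hg ?_
    rintro x ⟨q, hq, rfl | rfl⟩
    exacts [mul_inv_eq_iff_eq_mul.1 (hB1 q hq), mul_inv_eq_iff_eq_mul.1 (hB2 q hq)]
  · -- the second block is turned by an element of order eight
    have hB2 : ∀ q ∈ six, g * T.Ψ (bd q1 q) * g⁻¹ = T.Ψ (bd q1 (cjP q)) := by
      refine hsix _ (h2J.trans (by rw [hcJ])) h3 fun p q hp hq ep eq => ?_
      have hp' : qd q1 * qd p = 1 := by rw [hp, hq1.1, one_mul]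
      have hq' : qd q1 * qd q = 1 := by rw [hq, hq1.1, one_mul]
      have hp'' : qd q1 * qd (cjP p) = 1 := by rw [hcjd p hp, hq1.1, one_mul]
      have hq'' : qd q1 * qd (cjP q) = 1 := by rw [hcjd q hq, hq1.1, one_mul]
      conv_lhs => rw [← hq1.2]
      rw [conj_bd_mul T g hp' hq', ep, eq, ← map_mul, bd_mul hp'' hq'', hq1.2, hcjm p q hp hq]
    set w := T.Ψ (mE (0, 0, 1, 0)) with hw
    set x' := T.Ψ (bd q1 (cjP (1, 1, 0, 1))) with hx'
    have hx : qd q1 * qd ((1, 1, 0, 1) : T4) = 1 := by decide +kernel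
    have hcx : qd q1 * qd (cjP (1, 1, 0, 1)) = 1 := by decide +kernel
    have hw' : w = T.Ψ (bd q1 (1, 1, 0, 1)) := by rw [hw, mE_block]; rfl
    have hwK : Commute w (T.Ψ tD) := commute_of_Ct T (mE_mem_Ct 0 1)
    have hxK : Commute x' (T.Ψ tD) := commute_of_Ct T (bd_mem_Ct hcx)
    have hE1 : g * w * g⁻¹ ∈ T.Ψ.range := by
      have hmem : x'⁻¹ * (g * w * g⁻¹) ∈ T.Ψ.range := by
        refine T.fix_le hE (hxK.inv_left.mul_left ((hg.mul_left hwK).mul_left hg.inv_left)) ?_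
        rintro x ⟨q, hq, rfl | rfl⟩
        · have c1 : Commute w (T.Ψ (bd q q1)) := by
            rw [hw', Commute, SemiconjBy, ← map_mul, ← map_mul, bd_mul hx (bd_six hq).1,
              bd_mul (bd_six hq).1 hx]
            simp [(qm_one q).1, (qm_one q).2, (qm_one (1, 1, 0, 1)).1, (qm_one (1, 1, 0, 1)).2]
          have c2 : Commute x' (T.Ψ (bd q q1)) := by
            rw [hx', Commute, SemiconjBy, ← map_mul, ← map_mul, bd_mul hcx (bd_six hq).1,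
              bd_mul (bd_six hq).1 hcx]
            simp [(qm_one q).1, (qm_one q).2, (qm_one (cjP (1, 1, 0, 1))).1,
              (qm_one (cjP (1, 1, 0, 1))).2]
          have c3 : Commute g (T.Ψ (bd q q1)) := mul_inv_eq_iff_eq_mul.1 (hB1 q hq)
          exact c2.inv_left.mul_left ((c3.mul_left c1).mul_left c3.inv_left)
        · obtain ⟨-, -, -, p, hp, rfl⟩ := cjP_x q hq
          obtain ⟨f1, f2, f3, -⟩ := cjP_x p hp
          set r := qm (qm (1, 1, 0, 1) p) (1, 2, 0, 1)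
          have e1 : w * T.Ψ (bd q1 p) * w⁻¹ = T.Ψ (bd q1 r) := by
            rw [hw']; exact six_conj_eq T hx (bd_six hp).2 (bd_six f2).2 rfl f3
          have hdr : qd q1 * qd (cjP r) = 1 := by rw [hcjd r (six_facts r f2).1, hq1.1, one_mul]
          have hdp : qd q1 * qd (cjP p) = 1 := by rw [hcjd p (six_facts p hp).1, hq1.1, one_mul]
          have e2 : x' * T.Ψ (bd q1 (cjP p)) * x'⁻¹ = T.Ψ (bd q1 (cjP r)) := by
            rw [hx']; exact six_conj_eq T hcx hdp hdr rfl f1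
          refine mul_inv_eq_iff_eq_mul.1 ?_
          rw [show x'⁻¹ * (g * w * g⁻¹) * T.Ψ (bd q1 (cjP p)) * (x'⁻¹ * (g * w * g⁻¹))⁻¹ =
              x'⁻¹ * (g * (w * (g⁻¹ * T.Ψ (bd q1 (cjP p)) * g) * w⁻¹) * g⁻¹) * x' by group,
            show g⁻¹ * T.Ψ (bd q1 (cjP p)) * g = T.Ψ (bd q1 p) by rw [← hB2 p hp]; group,
            e1, hB2 r f2, ← e2]
          group
      have := mul_mem (show x' ∈ T.Ψ.range from ⟨_, rfl⟩) hmem
      rwa [mul_inv_cancel_left] at this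
    exact T.fuse_W hE (a := 0) (b := 1) (by simp) hE1

/-- the centraliser of the involution lies in the image -/
theorem Setup.cent_t (hE : T.CentE) {g : G} (hg : Commute g (T.Ψ tD)) : g ∈ T.Ψ.range := by
  have hq1 : qd q1 = 1 := by decide +kernel
  have hJ : qJ ∈ six := by simp [six]
  have hK : qK ∈ six := by simp [six]
  have hneJK : qJ ≠ qK ∧ qJ ≠ -qK ∧ -(-qJ) = qJ := by decide +kernel
  -- reduce to: the first root is fixed
  suffices main : ∀ g, Commute g (T.Ψ tD) → g * T.Ψ (bd qJ q1) * g⁻¹ = T.Ψ (bd qJ q1) → g ∈ T.Ψ.range by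
    obtain ⟨q, hq, e | e⟩ := T.Tw_conj hE hg ⟨qJ, hJ, Or.inl rfl⟩
    all_goals obtain ⟨A, -, hA, hAJ⟩ := six_trans q hq
    all_goals have hAq : qd A * qd q1 = 1 := by rw [hA, hq1, one_mul]
    all_goals have e0 := six_conj_eq T hAq (bd_six hJ).1 (bd_six hq).1 hAJ (rfl : qm q1 q1 = qm q1 q1)
    · have h := main ((T.Ψ (bd A q1))⁻¹ * g) ((commute_of_Ct T (bd_mem_Ct hAq)).inv_left.mul_left hg) (by
        rw [show (T.Ψ (bd A q1))⁻¹ * g * T.Ψ (bd qJ q1) * ((T.Ψ (bd A q1))⁻¹ * g)⁻¹ =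
          (T.Ψ (bd A q1))⁻¹ * (g * T.Ψ (bd qJ q1) * g⁻¹) * T.Ψ (bd A q1) by group, e, ← e0]
        group)
      have := mul_mem (show T.Ψ (bd A q1) ∈ T.Ψ.range from ⟨_, rfl⟩) h
      rwa [mul_inv_cancel_left] at this
    · have e1 : T.Ψ (w0 * bd A q1) * T.Ψ (bd qJ q1) * (T.Ψ (w0 * bd A q1))⁻¹ = T.Ψ (bd q1 q) := by
        rw [map_mul, show T.Ψ w0 * T.Ψ (bd A q1) * T.Ψ (bd qJ q1) * (T.Ψ w0 * T.Ψ (bd A q1))⁻¹ =
          T.Ψ w0 * (T.Ψ (bd A q1) * T.Ψ (bd qJ q1) * (T.Ψ (bd A q1))⁻¹) * (T.Ψ w0)⁻¹ by group, e0,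
          ← map_inv, ← map_mul, ← map_mul, w0_bd (bd_six hq).1, mul_inv_cancel_right]
      have h := main ((T.Ψ (w0 * bd A q1))⁻¹ * g)
        ((commute_of_Ct T (mul_mem w0_mem_Ct (bd_mem_Ct hAq))).inv_left.mul_left hg) (by
        rw [show (T.Ψ (w0 * bd A q1))⁻¹ * g * T.Ψ (bd qJ q1) * ((T.Ψ (w0 * bd A q1))⁻¹ * g)⁻¹ =
          (T.Ψ (w0 * bd A q1))⁻¹ * (g * T.Ψ (bd qJ q1) * g⁻¹) * T.Ψ (w0 * bd A q1) by group, e, ← e1]
        group)
      have := mul_mem (show T.Ψ (w0 * bd A q1) ∈ T.Ψ.range from ⟨_, rfl⟩) h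
      rwa [mul_inv_cancel_left] at this
  intro g hg hgJ
  suffices main2 : ∀ g, Commute g (T.Ψ tD) →
      (∀ q ∈ [qJ, qK], g * T.Ψ (bd q q1) * g⁻¹ = T.Ψ (bd q q1)) → g ∈ T.Ψ.range by
    have hnc : ¬ Commute (T.Ψ (bd qJ q1)) (g * T.Ψ (bd qK q1) * g⁻¹) := fun h => by
      rw [← hgJ] at h
      have h' := h.map (MulAut.conj g⁻¹).toMonoidHom
      simp only [MulEquiv.coe_toMonoidHom, MulAut.conj_apply, inv_inv] at h'
      simp only [← mul_assoc, inv_mul_cancel, one_mul, inv_mul_cancel_right] at h'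
      rcases ((six_commute T hJ hK).1).1 h' with e | e
      exacts [hneJK.1 e, hneJK.2.1 e]
    obtain ⟨q, hq, e | e⟩ := T.Tw_conj hE hg ⟨qK, hK, Or.inl rfl⟩
    · rw [e] at hnc
      obtain ⟨A, -, C, -, hAC, hAJ, hAK⟩ := four_trans q hq
        (fun h => hnc ((six_commute T hJ hq).1.2 (Or.inl h.symm)))
        (fun h => hnc ((six_commute T hJ hq).1.2 (Or.inr (by rw [h, hneJK.2.2]))))
      have eC : qm C q1 = qm q1 C := by rw [(qm_one C).1, (qm_one C).2]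
      have e0 := six_conj_eq T hAC (bd_six hJ).1 (bd_six hJ).1 hAJ eC
      have e1 := six_conj_eq T hAC (bd_six hK).1 (bd_six hq).1 hAK eC
      have h := main2 ((T.Ψ (bd A C))⁻¹ * g) ((commute_of_Ct T (bd_mem_Ct hAC)).inv_left.mul_left hg) (by
        intro r hr
        simp only [List.mem_cons, List.not_mem_nil, or_false] at hr
        rcases hr with rfl | rfl
        · rw [show (T.Ψ (bd A C))⁻¹ * g * T.Ψ (bd qJ q1) * ((T.Ψ (bd A C))⁻¹ * g)⁻¹ =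
            (T.Ψ (bd A C))⁻¹ * (g * T.Ψ (bd qJ q1) * g⁻¹) * T.Ψ (bd A C) by group, hgJ]
          conv_lhs => rw [← e0]
          group
        · rw [show (T.Ψ (bd A C))⁻¹ * g * T.Ψ (bd qK q1) * ((T.Ψ (bd A C))⁻¹ * g)⁻¹ =
            (T.Ψ (bd A C))⁻¹ * (g * T.Ψ (bd qK q1) * g⁻¹) * T.Ψ (bd A C) by group, e, ← e1]
          group)
      have := mul_mem (show T.Ψ (bd A C) ∈ T.Ψ.range from ⟨_, rfl⟩) h
      rwa [mul_inv_cancel_left] at this
    · exact absurd (e ▸ (six_commute T hJ hq).2.2) hnc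
  intro g hg hg1
  -- the second block
  have hback : ∀ x y : G, Commute (g * x * g⁻¹) (g * y * g⁻¹) → Commute x y := fun x y h => by
    have h' := h.map (MulAut.conj g⁻¹).toMonoidHom
    simp only [MulEquiv.coe_toMonoidHom, MulAut.conj_apply, inv_inv] at h'
    simpa only [← mul_assoc, inv_mul_cancel, one_mul, inv_mul_cancel_right] using h'
  have hblock : ∀ q ∈ six, ∃ r ∈ six, g * T.Ψ (bd q1 q) * g⁻¹ = T.Ψ (bd q1 r) := fun q hq => by
    obtain ⟨r, hr, e | e⟩ := T.Tw_conj hE hg ⟨q, hq, Or.inr rfl⟩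
    · exfalso
      have c : ∀ s ∈ [qJ, qK], s = r ∨ s = -r := fun s hs => by
        have hs' : s ∈ six := by
          simp only [List.mem_cons, List.not_mem_nil, or_false] at hs
          rcases hs with rfl | rfl
          exacts [hJ, hK]
        refine ((six_commute T hs' hr).1).1 ?_
        rw [← hg1 s hs, ← e]
        exact ((six_commute T hs' hq).2.2).map (MulAut.conj g).toMonoidHom
      have hno : ∀ r ∈ six, ¬ ((qJ = r ∨ qJ = -r) ∧ (qK = r ∨ qK = -r)) := by decide +kernel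
      exact hno r hr ⟨c qJ (by simp), c qK (by simp)⟩
    · exact ⟨r, hr, e⟩
  obtain ⟨r, hr, er⟩ := hblock qJ hJ
  obtain ⟨A, -, hA, hAJ⟩ := six_trans r hr
  have hA1 : qd q1 * qd A = 1 := by rw [hA, hq1, one_mul]
  have e1 := six_conj_eq T hA1 (bd_six hJ).2 (bd_six hr).2 (rfl : qm q1 q1 = qm q1 q1) hAJ
  suffices main3 : ∀ g, Commute g (T.Ψ tD) →
      (∀ q ∈ [qJ, qK], g * T.Ψ (bd q q1) * g⁻¹ = T.Ψ (bd q q1)) →
      g * T.Ψ (bd q1 qJ) * g⁻¹ = T.Ψ (bd q1 qJ) →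
      (∃ r ∈ six, g * T.Ψ (bd q1 qK) * g⁻¹ = T.Ψ (bd q1 r)) → g ∈ T.Ψ.range by
    have hfix : ∀ s ∈ [qJ, qK], T.Ψ (bd q1 A) * T.Ψ (bd s q1) * (T.Ψ (bd q1 A))⁻¹ = T.Ψ (bd s q1) := by
      intro s hs
      have hs' : qd s * qd q1 = 1 := by
        simp only [List.mem_cons, List.not_mem_nil, or_false] at hs
        rcases hs with rfl | rfl
        exacts [(bd_six hJ).1, (bd_six hK).1]
      exact six_conj_eq T hA1 hs' hs' (by rw [(qm_one s).1, (qm_one s).2])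
        (by rw [(qm_one A).1, (qm_one A).2])
    obtain ⟨r', hr', er'⟩ := hblock qK hK
    have hinv : ∀ q ∈ six, ∃ q' ∈ six,
        (T.Ψ (bd q1 A))⁻¹ * T.Ψ (bd q1 q) * T.Ψ (bd q1 A) = T.Ψ (bd q1 q') := by
      have hex : ∀ A : T4, qd A = 1 → ∀ q ∈ six, ∃ q' ∈ six, qm A q' = qm q A := by decide +kernel
      intro q hq
      obtain ⟨q', hq', e'⟩ := hex A hA q hq
      refine ⟨q', hq', ?_⟩
      rw [← six_conj_eq T hA1 (bd_six hq').2 (bd_six hq).2 (rfl : qm q1 q1 = qm q1 q1) e']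
      group
    obtain ⟨r'', hr'', er''⟩ := hinv r' hr'
    have h := main3 ((T.Ψ (bd q1 A))⁻¹ * g) ((commute_of_Ct T (bd_mem_Ct hA1)).inv_left.mul_left hg)
      (fun s hs => by
        rw [show (T.Ψ (bd q1 A))⁻¹ * g * T.Ψ (bd s q1) * ((T.Ψ (bd q1 A))⁻¹ * g)⁻¹ =
          (T.Ψ (bd q1 A))⁻¹ * (g * T.Ψ (bd s q1) * g⁻¹) * T.Ψ (bd q1 A) by group, hg1 s hs]
        conv_lhs => rw [← hfix s hs]
        group)
      (by
        rw [show (T.Ψ (bd q1 A))⁻¹ * g * T.Ψ (bd q1 qJ) * ((T.Ψ (bd q1 A))⁻¹ * g)⁻¹ =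
          (T.Ψ (bd q1 A))⁻¹ * (g * T.Ψ (bd q1 qJ) * g⁻¹) * T.Ψ (bd q1 A) by group, er, ← e1]
        group)
      ⟨r'', hr'', by
        rw [show (T.Ψ (bd q1 A))⁻¹ * g * T.Ψ (bd q1 qK) * ((T.Ψ (bd q1 A))⁻¹ * g)⁻¹ =
          (T.Ψ (bd q1 A))⁻¹ * (g * T.Ψ (bd q1 qK) * g⁻¹) * T.Ψ (bd q1 A) by group, er', er'']⟩
    have := mul_mem (show T.Ψ (bd q1 A) ∈ T.Ψ.range from ⟨_, rfl⟩) h
    rwa [mul_inv_cancel_left] at this
  rintro g hg hg1 hgJ2 ⟨r, hr, er⟩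
  have hnc : ¬ (qJ = r ∨ qJ = -r) := fun h => by
    have hc := ((six_commute T hJ hr).2.1).2 h
    rw [← hgJ2, ← er] at hc
    have h' := hc.map (MulAut.conj g⁻¹).toMonoidHom
    simp only [MulEquiv.coe_toMonoidHom, MulAut.conj_apply, inv_inv] at h'
    simp only [← mul_assoc, inv_mul_cancel, one_mul, inv_mul_cancel_right] at h'
    rcases ((six_commute T hJ hK).2.1).1 h' with e | e
    exacts [hneJK.1 e, hneJK.2.1 e]
  obtain ⟨C, -, hC, hCJ, hCK⟩ := k_fix r hr (fun h => hnc (Or.inl h.symm))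
    (fun h => hnc (Or.inr (by rw [h, hneJK.2.2])))
  have hC1 : qd q1 * qd C = 1 := by rw [hC, hq1, one_mul]
  have h := T.cent_t_fixed hE (g := (T.Ψ (bd q1 C))⁻¹ * g)
    ((commute_of_Ct T (bd_mem_Ct hC1)).inv_left.mul_left hg)
    (fun s hs => by
      have hs' : qd s * qd q1 = 1 := by
        simp only [List.mem_cons, List.not_mem_nil, or_false] at hs
        rcases hs with rfl | rfl
        exacts [(bd_six hJ).1, (bd_six hK).1]
      rw [show (T.Ψ (bd q1 C))⁻¹ * g * T.Ψ (bd s q1) * ((T.Ψ (bd q1 C))⁻¹ * g)⁻¹ =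
        (T.Ψ (bd q1 C))⁻¹ * (g * T.Ψ (bd s q1) * g⁻¹) * T.Ψ (bd q1 C) by group, hg1 s hs]
      conv_lhs => rw [← six_conj_eq T hC1 hs' hs' (by rw [(qm_one s).1, (qm_one s).2] :
        qm q1 s = qm s q1) (by rw [(qm_one C).1, (qm_one C).2] : qm C q1 = qm q1 C)]
      group)
  have hJfix : (T.Ψ (bd q1 C))⁻¹ * g * T.Ψ (bd q1 qJ) * ((T.Ψ (bd q1 C))⁻¹ * g)⁻¹ = T.Ψ (bd q1 qJ) := by
    rw [show (T.Ψ (bd q1 C))⁻¹ * g * T.Ψ (bd q1 qJ) * ((T.Ψ (bd q1 C))⁻¹ * g)⁻¹ =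
      (T.Ψ (bd q1 C))⁻¹ * (g * T.Ψ (bd q1 qJ) * g⁻¹) * T.Ψ (bd q1 C) by group, hgJ2]
    conv_lhs => rw [← six_conj_eq T hC1 (bd_six hJ).2 (bd_six hJ).2 (rfl : qm q1 q1 = qm q1 q1) hCJ]
    group
  have hKimg : (T.Ψ (bd q1 C))⁻¹ * g * T.Ψ (bd q1 qK) * ((T.Ψ (bd q1 C))⁻¹ * g)⁻¹ = T.Ψ (bd q1 qK) ∨
      (T.Ψ (bd q1 C))⁻¹ * g * T.Ψ (bd q1 qK) * ((T.Ψ (bd q1 C))⁻¹ * g)⁻¹ = T.Ψ (bd q1 (cjP qK)) := by
    rw [show (T.Ψ (bd q1 C))⁻¹ * g * T.Ψ (bd q1 qK) * ((T.Ψ (bd q1 C))⁻¹ * g)⁻¹ =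
      (T.Ψ (bd q1 C))⁻¹ * (g * T.Ψ (bd q1 qK) * g⁻¹) * T.Ψ (bd q1 C) by group, er]
    rcases hCK with e | e
    · left
      rw [← six_conj_eq T hC1 (bd_six hK).2 (bd_six hr).2 (rfl : qm q1 q1 = qm q1 q1) e]; group
    · right
      rw [← six_conj_eq T hC1 (bd_six (cjP_facts.1 qK hK)).2 (bd_six hr).2
        (rfl : qm q1 q1 = qm q1 q1) e]; group
  have h' := h (fun s hs => by
    simp only [List.mem_cons, List.not_mem_nil, or_false] at hs
    rcases hs with rfl | rfl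
    exacts [Or.inl hJfix, hKimg]) hKimg
  have := mul_mem (show T.Ψ (bd q1 C) ∈ T.Ψ.range from ⟨_, rfl⟩) h'
  rwa [mul_inv_cancel_left] at this

end CfsgLib.Recog.LFourThree.Both
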