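import Cfsg.Agent.Lib.Recog.LFourThree.TwoEModel
import Cfsg.Agent.Lib.Recog.AltNine.Emb
import Cfsg.Agent.Lib.Recog.AltNine.Local
import Cfsg.Agent.Lib.Solvable.PCore

/-!
The centraliser of the image of `T1 = x₀₂ x₁₃` in a group containing `PSL(4,3)` with controlled
fusion: modulo the element it has the normaliser pattern of `A₉`, and the six case would fuse a
transvection into the Levi complement.
-/

set_option autoImplicit false

namespace CfsgLib.Recog.LFourThree.CentEModel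

open CfsgLib.Block CfsgLib.Block.FourCube
open CfsgLib.Recog.SymNine (Mon act monOne x0)
open CfsgLib.Recog.AltNine (bigV liftM detX monOf)
open CfsgLib.Recog.LFourThree.Ident (T4 mE mE_add mE_zero)

/-- the Levi element of order three -/
def L0 : SL4 := ⟨shapeMat (1, 1, 0, 1) 0, by rw [det_shape]; decide⟩

/-- the abelian group of order 81 as a map -/
def mHom : Multiplicative T4 →* SL4 := MonoidHom.mk' (fun v => mE v.toAdd) fun u v => mE_add u.toAdd v.toAdd

theorem T1_facts : T1 ≠ 1 ∧ T1 ^ 3 = 1 ∧ ((T1 : SL4) : Matrix (Fin 4) (Fin 4) (ZMod 3)).trace = 1 := by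
  decide +kernel

theorem T1_mem : T1 ∈ Cen := mE_mem _

theorem L0_mem : L0 ∈ Cen := Subgroup.mem_centralizer_singleton_iff.2 (Subtype.ext (T1_comm _))

theorem L0_data : liftM (2, false, false, false) = mapFun L0 ∧ mapFun (mE (0, 1, 0, 0)) = bigV x0 ∧
    mapFun T1 = 1 ∧ L0 ^ 3 = 1 := by decide +kernel

theorem mE_scalar : ∀ k : ZMod 3, mE (k, 0, 0, k) = T1 ^ k.val := by decide +kernel

theorem inJ_bigV_mul : ∀ v, ∀ m, detX m = true → InJ (bigV v * liftM m) → m = monOne := by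
  decide +kernel

theorem toBig_center {c : SL4} (hc : c ∈ Subgroup.center SL4) :
    ∃ h : c ∈ Cen, toBig ⟨c, h⟩ = 1 := by
  have hC : c ∈ Cen := Subgroup.mem_centralizer_singleton_iff.2 (Subgroup.mem_center_iff.1 hc T1).symm
  obtain ⟨r, hr, hrc⟩ := Matrix.SpecialLinearGroup.mem_center_iff.1 hc
  refine ⟨hC, ?_⟩
  show mapFun c = 1
  have key : ∀ r : ZMod 3, r ^ 4 = 1 →
      bigV (vecT (tmul (0 : T4) (tinv (r, 0, 0, r)))) * liftM (monG (r, 0, 0, r)) = 1 := by decide +kernel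
  have e : ∀ i j, c.1 i j = if i = j then r else 0 := fun i j => by
    rw [← hrc, Matrix.scalar_apply, Matrix.diagonal_apply]
  have eA : tA c = (r, 0, 0, r) := by simp [tA, e]
  have eB : tB c = 0 := by simp [tB, e]
  rw [mapFun, tX, eA, eB]
  exact key r (by simpa using hr)

/-- an element fixing the cube pointwise -/
theorem split {g : SL4} (hg : g ∈ Cen) (hm : monG (tA g) = monOne) :
    ∃ c ∈ Subgroup.center SL4, g = mE (tX g) * c := by
  refine ⟨(mE (tX g))⁻¹ * g, ?_, (mul_inv_cancel_left _ _).symm⟩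
  have hd := tdet_ne hg
  have e : g.1 = (mE (tX g)).1 * shapeMat (tA g) 0 := by
    rw [mE_shape, shapeMat_mul, (tone_mul _).1, shape hg]
    congr 1
    rw [show tmul tone (0 : T4) = 0 from (tone_mul _).1, zero_add, tX, tmul_assoc,
      (mul_tinv _ hd).2, (tone_mul _).2]
  have h2 : ((mE (tX g))⁻¹ * g).1 = shapeMat (tA g) 0 := by
    rw [Matrix.SpecialLinearGroup.coe_mul, e, ← mul_assoc, ← Matrix.SpecialLinearGroup.coe_mul,
      inv_mul_cancel, Matrix.SpecialLinearGroup.coe_one, one_mul]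
  obtain ⟨r, hr, hA⟩ : ∃ r : ZMod 3, r ^ 4 = 1 ∧ tA g = (r, 0, 0, r) := by
    rcases monG_ker _ hd hm with h | h
    · exact ⟨1, by decide, h⟩
    · exact ⟨-1, by decide, h⟩
  refine Matrix.SpecialLinearGroup.mem_center_iff.2 ⟨r, by simpa using hr, ?_⟩
  rw [h2, hA]
  ext i j
  fin_cases i <;> fin_cases j <;> simp [shapeMat, Matrix.diagonal]

theorem mon_of_inJ {g : Cen} (h : InJ (toBig g)) : monG (tA g.1) = monOne :=
  inJ_bigV_mul _ _ (monG_det _ (tdet_ne g.2)) (by rwa [toBig_apply] at h)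

theorem toBig_eq_one {g : SL4} (hg : g ∈ Cen) (h : toBig ⟨g, hg⟩ = 1) :
    ∃ k : ℕ, ∃ c ∈ Subgroup.center SL4, g = T1 ^ k * c := by
  have hm := mon_of_inJ (g := ⟨g, hg⟩) (by rw [h]; decide +kernel)
  obtain ⟨c, hc, he⟩ := split hg hm
  rw [toBig_apply, hm, monG_one.2, mul_one] at h
  have hv : vecT (tX g) = 0 := by
    rw [← AltNine.vecOf_bigV (vecT (tX g)), h]; decide +kernel
  obtain ⟨k, hk⟩ := vecT_ker _ hv
  exact ⟨k.val, c, hc, by rw [← mE_scalar, ← hk]; exact he⟩

theorem toBig_mE (x : T4) : toBig ⟨mE x, mE_mem x⟩ = bigV (vecT x) := by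
  rw [toBig_apply]
  show bigV (vecT (tX (mE x))) * liftM (monG (tA (mE x))) = _
  rw [(mE_parts x).1, (mE_parts x).2, monG_one.1, monG_one.2, mul_one]

theorem toBig_T1 : toBig ⟨T1, T1_mem⟩ = 1 := L0_data.2.2.1

theorem toBig_z : toBig ⟨mE (0, 1, 0, 0), mE_mem _⟩ = bigV x0 := L0_data.2.1

theorem toBig_L0 : toBig ⟨L0, L0_mem⟩ = liftM (2, false, false, false) := L0_data.1.symm

theorem T1_eq : T1 = mE (1, 0, 0, 1) := rfl

/-- in `A₉` the Levi element of order three is conjugate to the diagonal of the cube -/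
theorem nine_conj : ∀ v : SymNine.V, (AltNine.nu v * AltNine.piN (2, false, false, false) (by decide +kernel)) ^ 3 = 1 →
    ∃ u : SymNine.V, AltNine.nu u * (AltNine.nu v * AltNine.piN (2, false, false, false) (by decide +kernel)) *
      (AltNine.nu u)⁻¹ = AltNine.piN (2, false, false, false) (by decide +kernel) := by
  decide +kernel

/-- the exchange of blocks and points -/
def swapGrid : AltNine.A9 :=
  ⟨Equiv.swap 1 3 * Equiv.swap 2 6 * Equiv.swap 5 7 * (Equiv.swap 1 2 * Equiv.swap 4 5 * Equiv.swap 7 8),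
    by simp [Equiv.Perm.mem_alternatingGroup]⟩

theorem grid_conj :
    swapGrid * AltNine.piN (2, false, false, false) (by decide +kernel) * swapGrid⁻¹ = AltNine.nu x0 := by
  decide +kernel

universe u

attribute [local irreducible] toBig mE tA tX L0 T1

variable {G : Type u} [Group G] [Finite G]

set_option maxHeartbeats 1200000 in
/-- **The centraliser of `x₀₂ x₁₃` in the case of two classes.** -/
theorem centralizer_le (Ψ : SL4 →* G) (hker : Ψ.ker = Subgroup.center SL4)
    (hN : Subgroup.normalizer ((Ψ.comp mHom).range : Set G) ≤ Ψ.range)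
    (hsig : ∀ K : Subgroup G, (Nat.card K).Coprime 3 →
      (∀ v : T4, ∀ k ∈ K, Ψ (mE v) * k * (Ψ (mE v))⁻¹ ∈ K) → K = ⊥)
    (hne : ∀ k : Fin 3, ¬ IsConj (Ψ (mE (0, 1, 0, 0))) (Ψ (L0 * T1 ^ (k : ℕ)))) :
    Subgroup.centralizer {Ψ T1} ≤ Ψ.range := by
  classical
  have h3p : Fact (Nat.Prime 3) := ⟨Nat.prime_three⟩
  have memker : ∀ a b : SL4, Ψ a = Ψ b → ∃ c ∈ Subgroup.center SL4, a = b * c := fun a b h =>
    ⟨b⁻¹ * a, hker ▸ (by simp [MonoidHom.mem_ker, h]), (mul_inv_cancel_left b a).symm⟩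
  set Cg := Subgroup.centralizer {Ψ T1} with hCg
  have hT : Ψ T1 ∈ Cg := Subgroup.mem_centralizer_singleton_iff.2 rfl
  let Z : Subgroup Cg := Subgroup.zpowers ⟨Ψ T1, hT⟩
  have hZc : Z ≤ Subgroup.center Cg := Subgroup.zpowers_le.2 (Subgroup.mem_center_iff.2 fun x =>
    Subtype.ext (Subgroup.mem_centralizer_singleton_iff.1 x.2))
  have : Z.Normal := ⟨fun n hn g => by
    rw [Subgroup.mem_center_iff.1 (hZc hn) g, mul_inv_cancel_right]; exact hn⟩
  have hT3 : (⟨Ψ T1, hT⟩ : Cg) ^ 3 = 1 := Subtype.ext (by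
    rw [Subgroup.coe_pow, Subgroup.coe_one]
    show Ψ T1 ^ 3 = 1
    rw [← map_pow, T1_facts.2.1, map_one])
  have hord : orderOf (⟨Ψ T1, hT⟩ : Cg) = 3 := orderOf_eq_prime hT3 fun h => by
    obtain ⟨c, hc, he⟩ := memker T1 1 (by rw [map_one]; exact congrArg Subtype.val h)
    rw [one_mul] at he
    obtain ⟨r, -, hr⟩ := Matrix.SpecialLinearGroup.mem_center_iff.1 hc
    have := congrArg (fun M : SL4 => M.1 0 2) he
    simp only [← hr] at this
    simp [T1, Ident.mE_coe, Matrix.scalar_apply] at this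
  have hZcard : Nat.card Z = 3 := by rw [Nat.card_zpowers, hord]
  let toC : Cen →* Cg := (Ψ.comp Cen.subtype).codRestrict Cg fun g =>
    Subgroup.mem_centralizer_singleton_iff.2 (by
      show Ψ g.1 * Ψ T1 = Ψ T1 * Ψ g.1
      rw [← map_mul, ← map_mul, Subgroup.mem_centralizer_singleton_iff.1 g.2])
  let mk := QuotientGroup.mk' Z
  let π : Cen →* Cg ⧸ Z := mk.comp toC
  have memZ : ∀ {x : Cg}, mk x = 1 → ∃ n : ℕ, (x : G) = Ψ T1 ^ n := fun {x} hx => by
    obtain ⟨n, hn⟩ := (isOfFinOrder_of_finite _).mem_powers_iff_mem_zpowers.2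
      ((QuotientGroup.eq_one_iff x).1 hx)
    exact ⟨n, (congrArg Subtype.val hn).symm⟩
  have hπker : π.ker = toBig.ker := by
    ext g
    refine ⟨fun hg => ?_, fun hg => ?_⟩
    · obtain ⟨n, hn⟩ := memZ (x := toC g) hg
      obtain ⟨c, hc, he⟩ := memker g.1 (T1 ^ n) (by rw [map_pow]; exact hn)
      obtain ⟨hcC, hc1⟩ := toBig_center hc
      rw [MonoidHom.mem_ker, show g = (⟨T1, T1_mem⟩ : Cen) ^ n * ⟨c, hcC⟩ from Subtype.ext he,
        map_mul, map_pow, hc1, toBig_T1, one_pow, one_mul]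
    · obtain ⟨k, c, hc, he⟩ := toBig_eq_one g.2 hg
      refine (QuotientGroup.eq_one_iff (toC g)).2 (Subgroup.mem_zpowers_iff.2 ⟨k, Subtype.ext ?_⟩)
      show ((⟨Ψ T1, hT⟩ : Cg) ^ (k : ℤ) : G) = Ψ g.1
      have hc1 : Ψ c = 1 := MonoidHom.mem_ker.1 (hker.symm ▸ hc)
      rw [zpow_natCast, he, map_mul, map_pow, hc1, mul_one]
  let φJ : Multiplicative T4 →* Cg ⧸ Z :=
    π.comp (mHom.codRestrict Cen fun v => mE_mem v.toAdd)
  let J : Subgroup (Cg ⧸ Z) := φJ.range
  have φJ_apply : ∀ v : T4, φJ (Multiplicative.ofAdd v) = π ⟨mE v, mE_mem v⟩ := fun _ => rfl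
  have hJiff : ∀ g : Cen, π g ∈ J ↔ InJ (toBig g) := by
    intro g
    refine ⟨?_, fun h => ?_⟩
    · rintro ⟨v, hv⟩
      have hv' : π g = π ⟨mE v.toAdd, mE_mem _⟩ := hv.symm.trans (φJ_apply v.toAdd)
      have h1 : g⁻¹ * ⟨mE v.toAdd, mE_mem _⟩ ∈ toBig.ker := by
        rw [← hπker, MonoidHom.mem_ker, map_mul, map_inv, inv_mul_eq_one]; exact hv'
      rw [MonoidHom.mem_ker, map_mul, map_inv, inv_mul_eq_one] at h1
      rw [h1, toBig_mE]
      exact AltNine.bigV_inJ _
    · obtain ⟨c, hc, he⟩ := split g.2 (mon_of_inJ h)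
      obtain ⟨hcC, hc1⟩ := toBig_center hc
      refine ⟨Multiplicative.ofAdd (tX g.1), ?_⟩
      have : (⟨c, hcC⟩ : Cen) ∈ π.ker := by rw [hπker]; exact hc1
      have hgm : π g = π (⟨mE (tX g.1), mE_mem _⟩ * ⟨c, hcC⟩) := congrArg π (Subtype.ext he)
      rw [φJ_apply, hgm, map_mul π, MonoidHom.mem_ker.1 this, mul_one]
  have hJle : J ≤ π.range := by rintro _ ⟨v, rfl⟩; exact ⟨_, rfl⟩
  have hH : π.range = Subgroup.normalizer (J : Set (Cg ⧸ Z)) := by
    refine le_antisymm ?_ ?_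
    · rintro _ ⟨g, rfl⟩
      have : Finite (J : Set (Cg ⧸ Z)) := Subtype.finite
      refine Subgroup.mem_normalizer_fintype fun n hn => ?_
      obtain ⟨m, rfl⟩ := hJle hn
      rw [← map_inv, ← map_mul, ← map_mul, SetLike.mem_coe, hJiff, map_mul, map_mul, map_inv,
        ← AltNine.bigV_vecOf' ((hJiff m).1 hn), AltNine.bigV_conj]
      exact AltNine.bigV_inJ _
    · intro y hy
      obtain ⟨g, rfl⟩ := QuotientGroup.mk'_surjective Z y
      have hgn : (g : G) ∈ Subgroup.normalizer ((Ψ.comp mHom).range : Set G) := by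
        have : Finite ((Ψ.comp mHom).range : Set G) := Subtype.finite
        refine Subgroup.mem_normalizer_fintype ?_
        rintro _ ⟨v, rfl⟩
        obtain ⟨w, hw⟩ := (Subgroup.mem_normalizer_iff.1 hy (φJ v)).1 ⟨v, rfl⟩
        have hmk : mk ((toC ⟨mE w.toAdd, mE_mem _⟩)⁻¹ * (g * toC ⟨mE v.toAdd, mE_mem _⟩ * g⁻¹)) = 1 := by
          rw [map_mul mk, map_inv mk, inv_mul_eq_one]
          exact hw.trans (by simp only [map_mul, map_inv]; rfl)
        obtain ⟨n, hn⟩ := memZ hmk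
        refine ⟨w * Multiplicative.ofAdd (1, 0, 0, 1) ^ n, ?_⟩
        have he : (g : G) * Ψ (mE v.toAdd) * (g : G)⁻¹ = Ψ (mE w.toAdd) * Ψ T1 ^ n :=
          inv_mul_eq_iff_eq_mul.1 hn
        rw [map_mul, map_pow]
        show Ψ (mE w.toAdd) * Ψ (mE (1, 0, 0, 1)) ^ n = _
        rw [← T1_eq]; exact he.symm
      obtain ⟨a, ha⟩ := hN hgn
      have haC : a ∈ Cen := by
        obtain ⟨c, hc, he⟩ := memker (a * T1 * a⁻¹) T1 (by
          rw [map_mul, map_mul, map_inv, ha, mul_inv_eq_iff_eq_mul]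
          exact Subgroup.mem_centralizer_singleton_iff.1 g.2)
        obtain ⟨r, hr, hrc⟩ := Matrix.SpecialLinearGroup.mem_center_iff.1 hc
        have ht := congrArg (fun M : SL4 => M.1.trace) he
        have e1 : (a * T1 * a⁻¹).1.trace = T1.1.trace := by
          rw [Matrix.SpecialLinearGroup.coe_mul, Matrix.trace_mul_comm,
            ← Matrix.SpecialLinearGroup.coe_mul, inv_mul_cancel_left]
        have e2 : (T1 * c).1.trace = r * T1.1.trace := by
          rw [Matrix.SpecialLinearGroup.coe_mul, ← hrc, Matrix.scalar_apply]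
          simp [Matrix.trace, Matrix.mul_diagonal, Finset.sum_mul, mul_comm r]
        have hr1 : r = 1 := by
          rw [e1, e2, T1_facts.2.2, mul_one] at ht; exact ht.symm
        have hc1 : c = 1 := Subtype.ext (by rw [← hrc, hr1, map_one]; rfl)
        rw [hc1, mul_one] at he
        exact Subgroup.mem_centralizer_singleton_iff.2 (mul_inv_eq_iff_eq_mul.1 he)
      exact ⟨⟨a, haC⟩, congrArg mk (Subtype.ext ha : toC ⟨a, haC⟩ = g)⟩
  let e : Four ≃* π.range :=
    ((MulEquiv.subgroupCongr range_toBig.symm).trans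
      (QuotientGroup.quotientKerEquivRange toBig).symm).trans
      ((QuotientGroup.quotientMulEquivOfEq hπker.symm).trans (QuotientGroup.quotientKerEquivRange π))
  have he : ∀ (g : Cen) (a : Four), toBig g = (a : Big) → ((e a : π.range) : Cg ⧸ Z) = π g := by
    intro g a ha
    have h1 : (QuotientGroup.quotientKerEquivRange toBig).symm (MulEquiv.subgroupCongr range_toBig.symm a) =
        (g : Cen ⧸ toBig.ker) := by
      rw [MulEquiv.symm_apply_eq]; exact Subtype.ext ha.symm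
    show ((QuotientGroup.quotientKerEquivRange π) (QuotientGroup.quotientMulEquivOfEq hπker.symm
      ((QuotientGroup.quotientKerEquivRange toBig).symm (MulEquiv.subgroupCongr range_toBig.symm a))) :
        Cg ⧸ Z) = π g
    rw [h1]; rfl
  have exists_pre : ∀ a : Four, ∃ g : Cen, toBig g = (a : Big) := fun a => by
    show (a : Big) ∈ toBig.range; rw [range_toBig]; exact a.2
  let D : AltNine.Cfg (Cg ⧸ Z) :=
    { H := π.range
      J := J
      hH := hH
      e := e
      mem_J := fun a => by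
        obtain ⟨g, hg⟩ := exists_pre a
        rw [he g a hg, hJiff, hg]
      cores := fun x hx _ => by
        set Cx := Subgroup.centralizer {x}
        set Mp : Subgroup Cg := Cx.comap mk
        let q : Mp →* Cx := (mk.comp Mp.subtype).codRestrict Cx fun m => m.2
        have hq : Function.Surjective q := fun y => by
          obtain ⟨m, hm⟩ := QuotientGroup.mk'_surjective Z (y : Cg ⧸ Z)
          exact ⟨⟨m, by show mk m ∈ Cx; rw [hm]; exact y.2⟩, Subtype.ext hm⟩
        have hqk : q.ker = Z.subgroupOf Mp := by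
          ext m
          rw [MonoidHom.mem_ker, Subtype.ext_iff, Subgroup.mem_subgroupOf]
          exact QuotientGroup.eq_one_iff (m : Cg)
        have hZM : Z ≤ Mp := fun z hz => by
          show mk z ∈ Cx
          rw [show mk z = 1 from (QuotientGroup.eq_one_iff z).2 hz]; exact one_mem _
        have hcore : Cfsg.pPrimeCore 3 Mp = ⊥ := by
          set K := Cfsg.pPrimeCore 3 Mp with hK
          have hKn : K.Normal := Cfsg.pPrimeCore_normal 3 Mp
          have hinj : Function.Injective (Cg.subtype.comp Mp.subtype) :=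
            Cg.subtype_injective.comp Mp.subtype_injective
          refine (Subgroup.map_eq_bot_iff_of_injective _ hinj).1 (hsig _ ?_ ?_)
          · rw [Subgroup.card_map_of_injective hinj]
            exact CfsgLib.Solvable.pPrimeCore_coprime 3
          · rintro v _ ⟨k, hk, rfl⟩
            have hvM : toC ⟨mE v, mE_mem v⟩ ∈ Mp := by
              show π ⟨mE v, mE_mem v⟩ ∈ Cx
              obtain ⟨w, rfl⟩ := hx
              refine Subgroup.mem_centralizer_singleton_iff.2 ?_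
              rw [← φJ_apply, ← map_mul, ← map_mul, mul_comm]
            exact ⟨⟨_, hvM⟩ * k * ⟨_, hvM⟩⁻¹, hKn.conj_mem k hk _, rfl⟩
        have hb := AltNine.pPrimeCore_quotient_central Nat.prime_three (Z.subgroupOf Mp)
          (fun z hz => Subgroup.mem_center_iff.2 fun m => Subtype.ext
            (Subgroup.mem_center_iff.1 (hZc (Subgroup.mem_subgroupOf.1 hz)) (m : Cg)))
          (by rw [Nat.card_congr (Subgroup.subgroupOfEquivOfLe hZM).toEquiv, hZcard]) hcore
        rw [← CfsgLib.Solvable.map_pPrimeCore_equiv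
          ((QuotientGroup.quotientMulEquivOfEq hqk.symm).trans
            (QuotientGroup.quotientKerEquivOfSurjective q hq)) 3, hb, Subgroup.map_bot] }
  rcases D.local_or_six with hloc | hsix
  · intro g hg
    have hmem : mk ⟨g, hg⟩ ∈ π.range := by
      rw [show π.range = ⊤ from D.eq_top_of_local hloc]; exact Subgroup.mem_top _
    obtain ⟨a, ha⟩ := hmem
    obtain ⟨n, hn⟩ := memZ (x := (toC a)⁻¹ * ⟨g, hg⟩)
      (by rw [map_mul mk, map_inv mk, inv_mul_eq_one]; exact ha)
    refine ⟨a.1 * T1 ^ n, ?_⟩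
    rw [map_mul, map_pow]
    exact (inv_mul_eq_iff_eq_mul.1 hn).symm
  · exfalso
    obtain ⟨F⟩ := D.exists_frame hsix
    obtain ⟨E⟩ := F.exists_emb
    have md : detX (2, false, false, false) = true := by decide +kernel
    have hd := AltNine.liftM_spec _ md
    have hel : D.el (liftM (2, false, false, false)) hd.1 = π ⟨L0, L0_mem⟩ :=
      he ⟨L0, L0_mem⟩ ⟨_, hd.1⟩ toBig_L0
    have hptz : D.pt x0 = π ⟨mE (0, 1, 0, 0), mE_mem _⟩ :=
      he ⟨_, mE_mem _⟩ ⟨_, AltNine.bigV_ev x0⟩ toBig_z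
    have hact : SymNine.Acts D.pt (D.el _ hd.1) (2, false, false, false) := fun v =>
      (D.acts ⟨_, D.el_mem _ hd.1⟩ v).trans
        (congrArg D.pt (congrArg (fun m => act m v) ((congrArg monOf (D.tr_el _ hd.1 _)).trans hd.2)))
    obtain ⟨w, hw⟩ := D.cube.eq_pt_mul_of_acts hact (E.acts_pi _ md)
    replace hw : π ⟨L0, L0_mem⟩ = E.φ (AltNine.nu w * AltNine.piN _ md) := by
      rw [map_mul, E.map_pt, ← hel]; exact hw.symm
    have hcube : (AltNine.nu w * AltNine.piN _ md) ^ 3 = 1 := E.inj (by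
      rw [map_pow, map_one, ← hw, ← map_pow,
        show (⟨L0, L0_mem⟩ : Cen) ^ 3 = 1 from Subtype.ext L0_data.2.2.2, map_one])
    obtain ⟨u, hu⟩ := nine_conj w hcube
    have hc : IsConj (π ⟨L0, L0_mem⟩) (π ⟨mE (0, 1, 0, 0), mE_mem _⟩) := by
      rw [hw, ← hptz, ← E.map_pt]
      exact (E.φ.map_isConj (isConj_iff.2 ⟨AltNine.nu u, hu⟩)).trans
        (E.φ.map_isConj (isConj_iff.2 ⟨swapGrid, grid_conj⟩))
    obtain ⟨y, hy⟩ := isConj_iff.1 hc.symm
    obtain ⟨g, rfl⟩ := QuotientGroup.mk'_surjective Z y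
    obtain ⟨n, hn⟩ := memZ (x := (toC ⟨L0, L0_mem⟩)⁻¹ * (g * toC ⟨mE (0, 1, 0, 0), mE_mem _⟩ * g⁻¹))
      (by rw [map_mul mk, map_inv mk, inv_mul_eq_one, map_mul, map_mul, map_inv]; exact hy.symm)
    refine hne ⟨n % 3, Nat.mod_lt _ (by norm_num)⟩ (isConj_iff.2 ⟨(g : G), ?_⟩)
    show _ = Ψ (L0 * T1 ^ (n % 3))
    rw [← pow_eq_pow_mod n T1_facts.2.1, map_mul, map_pow]
    exact inv_mul_eq_iff_eq_mul.1 hn

end CfsgLib.Recog.LFourThree.CentEModel
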