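import Cfsg.Agent.Lib.Recog.LFourThree.IdentModel
import Cfsg.Agent.Lib.Recog.AltNine.Model

/-!
The centraliser in `SL(4,3)` of `T1 = x₀₂ x₁₃` and its map onto the model `3^3 : S₄`.
Two-by-two matrices are quadruples `(a, b, c, d)`.
-/

set_option autoImplicit false
set_option maxRecDepth 4000

namespace CfsgLib.Recog.LFourThree.CentEModel

open CfsgLib.Block CfsgLib.Block.FourCube
open CfsgLib.Recog.LFourThree.Ident (T4 mE mE_coe mE_add mE_zero)
open CfsgLib.Recog.SymNine (Mon act comp monOne src x0)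
open CfsgLib.Recog.AltNine (bigV bigV_add bigV_ev liftM detX monOf bigV_conj liftM_spec)

/-- the product of two matrices -/
def tmul (x y : T4) : T4 :=
  (x.1 * y.1 + x.2.1 * y.2.2.1, x.1 * y.2.1 + x.2.1 * y.2.2.2,
    x.2.2.1 * y.1 + x.2.2.2 * y.2.2.1, x.2.2.1 * y.2.1 + x.2.2.2 * y.2.2.2)

/-- the determinant -/
def tdet (x : T4) : ZMod 3 := x.1 * x.2.2.2 - x.2.1 * x.2.2.1

/-- the identity matrix -/
def tone : T4 := (1, 0, 0, 1)

/-- the inverse of an invertible matrix -/
def tinv (x : T4) : T4 :=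
  (tdet x * x.2.2.2, -(tdet x * x.2.1), -(tdet x * x.2.2.1), tdet x * x.1)

/-- the orthogonal basis of the matrices of trace zero -/
def tb : Fin 3 → T4 := ![(0, -1, 1, 0), (1, 1, 1, -1), (-1, 1, 1, 1)]

/-- the coordinates of a matrix modulo scalars -/
def vecT (x : T4) : SymNine.V :=
  let f : Fin 3 → ZMod 3 := fun i => (tmul x (tb i)).1 + (tmul x (tb i)).2.2.2
  (f 0, f 1, f 2)

/-- the image of a basis element under conjugation -/
def tconj (x : T4) (i : Fin 3) : T4 := tmul (tinv x) (tmul (tb i) x)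

/-- the index of the image -/
def idx (x : T4) (i : Fin 3) : Fin 3 :=
  if tconj x i = tb 0 ∨ tconj x i = -tb 0 then 0
  else if tconj x i = tb 1 ∨ tconj x i = -tb 1 then 1 else 2

/-- the sign of the image -/
def sgn (x : T4) (i : Fin 3) : Bool :=
  decide (tconj x i = -tb (idx x i))

/-- the monomial map of an invertible matrix -/
def monG (x : T4) : Mon :=
  (((List.finRange 6).find? fun k => (List.finRange 3).all fun i => src k i == idx x i).getD 0,
    sgn x 0, sgn x 1, sgn x 2)

theorem monG_det : ∀ x, tdet x ≠ 0 → detX (monG x) = true := by decide +kernel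

theorem monG_mul : ∀ x, tdet x ≠ 0 → ∀ y, tdet y ≠ 0 →
    monG (tmul x y) = comp (monG x) (monG y) := by
  decide +kernel

theorem liftM_comp : ∀ m, detX m = true → ∀ n, detX n = true →
    liftM (comp m n) = liftM m * liftM n := by decide +kernel

theorem equivariant : ∀ a, tdet a ≠ 0 → ∀ x,
    vecT (tmul (tmul a x) (tinv a)) = act (monG a) (vecT x) := by decide +kernel

theorem tinv_mul : ∀ x, tdet x ≠ 0 → ∀ y, tdet y ≠ 0 →
    tinv (tmul x y) = tmul (tinv y) (tinv x) := by decide +kernel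

theorem mul_tinv : ∀ x, tdet x ≠ 0 → tmul x (tinv x) = tone ∧ tmul (tinv x) x = tone := by
  decide +kernel

theorem monG_onto : ∀ m, detX m = true → ∃ a, tdet a ≠ 0 ∧ monG a = m := by decide +kernel

theorem monG_ker : ∀ a, tdet a ≠ 0 → monG a = monOne → a = tone ∨ a = -tone := by decide +kernel

theorem vecT_onto : ∀ v : SymNine.V, ∃ x, vecT x = v := by decide +kernel

theorem vecT_ker : ∀ x, vecT x = 0 → ∃ k : ZMod 3, x = (k, 0, 0, k) := by decide +kernel

theorem big_split : ∀ a p, Ev (⟨a, p⟩ : Big) →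
    InJ ((⟨a, p⟩ : Big) * (liftM (monOf ⟨a, p⟩))⁻¹) := by decide +kernel

theorem monOf_bigV_mul : ∀ v, ∀ m, detX m = true → monOf (bigV v * liftM m) = m := by decide +kernel

theorem sq_eq : ∀ a, tdet a ≠ 0 → tdet a * tdet a = 1 := by decide +kernel

theorem monG_one : monG tone = monOne ∧ liftM monOne = 1 := by decide +kernel

theorem vecT_scal : ∀ k : ZMod 3, vecT (k, 0, 0, k) = 0 := by decide +kernel

theorem bigV_zero : bigV 0 = 1 := by decide +kernel

/-- the element `x₀₂ x₁₃` -/
def T1 : SL4 := mE (1, 0, 0, 1)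

/-- its centraliser -/
def Cen : Subgroup SL4 := Subgroup.centralizer {T1}

/-- the upper left block -/
def tA (g : SL4) : T4 := (g.1 0 0, g.1 0 1, g.1 1 0, g.1 1 1)

/-- the upper right block -/
def tB (g : SL4) : T4 := (g.1 0 2, g.1 0 3, g.1 1 2, g.1 1 3)

/-- the matrix of a centralising element -/
def shapeMat (a b : T4) : Matrix (Fin 4) (Fin 4) (ZMod 3) :=
  !![a.1, a.2.1, b.1, b.2.1; a.2.2.1, a.2.2.2, b.2.2.1, b.2.2.2;
    0, 0, a.1, a.2.1; 0, 0, a.2.2.1, a.2.2.2]

theorem shape {g : SL4} (hg : g ∈ Cen) : g.1 = shapeMat (tA g) (tB g) := by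
  have h : g * T1 = T1 * g := Subgroup.mem_centralizer_singleton_iff.1 hg
  have h' : ∀ i j, (g.1 * T1.1) i j = (T1.1 * g.1) i j := fun i j => by
    rw [← Matrix.SpecialLinearGroup.coe_mul, h, Matrix.SpecialLinearGroup.coe_mul]
  have a00 := h' 0 2
  have a01 := h' 0 3
  have a10 := h' 1 2
  have a11 := h' 1 3
  have c00 := h' 0 0
  have c01 := h' 0 1
  have c10 := h' 1 0
  have c11 := h' 1 1
  simp only [Matrix.mul_apply, Fin.sum_univ_four, T1, mE_coe] at a00 a01 a10 a11 c00 c01 c10 c11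
  simp at a00 a01 a10 a11 c00 c01 c10 c11
  have d00 : g.1 2 2 = g.1 0 0 := by linear_combination -a00
  have d01 : g.1 2 3 = g.1 0 1 := by linear_combination -a01
  have d10 : g.1 3 2 = g.1 1 0 := by linear_combination -a10
  have d11 : g.1 3 3 = g.1 1 1 := by linear_combination -a11
  ext i j
  fin_cases i <;> fin_cases j <;> simp [shapeMat, tA, tB, *]

theorem det_shape : ∀ a, (shapeMat a 0).det = tdet a * tdet a := by decide +kernel

theorem shapeMat_mul (a b a' b' : T4) :
    shapeMat a b * shapeMat a' b' = shapeMat (tmul a a') (tmul a b' + tmul b a') := by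
  ext i j
  fin_cases i <;> fin_cases j <;>
    simp [shapeMat, Matrix.mul_apply, Fin.sum_univ_four, tmul] <;> ring

theorem tmul_assoc (x y z : T4) : tmul (tmul x y) z = tmul x (tmul y z) := by
  simp only [tmul, Prod.mk.injEq]; exact ⟨by ring, by ring, by ring, by ring⟩

theorem tadd_mul (x y z : T4) : tmul (x + y) z = tmul x z + tmul y z := by
  simp only [tmul, Prod.mk_add_mk, Prod.fst_add, Prod.snd_add, Prod.mk.injEq]
  exact ⟨by ring, by ring, by ring, by ring⟩

theorem tone_mul (x : T4) : tmul tone x = x ∧ tmul x tone = x := by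
  simp [tmul, tone]

theorem vecT_add (x y : T4) : vecT (x + y) = vecT x + vecT y := by
  simp only [vecT, tadd_mul, Prod.mk_add_mk, Prod.fst_add, Prod.snd_add, Prod.mk.injEq]
  exact ⟨by ring, by ring, by ring⟩

theorem tA_mul {g h : SL4} (hg : g ∈ Cen) (hh : h ∈ Cen) :
    tA (g * h) = tmul (tA g) (tA h) ∧ tB (g * h) = tmul (tA g) (tB h) + tmul (tB g) (tA h) := by
  have e : (g * h).1 = shapeMat (tmul (tA g) (tA h)) (tmul (tA g) (tB h) + tmul (tB g) (tA h)) := by
    rw [Matrix.SpecialLinearGroup.coe_mul, shape hg, shape hh, shapeMat_mul]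
  constructor
  · show ((g * h).1 0 0, (g * h).1 0 1, (g * h).1 1 0, (g * h).1 1 1) = _
    rw [e]; rfl
  · show ((g * h).1 0 2, (g * h).1 0 3, (g * h).1 1 2, (g * h).1 1 3) = _
    rw [e]; rfl

theorem tdet_ne {g : SL4} (hg : g ∈ Cen) : tdet (tA g) ≠ 0 := by
  obtain ⟨e, -⟩ := tA_mul hg (inv_mem hg)
  intro h0
  have h1 : tdet (tA (g * g⁻¹)) = 0 := by
    rw [e]
    generalize tA g = a at h0
    generalize tA g⁻¹ = b
    simp only [tdet, tmul] at h0 ⊢
    linear_combination (b.1 * b.2.2.2 - b.2.1 * b.2.2.1) * h0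
  rw [mul_inv_cancel] at h1
  exact absurd h1 (by decide +kernel)

/-- the translation part -/
def tX (g : SL4) : T4 := tmul (tB g) (tinv (tA g))

/-- the value of the map onto the model -/
def mapFun (g : SL4) : Big := bigV (vecT (tX g)) * liftM (monG (tA g))

theorem mapFun_mul {g h : SL4} (hg : g ∈ Cen) (hh : h ∈ Cen) :
    mapFun (g * h) = mapFun g * mapFun h := by
  obtain ⟨ea, eb⟩ := tA_mul hg hh
  have dg := tdet_ne hg
  have dh := tdet_ne hh
  have ex : tX (g * h) = tmul (tmul (tA g) (tX h)) (tinv (tA g)) + tX g := by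
    rw [tX, ea, eb, tinv_mul _ dg _ dh, tadd_mul]
    congr 1
    · simp only [tX, tmul_assoc]
    · rw [tX, tmul_assoc (tB g), ← tmul_assoc (tA h), (mul_tinv _ dh).1, (tone_mul _).1]
  rw [mapFun, mapFun, mapFun, ex, ea, monG_mul _ dg _ dh, liftM_comp _ (monG_det _ dg) _ (monG_det _ dh),
    vecT_add, equivariant _ dg, add_comm, bigV_add]
  have hc := bigV_conj (liftM (monG (tA g))) (vecT (tX h))
  rw [(liftM_spec _ (monG_det _ dg)).2] at hc
  rw [← hc]; group

/-- the map onto the model -/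
def toBig : Cen →* Big := MonoidHom.mk' (fun g => mapFun g.1) fun g h => mapFun_mul g.2 h.2

theorem toBig_apply (g : Cen) : toBig g = bigV (vecT (tX g.1)) * liftM (monG (tA g.1)) := rfl

theorem mE_shape : ∀ x, (mE x).1 = shapeMat tone x := by decide +kernel

theorem mE_parts : ∀ x, tA (mE x) = tone ∧ tX (mE x) = x := by decide +kernel

theorem mE_mem (x : T4) : mE x ∈ Cen :=
  Subgroup.mem_centralizer_singleton_iff.2 (by rw [T1, ← mE_add, ← mE_add, add_comm])

theorem T1_comm : ∀ a, shapeMat a 0 * T1.1 = T1.1 * shapeMat a 0 := by decide +kernel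

theorem range_toBig : toBig.range = Four := by
  refine le_antisymm ?_ ?_
  · rintro _ ⟨g, rfl⟩
    rw [toBig_apply]
    exact mul_mem (show bigV _ ∈ Four from bigV_ev _)
      (show liftM _ ∈ Four from (liftM_spec _ (monG_det _ (tdet_ne g.2))).1)
  · intro q hq
    have hd : detX (monOf q) = true := AltNine.detX_monOf q.left q.right hq
    obtain ⟨a, ha, ham⟩ := monG_onto (monOf q) hd
    obtain ⟨x, hx⟩ := vecT_onto (AltNine.vecOf (q * (liftM (monOf q))⁻¹))
    let g : SL4 := ⟨shapeMat a 0, (det_shape a).trans (sq_eq _ ha)⟩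
    have hgc : g ∈ Cen := Subgroup.mem_centralizer_singleton_iff.2 (Subtype.ext (T1_comm a))
    have hgA : tA g = a := rfl
    have hgX : tX g = 0 := by
      show tmul (0 : T4) _ = 0
      simp [tmul]
    refine ⟨⟨mE x, mE_mem x⟩ * ⟨g, hgc⟩, ?_⟩
    rw [map_mul, toBig_apply, toBig_apply, (mE_parts x).1, (mE_parts x).2, monG_one.1, monG_one.2,
      hx, hgA, hgX, AltNine.bigV_vecOf' (big_split q.left q.right hq), ham,
      show vecT (0 : T4) = 0 from vecT_scal 0, bigV_zero, mul_one, one_mul, inv_mul_cancel_right]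

end CfsgLib.Recog.LFourThree.CentEModel
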