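import Cfsg.Agent.Lib.Recog.LFourThree.TwoBase
import Cfsg.Agent.Lib.Recog.LFourThree.Base
import Cfsg.Agent.Lib.Recog.LFourThree.FusionModel

/-!
The standing hypotheses of the second case from a base, an extension to `SL(4,3)` and the separation
of conjugates in the extraspecial group.
-/

set_option autoImplicit false

namespace CfsgLib.Recog.LFourThree.Both

open Subgroup Matrix

universe u

theorem tv_outer {x : SL4} (h : Tv x) :
    ∃ a b : Fin 4 → ZMod 3, (x : M4) - 1 = Matrix.vecMulVec a b := by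
  by_cases h0 : (x : M4) - 1 = 0
  · refine ⟨0, 0, ?_⟩
    rw [h0]; ext i j; simp [Matrix.vecMulVec_apply]
  · obtain ⟨i, j, hij⟩ : ∃ i j, ((x : M4) - 1) i j ≠ 0 := by
      by_contra hc
      push_neg at hc
      exact h0 (Matrix.ext hc)
    refine ⟨fun k => ((x : M4) - 1) k j * ((x : M4) - 1) i j, fun l => ((x : M4) - 1) i l, ?_⟩
    ext k l
    rw [Matrix.vecMulVec_apply]
    have h1 := h k l i j
    have h2 := sq_one _ hij
    linear_combination ((x : M4) - 1) i j * h1 - ((x : M4) - 1) k l * h2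

theorem tv_of_outer {x : SL4} {a b : Fin 4 → ZMod 3} (h : (x : M4) - 1 = Matrix.vecMulVec a b) :
    Tv x := by
  intro i j k l
  rw [h]
  simp only [Matrix.vecMulVec_apply]
  ring

theorem tv_conj {x : SL4} (h : Tv x) (g : SL4) : Tv (g * x * g⁻¹) := by
  obtain ⟨a, b, hab⟩ := tv_outer h
  obtain ⟨gi, hgi⟩ : ∃ gi : SL4, gi = g⁻¹ := ⟨_, rfl⟩
  rw [← hgi]
  refine tv_of_outer (a := (g : M4) *ᵥ a) (b := b ᵥ* (gi : M4)) ?_
  have h1 : (g : M4) * (gi : M4) = 1 := by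
    rw [← Matrix.SpecialLinearGroup.coe_mul, hgi, mul_inv_cancel, Matrix.SpecialLinearGroup.coe_one]
  rw [Matrix.SpecialLinearGroup.coe_mul, Matrix.SpecialLinearGroup.coe_mul]
  calc (g : M4) * (x : M4) * (gi : M4) - 1 = (g : M4) * ((x : M4) - 1) * (gi : M4) := by
        rw [Matrix.mul_sub, Matrix.sub_mul, Matrix.mul_one, h1]
    _ = _ := by rw [hab, Matrix.mul_vecMulVec, Matrix.vecMulVec_mul]

theorem tv_Em {x : Pm} (hx : x ∈ Em) : Tv x.1 := by
  have h := mem_patGroup.1 (Subgroup.mem_subgroupOf.1 hx)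
  refine tv_of_outer (a := Pi.single 0 1) (b := fun j => ((x.1 : M4) - 1) 0 j) ?_
  ext i j
  rw [Matrix.vecMulVec_apply]
  by_cases hi : i = 0
  · subst hi; simp
  · have := h i j (by simp [patE, hi])
    simp [Pi.single_apply, hi, Matrix.sub_apply, Matrix.one_apply, this]

theorem tv_Fm {x : Pm} (hx : x ∈ Fm) : Tv x.1 := by
  have h := mem_patGroup.1 (Subgroup.mem_subgroupOf.1 hx)
  refine tv_of_outer (a := fun i => ((x.1 : M4) - 1) i 3) (b := Pi.single 3 1) ?_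
  ext i j
  rw [Matrix.vecMulVec_apply]
  by_cases hj : j = 3
  · subst hj; simp
  · have := h i j (by simp [patF, hj])
    simp [Pi.single_apply, hj, Matrix.sub_apply, Matrix.one_apply, this]

/-- exchanges the first two coordinates -/
def m01 : SL4 := ⟨!![0, 1, 0, 0; -1, 0, 0, 0; 0, 0, 1, 0; 0, 0, 0, 1], by decide +kernel⟩

theorem m01_conj : ∀ c d f : ZMod 3,
    m01 * mkS (0, 0, c, d, 0, f) = mkS (0, d, 0, 0, -c, f) * m01 := by decide +kernel

variable {G : Type u} [Group G] (B : Base G) (Ψ : SL4 →* G)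

/-- Elements of the common subgroup conjugate to the centre are transvections. -/
theorem tv_of_conj (hext : ∀ x : Pm, Ψ x = B.ψ x)
    (hsep : ∀ x : Pm, x ∈ Qm → IsConj (B.ψ zP) (B.ψ x) → x ∈ Em ∨ x ∈ Fm)
    {x : Pm} (hx : x ∈ Cm) {g : G} (hg : g * B.ψ zP * g⁻¹ = B.ψ x) : Tv x.1 := by
  have h3 : x ^ 3 = 1 := B.inj (by
    rw [map_pow, ← hg, conj_pow, ← map_pow, zP_pow.1, map_one, mul_one, mul_inv_cancel])
  -- transvections among the conjugates inside the extraspecial group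
  have hin : ∀ (m : SL4) (y : Pm), y ∈ Qm → m * x.1 = y.1 * m → y ∈ Em ∨ y ∈ Fm := by
    intro m y hy h
    refine hsep y hy (isConj_iff.2 ⟨Ψ m * g, ?_⟩)
    calc Ψ m * g * B.ψ zP * (Ψ m * g)⁻¹ = Ψ m * (g * B.ψ zP * g⁻¹) * (Ψ m)⁻¹ := by group
      _ = Ψ (m * x.1) * (Ψ m)⁻¹ := by rw [hg, ← hext, map_mul]
      _ = B.ψ y := by rw [h, map_mul, hext, mul_inv_cancel_right]
  have hback : ∀ (m : SL4) (y : Pm), m * x.1 = y.1 * m → Tv y.1 → Tv x.1 := by
    intro m y h ht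
    have h' := tv_conj ht m⁻¹
    rwa [inv_inv, mul_assoc, ← h, inv_mul_cancel_left] at h'
  have hQ : ∀ (m : SL4) (y : Pm), y ∈ Qm → m * x.1 = y.1 * m → Tv x.1 := fun m y hy h =>
    hback m y h ((hin m y hy h).elim tv_Em tv_Fm)
  obtain ⟨c, hc, hcS⟩ := exists_conj_Sm hx h3
  obtain ⟨⟨a, b, e₀, d, e, f⟩, hp⟩ := exists_sP hcS
  have hmove : ∀ q y : Pm, q * x * q⁻¹ = y → q.1 * x.1 = y.1 * q.1 := fun q y h => by
    rw [← Subgroup.coe_mul, ← Subgroup.coe_mul, ← h, inv_mul_cancel_right]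
  by_cases hd : d = 0
  · subst hd
    exact hQ c.1 _ sP_Qm (hmove c _ hp)
  have hcube : a * d * f = 0 := cube_coords (b := b) (c := e₀) (e := e) (by
    rw [← hp, conj_pow, h3, mul_one, mul_inv_cancel])
  obtain ⟨q, hq, c', ⟨b', hA⟩ | ⟨hf, hB⟩⟩ := normal_form (b := b) (c := e₀) (e := e) hd hcube
  · obtain ⟨n, hn4, hnear⟩ : ∃ n : Pm, n * n * n * n = 1 ∧
        ∀ a b c d : ZMod 3, n * n * n * sP (a, b, c, d, 0, 0) * n ∈ Qm := ⟨n23, n_pow.1, near_y⟩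
    have hw := hnear a b' c' d
    generalize sP (a, b', c', d, 0, 0) = w at hA hw
    generalize sP (a, b, e₀, d, e, f) = w₀ at hA hp
    have hinv : (n * n * n)⁻¹ = n := inv_eq_of_mul_eq_one_right hn4
    refine hQ (n * n * n * (q * c) : Pm).1 _ hw (hmove _ _ ?_)
    rw [_root_.mul_inv_rev (n * n * n), hinv, ← hA, ← hp]; group
  · exfalso
    have h1 := hmove (q * c) _ (show q * c * x * (q * c)⁻¹ = sP (0, 0, c', d, 0, f) by
      rw [← hB, ← hp]; group)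
    have h2 : (sP (0, 0, c', d, 0, f)).1 = mkS (0, 0, c', d, 0, f) := rfl
    have h3' := m01_conj c' d f
    have hy : sP (0, d, 0, 0, -c', f) ∈ Qm := sP_Qm
    rcases hin (m01 * (q * c : Pm).1) _ hy (by
      rw [mul_assoc, h1, ← mul_assoc, h2, h3', mul_assoc]; rfl) with h | h
    · exact hf (Em_coords h).2.2
    · exact hd ((mem_patGroup.1 (Subgroup.mem_subgroupOf.1 h)) 0 2 rfl)

/-- The standing hypotheses of the second case. -/
theorem exists_setup_of_sep [Finite G] (hker : Ψ.ker = Subgroup.center SL4)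
    (hext : ∀ x : Pm, Ψ x = B.ψ x)
    (hsep : ∀ x : Pm, x ∈ Qm → IsConj (B.ψ zP) (B.ψ x) → x ∈ Em ∨ x ∈ Fm) :
    ∃ T : Setup G, T.Ψ = Ψ := by
  have hk : ∀ u, Ψ u = 1 ↔ u = 1 ∨ u = neg1 := fun u => by
    rw [← MonoidHom.mem_ker, hker, mem_center_iff]
  have hz : Ψ z4 = B.ψ zP := hext zP
  have hcz : ∀ g, Commute g (Ψ z4) → ∃ c, c ∈ Pm ∧ c ∈ Pd ∧ Ψ c = g := by
    intro g hg
    have h : g ∈ centralizer ({B.ψ zP} : Set G) :=
      mem_centralizer_singleton_iff.2 (hz ▸ hg.eq)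
    rw [B.cent_z] at h
    obtain ⟨c, hc, rfl⟩ := h
    exact ⟨c.1, c.2, mem_Cm.1 hc, hext c⟩
  have hcj : ∀ (g : G) (x : SL4), x ∈ Pm → x ∈ Pd → g * Ψ z4 * g⁻¹ = Ψ x → Tv x := by
    intro g x h1 h2 h
    rw [hz, hext ⟨x, h1⟩] at h
    exact tv_of_conj B Ψ hext hsep (x := ⟨x, h1⟩) (mem_Cm.2 h2) h
  refine ⟨⟨Ψ, hk, hcz, hcj, ?_, fun g hg => ?_⟩, rfl⟩
  · obtain ⟨S, hS⟩ := B.exists_sylow
    refine ⟨S, hS.trans (le_antisymm ?_ ?_)⟩
    · rintro _ ⟨x, hx, rfl⟩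
      exact ⟨x.1, Subgroup.mem_subgroupOf.1 hx, hext x⟩
    · rintro _ ⟨x, hx, rfl⟩
      exact ⟨⟨x, (patS_le hx).1⟩, Subgroup.mem_subgroupOf.2 hx, (hext _).symm⟩
  · obtain ⟨w, hw⟩ := hg (0, 1, 0, 0)
    rw [← z4_eq] at hw
    have ht := hcj g _ (patS_le (mE_patS w)).1 (patS_le (mE_patS w)).2 hw
    have hne : Ident.mE w ≠ 1 := fun e => by
      rw [e, map_one, conj_eq_one_iff, hk] at hw
      rcases hw with h | h
      · exact z4_facts.2.1 h
      · exact z4_facts.2.2.1 h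
    obtain ⟨m, hm⟩ := isConj_iff.1 (isConj_of_tv (mE_patS w) ht hne)
    have hcom : Commute ((Ψ m)⁻¹ * g) (Ψ z4) := by
      show (Ψ m)⁻¹ * g * Ψ z4 = Ψ z4 * ((Ψ m)⁻¹ * g)
      calc (Ψ m)⁻¹ * g * Ψ z4 = (Ψ m)⁻¹ * (g * Ψ z4 * g⁻¹) * g := by group
        _ = (Ψ m)⁻¹ * Ψ (m * z4 * m⁻¹) * g := by rw [hw, hm]
        _ = _ := by rw [map_mul, map_mul, map_inv]; group
    obtain ⟨c, -, -, hc⟩ := hcz _ hcom
    exact ⟨m * c, by rw [map_mul, hc, mul_inv_cancel_left]⟩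

end CfsgLib.Recog.LFourThree.Both
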