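import Cfsg.Agent.Lib.Recog.LFourThree.TwoTModel
import Mathlib.LinearAlgebra.Matrix.SchurComplement

/-!
The two classes of involutions of `PSL(4,3)` in matrices: square one or square minus one.
-/

set_option autoImplicit false
set_option maxRecDepth 20000
set_option linter.unusedSimpArgs false

namespace CfsgLib.Recog.LFourThree.Both

open Matrix
open CfsgLib.Recog.LFourThree.Ident (V)

/-- a block diagonal matrix on the positions `{0,1}` and `{2,3}` -/
def bSM (A C : Ident.T4) : M4 :=
  !![A.1, A.2.1, 0, 0; A.2.2.1, A.2.2.2, 0, 0; 0, 0, C.1, C.2.1; 0, 0, C.2.2.1, C.2.2.2]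

theorem bSM_det (A C : Ident.T4) : (bSM A C).det = qd A * qd C := by
  simp [bSM, qd, Matrix.det_succ_row_zero, Fin.sum_univ_succ, Fin.succAbove]
  ring

theorem det_b4 : (bSM qJ qJ).det = 1 := by rw [bSM_det]; decide +kernel

/-- a square root of minus one -/
def b4 : SL4 := ⟨bSM qJ qJ, det_b4⟩

theorem b4_sq : b4 * b4 = neg1 := by decide +kernel

theorem vec_z3 : ∀ x : ZMod 3, x = 0 ∨ x = 1 ∨ x = -1 := by decide

theorem exists_outside (a b : V) : ∃ w : V, ∀ x y : ZMod 3, w ≠ x • a + y • b := by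
  by_contra h
  push Not at h
  have hs : Function.Surjective (fun p : ZMod 3 × ZMod 3 => p.1 • a + p.2 • b) := fun w => by
    obtain ⟨x, y, e⟩ := h w
    exact ⟨(x, y), e.symm⟩
  have := Fintype.card_le_of_surjective _ hs
  simp at this

/-- a conjugator of determinant one from an invertible intertwiner -/
theorem isConj_of_intertwine {u b : SL4} (h c : M4) (hh : (u : M4) * h = h * (b : M4))
    (hinj : ∀ x : V, h *ᵥ x = 0 → x = 0) (hc : c.det = -1) (hcb : (b : M4) * c = c * (b : M4)) :
    IsConj b u := by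
  have hd : h.det ≠ 0 := fun e => by
    obtain ⟨x, hx, hx0⟩ := Matrix.exists_mulVec_eq_zero_iff.2 e
    exact hx (hinj x hx0)
  have key : ∀ k : M4, (u : M4) * k = k * (b : M4) → k.det = 1 → IsConj b u := fun k hk hkd => by
    refine isConj_iff.2 ⟨⟨k, hkd⟩, mul_inv_eq_iff_eq_mul.2 (Subtype.ext ?_)⟩
    exact hk.symm
  rcases vec_z3 h.det with e | e | e
  · exact absurd e hd
  · exact key h hh e
  · refine key (h * c) ?_ (by rw [Matrix.det_mul, e, hc]; decide)
    rw [← mul_assoc, hh, mul_assoc, hcb, mul_assoc]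

theorem col_mulVec (c₀ c₁ c₂ c₃ : V) (x : V) :
    (Matrix.of fun i j => ![c₀, c₁, c₂, c₃] j i) *ᵥ x = x 0 • c₀ + x 1 • c₁ + x 2 • c₂ + x 3 • c₃ := by
  funext i
  simp [Matrix.mulVec, dotProduct, Fin.sum_univ_four, mul_comm]

theorem col_mul (M : M4) (c₀ c₁ c₂ c₃ : V) :
    M * (Matrix.of fun i j => ![c₀, c₁, c₂, c₃] j i) =
      Matrix.of fun i j => ![M *ᵥ c₀, M *ᵥ c₁, M *ᵥ c₂, M *ᵥ c₃] j i := by
  ext i j
  fin_cases j <;> simp [Matrix.mul_apply, Matrix.mulVec, dotProduct]

/-- an element of square minus one is conjugate to `b4` -/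
theorem isConj_b4 {u : SL4} (h2 : u * u = neg1) : IsConj b4 u := by
  set M := (u : M4)
  have hM : ∀ x : V, M *ᵥ (M *ᵥ x) = -x := fun x => by
    rw [Matrix.mulVec_mulVec, show M * M = -1 from congrArg (fun g : SL4 => (g : M4)) h2]
    simp [Matrix.neg_mulVec]
  set v : V := Pi.single 0 1
  obtain ⟨w, hw⟩ := exists_outside v (M *ᵥ v)
  refine isConj_of_intertwine (Matrix.of fun i j => ![v, -(M *ᵥ v), w, -(M *ᵥ w)] j i)
    (bSM qP q1) ?_ ?_ (by rw [bSM_det]; decide +kernel) (by decide +kernel)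
  · rw [col_mul, Matrix.mulVec_neg, Matrix.mulVec_neg, hM, hM, neg_neg, neg_neg]
    ext i j
    fin_cases j <;> simp [b4, bSM, qJ, Matrix.mul_apply, Fin.sum_univ_four, M, neg_one_mul] <;>
      (try (show _ = _; ring_nf)) <;> (try simp [show (2 : ZMod 3) = -1 by decide])
  intro x hx
  rw [col_mulVec] at hx
  have hx' := congrArg (M *ᵥ ·) hx
  simp only [Matrix.mulVec_add, Matrix.mulVec_smul, Matrix.mulVec_neg, hM, Matrix.mulVec_zero, neg_neg] at hx'
  have hsq : ∀ a b : ZMod 3, a * a + b * b = 0 → a = 0 ∧ b = 0 := by decide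
  have hinv : ∀ a : ZMod 3, a ≠ 0 → a * a = 1 := by decide
  have h23 : x 2 = 0 ∧ x 3 = 0 := by
    refine hsq _ _ ?_
    by_contra hne
    have e : ∀ i, (x 2 * x 2 + x 3 * x 3) * w i =
        -(x 0 * x 2 + x 1 * x 3) * v i + -(x 0 * x 3 - x 1 * x 2) * (M *ᵥ v) i := fun i => by
      have a := congrFun hx i
      have b := congrFun hx' i
      simp only [Pi.add_apply, Pi.smul_apply, Pi.neg_apply, Pi.zero_apply, smul_eq_mul] at a b
      linear_combination (x 2) * a + (x 3) * b
    refine hw ((x 2 * x 2 + x 3 * x 3) * -(x 0 * x 2 + x 1 * x 3))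
      ((x 2 * x 2 + x 3 * x 3) * -(x 0 * x 3 - x 1 * x 2)) (funext fun i => ?_)
    simp only [Pi.add_apply, Pi.smul_apply, smul_eq_mul]
    linear_combination (x 2 * x 2 + x 3 * x 3) * e i - w i * hinv _ hne
  have h01 : x 0 = 0 ∧ x 1 = 0 := by
    refine hsq _ _ ?_
    have a := congrFun hx 0
    have b := congrFun hx' 0
    simp [h23.1, h23.2, v] at a b
    linear_combination (x 0) * a + (x 1) * b
  funext i
  fin_cases i <;> simp [h01.1, h01.2, h23.1, h23.2]

/-- the image of a map of square one has two independent vectors -/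
theorem exists_pair (M : M4) (hM : M * M = 1) (hd : M.det = 1) (hne : M ≠ -1) :
    ∃ a b : V, (∀ x y : ZMod 3, x • a + y • b = 0 → x = 0 ∧ y = 0) ∧ M *ᵥ a = a ∧ M *ᵥ b = b := by
  set P : M4 := 1 + M with hP
  have hfix : ∀ x : V, M *ᵥ (P *ᵥ x) = P *ᵥ x := fun x => by
    rw [Matrix.mulVec_mulVec, hP, mul_add, mul_one, hM, add_comm]
  set col : Fin 4 → V := fun j => P *ᵥ Pi.single j 1 with hcol
  by_cases hind : ∃ i j, col i ≠ 0 ∧ col j ≠ 0 ∧ col j ≠ col i ∧ col j ≠ -col i
  · obtain ⟨i, j, hi, hj, hij, hij'⟩ := hind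
    refine ⟨col i, col j, fun x y e => ?_, hfix _, hfix _⟩
    rcases vec_z3 y with rfl | rfl | rfl
    · rcases vec_z3 x with rfl | rfl | rfl
      · exact ⟨rfl, rfl⟩
      · exact absurd (by simpa using e) hi
      · exact absurd (by simpa using e) hi
    · rcases vec_z3 x with rfl | rfl | rfl
      · exact absurd (by simpa using e) hj
      · exact absurd (eq_neg_of_add_eq_zero_right (by simpa using e)) hij'
      · exact absurd ((eq_neg_of_add_eq_zero_right (by simpa using e : -col i + col j = 0)).trans (neg_neg _)) hij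
    · rcases vec_z3 x with rfl | rfl | rfl
      · exact absurd (by simpa using e) hj
      · exact absurd (by simpa [add_neg_eq_zero, eq_comm] using e) hij
      · exact absurd (by
          have := eq_neg_of_add_eq_zero_right (by simpa using e : -col i + -col j = 0)
          simpa [neg_eq_iff_eq_neg] using this) hij'
  exfalso
  push Not at hind
  obtain ⟨a, φ, hPa⟩ : ∃ (a : V) (φ : V), P = Matrix.vecMulVec a φ := by
    by_cases h0 : ∀ i, col i = 0
    · refine ⟨0, 0, ?_⟩
      ext i j
      have := congrFun (h0 j) i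
      simpa [hcol, Matrix.mulVec_single_one, Matrix.vecMulVec] using this
    push Not at h0
    obtain ⟨k, hk⟩ := h0
    refine ⟨col k, fun j => if col j = 0 then 0 else if col j = col k then 1 else -1, ?_⟩
    ext i j
    have hij : col j i = P i j := by simp [hcol, Matrix.mulVec_single_one]
    rw [Matrix.vecMulVec_apply, ← hij]
    split_ifs with h1 h2
    · simp [h1]
    · simp [h2]
    · simp [hind k j hk h1 h2]
  have hMe : M = -1 + Matrix.vecMulVec a φ := by rw [← hPa, hP]; abel
  have hP2 : P * P = P + P := by rw [hP]; simp [add_mul, mul_add, hM]; abel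
  rw [hPa, Matrix.vecMulVec_mul_vecMulVec] at hP2
  by_cases hP0 : Matrix.vecMulVec a φ = 0
  · exact hne (by rw [hMe, hP0, add_zero])
  obtain ⟨i, j, hij⟩ : ∃ i j, a i * φ j ≠ 0 := by
    by_contra h; push Not at h
    exact hP0 (by ext i j; simpa [Matrix.vecMulVec] using h i j)
  have e := congrFun (congrFun hP2 i) j
  simp [Matrix.vecMulVec, Pi.smul_apply] at e
  have hpa : φ ⬝ᵥ a = 2 := by
    have hc : ∀ d p : ZMod 3, p ≠ 0 → d * p = p + p → d = 2 := by decide
    exact hc _ _ hij (by linear_combination e)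
  have : M.det = 1 + (-1) * (φ ⬝ᵥ a) := by
    have hM' : M = (-1 : ZMod 3) • (1 + Matrix.replicateCol Unit (-a) * Matrix.replicateRow Unit φ) := by
      rw [hMe]
      ext i j
      simp [Matrix.mul_apply, Matrix.vecMulVec, add_comm]
    rw [hM', Matrix.det_smul, Matrix.det_one_add_replicateCol_mul_replicateRow]
    simp [dotProduct_neg, show ((-1 : ZMod 3)) ^ 4 = 1 by decide]
  rw [hd, hpa] at this
  exact absurd this (by decide)

/-- an element of square one is conjugate to `tD` or central -/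
theorem isConj_tD {u : SL4} (h2 : u * u = 1) (h1 : u ≠ 1) (hn : u ≠ neg1) : IsConj tD u := by
  set M := (u : M4) with hMdef
  have hM : M * M = 1 := congrArg (fun g : SL4 => (g : M4)) h2
  obtain ⟨a, a', hi, ha, ha'⟩ := exists_pair M hM u.2 fun e => hn (Subtype.ext e)
  obtain ⟨c, c', hj, hc, hc'⟩ := exists_pair (-M) (by rw [neg_mul_neg, hM])
    (by rw [Matrix.det_neg]; simp [hMdef]; decide) (fun e => h1 (Subtype.ext (neg_inj.1 e)))
  rw [Matrix.neg_mulVec, neg_eq_iff_eq_neg] at hc hc'
  refine isConj_of_intertwine (Matrix.of fun i j => ![a, c, c', a'] j i) (bdM qR q1) ?_ ?_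
    (by rw [bdM_det]; decide +kernel) (by decide +kernel)
  · rw [col_mul, ha, ha', hc, hc']
    ext i j
    fin_cases j <;> simp [tD, Matrix.mul_apply, Fin.sum_univ_four]
  intro x hx
  rw [col_mulVec] at hx
  have hx' := congrArg (M *ᵥ ·) hx
  simp only [Matrix.mulVec_add, Matrix.mulVec_smul, ha, ha', hc, hc', Matrix.mulVec_zero] at hx'
  obtain ⟨e0, e3⟩ := hi (x 0) (x 3) (funext fun i => by
    have p := congrFun hx i
    have q := congrFun hx' i
    simp only [Pi.add_apply, Pi.smul_apply, Pi.neg_apply, Pi.zero_apply, smul_eq_mul] at p q ⊢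
    have h3 : (3 : ZMod 3) = 0 := by decide
    linear_combination -p - q + (x 0 * a i + x 3 * a' i) * h3)
  obtain ⟨e1, e2⟩ := hj (x 1) (x 2) (by simpa [e0, e3] using hx)
  funext i
  fin_cases i <;> simp [e0, e1, e2, e3]

end CfsgLib.Recog.LFourThree.Both
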