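import Cfsg.Agent.Lib.Recog.LFourThree.TwoTrans
import Cfsg.Agent.Lib.Recog.LFourThree.IdentModel

/-!
Elements of `SL(4,3)` used for the second case of the recognition: the central involution, transvections,
and the action of the common subgroup on the extraspecial group.
-/

set_option autoImplicit false
set_option maxRecDepth 20000
set_option linter.unusedSimpArgs false

namespace CfsgLib.Recog.LFourThree.Both

open Matrix
open CfsgLib.Recog.LFourThree.Ident (T4 mE mE_coe mE_mem mE_add mE_zero mE_inj s34)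

/-- matrices of size four -/
abbrev M4 := Matrix (Fin 4) (Fin 4) (ZMod 3)

/-- the central root element -/
def z4 : SL4 := xr 0 3 1

theorem det_negOne : (-1 : M4).det = 1 := by decide +kernel

/-- the central involution -/
def neg1 : SL4 := ⟨-1, det_negOne⟩

/-- the identity or a transvection -/
def Tv (x : SL4) : Prop :=
  ∀ i j k l, ((x : M4) - 1) i j * ((x : M4) - 1) k l = ((x : M4) - 1) i l * ((x : M4) - 1) k j

theorem z4_eq : z4 = mE (0, 1, 0, 0) := by decide +kernel

theorem z4_facts : z4 ^ 3 = 1 ∧ z4 ≠ 1 ∧ z4 ≠ neg1 ∧ neg1 ≠ 1 ∧ neg1 * neg1 = 1 := by decide +kernel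

theorem neg1_mul (x : SL4) : ((neg1 * x : SL4) : M4) = -(x : M4) := by
  show (-1 : M4) * (x : M4) = -(x : M4)
  rw [neg_one_mul]

theorem neg1_comm (x : SL4) : Commute neg1 x := Subtype.ext (by
  show (-1 : M4) * (x : M4) = (x : M4) * -1
  rw [neg_one_mul, mul_neg_one])

theorem neg1_cube : neg1 ^ 3 = neg1 := by decide +kernel

theorem mem_center_iff {u : SL4} : u ∈ Subgroup.center SL4 ↔ u = 1 ∨ u = neg1 := by
  constructor
  · intro hu
    obtain ⟨c, hc, hce⟩ := Matrix.SpecialLinearGroup.mem_center_iff.1 hu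
    have hc' : c = 1 ∨ c = -1 := by
      have : ∀ c : ZMod 3, c ^ 4 = 1 → c = 1 ∨ c = -1 := by decide
      exact this c (by simpa using hc)
    rcases hc' with rfl | rfl
    · exact Or.inl (Subtype.ext (by rw [← hce]; simp))
    · refine Or.inr (Subtype.ext ?_)
      rw [← hce]
      ext i j
      by_cases h : i = j <;> simp [neg1, h]
  · rintro (rfl | rfl)
    · exact one_mem _
    · exact Subgroup.mem_center_iff.2 fun g => (neg1_comm g).symm.eq

theorem patS_le {x : SL4} (hx : x ∈ patGroup patS closed_patS) : x ∈ Pm ∧ x ∈ Pd := by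
  refine ⟨mem_Pm.2 fun i => ?_, mem_Pd.2 fun j => ?_⟩
  · exact mem_patGroup.1 hx i 0 (by fin_cases i <;> rfl)
  · rw [mem_patGroup.1 hx 3 j (by fin_cases j <;> rfl)]
    fin_cases j <;> rfl

theorem neg1_not_patS : neg1 ∉ patGroup patS closed_patS := fun h =>
  absurd (mem_patGroup.1 h 0 0 rfl) (by decide +kernel)

theorem z4_comm {c : SL4} (h₁ : c ∈ Pm) (h₂ : c ∈ Pd) : Commute c z4 := by
  rw [z4_eq]; exact Ident.z_central h₁ h₂ 1

theorem mE_patS : ∀ v, mE v ∈ patGroup patS closed_patS := by decide +kernel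

theorem mE_cube : ∀ v, mE v ^ 3 = 1 := by decide +kernel

theorem mE_ne_neg1 : ∀ v, mE v ≠ neg1 := by decide +kernel

/-- the conjugates of the central root element in the Sylow group are its transvections -/
theorem isConj_of_tv {x : SL4} (hx : x ∈ patGroup patS closed_patS) (ht : Tv x) (h1 : x ≠ 1) :
    IsConj z4 x := by
  have hp := mem_patGroup.1 hx
  set p : T6 := (x.1 0 1, x.1 0 2, x.1 0 3, x.1 1 2, x.1 1 3, x.1 2 3) with hpd
  have hu : (x : M4) = uMat p := by
    ext i j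
    fin_cases i <;> fin_cases j <;>
      simp [uMat, hpd, hp 0 0 rfl, hp 1 0 rfl, hp 1 1 rfl, hp 2 0 rfl, hp 2 1 rfl, hp 2 2 rfl,
        hp 3 0 rfl, hp 3 1 rfl, hp 3 2 rfl, hp 3 3 rfl]
  have hs : SmallRank p := by
    refine ⟨?_, ?_, ?_, ?_, ?_, ?_⟩
    · simpa [hu, uMat, Matrix.one_apply] using ht 0 1 1 2
    · simpa [hu, uMat, Matrix.one_apply] using ht 0 1 1 3
    · simpa [hu, uMat, Matrix.one_apply] using ht 0 1 2 3
    · simpa [hu, uMat, Matrix.one_apply] using ht 0 2 2 3
    · simpa [hu, uMat, Matrix.one_apply] using ht 1 2 2 3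
    · simpa [hu, uMat, Matrix.one_apply] using ht 0 2 1 3
  rcases tv_complete p hs with h0 | hmem
  · refine absurd (Subtype.ext ?_) h1
    have hp0 : p = 0 := by
      rw [← decode_code p, h0]; decide +kernel
    rw [hu, hp0]
    decide +kernel
  · obtain ⟨⟨a, b⟩, hq, ha⟩ := List.mem_map.1 hmem
    obtain ⟨hd, he⟩ := tv_check _ hq
    simp only at ha hd he
    rw [ha, decode_code, ← hu] at he
    refine isConj_iff.2 ⟨⟨hMat b, hd⟩, mul_inv_eq_iff_eq_mul.2 (Subtype.ext ?_)⟩
    exact he.symm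

/-- the common subgroup normalises the extraspecial group -/
theorem conj_patQ {c x : SL4} (h₁ : c ∈ Pm) (h₂ : c ∈ Pd) (hx : x ∈ patGroup patQ closed_patQ) :
    c * x * c⁻¹ ∈ patGroup patQ closed_patQ := by
  have c0 := mem_Pm.1 h₁
  have r3 := mem_Pd.1 h₂
  have c0' := mem_Pm.1 (inv_mem h₁)
  have r3' := mem_Pd.1 (inv_mem h₂)
  have hp := mem_patGroup.1 hx
  have e : ∀ i j, ((c : M4) * (c⁻¹ : SL4).1) i j = (1 : M4) i j := fun i j => by
    rw [← Matrix.SpecialLinearGroup.coe_mul, mul_inv_cancel, Matrix.SpecialLinearGroup.coe_one]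
  have e11 := e 1 1
  have e12 := e 1 2
  have e21 := e 2 1
  have e22 := e 2 2
  simp [Matrix.mul_apply, Fin.sum_univ_four, c0, r3', Matrix.one_apply,
    -Matrix.SpecialLinearGroup.coe_inv] at e11 e12 e21 e22
  refine mem_patGroup.2 fun i j hij => ?_
  rw [Matrix.SpecialLinearGroup.coe_mul, Matrix.SpecialLinearGroup.coe_mul]
  fin_cases i <;> fin_cases j <;>
    first
    | exact absurd hij (by decide)
    | simp [Matrix.mul_apply, Fin.sum_univ_four, c0, r3, c0', r3', hp 0 0 rfl, hp 1 0 rfl, hp 1 1 rfl,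
        hp 1 2 rfl, hp 2 0 rfl, hp 2 1 rfl, hp 2 2 rfl, hp 3 0 rfl, hp 3 1 rfl, hp 3 2 rfl, hp 3 3 rfl,
        e11, e12, e21, e22, -Matrix.SpecialLinearGroup.coe_inv]

theorem patQ_le_patS {x : SL4} (hx : x ∈ patGroup patQ closed_patQ) : x ∈ patGroup patS closed_patS :=
  mem_patGroup.2 fun i j h => mem_patGroup.1 hx i j (by revert h; revert i j; decide)

theorem mE_patQ : ∀ a b d : ZMod 3, mE (a, b, 0, d) ∈ patGroup patQ closed_patQ := by decide +kernel

/-- commuting with two root elements of the abelian group -/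
theorem eq_mE_of_two {k : SL4} (h₁ : k ∈ Pm) (h₂ : k ∈ Pd)
    (ha : k * mE (1, 0, 0, 0) = mE (1, 0, 0, 0) * k) (hd : k * mE (0, 0, 0, 1) = mE (0, 0, 0, 1) * k) :
    ∃ v, k = mE v := by
  have ea := congrArg (fun g : SL4 => (g : M4)) ha
  have ed := congrArg (fun g : SL4 => (g : M4)) hd
  simp only [Matrix.SpecialLinearGroup.coe_mul, mE_coe] at ea ed
  have c0 := mem_Pm.1 h₁
  have r3 := mem_Pd.1 h₂
  have a21 := congrFun (congrFun ea 0) 1
  have a23 := congrFun (congrFun ea 0) 3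
  have a22 := congrFun (congrFun ea 0) 2
  have d01 := congrFun (congrFun ed 0) 3
  have d11 := congrFun (congrFun ed 1) 3
  have d21 := congrFun (congrFun ed 2) 3
  simp [Matrix.mul_apply, Fin.sum_univ_four, c0, r3] at a21 a23 a22 d01 d11 d21
  have h22 : k.1 2 2 = 1 := by linear_combination -a22
  have h11 : k.1 1 1 = 1 := by linear_combination d11
  refine ⟨(k.1 0 2, k.1 0 3, k.1 1 2, k.1 1 3), Subtype.ext ?_⟩
  rw [mE_coe]
  ext i j
  fin_cases i <;> fin_cases j <;> simp [c0, r3, a21, a23, h22, d01, h11, d21]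

/-- normalising the abelian group of order 81 -/
def NormM (h : SL4) : Prop := ∀ v, ∃ w, h * mE v * h⁻¹ = mE w

theorem normM_mul {g h : SL4} (hg : NormM g) (hh : NormM h) : NormM (g * h) := fun v => by
  obtain ⟨w, hw⟩ := hh v
  obtain ⟨x, hx⟩ := hg w
  exact ⟨x, by rw [show g * h * mE v * (g * h)⁻¹ = g * (h * mE v * h⁻¹) * g⁻¹ by group, hw, hx]⟩

theorem normM_one : NormM 1 := fun v => ⟨v, by simp⟩

theorem normM_pow {h : SL4} (hh : NormM h) (n : ℕ) : NormM (h ^ n) := by
  induction n with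
  | zero => exact normM_one
  | succ n ih => rw [pow_succ]; exact normM_mul ih hh

theorem normM_x23 : NormM (xr 2 3 1) := by
  intro v
  refine ⟨Ident.f23 v, ?_⟩
  rw [mul_inv_eq_iff_eq_mul]
  exact Ident.act_x23 v

theorem normM_x32 : NormM (xr 3 2 1) := by
  intro v
  refine ⟨Ident.f32 v, ?_⟩
  rw [mul_inv_eq_iff_eq_mul]
  exact Ident.act_x32 v

theorem normM_s34 (p : T4) : NormM (s34 p) := by
  unfold s34
  rw [Ident.xr23_pow, Ident.xr32_pow, Ident.xr23_pow p.2.2.1, Ident.xr32_pow p.2.2.2]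
  exact normM_mul (normM_mul (normM_mul (normM_pow normM_x23 _) (normM_pow normM_x32 _))
    (normM_pow normM_x23 _)) (normM_pow normM_x32 _)

theorem row_move : ∀ a b : ZMod 3, (a, b) ≠ 0 →
    ∃ p, s34 p * z4 = mE (a, b, 0, 0) * s34 p := by decide +kernel

end CfsgLib.Recog.LFourThree.Both
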