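import Cfsg.Agent.Lib.Recog.LFourThree.TwoCentB
import Cfsg.Agent.Lib.Invol.Strong

/-!
The second case of the recognition: the image is the whole group, being otherwise strongly embedded with
two classes of involutions.
-/

set_option autoImplicit false
set_option linter.unusedSectionVars false

namespace CfsgLib.Recog.LFourThree.Both

open Subgroup

universe u

variable {G : Type u} [Group G] [Finite G] (T : Setup G)

attribute [local irreducible] bd tD b4 neg1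

/-- an involution of the second class fixes one coset -/
theorem Setup.fuse_b {g : G} (hg : g * T.Ψ b4 * g⁻¹ ∈ T.Ψ.range) : g ∈ T.Ψ.range := by
  have h2 : g * T.Ψ b4 * g⁻¹ * (g * T.Ψ b4 * g⁻¹) = 1 := by
    rw [show g * T.Ψ b4 * g⁻¹ * (g * T.Ψ b4 * g⁻¹) = g * (T.Ψ b4 * T.Ψ b4) * g⁻¹ by group, T.b4_sq',
      mul_one, mul_inv_cancel]
  obtain ⟨k, hk | hk⟩ := T.invol_cases hg h2 (fun h => T.b4_ne (conj_eq_one_iff.1 h))
  · have h := T.fuse_t (g := g⁻¹ * T.Ψ k) (by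
      rw [show g⁻¹ * T.Ψ k * T.Ψ tD * (g⁻¹ * T.Ψ k)⁻¹ = g⁻¹ * (T.Ψ k * T.Ψ tD * (T.Ψ k)⁻¹) * g by group,
        ← hk, show g⁻¹ * (g * T.Ψ b4 * g⁻¹) * g = T.Ψ b4 by group]
      exact ⟨b4, rfl⟩)
    simpa using inv_mem (mul_mem h (inv_mem (show T.Ψ k ∈ T.Ψ.range from ⟨_, rfl⟩)))
  · have hc : Commute ((T.Ψ k)⁻¹ * g) (T.Ψ b4) := by
      refine mul_inv_eq_iff_eq_mul.1 ?_
      rw [show (T.Ψ k)⁻¹ * g * T.Ψ b4 * ((T.Ψ k)⁻¹ * g)⁻¹ = (T.Ψ k)⁻¹ * (g * T.Ψ b4 * g⁻¹) * T.Ψ k by group,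
        hk]
      group
    have := mul_mem (show T.Ψ k ∈ T.Ψ.range from ⟨_, rfl⟩) (T.cent_b hc)
    rwa [mul_inv_cancel_left] at this

theorem Setup.orderOf_tD : orderOf (T.Ψ tD) = 2 := by
  obtain ⟨-, ht, -, -, ht1, htn, -, -⟩ := eU_facts
  refine orderOf_eq_prime (by rw [pow_two, ← map_mul, ht, map_one]) fun h => ?_
  rcases (T.ker _).1 h with e | e
  exacts [ht1 e, htn e]

/-- a proper image would be strongly embedded -/
theorem Setup.stronglyEmbedded (hne : T.Ψ.range ≠ ⊤) : Cfsg.IsStronglyEmbedded T.Ψ.range := by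
  refine ⟨hne, CfsgLib.Invol.even_card_of_invol_mem T.orderOf_tD ⟨_, rfl⟩, fun g hg => ?_⟩
  refine Nat.not_even_iff_odd.1 fun he => hg ?_
  obtain ⟨s, ⟨hs, hsg⟩, ho⟩ := CfsgLib.Invol.exists_invol_mem he
  obtain ⟨y, hy, e⟩ := hsg
  have e' : g * y * g⁻¹ = s := e
  have hoy : orderOf y = 2 := by rw [← CfsgLib.Invol.orderOf_conj_eq g y, e', ho]
  have h2 : y * y = 1 := by rw [← pow_two, ← hoy, pow_orderOf_eq_one]
  have h1 : y ≠ 1 := fun h => by rw [h, orderOf_one] at hoy; exact absurd hoy (by norm_num)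
  obtain ⟨k, hk | hk⟩ := T.invol_cases hy h2 h1
  · have h := T.fuse_t (g := g * T.Ψ k) (by
      rw [show g * T.Ψ k * T.Ψ tD * (g * T.Ψ k)⁻¹ = g * (T.Ψ k * T.Ψ tD * (T.Ψ k)⁻¹) * g⁻¹ by group, ← hk, e']
      exact hs)
    simpa using mul_mem h (inv_mem (show T.Ψ k ∈ T.Ψ.range from ⟨_, rfl⟩))
  · have h := T.fuse_b (g := g * T.Ψ k) (by
      rw [show g * T.Ψ k * T.Ψ b4 * (g * T.Ψ k)⁻¹ = g * (T.Ψ k * T.Ψ b4 * (T.Ψ k)⁻¹) * g⁻¹ by group, ← hk, e']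
      exact hs)
    simpa using mul_mem h (inv_mem (show T.Ψ k ∈ T.Ψ.range from ⟨_, rfl⟩))

/-- the endgame of the second case -/
theorem Setup.range_eq_top : T.Ψ.range = ⊤ := by
  by_contra hne
  obtain ⟨g, hg⟩ := isConj_iff.1 (CfsgLib.Invol.se_isConj (T.stronglyEmbedded hne) T.orderOf_tD
    (orderOf_eq_prime (by rw [pow_two, T.b4_sq']) T.b4_ne : orderOf (T.Ψ b4) = 2))
  obtain ⟨c, rfl⟩ := T.fuse_t (g := g) (hg ▸ ⟨b4, rfl⟩)
  exact T.t_not_b c hg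

end CfsgLib.Recog.LFourThree.Both
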