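import Cfsg.Agent.Lib.Recog.LFourThree.Model

/-!
Transvections in the Sylow group of `SL(4,3)`: each is conjugate to the root element at `(0,3)`.
-/

set_option autoImplicit false
set_option maxRecDepth 100000
set_option maxHeartbeats 2000000

namespace CfsgLib.Recog.LFourThree.Both

open Matrix

/-- coordinates of the Sylow group -/
abbrev T6 := ZMod 3 × ZMod 3 × ZMod 3 × ZMod 3 × ZMod 3 × ZMod 3

/-- the Sylow group in coordinates -/
def uMat (p : T6) : Matrix (Fin 4) (Fin 4) (ZMod 3) :=
  !![1, p.1, p.2.1, p.2.2.1; 0, 1, p.2.2.2.1, p.2.2.2.2.1; 0, 0, 1, p.2.2.2.2.2; 0, 0, 0, 1]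

/-- the six quadratic conditions on a transvection in coordinates -/
def SmallRank (p : T6) : Prop :=
  p.1 * p.2.2.2.1 = 0 ∧ p.1 * p.2.2.2.2.1 = 0 ∧ p.1 * p.2.2.2.2.2 = 0 ∧
    p.2.1 * p.2.2.2.2.2 = 0 ∧ p.2.2.2.1 * p.2.2.2.2.2 = 0 ∧
    p.2.1 * p.2.2.2.2.1 = p.2.2.1 * p.2.2.2.1

instance : DecidablePred SmallRank := fun p => by unfold SmallRank; infer_instance

/-- the coordinates as a number -/
def code (p : T6) : ℕ :=
  243 * p.1.val + 81 * p.2.1.val + 27 * p.2.2.1.val + 9 * p.2.2.2.1.val + 3 * p.2.2.2.2.1.val +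
    p.2.2.2.2.2.val

/-- the coordinates of a number -/
def decode (n : ℕ) : T6 :=
  (((n / 243 % 3 : ℕ) : ZMod 3), ((n / 81 % 3 : ℕ) : ZMod 3), ((n / 27 % 3 : ℕ) : ZMod 3),
    ((n / 9 % 3 : ℕ) : ZMod 3), ((n / 3 % 3 : ℕ) : ZMod 3), ((n % 3 : ℕ) : ZMod 3))

/-- a matrix of a number -/
def hMat (n : ℕ) : Matrix (Fin 4) (Fin 4) (ZMod 3) :=
  fun i j => ((n / 3 ^ (4 * i.val + j.val) % 3 : ℕ) : ZMod 3)

/-- the transvections with a conjugating matrix -/
def tvList : List (ℕ × ℕ) :=
  [(1, 14355729), (2, 14362281), (3, 14368680), (4, 14375241),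
    (5, 14381802), (6, 14368770), (7, 14375331), (8, 14381892),
    (9, 1771569), (12, 17557326), (15, 30311919), (18, 1771641),
    (21, 30311991), (24, 17557416), (27, 14370049), (28, 14376610),
    (29, 14383171), (30, 14370130), (31, 14376691), (32, 14383252),
    (33, 14370211), (34, 14376772), (35, 14383333), (54, 14369321),
    (55, 14375882), (56, 14382443), (57, 14369402), (58, 14375963),
    (59, 14382524), (60, 14369483), (61, 14376044), (62, 14382605),
    (81, 1772200), (90, 1772281), (99, 1772362), (108, 17558695),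
    (120, 17558776), (132, 17558857), (135, 30312550), (150, 30312631),
    (156, 30312712), (162, 1772930), (171, 1773011), (180, 1773092),
    (189, 30313280), (204, 30313361), (210, 30313442), (216, 17557967),
    (228, 17558048), (240, 17558129), (243, 1714609), (270, 19153018),
    (297, 33501196), (324, 1890298), (351, 22341664), (378, 35095519),
    (405, 2068174), (432, 20747341), (459, 36689842), (486, 1655561),
    (513, 38284895), (540, 23935259), (567, 2008397), (594, 41473541),
    (621, 25529582), (648, 1831979), (675, 39879218), (702, 27123905)]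

theorem decode_code : ∀ p : T6, decode (code p) = p := by decide +kernel

theorem tv_complete : ∀ p : T6, SmallRank p → code p = 0 ∨ code p ∈ tvList.map Prod.fst := by
  decide +kernel

theorem tv_check : ∀ q ∈ tvList, (hMat q.2).det = 1 ∧
    uMat (decode q.1) * hMat q.2 = hMat q.2 * (xr 0 3 1 : SL4).1 := by decide +kernel

end CfsgLib.Recog.LFourThree.Both
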